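import Groth.Agent.H15.Depth

set_option autoImplicit false
set_option linter.unusedSectionVars false
universe u

open RingTheory.Sequence Groth.Agent.H15

namespace Groth.Agent.H26

variable {A : Type u} [CommRing A] [IsNoetherianRing A] (I : Ideal A)

/-- If `M` admits a regular sequence in `I` of length `rs.length + 1`, the weakly regular sequence
`rs` in `I` can be extended by one element. -/
lemma exists_extend_of_exists_isRegular (M : Type u) [AddCommGroup M] [Module A M] [Module.Finite A M]
    (hIM : I • (⊤ : Submodule A M) ≠ ⊤) (rs : List A) (hreg : IsWeaklyRegular M rs)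
    (hmem : ∀ r ∈ rs, r ∈ I)
    (h : ∃ rs' : List A, rs'.length = rs.length + 1 ∧ (∀ r ∈ rs', r ∈ I) ∧ IsRegular M rs') :
    ∃ r ∈ I, IsWeaklyRegular M (rs ++ [r]) := by
  induction rs generalizing M with
  | nil =>
    obtain ⟨rs', hlen, hmem', hreg'⟩ := h
    match rs', hlen with
    | [r], _ =>
      exact ⟨r, hmem' r (by simp), by simpa using hreg'.toIsWeaklyRegular⟩
  | cons a rs ih =>
    rw [isWeaklyRegular_cons_iff] at hreg
    have haI : a ∈ I := hmem a (by simp)
    have h' := exists_isRegular_quotSMulTop I M hIM a haI hreg.1 (rs.length + 1) (by simpa using h)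
    obtain ⟨r, hrI, hr⟩ := ih (QuotSMulTop a M) (smul_top_quotSMulTop_ne_top haI hIM) hreg.2
      (fun r hr => hmem r (List.mem_cons_of_mem _ hr)) h'
    refine ⟨r, hrI, ?_⟩
    rw [List.cons_append, isWeaklyRegular_cons_iff]
    exact ⟨hreg.1, hr⟩


variable (M : Type u) [AddCommGroup M] [Module A M] [Module.Finite A M]

/-- a maximal weakly regular sequence in `I` has length the `I`-depth -/
theorem length_eq_idealDepth_of_maximal (hIM : I • (⊤ : Submodule A M) ≠ ⊤) (rs : List A)
    (hreg : IsWeaklyRegular M rs) (hmem : ∀ r ∈ rs, r ∈ I)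
    (hmax : ∀ r ∈ I, ¬ IsWeaklyRegular M (rs ++ [r])) :
    (rs.length : ℕ∞) = LocCoh.idealDepth I M := by
  apply le_antisymm (le_idealDepth I M hreg hmem)
  apply idealDepth_le_of_forall I M hIM
  intro rs' hreg' hmem'
  by_contra hcon
  push Not at hcon
  have hlt : rs.length < rs'.length := by exact_mod_cast hcon
  -- take the first `rs.length + 1` elements of `rs'`
  have hmem'' : ∀ r ∈ rs'.take (rs.length + 1), r ∈ I :=
    fun r hr => hmem' r (List.mem_of_mem_take hr)
  have hw : IsWeaklyRegular M (rs'.take (rs.length + 1)) := by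
    have := (isWeaklyRegular_append_iff M (rs'.take (rs.length + 1)) (rs'.drop (rs.length + 1))).mp
      (by rwa [List.take_append_drop])
    exact this.1
  have hr := isRegular_of_isWeaklyRegular_of_mem I M hIM hw hmem''
  obtain ⟨r, hrI, hr'⟩ := exists_extend_of_exists_isRegular I M hIM rs hreg hmem
    ⟨rs'.take (rs.length + 1), by simp; omega, hmem'', hr⟩
  exact hmax r hrI hr'

/-- extending by one element strictly enlarges the ideal -/
lemma ofList_lt_ofList_append (hIM : I • (⊤ : Submodule A M) ≠ ⊤) (rs : List A)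
    (hmem : ∀ r ∈ rs, r ∈ I) (r : A) (hreg : IsWeaklyRegular M (rs ++ [r])) :
    Ideal.ofList rs < Ideal.ofList (rs ++ [r]) := by
  rw [Ideal.ofList_append]
  refine lt_of_le_of_ne le_sup_left ?_
  intro heq
  have hr : r ∈ Ideal.ofList rs := by
    rw [heq]
    apply Ideal.mem_sup_right
    rw [Ideal.ofList_singleton]
    exact Ideal.mem_span_singleton_self r
  have h2 := ((isWeaklyRegular_append_iff M rs [r]).mp hreg).2
  have h3 : IsSMulRegular (M ⧸ (Ideal.ofList rs • ⊤ : Submodule A M)) r := by
    have := (isWeaklyRegular_cons_iff _ r []).mp h2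
    exact this.1
  apply hIM
  rw [eq_top_iff]
  have hle : Ideal.ofList rs ≤ I := by
    rw [Ideal.ofList, Ideal.span_le]
    exact fun x hx => hmem x hx
  refine le_trans ?_ (Submodule.smul_mono_left hle)
  intro m _
  have h4 : r • (Submodule.Quotient.mk m : M ⧸ (Ideal.ofList rs • ⊤ : Submodule A M)) =
      r • (0 : M ⧸ (Ideal.ofList rs • ⊤ : Submodule A M)) := by
    rw [smul_zero, ← Submodule.Quotient.mk_smul, Submodule.Quotient.mk_eq_zero]
    exact Submodule.smul_mem_smul hr Submodule.mem_top
  have h5 := h3 h4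
  rwa [Submodule.Quotient.mk_eq_zero] at h5

/-- every weakly regular sequence in `I` extends to a maximal one -/
theorem exists_maximal_extension (hIM : I • (⊤ : Submodule A M) ≠ ⊤) (rs : List A)
    (hreg : IsWeaklyRegular M rs) (hmem : ∀ r ∈ rs, r ∈ I) :
    ∃ rs' : List A, rs <+: rs' ∧ IsWeaklyRegular M rs' ∧ (∀ r ∈ rs', r ∈ I) ∧
      ∀ r ∈ I, ¬ IsWeaklyRegular M (rs' ++ [r]) := by
  have key : ∀ J : Ideal A, ∀ rs : List A, Ideal.ofList rs = J → IsWeaklyRegular M rs →
      (∀ r ∈ rs, r ∈ I) → ∃ rs' : List A, rs <+: rs' ∧ IsWeaklyRegular M rs' ∧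
        (∀ r ∈ rs', r ∈ I) ∧ ∀ r ∈ I, ¬ IsWeaklyRegular M (rs' ++ [r]) := by
    intro J
    induction J using WellFoundedGT.induction with
    | ind J ih =>
      intro rs hJ hreg hmem
      by_cases hmax : ∀ r ∈ I, ¬ IsWeaklyRegular M (rs ++ [r])
      · exact ⟨rs, List.prefix_refl _, hreg, hmem, hmax⟩
      · push Not at hmax
        obtain ⟨r, hrI, hr⟩ := hmax
        have hlt := ofList_lt_ofList_append I M hIM rs hmem r hr
        rw [hJ] at hlt
        obtain ⟨rs', hpre, hreg', hmem', hmax'⟩ := ih _ hlt (rs ++ [r]) rfl hr (by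
          intro x hx
          rcases List.mem_append.mp hx with hx | hx
          · exact hmem x hx
          · simp only [List.mem_singleton] at hx
            rw [hx]; exact hrI)
        exact ⟨rs', (List.prefix_append rs [r]).trans hpre, hreg', hmem', hmax'⟩
  exact key _ rs rfl hreg hmem

end Groth.Agent.H26
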