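import Mathlib
import Groth.Agent.Lead.RegularLocal3

/-! A flat local extension of a regular local ring with regular closed fibre is regular. -/

set_option autoImplicit false
universe u

open IsLocalRing

namespace Groth.Agent.H26

/-- Flat local homomorphism, regular base and regular closed fibre ⟹ regular. -/
theorem isRegularLocalRing_of_flat_of_regular_fibre (A B : Type u) [CommRing A] [CommRing B]
    [Algebra A B] [IsRegularLocalRing A] [IsLocalRing B] [IsNoetherianRing B]
    [IsLocalHom (algebraMap A B)] [Module.Flat A B]
    [IsRegularLocalRing (B ⧸ (maximalIdeal A).map (algebraMap A B))] : IsRegularLocalRing B := by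
  classical
  set I := (maximalIdeal A).map (algebraMap A B) with hI
  -- generators
  obtain ⟨s, hscard, hsspan⟩ := Submodule.FG.exists_span_finset_card_eq_spanFinrank
    (IsNoetherian.noetherian (maximalIdeal A))
  obtain ⟨t', ht'card, ht'span⟩ := Submodule.FG.exists_span_finset_card_eq_spanFinrank
    (IsNoetherian.noetherian (maximalIdeal (B ⧸ I)))
  have hsurj : Function.Surjective (Ideal.Quotient.mk I) := Ideal.Quotient.mk_surjective
  let t : Finset B := t'.image (Function.surjInv hsurj)
  have htimg : (Ideal.Quotient.mk I) '' (t : Set B) = (t' : Set (B ⧸ I)) := by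
    ext y
    simp only [t, Finset.coe_image, Set.mem_image, Finset.mem_coe]
    constructor
    · rintro ⟨x, ⟨z, hz, rfl⟩, rfl⟩
      rwa [Function.surjInv_eq hsurj]
    · intro hy
      exact ⟨Function.surjInv hsurj y, ⟨y, hy, rfl⟩, Function.surjInv_eq hsurj y⟩
  have hm : maximalIdeal B = Ideal.span (t : Set B) ⊔ I :=
    Groth.Agent.Lead.RLR.maximalIdeal_eq_span_sup B I (t : Set B) (by rw [htimg]; exact ht'span)
  have hIspan : I = Ideal.span ((algebraMap A B) '' (s : Set A)) := by
    rw [hI, ← Ideal.map_span, ← hsspan]
  have hm' : maximalIdeal B = Ideal.span ((t : Set B) ∪ (algebraMap A B) '' (s : Set A)) := by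
    rw [Ideal.span_union, ← hIspan, ← hm]
  -- the bound on generators
  have hgen : (maximalIdeal B).spanFinrank ≤
      (maximalIdeal (B ⧸ I)).spanFinrank + (maximalIdeal A).spanFinrank := by
    rw [hm']
    have hfin : ((t : Set B) ∪ (algebraMap A B) '' (s : Set A)).Finite :=
      (t.finite_toSet).union ((s.finite_toSet).image _)
    refine (Submodule.spanFinrank_span_le_ncard_of_finite hfin).trans ?_
    refine (Set.ncard_union_le _ _).trans ?_
    apply add_le_add
    · rw [Set.ncard_coe_finset, ← ht'card]
      exact Finset.card_image_le
    · rw [← hscard, ← Set.ncard_coe_finset s]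
      exact Set.ncard_image_le (s.finite_toSet)
  -- the dimension formula
  have hht := Ideal.height_eq_height_add_of_liesOver_of_hasGoingDown (maximalIdeal A)
    (maximalIdeal B)
  rw [← hI, map_maximalIdeal_of_surjective _ hsurj] at hht
  apply IsRegularLocalRing.of_spanFinrank_maximalIdeal_le
  rw [← maximalIdeal_height_eq_ringKrullDim, hht]
  have hA : ((maximalIdeal A).spanFinrank : WithBot ℕ∞) = ((maximalIdeal A).height : WithBot ℕ∞) := by
    rw [maximalIdeal_height_eq_ringKrullDim]
    exact IsRegularLocalRing.spanFinrank_maximalIdeal
  have hB : ((maximalIdeal (B ⧸ I)).spanFinrank : WithBot ℕ∞) =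
      ((maximalIdeal (B ⧸ I)).height : WithBot ℕ∞) := by
    rw [maximalIdeal_height_eq_ringKrullDim]
    exact IsRegularLocalRing.spanFinrank_maximalIdeal
  have hA' : ((maximalIdeal A).spanFinrank : ℕ∞) = (maximalIdeal A).height := by exact_mod_cast hA
  have hB' : ((maximalIdeal (B ⧸ I)).spanFinrank : ℕ∞) = (maximalIdeal (B ⧸ I)).height := by
    exact_mod_cast hB
  rw [← hA', ← hB']
  have : ((maximalIdeal B).spanFinrank : ℕ∞) ≤
      ((maximalIdeal A).spanFinrank : ℕ∞) + ((maximalIdeal (B ⧸ I)).spanFinrank : ℕ∞) := by
    rw [add_comm]
    exact_mod_cast hgen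
  exact_mod_cast this

end Groth.Agent.H26

namespace Groth.Agent.H26

open TensorProduct

set_option backward.isDefEq.respectTransparency false in
/-- local rings of the total space at points of a regular fibre (local hypotheses) -/
theorem isRegularLocalRing_localization_comap_includeRight' (R S : Type u) [CommRing R] [CommRing S]
    [Algebra R S] [Module.Flat R S]
    (p : Ideal R) [p.IsPrime] [IsRegularLocalRing (Localization.AtPrime p)]
    (q : Ideal (p.Fiber S)) [q.IsPrime] [IsRegularLocalRing (Localization.AtPrime q)]
    [IsNoetherianRing (Localization.AtPrime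
      (q.comap (Algebra.TensorProduct.includeRight (R := R) (A := p.ResidueField) (B := S))))] :
    IsRegularLocalRing (Localization.AtPrime
      (q.comap (Algebra.TensorProduct.includeRight (R := R) (A := p.ResidueField) (B := S)))) := by
  set r := q.comap (Algebra.TensorProduct.includeRight (R := R) (A := p.ResidueField) (B := S))
    with hr
  have hrp : r.LiesOver p := inferInstance
  let _ := Localization.AtPrime.algebraOfLiesOver p r
  have hloc : IsLocalHom (algebraMap (Localization.AtPrime p) (Localization.AtPrime r)) :=
    Localization.isLocalHom_localRingHom p r (algebraMap R S) Ideal.LiesOver.over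
  have hflatS : Module.Flat S (Localization.AtPrime r) := IsLocalization.flat _ r.primeCompl
  have hflatR : Module.Flat R (Localization.AtPrime r) := Module.Flat.trans R S _
  have hflat : Module.Flat (Localization.AtPrime p) (Localization.AtPrime r) :=
    (Module.flat_iff_of_isLocalization (Localization.AtPrime p) p.primeCompl _).mpr hflatR
  have hideal : (maximalIdeal (Localization.AtPrime p)).map
      (algebraMap (Localization.AtPrime p) (Localization.AtPrime r)) =
      (p.map (algebraMap R S)).map (algebraMap S (Localization.AtPrime r)) := by
    rw [← Localization.AtPrime.map_eq_maximalIdeal, Ideal.map_map, Ideal.map_map,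
      ← IsScalarTower.algebraMap_eq, ← IsScalarTower.algebraMap_eq]
  have hquot : IsRegularLocalRing (Localization.AtPrime r ⧸
      (maximalIdeal (Localization.AtPrime p)).map
        (algebraMap (Localization.AtPrime p) (Localization.AtPrime r))) := by
    rw [hideal]
    exact IsRegularLocalRing.of_ringEquiv (R := Localization.AtPrime q)
      (Ideal.Fiber.algEquivAux₂ p q).toRingEquiv
  exact isRegularLocalRing_of_flat_of_regular_fibre (Localization.AtPrime p)
    (Localization.AtPrime r)

/-- local rings of the total space at points of a regular fibre -/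
theorem isRegularLocalRing_localization_comap_includeRight (R S : Type u) [CommRing R] [CommRing S]
    [Algebra R S] [IsRegularRing R] [IsNoetherianRing S] [Module.Flat R S]
    (p : Ideal R) [p.IsPrime] (hfib : IsRegularRing (p.Fiber S)) (q : Ideal (p.Fiber S))
    [q.IsPrime] :
    IsRegularLocalRing (Localization.AtPrime
      (q.comap (Algebra.TensorProduct.includeRight (R := R) (A := p.ResidueField) (B := S)))) :=
  isRegularLocalRing_localization_comap_includeRight' R S p q

/-- A flat Noetherian algebra over a regular ring with regular fibre rings is regular. -/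
theorem isRegularRing_of_flat_of_regular_fibres (R S : Type u) [CommRing R] [CommRing S]
    [Algebra R S] [IsRegularRing R] [IsNoetherianRing S] [Module.Flat R S]
    (h : ∀ (p : Ideal R) [p.IsPrime], IsRegularRing (p.Fiber S)) : IsRegularRing S := by
  rw [isRegularRing_iff]
  intro r hr
  -- reduce to primes of the form `q.comap includeRight`
  set p : Ideal R := r.under R with hp
  have hpp : p.IsPrime := inferInstance
  let q0 := PrimeSpectrum.preimageEquivFiber R S ⟨p, hpp⟩ ⟨⟨r, hr⟩, rfl⟩
  have hq0 : q0.asIdeal.comap (Algebra.TensorProduct.includeRight (R := R) (A := p.ResidueField)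
      (B := S)) = r := by
    have := (PrimeSpectrum.preimageEquivFiber R S ⟨p, hpp⟩).left_inv ⟨⟨r, hr⟩, rfl⟩
    exact congrArg (fun x => x.1.asIdeal) this
  have key := isRegularLocalRing_localization_comap_includeRight R S p (h p) q0.asIdeal
  have hgen : ∀ (r' : Ideal S) (hr' : r'.IsPrime),
      q0.asIdeal.comap (Algebra.TensorProduct.includeRight (R := R) (A := p.ResidueField)
        (B := S)) = r' → IsRegularLocalRing (Localization.AtPrime r') := by
    intro r' hr' e
    subst e
    exact key
  exact hgen r hr hq0

end Groth.Agent.H26
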