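import Mathlib
import Groth.Agent.H26.RegularFlat

/-!
# Ascent of local properties along flat maps, from the fibres (generic version)

Let `P` be a property of local rings, invariant under ring isomorphisms, which ascends along flat
local homomorphisms `A → B` of Noetherian local rings from `A` and the closed fibre `B ⧸ 𝔪_A B`.
Then for a flat map `R → S` of Noetherian rings, if all local rings of `R` and all local rings of
all fibre rings `p.Fiber S` have `P`, then so do all local rings of `S`.
-/

set_option autoImplicit false
set_option linter.style.haveILetI false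
set_option linter.unusedSectionVars false
universe u

open IsLocalRing TensorProduct

namespace Groth.Agent.H26.FlatFibreLocal

variable (P : ∀ (X : Type u) [CommRing X], Prop)

set_option backward.isDefEq.respectTransparency false in
theorem localization_comap_includeRight
    (hiso : ∀ (X Y : Type u) [CommRing X] [CommRing Y], (X ≃+* Y) → P X → P Y)
    (hflat : ∀ (A B : Type u) [CommRing A] [CommRing B] [Algebra A B] [IsLocalRing A]
      [IsLocalRing B] [IsNoetherianRing A] [IsNoetherianRing B] [IsLocalHom (algebraMap A B)]
      [Module.Flat A B], P A → P (B ⧸ (maximalIdeal A).map (algebraMap A B)) → P B)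
    (R S : Type u) [CommRing R] [CommRing S] [Algebra R S] [IsNoetherianRing R]
    [IsNoetherianRing S] [Module.Flat R S]
    (p : Ideal R) [p.IsPrime] (hp : P (Localization.AtPrime p))
    (q : Ideal (p.Fiber S)) [q.IsPrime] (hq : P (Localization.AtPrime q)) :
    P (Localization.AtPrime
      (q.comap (Algebra.TensorProduct.includeRight (R := R) (A := p.ResidueField) (B := S)))) := by
  set r := q.comap (Algebra.TensorProduct.includeRight (R := R) (A := p.ResidueField) (B := S))
    with hr
  have hrp : r.LiesOver p := inferInstance
  let _ := Localization.AtPrime.algebraOfLiesOver p r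
  have hloc : IsLocalHom (algebraMap (Localization.AtPrime p) (Localization.AtPrime r)) :=
    Localization.isLocalHom_localRingHom p r (algebraMap R S) Ideal.LiesOver.over
  have hflatS : Module.Flat S (Localization.AtPrime r) := IsLocalization.flat _ r.primeCompl
  have hflatR : Module.Flat R (Localization.AtPrime r) := Module.Flat.trans R S _
  have hflat' : Module.Flat (Localization.AtPrime p) (Localization.AtPrime r) :=
    (Module.flat_iff_of_isLocalization (Localization.AtPrime p) p.primeCompl _).mpr hflatR
  have hideal : (maximalIdeal (Localization.AtPrime p)).map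
      (algebraMap (Localization.AtPrime p) (Localization.AtPrime r)) =
      (p.map (algebraMap R S)).map (algebraMap S (Localization.AtPrime r)) := by
    rw [← Localization.AtPrime.map_eq_maximalIdeal, Ideal.map_map, Ideal.map_map,
      ← IsScalarTower.algebraMap_eq, ← IsScalarTower.algebraMap_eq]
  have hquot : P (Localization.AtPrime r ⧸
      (maximalIdeal (Localization.AtPrime p)).map
        (algebraMap (Localization.AtPrime p) (Localization.AtPrime r))) := by
    rw [hideal]
    exact hiso _ _ (Ideal.Fiber.algEquivAux₂ p q).toRingEquiv hq
  exact hflat (Localization.AtPrime p) (Localization.AtPrime r) hp hquot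

theorem localization_of_flat_of_fibres
    (hiso : ∀ (X Y : Type u) [CommRing X] [CommRing Y], (X ≃+* Y) → P X → P Y)
    (hflat : ∀ (A B : Type u) [CommRing A] [CommRing B] [Algebra A B] [IsLocalRing A]
      [IsLocalRing B] [IsNoetherianRing A] [IsNoetherianRing B] [IsLocalHom (algebraMap A B)]
      [Module.Flat A B], P A → P (B ⧸ (maximalIdeal A).map (algebraMap A B)) → P B)
    (R S : Type u) [CommRing R] [CommRing S] [Algebra R S] [IsNoetherianRing R]
    [IsNoetherianRing S] [Module.Flat R S]
    (hR : ∀ (p : Ideal R) [p.IsPrime], P (Localization.AtPrime p))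
    (hfib : ∀ (p : Ideal R) [p.IsPrime] (q : Ideal (p.Fiber S)) [q.IsPrime],
      P (Localization.AtPrime q))
    (r : Ideal S) [hr : r.IsPrime] : P (Localization.AtPrime r) := by
  set p : Ideal R := r.under R with hp
  have hpp : p.IsPrime := inferInstance
  let q0 := PrimeSpectrum.preimageEquivFiber R S ⟨p, hpp⟩ ⟨⟨r, hr⟩, rfl⟩
  have hq0 : q0.asIdeal.comap (Algebra.TensorProduct.includeRight (R := R) (A := p.ResidueField)
      (B := S)) = r := by
    have := (PrimeSpectrum.preimageEquivFiber R S ⟨p, hpp⟩).left_inv ⟨⟨r, hr⟩, rfl⟩
    exact congrArg (fun x => x.1.asIdeal) this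
  have key := localization_comap_includeRight P hiso hflat R S p (hR p) q0.asIdeal
    (hfib p q0.asIdeal)
  have hgen : ∀ (r' : Ideal S) (hr' : r'.IsPrime),
      q0.asIdeal.comap (Algebra.TensorProduct.includeRight (R := R) (A := p.ResidueField)
        (B := S)) = r' → P (Localization.AtPrime r') := by
    intro r' hr' e
    subst e
    exact key
  exact hgen r hr hq0

end Groth.Agent.H26.FlatFibreLocal
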