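import Mathlib
import Groth.Agent.H20.ComplBij
import Groth.Agent.H20.AdicQuot
import Groth.Agent.H20.ComplNoeth2

/-!
# Completion of a quotient of a Noetherian local ring

For a Noetherian local ring `R` and an ideal `I` with `R ⧸ I` local, the completion of `R ⧸ I`
(for its maximal ideal) is `R̂ ⧸ I R̂`.
-/

set_option autoImplicit false
set_option linter.style.haveILetI false
set_option linter.unusedSectionVars false
universe u

open IsLocalRing

namespace Groth.Agent.H26.ComplQuot

theorem smodEq_pow_iff {R : Type*} [CommRing R] (I : Ideal R) (n : ℕ) (x y : R) :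
    x ≡ y [SMOD (I ^ n • ⊤ : Submodule R R)] ↔ x - y ∈ I ^ n := by
  rw [SModEq.sub_mem, smul_eq_mul, Ideal.mul_top]

/-- Cauchy sequences: from successive differences (copied from helper61's `H61/QuotComplete`). -/
theorem exists_limit_of_succ {R : Type*} [CommRing R] (I : Ideal R) [IsPrecomplete I R] (G : ℕ → R)
    (hG : ∀ n, G (n + 1) - G n ∈ I ^ n) : ∃ L : R, ∀ n, G n - L ∈ I ^ n := by
  have hprec : IsPrecomplete I R := inferInstance
  have hc : AdicCompletion.IsAdicCauchy I R G := by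
    rw [AdicCompletion.isAdicCauchy_iff]
    intro n
    rw [smodEq_pow_iff]
    have := Ideal.neg_mem_iff (I ^ n) |>.2 (hG n)
    rwa [neg_sub] at this
  obtain ⟨L, hL⟩ := hprec.prec (f := G) (fun {m n} hmn => hc hmn)
  exact ⟨L, fun n => (smodEq_pow_iff _ n _ _).1 (hL n)⟩

/-- A quotient of a complete noetherian local ring is complete
(copied from helper61's `H61/QuotComplete`). -/
theorem isAdicComplete_quotient {R : Type*} [CommRing R] [IsLocalRing R] [IsNoetherianRing R]
    [IsAdicComplete (IsLocalRing.maximalIdeal R) R] (J : Ideal R) [IsLocalRing (R ⧸ J)] :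
    IsAdicComplete (IsLocalRing.maximalIdeal (R ⧸ J)) (R ⧸ J) := by
  classical
  have hmap : ∀ n, (IsLocalRing.maximalIdeal R ^ n).map (Ideal.Quotient.mk J) =
      IsLocalRing.maximalIdeal (R ⧸ J) ^ n := by
    intro n
    rw [Ideal.map_pow, IsLocalRing.map_maximalIdeal_of_surjective _ Ideal.Quotient.mk_surjective]
  haveI : IsHausdorff (IsLocalRing.maximalIdeal (R ⧸ J)) (R ⧸ J) := inferInstance
  haveI : IsPrecomplete (IsLocalRing.maximalIdeal (R ⧸ J)) (R ⧸ J) := by
    constructor
    intro F hF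
    have hF' : ∀ n, F (n + 1) - F n ∈ IsLocalRing.maximalIdeal (R ⧸ J) ^ n := by
      intro n
      have := (smodEq_pow_iff _ n _ _).1 (hF (Nat.le_succ n))
      have := Ideal.neg_mem_iff _ |>.2 this
      rwa [neg_sub] at this
    have hd : ∀ n, ∃ d ∈ IsLocalRing.maximalIdeal R ^ n,
        Ideal.Quotient.mk J d = F (n + 1) - F n := by
      intro n
      have := hF' n
      rw [← hmap n] at this
      exact (Ideal.mem_map_iff_of_surjective _ Ideal.Quotient.mk_surjective).1 this
    choose d hd hd' using hd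
    obtain ⟨g₀, hg₀⟩ := Ideal.Quotient.mk_surjective (F 0)
    let G : ℕ → R := fun n => g₀ + ∑ i ∈ Finset.range n, d i
    have hGF : ∀ n, Ideal.Quotient.mk J (G n) = F n := by
      intro n
      simp only [G, map_add, map_sum, hd', hg₀, Finset.sum_range_sub]
      ring
    have hGs : ∀ n, G (n + 1) - G n ∈ IsLocalRing.maximalIdeal R ^ n := by
      intro n
      simp only [G, Finset.sum_range_succ]
      have : g₀ + (∑ i ∈ Finset.range n, d i + d n) - (g₀ + ∑ i ∈ Finset.range n, d i) = d n := by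
        ring
      rw [this]
      exact hd n
    obtain ⟨L, hL⟩ := exists_limit_of_succ (IsLocalRing.maximalIdeal R) G hGs
    refine ⟨Ideal.Quotient.mk J L, fun n => ?_⟩
    rw [smodEq_pow_iff, ← hGF, ← map_sub, ← hmap n]
    exact Ideal.mem_map_of_mem _ (hL n)
  exact ⟨⟩

section

variable (R : Type u) [CommRing R] [IsLocalRing R] [IsNoetherianRing R] (I : Ideal R)

local notation "R̂" => AdicCompletion (maximalIdeal R) R

/-- The extended ideal `I R̂`. -/
noncomputable abbrev extIdeal : Ideal R̂ := I.map (algebraMap R R̂)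

/-- The map `R ⧸ I → R̂ ⧸ I R̂`. -/
noncomputable def quotToQuot : R ⧸ I →+* R̂ ⧸ extIdeal R I :=
  Ideal.quotientMap _ (algebraMap R R̂) Ideal.le_comap_map

theorem quotToQuot_mk (r : R) :
    quotToQuot R I (Ideal.Quotient.mk I r) = Ideal.Quotient.mk _ (algebraMap R R̂ r) := by
  simp [quotToQuot]

theorem extIdeal_le_maximalIdeal (hI : I ≠ ⊤) : extIdeal R I ≤ maximalIdeal R̂ := by
  rw [AdicCompletion.maximalIdeal_eq_map (R := R)]
  exact Ideal.map_mono (IsLocalRing.le_maximalIdeal hI)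

theorem isLocalRing_quot (hI : I ≠ ⊤) : IsLocalRing (R̂ ⧸ extIdeal R I) := by
  haveI : Nontrivial (R̂ ⧸ extIdeal R I) := by
    rw [Ideal.Quotient.nontrivial_iff]
    intro h
    have := extIdeal_le_maximalIdeal R I hI
    rw [h] at this
    exact (IsLocalRing.maximalIdeal.isMaximal R̂).ne_top (top_le_iff.mp this)
  exact IsLocalRing.of_surjective' (Ideal.Quotient.mk (extIdeal R I)) Ideal.Quotient.mk_surjective


variable [IsLocalRing (R ⧸ I)]

theorem ne_top_of_isLocalRing : I ≠ ⊤ := by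
  have : Nontrivial (R ⧸ I) := inferInstance
  exact Ideal.Quotient.nontrivial_iff.mp this

/-- Powers of the maximal ideal of `R ⧸ I`. -/
theorem maximalIdeal_quot_pow (n : ℕ) :
    maximalIdeal (R ⧸ I) ^ n = (maximalIdeal R ^ n).map (Ideal.Quotient.mk I) := by
  rw [Ideal.map_pow, IsLocalRing.map_maximalIdeal_of_surjective _ Ideal.Quotient.mk_surjective]

/-- Powers of the maximal ideal of `R̂ ⧸ I R̂`. -/
theorem maximalIdeal_quot'_pow [IsLocalRing (R̂ ⧸ extIdeal R I)] (n : ℕ) :
    maximalIdeal (R̂ ⧸ extIdeal R I) ^ n =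
      ((maximalIdeal R ^ n).map (algebraMap R R̂)).map (Ideal.Quotient.mk (extIdeal R I)) := by
  rw [Ideal.map_pow, Ideal.map_pow,
    ← AdicCompletion.maximalIdeal_eq_map (R := R),
    IsLocalRing.map_maximalIdeal_of_surjective _ Ideal.Quotient.mk_surjective]

theorem map_quotToQuot_le [IsLocalRing (R̂ ⧸ extIdeal R I)] :
    (maximalIdeal (R ⧸ I)).map (quotToQuot R I) ≤ maximalIdeal (R̂ ⧸ extIdeal R I) := by
  have h1 := maximalIdeal_quot_pow R I 1
  have h2 := maximalIdeal_quot'_pow R I 1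
  rw [pow_one, pow_one] at h1 h2
  rw [h1, h2, Ideal.map_map, Ideal.map_map]
  apply le_of_eq
  congr 1

theorem quotientMap_quotToQuot_bijective [IsLocalRing (R̂ ⧸ extIdeal R I)] (n : ℕ) :
    Function.Bijective (Ideal.quotientMap (maximalIdeal (R̂ ⧸ extIdeal R I) ^ n) (quotToQuot R I)
      (FSch.pow_le_comap_pow_of_map_le _ _ _ (map_quotToQuot_le R I) n)) := by
  have hker : RingHom.ker (AdicCompletion.evalₐ (maximalIdeal R) n : R̂ →+* R ⧸ maximalIdeal R ^ n) =
      (maximalIdeal R ^ n).map (algebraMap R R̂) :=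
    Groth.Agent.H20.ker_evalₐ_eq_map _ (IsNoetherian.noetherian _) n
  constructor
  · rw [injective_iff_map_eq_zero]
    intro a ha
    obtain ⟨a', rfl⟩ := Ideal.Quotient.mk_surjective a
    obtain ⟨r, rfl⟩ := Ideal.Quotient.mk_surjective a'
    rw [Ideal.quotientMap_mk, quotToQuot_mk, Ideal.Quotient.eq_zero_iff_mem,
      maximalIdeal_quot'_pow, Ideal.mem_map_iff_of_surjective _ Ideal.Quotient.mk_surjective] at ha
    obtain ⟨y, hy, hyr⟩ := ha
    rw [Ideal.Quotient.eq] at hyr
    -- `y - of r ∈ I R̂`, `y ∈ m^n R̂`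
    have h1 : AdicCompletion.evalₐ (maximalIdeal R) n y = 0 := by
      have : y ∈ RingHom.ker
          (AdicCompletion.evalₐ (maximalIdeal R) n : R̂ →+* R ⧸ maximalIdeal R ^ n) := by
        rw [hker]; exact hy
      exact this
    have h2 : (AdicCompletion.evalₐ (maximalIdeal R) n : R̂ →+* R ⧸ maximalIdeal R ^ n)
        (y - algebraMap R R̂ r) ∈ I.map (Ideal.Quotient.mk (maximalIdeal R ^ n)) := by
      have h3 := Ideal.mem_map_of_mem
        (AdicCompletion.evalₐ (maximalIdeal R) n : R̂ →+* R ⧸ maximalIdeal R ^ n) hyr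
      rw [extIdeal, Ideal.map_map] at h3
      have h4 : ((AdicCompletion.evalₐ (maximalIdeal R) n : R̂ →+* R ⧸ maximalIdeal R ^ n).comp
          (algebraMap R R̂)) = Ideal.Quotient.mk (maximalIdeal R ^ n) := by
        ext x
        simp
      rwa [h4] at h3
    rw [map_sub] at h2
    have h5 : (AdicCompletion.evalₐ (maximalIdeal R) n : R̂ →+* R ⧸ maximalIdeal R ^ n)
        (algebraMap R R̂ r) = Ideal.Quotient.mk _ r := by
      simp
    rw [h5] at h2
    have h1' : (AdicCompletion.evalₐ (maximalIdeal R) n : R̂ →+* R ⧸ maximalIdeal R ^ n) y = 0 := h1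
    rw [h1', zero_sub, Ideal.neg_mem_iff,
      Ideal.mem_map_iff_of_surjective _ Ideal.Quotient.mk_surjective] at h2
    obtain ⟨i, hi, hir⟩ := h2
    rw [Ideal.Quotient.eq] at hir
    rw [Ideal.Quotient.eq_zero_iff_mem, maximalIdeal_quot_pow]
    have : Ideal.Quotient.mk I r = Ideal.Quotient.mk I (r - i) := by
      rw [map_sub, Ideal.Quotient.eq_zero_iff_mem.mpr hi, sub_zero]
    rw [this]
    apply Ideal.mem_map_of_mem
    rw [← Ideal.neg_mem_iff, neg_sub]
    exact hir
  · intro q
    obtain ⟨q', rfl⟩ := Ideal.Quotient.mk_surjective q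
    obtain ⟨x, rfl⟩ := Ideal.Quotient.mk_surjective q'
    obtain ⟨r, hr⟩ := Ideal.Quotient.mk_surjective (AdicCompletion.evalₐ (maximalIdeal R) n x)
    refine ⟨Ideal.Quotient.mk _ (Ideal.Quotient.mk I r), ?_⟩
    rw [Ideal.quotientMap_mk, quotToQuot_mk, Ideal.Quotient.eq, maximalIdeal_quot'_pow, ← map_sub]
    apply Ideal.mem_map_of_mem
    rw [← hker, RingHom.mem_ker, map_sub]
    have h5 : (AdicCompletion.evalₐ (maximalIdeal R) n : R̂ →+* R ⧸ maximalIdeal R ^ n)
        (algebraMap R R̂ r) = Ideal.Quotient.mk _ r := by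
      simp
    rw [h5, hr]
    exact sub_self _

/-- **Completion of a quotient.** For a Noetherian local ring `R` and an ideal `I` with `R ⧸ I`
local, the completion of `R ⧸ I` is `R̂ ⧸ I R̂`. -/
theorem nonempty_adicCompletion_quotient_equiv :
    Nonempty (AdicCompletion (maximalIdeal (R ⧸ I)) (R ⧸ I) ≃+*
      R̂ ⧸ I.map (algebraMap R R̂)) := by
  haveI : IsNoetherianRing R̂ := Groth.Agent.H20.isNoetherianRing_adicCompletion _
  haveI : IsLocalRing (R̂ ⧸ extIdeal R I) := isLocalRing_quot R I (ne_top_of_isLocalRing R I)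
  haveI : IsAdicComplete (maximalIdeal (R̂ ⧸ extIdeal R I)) (R̂ ⧸ extIdeal R I) :=
    isAdicComplete_quotient (extIdeal R I)
  have hb := Groth.Agent.H20.complMap_bijective (maximalIdeal (R ⧸ I))
    (maximalIdeal (R̂ ⧸ extIdeal R I)) (quotToQuot R I) (map_quotToQuot_le R I)
    (quotientMap_quotToQuot_bijective R I)
  exact ⟨(RingEquiv.ofBijective _ hb).trans
    (AdicCompletion.ofAlgEquiv (maximalIdeal (R̂ ⧸ extIdeal R I))).symm.toRingEquiv⟩

/-- Version with compatibility with the maps from `R ⧸ I`. -/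
theorem exists_adicCompletion_quotient_equiv :
    ∃ e : AdicCompletion (maximalIdeal (R ⧸ I)) (R ⧸ I) ≃+* R̂ ⧸ I.map (algebraMap R R̂),
      ∀ x : R ⧸ I, e (algebraMap (R ⧸ I) (AdicCompletion (maximalIdeal (R ⧸ I)) (R ⧸ I)) x) =
        quotToQuot R I x := by
  haveI : IsNoetherianRing R̂ := Groth.Agent.H20.isNoetherianRing_adicCompletion _
  haveI : IsLocalRing (R̂ ⧸ extIdeal R I) := isLocalRing_quot R I (ne_top_of_isLocalRing R I)
  haveI : IsAdicComplete (maximalIdeal (R̂ ⧸ extIdeal R I)) (R̂ ⧸ extIdeal R I) :=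
    isAdicComplete_quotient (extIdeal R I)
  have hb := Groth.Agent.H20.complMap_bijective (maximalIdeal (R ⧸ I))
    (maximalIdeal (R̂ ⧸ extIdeal R I)) (quotToQuot R I) (map_quotToQuot_le R I)
    (quotientMap_quotToQuot_bijective R I)
  refine ⟨(RingEquiv.ofBijective _ hb).trans
    (AdicCompletion.ofAlgEquiv (maximalIdeal (R̂ ⧸ extIdeal R I))).symm.toRingEquiv, fun x => ?_⟩
  rw [AdicCompletion.algebraMap_apply, Algebra.algebraMap_self, RingHom.id_apply]
  simp only [RingEquiv.trans_apply, RingEquiv.ofBijective_apply, AlgEquiv.coe_ringEquiv]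
  rw [Groth.Agent.H20.complMap_of, ← AdicCompletion.ofAlgEquiv_apply, AlgEquiv.symm_apply_apply]

/-- The completion of `R ⧸ I` as a base change of the completion of `R`. -/
theorem nonempty_algEquiv_tensor :
    Nonempty (AdicCompletion (maximalIdeal (R ⧸ I)) (R ⧸ I) ≃ₐ[R ⧸ I]
      TensorProduct R (R ⧸ I) R̂) := by
  obtain ⟨e, he⟩ := exists_adicCompletion_quotient_equiv R I
  let e' : AdicCompletion (maximalIdeal (R ⧸ I)) (R ⧸ I) ≃ₐ[R ⧸ I]
      R̂ ⧸ I.map (algebraMap R R̂) := AlgEquiv.ofRingEquiv (f := e) (fun x => by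
    rw [he]
    obtain ⟨r, rfl⟩ := Ideal.Quotient.mk_surjective x
    rw [quotToQuot_mk]
    rfl)
  exact ⟨e'.trans (Algebra.TensorProduct.quotIdealMapEquivQuotTensor R̂ I)⟩

end

end Groth.Agent.H26.ComplQuot
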