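import Mathlib

/-!
# Fibres of a base change along a surjection

For an `A`-algebra `C`, an ideal `I` of `A`, and an `A ⧸ I`-algebra `C'` isomorphic to
`(A ⧸ I) ⊗[A] C`, the fibre of `C'` at a prime `P` of `A ⧸ I` is the fibre of `C` at the prime
of `A` below `P`, compatibly with base change to field extensions.
-/

set_option autoImplicit false
set_option linter.style.haveILetI false
set_option linter.unusedSectionVars false
universe u

open TensorProduct

namespace Groth.Agent.H26.FibreTransport

section General

variable {A A' C C' : Type u} [CommRing A] [CommRing A'] [Algebra A A'] [CommRing C] [Algebra A C]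
  [CommRing C'] [Algebra A' C'] (τ₀ : C' ≃ₐ[A'] A' ⊗[A] C) (p : Ideal A) [p.IsPrime]
  (P : Ideal A') [P.IsPrime]
  (K : Type u) [CommRing K] [Algebra A K] [Algebra A' K] [Algebra p.ResidueField K]
  [Algebra P.ResidueField K] [IsScalarTower A A' K] [IsScalarTower A' P.ResidueField K]
  [IsScalarTower A p.ResidueField K]

/-- `K ⊗_{κ(P)} (κ(P) ⊗_{A'} C') ≃ K ⊗_{κ(p)} (κ(p) ⊗_A C)` when `C' = A' ⊗_A C`. -/
noncomputable def tensorFiberEquiv :
    K ⊗[P.ResidueField] (P.Fiber C') ≃+* K ⊗[p.ResidueField] (p.Fiber C) :=
  ((Algebra.TensorProduct.cancelBaseChange A' P.ResidueField P.ResidueField K C').toRingEquiv).trans <|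
  ((Algebra.TensorProduct.congr (AlgEquiv.refl : K ≃ₐ[A'] K) τ₀).toRingEquiv).trans <|
  ((Algebra.TensorProduct.cancelBaseChange A A' A' K C).toRingEquiv).trans
  ((Algebra.TensorProduct.cancelBaseChange A p.ResidueField p.ResidueField K C).symm.toRingEquiv)

end General

section Quotient

variable {A : Type u} [CommRing A] (I : Ideal A) (P : Ideal (A ⧸ I)) [P.IsPrime]

/-- The prime of `A` below a prime of `A ⧸ I`. -/
abbrev below : Ideal A := P.comap (Ideal.Quotient.mk I)

/-- The residue field of `A ⧸ I` at `P` is that of `A` at the prime below. -/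
noncomputable def residueFieldEquiv : (below I P).ResidueField ≃ₐ[A] P.ResidueField :=
  AlgEquiv.ofBijective (Ideal.ResidueField.mapₐ (below I P) P (Algebra.ofId A (A ⧸ I)) rfl)
    (RingHom.SurjectiveOnStalks.residueFieldMap_bijective
      (RingHom.surjectiveOnStalks_of_surjective Ideal.Quotient.mk_surjective) _ _ rfl)

variable {C C' : Type u} [CommRing C] [Algebra A C] [CommRing C'] [Algebra (A ⧸ I) C']
  (τ₀ : C' ≃ₐ[A ⧸ I] (A ⧸ I) ⊗[A] C)

/-- The fibre of `C' = (A ⧸ I) ⊗ C` at `P` is the fibre of `C` at the prime below. -/
noncomputable def fiberEquiv : P.Fiber C' ≃+* (below I P).Fiber C :=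
  ((Algebra.TensorProduct.congr (AlgEquiv.refl : P.ResidueField ≃ₐ[A ⧸ I] P.ResidueField)
      τ₀).toRingEquiv).trans <|
  ((Algebra.TensorProduct.cancelBaseChange A (A ⧸ I) (A ⧸ I) P.ResidueField C).toRingEquiv).trans
  ((Algebra.TensorProduct.congr (residueFieldEquiv I P).symm
    (AlgEquiv.refl : C ≃ₐ[A] C)).toRingEquiv)

variable (K : Type u) [Field K] [Algebra P.ResidueField K]

/-- A `κ(P)`-algebra as an algebra over `A ⧸ I`. -/
@[reducible] noncomputable def algQuot : Algebra (A ⧸ I) K :=
  ((algebraMap P.ResidueField K).comp (algebraMap (A ⧸ I) P.ResidueField)).toAlgebra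

/-- A `κ(P)`-algebra as an algebra over `A`. -/
@[reducible] noncomputable def algBase : Algebra A K :=
  ((algebraMap P.ResidueField K).comp (algebraMap A P.ResidueField)).toAlgebra

/-- A `κ(P)`-algebra as an algebra over `κ(p)`. -/
@[reducible] noncomputable def algRes : Algebra (below I P).ResidueField K :=
  ((algebraMap P.ResidueField K).comp
    ((residueFieldEquiv I P : (below I P).ResidueField →ₐ[A] P.ResidueField) : _ →+* _)).toAlgebra

theorem finite_algRes [Module.Finite P.ResidueField K] :
    @Module.Finite (below I P).ResidueField K _ _ (algRes I P K).toModule := by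
  letI := algRes I P K
  letI : Algebra (below I P).ResidueField P.ResidueField :=
    ((residueFieldEquiv I P : (below I P).ResidueField →ₐ[A] P.ResidueField) : _ →+* _).toAlgebra
  haveI : IsScalarTower (below I P).ResidueField P.ResidueField K :=
    IsScalarTower.of_algebraMap_eq (fun x => rfl)
  haveI : Module.Finite (below I P).ResidueField P.ResidueField :=
    Module.Finite.of_surjective (Algebra.linearMap (below I P).ResidueField P.ResidueField)
      (residueFieldEquiv I P).surjective
  exact Module.Finite.trans P.ResidueField K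

theorem isAlgebraic_algRes [Algebra.IsAlgebraic P.ResidueField K] :
    @Algebra.IsAlgebraic (below I P).ResidueField K _ _ (algRes I P K) := by
  letI := algRes I P K
  letI : Algebra (below I P).ResidueField P.ResidueField :=
    ((residueFieldEquiv I P : (below I P).ResidueField →ₐ[A] P.ResidueField) : _ →+* _).toAlgebra
  haveI : IsScalarTower (below I P).ResidueField P.ResidueField K :=
    IsScalarTower.of_algebraMap_eq (fun x => rfl)
  haveI : Algebra.IsIntegral (below I P).ResidueField P.ResidueField :=
    Algebra.isIntegral_of_surjective (residueFieldEquiv I P).surjective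
  haveI : Algebra.IsAlgebraic (below I P).ResidueField P.ResidueField :=
    Algebra.IsIntegral.isAlgebraic
  exact Algebra.IsAlgebraic.trans (below I P).ResidueField P.ResidueField K

/-- The base change of the fibre to a field extension `K` of `κ(P)`. -/
noncomputable def tensorFiberEquiv' :
    K ⊗[P.ResidueField] (P.Fiber C') ≃+*
      @TensorProduct (below I P).ResidueField _ K ((below I P).Fiber C) _ _
        (algRes I P K).toModule _ := by
  letI := algRes I P K
  letI := algQuot I P K
  letI := algBase I P K
  haveI : IsScalarTower A (A ⧸ I) K := IsScalarTower.of_algebraMap_eq (fun x => by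
    simp only [RingHom.algebraMap_toAlgebra, RingHom.coe_comp, Function.comp_apply]
    rw [IsScalarTower.algebraMap_apply A (A ⧸ I) P.ResidueField])
  haveI : IsScalarTower (A ⧸ I) P.ResidueField K := IsScalarTower.of_algebraMap_eq (fun x => rfl)
  haveI : IsScalarTower A (below I P).ResidueField K := IsScalarTower.of_algebraMap_eq (fun x => by
    simp only [RingHom.algebraMap_toAlgebra, RingHom.coe_comp, Function.comp_apply]
    congr 1
    exact ((residueFieldEquiv I P : (below I P).ResidueField →ₐ[A] P.ResidueField).commutes x).symm)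
  exact tensorFiberEquiv τ₀ (below I P) P K

end Quotient

end Groth.Agent.H26.FibreTransport
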