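import Mathlib
import Groth.Prelude.Def_EGA4b
import Groth.Prelude.Def_Found
import Groth.Agent.H26.ComplQuot
import Groth.Agent.H26.FibreTransport
import Groth.Agent.H49.CMLocalize

/-!
# Formal fibres of a quotient of a Noetherian local ring

The formal fibres of `A ⧸ I` are formal fibres of `A`.
-/

set_option autoImplicit false
set_option linter.style.haveILetI false
set_option linter.unusedSectionVars false
universe u

open TensorProduct

namespace Groth.Agent.H26.FormalFibreQuot

open Groth.Agent.H26.FibreTransport

/-- Normality of a ring is invariant under ring isomorphisms. -/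
theorem isNormalRing_of_ringEquiv {R S : Type u} [CommRing R] [CommRing S] (e : R ≃+* S)
    (h : EGA4.IsNormalRing R) : EGA4.IsNormalRing S := by
  intro q hq
  let e' : Localization.AtPrime (q.comap e) ≃+* Localization.AtPrime q :=
    IsLocalization.ringEquivOfRingEquiv
      (Localization.AtPrime (q.comap e)) (Localization.AtPrime q) e (e.map_primeCompl_comap_eq q)
  obtain ⟨h1, h2⟩ := h (q.comap e)
  exact ⟨e'.symm.toMulEquiv.isDomain _, IsIntegrallyClosed.of_equiv e'⟩

/-- Cohen–Macaulayness of a ring is invariant under ring isomorphisms. -/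
theorem isCohenMacaulayRing_of_ringEquiv {R S : Type u} [CommRing R] [CommRing S] (e : R ≃+* S)
    (h : LocCoh.IsCohenMacaulayRing R) : LocCoh.IsCohenMacaulayRing S := by
  haveI : IsNoetherianRing R := h.toIsNoetherian
  haveI : IsNoetherianRing S := isNoetherianRing_of_ringEquiv R e
  refine ⟨fun q hq => ?_⟩
  let e' : Localization.AtPrime (q.comap e) ≃+* Localization.AtPrime q :=
    IsLocalization.ringEquivOfRingEquiv
      (Localization.AtPrime (q.comap e)) (Localization.AtPrime q) e (e.map_primeCompl_comap_eq q)
  exact Groth.Agent.H49.isCohenMacaulayLocalRing_of_ringEquiv e'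
    (h.isCohenMacaulayLocalRing_localization (q.comap e))

section

variable (A : Type u) [CommRing A] [IsNoetherianRing A] [IsLocalRing A] (I : Ideal A)
  [Nontrivial (A ⧸ I)]

set_option backward.isDefEq.respectTransparency false in
/-- **S4737.** -/
theorem isRegularHom_quotient (hA : CAlg.IsRegularHom A (EGA4.Cpl A)) :
    CAlg.IsRegularHom (A ⧸ I) (EGA4.Cpl (A ⧸ I)) := by
  obtain ⟨τ₀⟩ := Groth.Agent.H26.ComplQuot.nonempty_algEquiv_tensor A I
  refine ⟨inferInstance, fun P hP => ⟨?_, ?_⟩⟩
  · have := (hA.2 (below I P)).1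
    exact isNoetherianRing_of_ringEquiv _ (fiberEquiv I P τ₀).symm
  · intro k' _ _ hfin
    have h := @(hA.2 (below I P)).2 k' _ (algRes I P k') (finite_algRes I P k')
    exact @IsRegularRing.of_ringEquiv _ _ _ _ (tensorFiberEquiv' I P τ₀ k').symm h

/-- **S4754.** -/
theorem hasGeomNormalFormalFibres_quotient (hA : EGA4.HasGeomNormalFormalFibres A) :
    EGA4.HasGeomNormalFormalFibres (A ⧸ I) := by
  obtain ⟨τ₀⟩ := Groth.Agent.H26.ComplQuot.nonempty_algEquiv_tensor A I
  intro P hP k' _ _ hfin
  have h := @hA (below I P) _ k' _ (algRes I P k') (finite_algRes I P k')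
  exact isNormalRing_of_ringEquiv (tensorFiberEquiv' I P τ₀ k').symm h

/-- **S4755.** -/
theorem hasCMFormalFibres_quotient (hA : EGA4.HasCMFormalFibres A) :
    EGA4.HasCMFormalFibres (A ⧸ I) := by
  obtain ⟨τ₀⟩ := Groth.Agent.H26.ComplQuot.nonempty_algEquiv_tensor A I
  intro P hP
  exact isCohenMacaulayRing_of_ringEquiv (fiberEquiv I P τ₀).symm (hA (below I P))

set_option backward.isDefEq.respectTransparency false in
/-- **S4738.** -/
theorem hasGeomReducedFormalFibres_quotient (hA : EGA4.HasGeomReducedFormalFibres A) :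
    EGA4.HasGeomReducedFormalFibres (A ⧸ I) := by
  obtain ⟨τ₀⟩ := Groth.Agent.H26.ComplQuot.nonempty_algEquiv_tensor A I
  intro P hP
  rw [Algebra.isGeometricallyReduced_field_iff]
  letI := algRes I P (AlgebraicClosure P.ResidueField)
  haveI := isAlgebraic_algRes I P (AlgebraicClosure P.ResidueField)
  haveI := hA (below I P)
  have hred : IsReduced (AlgebraicClosure P.ResidueField ⊗[(below I P).ResidueField]
      (below I P).Fiber (EGA4.Cpl A)) := inferInstance
  let f := tensorFiberEquiv' I P τ₀ (AlgebraicClosure P.ResidueField)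
  exact isReduced_of_injective f f.injective

end

end Groth.Agent.H26.FormalFibreQuot
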