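import Mathlib
import Groth.Agent.H26.RegularFlat
import Groth.Agent.Lead.RegularFlatDescent

/-! Regularity ascends and descends along étale maps. -/

set_option autoImplicit false
universe u

open IsLocalRing TensorProduct

namespace Groth.Agent.H26

/-- localizations of an étale algebra over a field are fields -/
theorem isField_localization_of_etale_field (K F : Type u) [Field K] [CommRing F] [Algebra K F]
    [Algebra.Etale K F] (Q : Ideal F) [Q.IsPrime] : IsField (Localization.AtPrime Q) := by
  have : Algebra.FormallyUnramified K (Localization.AtPrime Q) :=
    Algebra.FormallyUnramified.comp K F (Localization.AtPrime Q)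
  have : Algebra.EssFiniteType K (Localization.AtPrime Q) :=
    Algebra.EssFiniteType.comp K F (Localization.AtPrime Q)
  have := Algebra.FormallyUnramified.finite_of_free K (Localization.AtPrime Q)
  have := IsArtinianRing.of_finite K (Localization.AtPrime Q)
  have := Algebra.FormallyUnramified.isReduced_of_field K (Localization.AtPrime Q)
  exact IsArtinianRing.isField_of_isReduced_of_isLocalRing _

/-- Noetherianity descends along faithfully flat ring maps. -/
theorem isNoetherianRing_of_faithfullyFlat (A B : Type u) [CommRing A] [CommRing B] [Algebra A B]
    [Module.FaithfullyFlat A B] [IsNoetherianRing B] : IsNoetherianRing A := by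
  have h : IsNoetherian B (B ⊗[A] A) :=
    isNoetherian_of_linearEquiv (AlgebraTensorModule.rid A B B).symm
  exact Submodule.IsNoetherian.of_isNoetherian_tensorProduct_of_faithfullyFlat (A := B) h

/-- regularity of local rings along an étale map -/
theorem isRegularLocalRing_localization_iff_of_etale (A B : Type u) [CommRing A] [CommRing B]
    [Algebra A B] [Algebra.Etale A B] (r : Ideal B) [r.IsPrime] :
    IsRegularLocalRing (Localization.AtPrime (r.under A)) ↔
      IsRegularLocalRing (Localization.AtPrime r) := by
  set p : Ideal A := r.under A with hp
  have hpp : p.IsPrime := inferInstance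
  have hrp : r.LiesOver p := ⟨rfl⟩
  let _ := Localization.AtPrime.algebraOfLiesOver p r
  have hloc : IsLocalHom (algebraMap (Localization.AtPrime p) (Localization.AtPrime r)) :=
    Localization.isLocalHom_localRingHom p r (algebraMap A B) Ideal.LiesOver.over
  have hflatS : Module.Flat B (Localization.AtPrime r) := IsLocalization.flat _ r.primeCompl
  have hflatR : Module.Flat A (Localization.AtPrime r) := Module.Flat.trans A B _
  have hflat : Module.Flat (Localization.AtPrime p) (Localization.AtPrime r) :=
    (Module.flat_iff_of_isLocalization (Localization.AtPrime p) p.primeCompl _).mpr hflatR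
  constructor
  · intro hA
    -- Noetherianity of `B_r`
    have hess : Algebra.EssFiniteType A (Localization.AtPrime r) :=
      Algebra.EssFiniteType.comp A B (Localization.AtPrime r)
    have hess' : Algebra.EssFiniteType (Localization.AtPrime p) (Localization.AtPrime r) :=
      Algebra.EssFiniteType.of_comp A (Localization.AtPrime p) (Localization.AtPrime r)
    have hN : IsNoetherianRing (Localization.AtPrime r) :=
      Algebra.EssFiniteType.isNoetherianRing (Localization.AtPrime p) (Localization.AtPrime r)
    -- the point of the fibre
    let q0 := PrimeSpectrum.preimageEquivFiber A B ⟨p, hpp⟩ ⟨⟨r, inferInstance⟩, rfl⟩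
    have hq0 : q0.asIdeal.comap (Algebra.TensorProduct.includeRight (R := A)
        (A := p.ResidueField) (B := B)) = r := by
      have := (PrimeSpectrum.preimageEquivFiber A B ⟨p, hpp⟩).left_inv ⟨⟨r, inferInstance⟩, rfl⟩
      exact congrArg (fun x => x.1.asIdeal) this
    have hfield : IsField (Localization.AtPrime q0.asIdeal) :=
      isField_localization_of_etale_field p.ResidueField (p.Fiber B) q0.asIdeal
    have hreg0 : IsRegularLocalRing (Localization.AtPrime q0.asIdeal) := by
      let _ := hfield.toField
      infer_instance
    have hgen : ∀ (r' : Ideal B) (hr' : r'.IsPrime),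
        q0.asIdeal.comap (Algebra.TensorProduct.includeRight (R := A) (A := p.ResidueField)
          (B := B)) = r' → IsNoetherianRing (Localization.AtPrime r') →
          IsRegularLocalRing (Localization.AtPrime r') := by
      intro r' hr' e hN'
      subst e
      exact isRegularLocalRing_localization_comap_includeRight' A B p q0.asIdeal
    exact hgen r inferInstance hq0 hN
  · intro hB
    have hff : Module.FaithfullyFlat (Localization.AtPrime p) (Localization.AtPrime r) :=
      Module.FaithfullyFlat.of_flat_of_isLocalHom
    have hN : IsNoetherianRing (Localization.AtPrime p) :=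
      isNoetherianRing_of_faithfullyFlat (Localization.AtPrime p) (Localization.AtPrime r)
    exact Groth.Agent.Lead.RLR.isRegularLocalRing_of_flat (Localization.AtPrime p)
      (Localization.AtPrime r)

end Groth.Agent.H26
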