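import Mathlib
import Groth.Prelude.Def_Found
import Groth.Agent.H26.RegularEtale
import Groth.Agent.H2.FFlatDescent

/-!
# Descent of regularity along faithfully flat maps; regular homomorphisms

* `isRegularRing_of_faithfullyFlat`: if `R → S` is faithfully flat and `S` is a regular ring, then
  `R` is a regular ring.
* `isRegularHom_of_comp_of_faithfullyFlat`: if `A → C` is regular and `B → C` is faithfully flat,
  then `A → B` is regular.
-/

set_option autoImplicit false
set_option linter.style.haveILetI false
set_option linter.unusedSectionVars false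
universe u

open TensorProduct

namespace Groth.Agent.H26.RegHomDescent

/-- Regularity descends along faithfully flat ring maps. -/
theorem isRegularRing_of_faithfullyFlat (R S : Type u) [CommRing R] [CommRing S] [Algebra R S]
    [Module.FaithfullyFlat R S] [IsRegularRing S] : IsRegularRing R := by
  haveI : IsNoetherianRing R := Groth.Agent.H26.isNoetherianRing_of_faithfullyFlat R S
  rw [isRegularRing_iff]
  intro p hp
  obtain ⟨q, hq, hqp⟩ := Ideal.exists_isPrime_liesOver_of_faithfullyFlat (B := S) p
  let _ := Localization.AtPrime.algebraOfLiesOver p q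
  have hloc : IsLocalHom (algebraMap (Localization.AtPrime p) (Localization.AtPrime q)) :=
    Localization.isLocalHom_localRingHom p q (algebraMap R S) Ideal.LiesOver.over
  have hflatS : Module.Flat S (Localization.AtPrime q) := IsLocalization.flat _ q.primeCompl
  have hflatR : Module.Flat R (Localization.AtPrime q) := Module.Flat.trans R S _
  have hflat : Module.Flat (Localization.AtPrime p) (Localization.AtPrime q) :=
    (Module.flat_iff_of_isLocalization (Localization.AtPrime p) p.primeCompl _).mpr hflatR
  have hff : Module.FaithfullyFlat (Localization.AtPrime p) (Localization.AtPrime q) :=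
    Module.FaithfullyFlat.of_flat_of_isLocalHom
  have hN : IsNoetherianRing (Localization.AtPrime p) := inferInstance
  exact Groth.Agent.Lead.RLR.isRegularLocalRing_of_flat (Localization.AtPrime p)
    (Localization.AtPrime q)

section

variable (A B C K : Type u) [CommRing A] [CommRing B] [CommRing C] [CommRing K] [Algebra A B]
  [Algebra B C] [Algebra A C] [IsScalarTower A B C] [Algebra A K]

/-- `(B ⊗_A K) ⊗_B C ≃ K ⊗_A C`. -/
noncomputable def tensorTensorEquiv : (B ⊗[A] K) ⊗[B] C ≃+* K ⊗[A] C :=
  ((Algebra.TensorProduct.comm B (B ⊗[A] K) C).toRingEquiv).trans <|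
  ((Algebra.TensorProduct.cancelBaseChange A B B C K).toRingEquiv).trans
  (Algebra.TensorProduct.comm A C K).toRingEquiv

variable (p : Ideal A) [p.IsPrime] [Algebra p.ResidueField K] [IsScalarTower A p.ResidueField K]

/-- `K ⊗_A C ≃ K ⊗_κ (κ ⊗_A C)`. -/
noncomputable def tensorFiberEquiv : K ⊗[A] C ≃+* K ⊗[p.ResidueField] (p.Fiber C) :=
  (Algebra.TensorProduct.cancelBaseChange A p.ResidueField p.ResidueField K C).symm.toRingEquiv

end

set_option backward.isDefEq.respectTransparency false in
/-- If `A → C` is regular and `B → C` is faithfully flat then `A → B` is regular. -/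
theorem isRegularHom_of_comp_of_faithfullyFlat (A B C : Type u) [CommRing A] [CommRing B]
    [CommRing C] [Algebra A B] [Algebra B C] [Algebra A C] [IsScalarTower A B C]
    (hAC : CAlg.IsRegularHom A C) [Module.FaithfullyFlat B C] : CAlg.IsRegularHom A B := by
  haveI : Module.Flat A C := hAC.1
  refine ⟨Groth.Agent.H2.flat_of_faithfullyFlat_module A B C, fun p hp => ?_⟩
  obtain ⟨hN, hG⟩ := hAC.2 p
  refine ⟨?_, ?_⟩
  · have h1 : IsNoetherianRing ((B ⊗[A] p.ResidueField) ⊗[B] C) :=
      isNoetherianRing_of_ringEquiv _ (tensorTensorEquiv A B C p.ResidueField).symm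
    have h2 : IsNoetherianRing (B ⊗[A] p.ResidueField) :=
      Groth.Agent.H26.isNoetherianRing_of_faithfullyFlat (B ⊗[A] p.ResidueField)
        ((B ⊗[A] p.ResidueField) ⊗[B] C)
    exact isNoetherianRing_of_ringEquiv _
      (Algebra.TensorProduct.comm A B p.ResidueField).toRingEquiv
  · intro k' _ _ hfin
    letI : Algebra A k' :=
      ((algebraMap p.ResidueField k').comp (algebraMap A p.ResidueField)).toAlgebra
    haveI : IsScalarTower A p.ResidueField k' := IsScalarTower.of_algebraMap_eq (fun x => rfl)
    have hreg : IsRegularRing (k' ⊗[p.ResidueField] (p.Fiber C)) := hG k' hfin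
    have h1 : IsRegularRing ((B ⊗[A] k') ⊗[B] C) :=
      @IsRegularRing.of_ringEquiv _ _ _ _
        ((tensorTensorEquiv A B C k').trans (tensorFiberEquiv A C k' p)).symm hreg
    have h2 : IsRegularRing (B ⊗[A] k') :=
      isRegularRing_of_faithfullyFlat (B ⊗[A] k') ((B ⊗[A] k') ⊗[B] C)
    exact @IsRegularRing.of_ringEquiv _ _ _ _
      ((Algebra.TensorProduct.comm A B k').toRingEquiv.trans (tensorFiberEquiv A B k' p)) h2

end Groth.Agent.H26.RegHomDescent
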