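import Mathlib
import Groth.Agent.H26.FlatFibreLocal
import Groth.Agent.H26.FormalFibreQuot
import Groth.Agent.H26.RegHomDescent
import Groth.Agent.H72.FlatCM
import Groth.Agent.H49.CMLocalize
import Groth.Agent.H14.RegularCM

/-!
# Cohen–Macaulay rings and flat maps (global versions)
-/

set_option autoImplicit false
set_option linter.style.haveILetI false
set_option linter.unusedSectionVars false
universe u

open IsLocalRing TensorProduct

namespace Groth.Agent.H26.CMFlat

/-- A regular local ring is Cohen–Macaulay. -/
theorem isCohenMacaulayLocalRing_of_isRegularLocalRing (A : Type u) [CommRing A]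
    [IsRegularLocalRing A] : LocCoh.IsCohenMacaulayLocalRing A := by
  rw [Groth.Agent.H72.FlatCM.isCohenMacaulayLocalRing_iff]
  exact le_antisymm (Groth.Agent.H14.ringKrullDim_le_idealDepth_of_isRegularLocalRing A)
    (Groth.Agent.H72.FlatCM.depth_le_ringKrullDim A)

/-- A regular ring is Cohen–Macaulay. -/
theorem isCohenMacaulayRing_of_isRegularRing (A : Type u) [CommRing A] [IsRegularRing A] :
    LocCoh.IsCohenMacaulayRing A :=
  { isCohenMacaulayLocalRing_localization := fun p _ =>
      isCohenMacaulayLocalRing_of_isRegularLocalRing (Localization.AtPrime p) }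

/-- A flat Noetherian algebra over a Cohen–Macaulay ring with Cohen–Macaulay fibres is
Cohen–Macaulay. -/
theorem isCohenMacaulayRing_of_flat_of_fibres (R S : Type u) [CommRing R] [CommRing S]
    [Algebra R S] [IsNoetherianRing R] [IsNoetherianRing S] [Module.Flat R S]
    (hR : LocCoh.IsCohenMacaulayRing R)
    (h : ∀ (p : Ideal R) [p.IsPrime], LocCoh.IsCohenMacaulayRing (p.Fiber S)) :
    LocCoh.IsCohenMacaulayRing S :=
  { isCohenMacaulayLocalRing_localization := fun r hr =>
      Groth.Agent.H26.FlatFibreLocal.localization_of_flat_of_fibres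
        (fun X _ => LocCoh.IsCohenMacaulayLocalRing X)
        (fun X Y _ _ e hX => Groth.Agent.H49.isCohenMacaulayLocalRing_of_ringEquiv e hX)
        (fun A B _ _ _ _ _ _ _ _ _ hA hB =>
          (Groth.Agent.H72.FlatCM.isCohenMacaulayLocalRing_iff_of_flat (A := A) (B := B)).mpr
            ⟨hA, hB⟩)
        R S (fun p _ => hR.isCohenMacaulayLocalRing_localization p)
        (fun p _ q _ => (h p).isCohenMacaulayLocalRing_localization q) r }

/-- Cohen–Macaulayness descends along faithfully flat maps. -/
theorem isCohenMacaulayRing_of_faithfullyFlat (R S : Type u) [CommRing R] [CommRing S]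
    [Algebra R S] [Module.FaithfullyFlat R S] (hS : LocCoh.IsCohenMacaulayRing S) :
    LocCoh.IsCohenMacaulayRing R := by
  haveI : IsNoetherianRing S := hS.toIsNoetherian
  haveI : IsNoetherianRing R := Groth.Agent.H26.isNoetherianRing_of_faithfullyFlat R S
  refine { isCohenMacaulayLocalRing_localization := fun p hp => ?_ }
  obtain ⟨q, hq, hqp⟩ := Ideal.exists_isPrime_liesOver_of_faithfullyFlat (B := S) p
  let _ := Localization.AtPrime.algebraOfLiesOver p q
  have hloc : IsLocalHom (algebraMap (Localization.AtPrime p) (Localization.AtPrime q)) :=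
    Localization.isLocalHom_localRingHom p q (algebraMap R S) Ideal.LiesOver.over
  have hflatS : Module.Flat S (Localization.AtPrime q) := IsLocalization.flat _ q.primeCompl
  have hflatR : Module.Flat R (Localization.AtPrime q) := Module.Flat.trans R S _
  have hflat : Module.Flat (Localization.AtPrime p) (Localization.AtPrime q) :=
    (Module.flat_iff_of_isLocalization (Localization.AtPrime p) p.primeCompl _).mpr hflatR
  exact ((Groth.Agent.H72.FlatCM.isCohenMacaulayLocalRing_iff_of_flat
    (A := Localization.AtPrime p) (B := Localization.AtPrime q)).mp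
    (hS.isCohenMacaulayLocalRing_localization q)).1

end Groth.Agent.H26.CMFlat
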