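import Mathlib
import Groth.Agent.H20.AdicUnit
import Groth.Agent.H20.ComplNoeth2

/-!
# Primes of the `J`-adic completion versus primes of the Zariskification `(1+J)⁻¹A`
-/

set_option autoImplicit false
set_option linter.style.haveILetI false
set_option linter.unusedSectionVars false
universe u

open IsLocalRing TensorProduct

namespace Groth.Agent.H26.ZariskiCompl

variable {A : Type u} [CommRing A] (J : Ideal A)

/-- Elements congruent to `1` modulo `J` become units in the `J`-adic completion. -/
theorem isUnit_algebraMap (t : A) (ht : Ideal.Quotient.mk J t = 1) :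
    IsUnit (algebraMap A (AdicCompletion J A) t) := by
  apply Groth.Agent.H20.isUnit_of_forall_isUnit_evalₐ
  intro n
  rw [AdicCompletion.algebraMap_apply, Algebra.algebraMap_self, RingHom.id_apply,
    AdicCompletion.evalₐ_of]
  have hmem : t - 1 ∈ J := by
    rw [← Ideal.Quotient.eq_zero_iff_mem, map_sub, ht, map_one, sub_self]
  have hnil : IsNilpotent (Ideal.Quotient.mk (J ^ n) (t - 1)) := by
    refine ⟨n, ?_⟩
    rw [← map_pow, Ideal.Quotient.eq_zero_iff_mem]
    exact Ideal.pow_mem_pow hmem n
  have := hnil.isUnit_add_one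
  rwa [← map_one (Ideal.Quotient.mk (J ^ n)), ← map_add, sub_add_cancel] at this

/-- The contraction of a prime of the completion is disjoint from `1 + J`. -/
theorem disjoint_comap (Q : Ideal (AdicCompletion J A)) [hQ : Q.IsPrime] :
    Disjoint ((MonoidHom.mker (Ideal.Quotient.mk J) : Submonoid A) : Set A)
      (Q.comap (algebraMap A (AdicCompletion J A)) : Set A) := by
  rw [Set.disjoint_left]
  intro t ht hmem
  have hu := isUnit_algebraMap J t (MonoidHom.mem_mker.mp ht)
  exact hQ.ne_top (Ideal.eq_top_of_isUnit_mem _ hmem hu)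

/-- Every prime containing `J` is the contraction of a prime of the completion. -/
theorem exists_isPrime_comap_eq (M : Ideal A) [hM : M.IsPrime] (h : J ≤ M) :
    ∃ Q : Ideal (AdicCompletion J A), Q.IsPrime ∧
      Q.comap (algebraMap A (AdicCompletion J A)) = M := by
  have hker : RingHom.ker (Ideal.Quotient.mk J) ≤ M := by rwa [Ideal.mk_ker]
  haveI hM' : (M.map (Ideal.Quotient.mk J)).IsPrime :=
    Ideal.map_isPrime_of_surjective Ideal.Quotient.mk_surjective hker
  refine ⟨(M.map (Ideal.Quotient.mk J)).comap (AdicCompletion.evalOneₐ J).toRingHom,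
    Ideal.comap_isPrime _ _, ?_⟩
  rw [Ideal.comap_comap, AdicCompletion.evalOneₐ_comp_algebraMap_eq_mk,
    Ideal.comap_map_of_surjective _ Ideal.Quotient.mk_surjective, ← RingHom.ker_eq_comap_bot,
    sup_eq_left.mpr hker]

/-- Every prime disjoint from `1 + J` is contained in a prime containing `J`. -/
theorem exists_isPrime_ge (p : Ideal A)
    (hp : Disjoint ((MonoidHom.mker (Ideal.Quotient.mk J) : Submonoid A) : Set A) (p : Set A)) :
    ∃ M : Ideal A, M.IsPrime ∧ p ≤ M ∧ J ≤ M := by
  have hne : p ⊔ J ≠ ⊤ := by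
    intro htop
    have h1 : (1 : A) ∈ p ⊔ J := by rw [htop]; exact Submodule.mem_top
    obtain ⟨x, hx, j, hj, hxj⟩ := Submodule.mem_sup.mp h1
    have hxT : x ∈ (MonoidHom.mker (Ideal.Quotient.mk J) : Submonoid A) := by
      rw [MonoidHom.mem_mker]
      have : x = 1 - j := by rw [← hxj]; ring
      rw [this, map_sub, map_one, Ideal.Quotient.eq_zero_iff_mem.mpr hj, sub_zero]
    exact Set.disjoint_left.mp hp hxT hx
  obtain ⟨M, hM, hle⟩ := Ideal.exists_le_maximal _ hne
  exact ⟨M, hM.isPrime, le_sup_left.trans hle, le_sup_right.trans hle⟩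

/-- For a prime `p` disjoint from `1 + J`, there are a prime `M ⊇ p` and a prime `Q` of the
completion lying over `M`. -/
theorem exists_isPrime_comap_ge (p : Ideal A)
    (hp : Disjoint ((MonoidHom.mker (Ideal.Quotient.mk J) : Submonoid A) : Set A) (p : Set A)) :
    ∃ Q : Ideal (AdicCompletion J A), Q.IsPrime ∧
      p ≤ Q.comap (algebraMap A (AdicCompletion J A)) := by
  obtain ⟨M, hM, hpM, hJM⟩ := exists_isPrime_ge J p hp
  obtain ⟨Q, hQ, hQM⟩ := exists_isPrime_comap_eq J M hJM
  exact ⟨Q, hQ, hQM ▸ hpM⟩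

end Groth.Agent.H26.ZariskiCompl
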