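import Mathlib
import Groth.Prelude.Def_Found
import Groth.Agent.H26.ZariskiCompl
import Groth.Agent.H26.RegularFlat
import Groth.Agent.H47.RegSmoothField
import Groth.Agent.Lead.RegularFlatDescent
import Groth.Agent.Lead.RegularLocalization

/-!
# Regularity of `(1+J)⁻¹A` versus regularity of the `J`-adic completion
-/

set_option autoImplicit false
set_option linter.style.haveILetI false
set_option linter.unusedSectionVars false
universe u

open IsLocalRing TensorProduct

namespace Groth.Agent.H26.ZariskiCompl

/-- A regular local ring is a regular ring. -/
theorem isRegularRing_of_isRegularLocalRing (R : Type u) [CommRing R] [IsRegularLocalRing R] :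
    IsRegularRing R := by
  rw [isRegularRing_iff]
  intro p hp
  exact Groth.Agent.Lead.RLR.isRegularLocalRing_localization R p

/-- Localizations of `A` at primes below a prime with regular local ring are regular. -/
theorem isRegularLocalRing_localization_of_le {A : Type u} [CommRing A] (M p : Ideal A)
    [M.IsPrime] [p.IsPrime] (h : p ≤ M) [IsRegularLocalRing (Localization.AtPrime M)] :
    IsRegularLocalRing (Localization.AtPrime p) := by
  haveI := isRegularRing_of_isRegularLocalRing (Localization.AtPrime M)
  refine Groth.Agent.H47.RSF.isRegularLocalRing_atPrime_of_isLocalization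
    (S := Localization.AtPrime M) M.primeCompl p ?_
  rw [Set.disjoint_left]
  intro x hx hxp
  exact hx (h hxp)

/-- Ascent of regularity along a flat map with regular fibres, assuming regularity of the base
only at the primes in the image of the spectrum. -/
theorem isRegularRing_of_flat_of_regular_fibres' (R S : Type u) [CommRing R] [CommRing S]
    [Algebra R S] [IsNoetherianRing S] [Module.Flat R S]
    (hR : ∀ (r : Ideal S) [r.IsPrime], IsRegularLocalRing (Localization.AtPrime (r.under R)))
    (h : ∀ (p : Ideal R) [p.IsPrime], IsRegularRing (p.Fiber S)) : IsRegularRing S := by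
  rw [isRegularRing_iff]
  intro r hr
  set p : Ideal R := r.under R with hp
  have hpp : p.IsPrime := inferInstance
  haveI hpreg : IsRegularLocalRing (Localization.AtPrime p) := hR r
  let q0 := PrimeSpectrum.preimageEquivFiber R S ⟨p, hpp⟩ ⟨⟨r, hr⟩, rfl⟩
  have hq0 : q0.asIdeal.comap (Algebra.TensorProduct.includeRight (R := R) (A := p.ResidueField)
      (B := S)) = r := by
    have := (PrimeSpectrum.preimageEquivFiber R S ⟨p, hpp⟩).left_inv ⟨⟨r, hr⟩, rfl⟩
    exact congrArg (fun x => x.1.asIdeal) this
  haveI := h p
  have key := Groth.Agent.H26.isRegularLocalRing_localization_comap_includeRight' R S p q0.asIdeal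
  have hgen : ∀ (r' : Ideal S) (hr' : r'.IsPrime),
      q0.asIdeal.comap (Algebra.TensorProduct.includeRight (R := R) (A := p.ResidueField)
        (B := S)) = r' → IsRegularLocalRing (Localization.AtPrime r') := by
    intro r' hr' e
    subst e
    exact key
  exact hgen r hr hq0

variable {A : Type u} [CommRing A] [IsNoetherianRing A] (J : Ideal A)

/-- If the completion is regular, then `A_p` is regular for every prime `p` disjoint from `1+J`. -/
theorem isRegularLocalRing_of_isRegularRing_adicCompletion [IsRegularRing (AdicCompletion J A)]
    (p : Ideal A) [p.IsPrime]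
    (hp : Disjoint ((MonoidHom.mker (Ideal.Quotient.mk J) : Submonoid A) : Set A) (p : Set A)) :
    IsRegularLocalRing (Localization.AtPrime p) := by
  obtain ⟨Q, hQ, hle⟩ := exists_isPrime_comap_ge J p hp
  set M := Q.comap (algebraMap A (AdicCompletion J A)) with hM
  haveI hMp : M.IsPrime := Ideal.comap_isPrime _ _
  haveI hlies : Q.LiesOver M := ⟨rfl⟩
  let _ := Localization.AtPrime.algebraOfLiesOver M Q
  have hloc : IsLocalHom (algebraMap (Localization.AtPrime M) (Localization.AtPrime Q)) :=
    Localization.isLocalHom_localRingHom M Q (algebraMap A (AdicCompletion J A))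
      Ideal.LiesOver.over
  have hflatS : Module.Flat (AdicCompletion J A) (Localization.AtPrime Q) :=
    IsLocalization.flat _ Q.primeCompl
  have hflatR : Module.Flat A (Localization.AtPrime Q) :=
    Module.Flat.trans A (AdicCompletion J A) _
  have hflat' : Module.Flat (Localization.AtPrime M) (Localization.AtPrime Q) :=
    (Module.flat_iff_of_isLocalization (Localization.AtPrime M) M.primeCompl _).mpr hflatR
  haveI : IsRegularLocalRing (Localization.AtPrime M) :=
    Groth.Agent.Lead.RLR.isRegularLocalRing_of_flat (Localization.AtPrime M)
      (Localization.AtPrime Q)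
  exact isRegularLocalRing_localization_of_le M p hle

/-- If `(1+J)⁻¹A` is regular then `A_p` is regular for all primes `p` disjoint from `1+J`. -/
theorem isRegularLocalRing_of_isRegularRing_localization (T : Submonoid A)
    [IsRegularRing (Localization T)] (p : Ideal A) [p.IsPrime]
    (hp : Disjoint (T : Set A) (p : Set A)) : IsRegularLocalRing (Localization.AtPrime p) :=
  Groth.Agent.H47.RSF.isRegularLocalRing_atPrime_of_isLocalization (S := Localization T) T p hp

set_option backward.isDefEq.respectTransparency false in
/-- `(1+J)⁻¹A` is regular iff the `J`-adic completion is regular, when `A → Â` is a regular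
homomorphism. -/
theorem isRegularRing_localization_iff (hf : CAlg.IsRegularHom A (AdicCompletion J A))
    (T : Submonoid A) (hT : T = MonoidHom.mker (Ideal.Quotient.mk J)) :
    IsRegularRing (Localization T) ↔ IsRegularRing (AdicCompletion J A) := by
  subst hT
  haveI : IsNoetherianRing (AdicCompletion J A) :=
    Groth.Agent.H20.isNoetherianRing_adicCompletion _
  constructor
  · intro h
    haveI := hf.1
    refine isRegularRing_of_flat_of_regular_fibres' A (AdicCompletion J A) (fun r hr => ?_)
      (fun p hp => ?_)
    · exact isRegularLocalRing_of_isRegularRing_localization _ _ (disjoint_comap J r)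
    · have h1 := (hf.2 p).2 p.ResidueField inferInstance
      exact @IsRegularRing.of_ringEquiv _ _ _ _
        (Algebra.TensorProduct.lid p.ResidueField (p.Fiber (AdicCompletion J A))).toRingEquiv h1
  · intro h
    have hN : IsNoetherianRing (Localization (MonoidHom.mker (Ideal.Quotient.mk J))) :=
      IsLocalization.isNoetherianRing (MonoidHom.mker (Ideal.Quotient.mk J)) _ inferInstance
    rw [isRegularRing_iff]
    intro q hq
    have hdisj := ((IsLocalization.isPrime_iff_isPrime_disjoint
      (MonoidHom.mker (Ideal.Quotient.mk J)) _ q).mp hq).2
    haveI : (q.comap (algebraMap A (Localization (MonoidHom.mker (Ideal.Quotient.mk J))))).IsPrime :=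
      Ideal.comap_isPrime _ q
    haveI := isRegularLocalRing_of_isRegularRing_adicCompletion J
      (q.comap (algebraMap A (Localization (MonoidHom.mker (Ideal.Quotient.mk J))))) hdisj
    exact IsRegularLocalRing.of_ringEquiv
      (IsLocalization.localizationLocalizationAtPrimeIsoLocalization
        (MonoidHom.mker (Ideal.Quotient.mk J)) q).toRingEquiv

end Groth.Agent.H26.ZariskiCompl
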