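import Mathlib
import Groth.Agent.H20.ComplBij

/-!
# Completion at a maximal ideal versus completion of a local ring of an algebra

Let `𝔫` be a maximal ideal of `B`, `B'` a `B`-algebra and `n'` a prime of `B'` over `𝔫` such that
`B' = B + 𝔫^k B'` and `𝔫^k B' ∩ B = 𝔫^k` for all `k`.  Then the `𝔫`-adic completion of `B` is the
completion of the local ring `B'_{n'}`.
-/

set_option autoImplicit false
set_option linter.style.haveILetI false
set_option linter.unusedSectionVars false
universe u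

open IsLocalRing

namespace Groth.Agent.H26.ComplLocMax

variable {B B' : Type u} [CommRing B] [CommRing B'] [Algebra B B'] (𝔫 : Ideal B)
  [h𝔫 : 𝔫.IsMaximal] (n' : Ideal B') [hn' : n'.IsPrime]
  (h1 : n'.comap (algebraMap B B') = 𝔫)
  (ha : ∀ (k : ℕ) (x : B'), ∃ b : B, x - algebraMap B B' b ∈ (𝔫 ^ k).map (algebraMap B B'))
  (hb : ∀ (k : ℕ) (b : B), algebraMap B B' b ∈ (𝔫 ^ k).map (algebraMap B B') → b ∈ 𝔫 ^ k)

include h1 in
theorem map_le (k : ℕ) (hk : 1 ≤ k) : (𝔫 ^ k).map (algebraMap B B') ≤ n' := by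
  refine (Ideal.map_mono (Ideal.pow_le_self (Nat.one_le_iff_ne_zero.mp hk))).trans ?_
  rw [Ideal.map_le_iff_le_comap, h1]

/-- Elements outside a maximal ideal are invertible modulo its powers. -/
theorem exists_inv_mod (k : ℕ) (u : B) (hu : u ∉ 𝔫) : ∃ v : B, u * v - 1 ∈ 𝔫 ^ k := by
  rcases Nat.eq_zero_or_pos k with rfl | hk
  · exact ⟨0, by rw [pow_zero, Ideal.one_eq_top]; trivial⟩
  have hunit1 : IsUnit (Ideal.Quotient.mk 𝔫 u) := by
    obtain ⟨y, i, hi, hy⟩ := h𝔫.exists_inv hu
    refine IsUnit.of_mul_eq_one (Ideal.Quotient.mk 𝔫 y) ?_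
    rw [mul_comm, ← map_mul, ← map_one (Ideal.Quotient.mk 𝔫), Ideal.Quotient.eq]
    have : y * u - 1 = -i := by rw [← hy]; ring
    rw [this]
    exact neg_mem hi
  have hunit : IsUnit (Ideal.Quotient.mk (𝔫 ^ k) u) :=
    (Ideal.Quotient.isUnit_mk_pow_iff_isUnit_mk 𝔫 hk.ne').mpr hunit1
  obtain ⟨w, hw⟩ := hunit.exists_right_inv
  obtain ⟨v, rfl⟩ := Ideal.Quotient.mk_surjective w
  refine ⟨v, ?_⟩
  rw [← Ideal.Quotient.eq, map_mul, map_one]
  exact hw

include h1 ha in
theorem exists_unit_sub_mem (k : ℕ) (hk : 1 ≤ k) (s : B') (hs : s ∉ n') :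
    ∃ u v : B, s - algebraMap B B' u ∈ (𝔫 ^ k).map (algebraMap B B') ∧ u * v - 1 ∈ 𝔫 ^ k := by
  obtain ⟨b, hb'⟩ := ha k s
  have hbn : b ∉ 𝔫 := by
    intro hbm
    have h2 : algebraMap B B' b ∈ n' := by
      have : b ∈ n'.comap (algebraMap B B') := by rw [h1]; exact hbm
      exact this
    have h3 : s - algebraMap B B' b ∈ n' := map_le 𝔫 n' h1 k hk hb'
    apply hs
    have : s = (s - algebraMap B B' b) + algebraMap B B' b := by ring
    rw [this]
    exact Ideal.add_mem _ h3 h2
  obtain ⟨v, hv⟩ := exists_inv_mod 𝔫 k b hbn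
  exact ⟨b, v, hb', hv⟩

include h1 ha in
theorem eq_map : n' = 𝔫.map (algebraMap B B') := by
  refine le_antisymm ?_ ?_
  · intro x hx
    obtain ⟨b, hb'⟩ := ha 1 x
    rw [pow_one] at hb'
    have hle : 𝔫.map (algebraMap B B') ≤ n' := by
      rw [Ideal.map_le_iff_le_comap, h1]
    have h2 : algebraMap B B' b ∈ n' := by
      have : algebraMap B B' b = x - (x - algebraMap B B' b) := by ring
      rw [this]
      exact Ideal.sub_mem _ hx (hle hb')
    have h3 : b ∈ 𝔫 := by rw [← h1]; exact h2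
    have : x = (x - algebraMap B B' b) + algebraMap B B' b := by ring
    rw [this]
    exact Ideal.add_mem _ hb' (Ideal.mem_map_of_mem _ h3)
  · rw [Ideal.map_le_iff_le_comap, h1]

variable (C : Type u) [CommRing C] [Algebra B' C] [IsLocalization.AtPrime C n'] [IsLocalRing C]

/-- The ring map `B → B'_{n'}`. -/
noncomputable def toLoc (B B' : Type u) [CommRing B] [CommRing B'] [Algebra B B']
    (C : Type u) [CommRing C] [Algebra B' C] : B →+* C :=
  (algebraMap B' C).comp (algebraMap B B')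

include h1 ha in
theorem maximalIdeal_eq_map :
    maximalIdeal C = 𝔫.map (toLoc B B' C) := by
  rw [toLoc, ← Ideal.map_map, ← eq_map 𝔫 n' h1 ha,
    IsLocalization.AtPrime.map_eq_maximalIdeal n' C]

include h1 ha in
theorem maximalIdeal_pow_eq_map (k : ℕ) :
    (maximalIdeal C) ^ k = ((𝔫 ^ k).map (algebraMap B B')).map (algebraMap B' C) := by
  rw [maximalIdeal_eq_map 𝔫 n' h1 ha C, ← Ideal.map_pow, toLoc, Ideal.map_map]

include h1 ha in
theorem map_toLoc_le : 𝔫.map (toLoc B B' C) ≤ maximalIdeal C :=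
  (maximalIdeal_eq_map 𝔫 n' h1 ha C).ge

include h1 ha hb in
theorem quotientMap_bijective (k : ℕ) :
    Function.Bijective (Ideal.quotientMap ((maximalIdeal C) ^ k) (toLoc B B' C)
      (FSch.pow_le_comap_pow_of_map_le 𝔫 (maximalIdeal C)
        (toLoc B B' C) (map_toLoc_le 𝔫 n' h1 ha C) k)) := by
  rcases Nat.eq_zero_or_pos k with hk0 | hk
  · subst hk0
    have hsub1 : Subsingleton (B ⧸ 𝔫 ^ 0) := by
      rw [pow_zero]
      exact Ideal.Quotient.subsingleton_iff.mpr Ideal.one_eq_top
    have hsub2 : Subsingleton (C ⧸ (maximalIdeal C) ^ 0) := by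
      rw [pow_zero]
      exact Ideal.Quotient.subsingleton_iff.mpr Ideal.one_eq_top
    exact ⟨fun x y _ => Subsingleton.elim x y, fun y => ⟨0, Subsingleton.elim _ _⟩⟩
  constructor
  · rw [injective_iff_map_eq_zero]
    intro x hx
    obtain ⟨b, rfl⟩ := Ideal.Quotient.mk_surjective x
    rw [Ideal.quotientMap_mk, Ideal.Quotient.eq_zero_iff_mem,
      maximalIdeal_pow_eq_map 𝔫 n' h1 ha C k,
      IsLocalization.mem_map_algebraMap_iff n'.primeCompl] at hx
    obtain ⟨⟨a, s⟩, has⟩ := hx
    simp only [toLoc, RingHom.comp_apply] at has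
    rw [← map_mul, IsLocalization.eq_iff_exists n'.primeCompl] at has
    obtain ⟨t, ht⟩ := has
    have hmem : algebraMap B B' b * ((s : B') * (t : B')) ∈ (𝔫 ^ k).map (algebraMap B B') := by
      have : algebraMap B B' b * ((s : B') * (t : B')) = (t : B') * (a : B') := by
        rw [← ht]; ring
      rw [this]
      exact Ideal.mul_mem_left _ _ a.2
    have hst : (s : B') * (t : B') ∉ n' := by
      intro hmem'
      rcases hn'.mem_or_mem hmem' with h | h
      · exact s.2 h
      · exact t.2 h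
    obtain ⟨u, v, hsu, huv⟩ := exists_unit_sub_mem 𝔫 n' h1 ha k hk _ hst
    have h2 : algebraMap B B' (b * u) ∈ (𝔫 ^ k).map (algebraMap B B') := by
      have : algebraMap B B' (b * u) = algebraMap B B' b * ((s : B') * (t : B')) -
          algebraMap B B' b * ((s : B') * (t : B') - algebraMap B B' u) := by
        rw [map_mul]; ring
      rw [this]
      exact Ideal.sub_mem _ hmem (Ideal.mul_mem_left _ _ hsu)
    have h3 : b * u ∈ 𝔫 ^ k := hb k _ h2
    rw [Ideal.Quotient.eq_zero_iff_mem]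
    have : b = b * u * v - b * (u * v - 1) := by ring
    rw [this]
    exact Ideal.sub_mem _ (Ideal.mul_mem_right _ _ h3) (Ideal.mul_mem_left _ _ huv)
  · intro y
    obtain ⟨c, rfl⟩ := Ideal.Quotient.mk_surjective y
    obtain ⟨x, s, rfl⟩ := IsLocalization.exists_mk'_eq n'.primeCompl c
    obtain ⟨u, v, hsu, huv⟩ := exists_unit_sub_mem 𝔫 n' h1 ha k hk (s : B') s.2
    obtain ⟨b, hb'⟩ := ha k x
    refine ⟨Ideal.Quotient.mk _ (b * v), ?_⟩
    rw [Ideal.quotientMap_mk, Ideal.Quotient.eq, maximalIdeal_pow_eq_map 𝔫 n' h1 ha C k]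
    have hunit : IsUnit (algebraMap B' C (s : B')) := IsLocalization.map_units _ s
    have hmem : x - algebraMap B B' (b * v) * (s : B') ∈ (𝔫 ^ k).map (algebraMap B B') := by
      have : x - algebraMap B B' (b * v) * (s : B') = (x - algebraMap B B' b) -
          algebraMap B B' (b * v) * ((s : B') - algebraMap B B' u) -
          algebraMap B B' (b * (u * v - 1)) := by
        simp only [map_mul, map_sub, map_one]
        ring
      rw [this]
      exact Ideal.sub_mem _ (Ideal.sub_mem _ hb' (Ideal.mul_mem_left _ _ hsu))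
        (Ideal.mem_map_of_mem _ (Ideal.mul_mem_left _ _ huv))
    have h2 : (IsLocalization.mk' C x s - toLoc B B' C (b * v)) * algebraMap B' C (s : B') ∈
        ((𝔫 ^ k).map (algebraMap B B')).map (algebraMap B' C) := by
      have : (IsLocalization.mk' C x s - toLoc B B' C (b * v)) * algebraMap B' C (s : B') =
          algebraMap B' C (x - algebraMap B B' (b * v) * (s : B')) := by
        rw [sub_mul, IsLocalization.mk'_spec, toLoc, RingHom.comp_apply, map_sub,
          map_mul (algebraMap B' C)]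
      rw [this]
      exact Ideal.mem_map_of_mem _ hmem
    obtain ⟨w, hw⟩ := hunit.exists_right_inv
    have : IsLocalization.mk' C x s - toLoc B B' C (b * v) =
        (IsLocalization.mk' C x s - toLoc B B' C (b * v)) * algebraMap B' C (s : B') * w := by
      rw [mul_assoc, hw, mul_one]
    rw [← Ideal.neg_mem_iff, neg_sub, this]
    exact Ideal.mul_mem_right _ _ h2

include h1 ha hb in
/-- The `𝔫`-adic completion of `B` is the completion of `B'_{n'}`. -/
theorem complMap_bijective :
    Function.Bijective (FSch.complMap 𝔫 (maximalIdeal C) (toLoc B B' C)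
      (map_toLoc_le 𝔫 n' h1 ha C)) :=
  Groth.Agent.H20.complMap_bijective 𝔫 (maximalIdeal C) (toLoc B B' C)
    (map_toLoc_le 𝔫 n' h1 ha C) (quotientMap_bijective 𝔫 n' h1 ha hb C)

end Groth.Agent.H26.ComplLocMax
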