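import Groth.Prelude.Def_Wider
import Mathlib.RingTheory.AdicCompletion.AsTensorProduct
import Mathlib.RingTheory.AdicCompletion.Completeness

/-!
# Completion does not change power-torsion modules
-/

set_option autoImplicit false
universe u
open TensorProduct

namespace Groth.Agent.H26

variable {A : Type u} [CommRing A] (J : Ideal A) {I : Type u} [AddCommGroup I] [Module A I]

/-- `Â = A + J^n Â` -/
theorem exists_sub_mem_pow_smul_top (hJ : J.FG) (n : ℕ) (z : AdicCompletion J A) :
    ∃ a : A, z - AdicCompletion.of J A a ∈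
      (J ^ n • ⊤ : Submodule A (AdicCompletion J A)) := by
  obtain ⟨a, ha⟩ := Submodule.mkQ_surjective _ (AdicCompletion.eval J A n z)
  refine ⟨a, ?_⟩
  rw [AdicCompletion.pow_smul_top_eq_ker_eval hJ, LinearMap.mem_ker, map_sub,
    AdicCompletion.eval_of, ha, sub_self]

theorem mk_one_surjective (hJ : J.FG) (hI : LocCoh.IsPowerTorsion J I) :
    Function.Surjective (TensorProduct.mk A (AdicCompletion J A) I 1) := by
  intro z
  induction z using TensorProduct.induction_on with
  | zero => exact ⟨0, map_zero _⟩
  | add x y hx hy =>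
    obtain ⟨x', hx'⟩ := hx
    obtain ⟨y', hy'⟩ := hy
    exact ⟨x' + y', by rw [map_add, hx', hy']⟩
  | tmul z x =>
    obtain ⟨n, hn⟩ := hI x
    obtain ⟨a, ha⟩ := exists_sub_mem_pow_smul_top J hJ n z
    refine ⟨a • x, ?_⟩
    have h0 : ∀ w ∈ (J ^ n • ⊤ : Submodule A (AdicCompletion J A)), w ⊗ₜ[A] x = 0 := by
      intro w hw
      refine Submodule.smul_induction_on hw ?_ ?_
      · intro r hr w' _
        rw [TensorProduct.smul_tmul, hn r hr, tmul_zero]
      · intro w₁ w₂ h₁ h₂
        rw [add_tmul, h₁, h₂, add_zero]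
    have h1 := h0 _ ha
    rw [sub_tmul, sub_eq_zero] at h1
    have h2 : AdicCompletion.of J A a = a • (1 : AdicCompletion J A) := by
      have h3 : AdicCompletion.of J A 1 = 1 := rfl
      rw [← h3, ← map_smul, smul_eq_mul, mul_one]
    rw [h1, h2, map_smul, TensorProduct.mk_apply, TensorProduct.smul_tmul']

theorem mk_one_injective [IsNoetherianRing A] (hI : LocCoh.IsPowerTorsion J I) :
    Function.Injective (TensorProduct.mk A (AdicCompletion J A) I 1) := by
  rw [injective_iff_map_eq_zero]
  intro x hx
  obtain ⟨n, hn⟩ := hI x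
  have hxN : x ∈ Submodule.span A {x} := Submodule.mem_span_singleton_self x
  have hflat := Module.Flat.lTensor_preserves_injective_linearMap (M := AdicCompletion J A)
    (Submodule.span A {x}).subtype (Submodule.injective_subtype _)
  have h1 : (1 : AdicCompletion J A) ⊗ₜ[A] (⟨x, hxN⟩ : Submodule.span A {x}) = 0 := by
    apply hflat
    rw [map_zero, LinearMap.lTensor_tmul]
    exact hx
  have h2 := congrArg (AdicCompletion.ofTensorProduct J (Submodule.span A {x})) h1
  rw [AdicCompletion.ofTensorProduct_tmul, one_smul, map_zero] at h2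
  have h3 := congrArg (AdicCompletion.eval J (Submodule.span A {x}) n) h2
  rw [AdicCompletion.eval_of, map_zero, Submodule.mkQ_apply, Submodule.Quotient.mk_eq_zero] at h3
  have hbot : (J ^ n • ⊤ : Submodule A (Submodule.span A {x})) = ⊥ := by
    rw [eq_bot_iff, Submodule.smul_le]
    rintro r hr ⟨y, hy⟩ -
    rw [Submodule.mem_bot]
    apply Subtype.ext
    obtain ⟨b, rfl⟩ := Submodule.mem_span_singleton.mp hy
    change r • b • x = 0
    rw [smul_comm, hn r hr, smul_zero]
  rw [hbot, Submodule.mem_bot] at h3
  exact congrArg Subtype.val h3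

/-- S5158 -/
theorem mk_one_bijective [IsNoetherianRing A] (hI : LocCoh.IsPowerTorsion J I) :
    Function.Bijective (TensorProduct.mk A (AdicCompletion J A) I 1) :=
  ⟨mk_one_injective J hI,
    mk_one_surjective J ((isNoetherianRing_iff_ideal_fg A).mp inferInstance J) hI⟩

end Groth.Agent.H26
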