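import Mathlib
import Groth.Agent.H26.ComplLocMax
import Groth.Agent.H26.ComplTorsion
import Groth.Agent.H20.AdicUnit
import Groth.Agent.H20.AdicQuot

/-!
# Maximal ideals of an adic completion and the completions of its local rings

For a Noetherian ring `A`, an ideal `I`, `A* = AdicCompletion I A` and a maximal ideal `m'` of `A*`
with `m = m' ∩ A`: `m` is maximal, contains `I`, and the `m`-adic completion of `A` is the
completion of the local ring `A*_{m'}` (and of `A_m`).
-/

set_option autoImplicit false
set_option linter.style.haveILetI false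
set_option linter.unusedSectionVars false
universe u

open IsLocalRing

namespace Groth.Agent.H26.AdicComplMax

open Groth.Agent.H26.ComplLocMax

variable {A : Type u} [CommRing A] [IsNoetherianRing A] (I : Ideal A)

theorem fg : I.FG := (isNoetherianRing_iff_ideal_fg A).mp inferInstance I

theorem map_le_jacobson :
    I.map (algebraMap A (AdicCompletion I A)) ≤ (⊥ : Ideal (AdicCompletion I A)).jacobson := by
  intro x hx
  rw [Ideal.mem_jacobson_bot]
  intro y
  apply Groth.Agent.H20.isUnit_of_isUnit_evalₐ_one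
  have hker : x ∈ RingHom.ker (AdicCompletion.evalₐ I 1 : AdicCompletion I A →+* A ⧸ I ^ 1) := by
    rw [Groth.Agent.H20.ker_evalₐ_eq_map I (fg I) 1, pow_one]
    exact hx
  have h0 : AdicCompletion.evalₐ I 1 x = 0 := hker
  rw [map_add, map_mul, h0, zero_mul, zero_add, map_one]
  exact isUnit_one

theorem map_le_of_isMaximal (m' : Ideal (AdicCompletion I A)) [hm' : m'.IsMaximal] :
    I.map (algebraMap A (AdicCompletion I A)) ≤ m' :=
  (map_le_jacobson I).trans (sInf_le ⟨bot_le, hm'⟩)

theorem le_comap_of_isMaximal (m' : Ideal (AdicCompletion I A)) [hm' : m'.IsMaximal] :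
    I ≤ m'.comap (algebraMap A (AdicCompletion I A)) :=
  Ideal.map_le_iff_le_comap.mp (map_le_of_isMaximal I m')

/-- `A* = A + 𝔞^k A*` for any ideal `𝔞 ⊇ I`. -/
theorem exists_sub_mem_map_pow (m : Ideal A) (hI : I ≤ m) (k : ℕ) (x : AdicCompletion I A) :
    ∃ a : A, x - algebraMap A (AdicCompletion I A) a ∈
      (m ^ k).map (algebraMap A (AdicCompletion I A)) := by
  obtain ⟨a, ha⟩ := Groth.Agent.H26.exists_sub_mem_pow_smul_top I (fg I) k x
  refine ⟨a, ?_⟩
  rw [Ideal.smul_top_eq_map] at ha
  have h2 : x - AdicCompletion.of I A a ∈ (I ^ k).map (algebraMap A (AdicCompletion I A)) := ha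
  have h3 : algebraMap A (AdicCompletion I A) a = AdicCompletion.of I A a := by
    rw [AdicCompletion.algebraMap_apply, Algebra.algebraMap_self, RingHom.id_apply]
  rw [h3]
  exact Ideal.map_mono (Ideal.pow_right_mono hI k) h2

/-- `𝔞^k A* ∩ A = 𝔞^k` for any ideal `𝔞 ⊇ I`. -/
theorem mem_of_algebraMap_mem_map_pow (m : Ideal A) (hI : I ≤ m) (k : ℕ) (a : A)
    (h : algebraMap A (AdicCompletion I A) a ∈ (m ^ k).map (algebraMap A (AdicCompletion I A))) :
    a ∈ m ^ k := by
  let φ : AdicCompletion I A →+* A ⧸ I ^ k := (AdicCompletion.evalₐ I k).toRingHom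
  have hφ : φ.comp (algebraMap A (AdicCompletion I A)) = Ideal.Quotient.mk (I ^ k) := by
    ext b
    have := (AdicCompletion.evalₐ I k).commutes b
    exact this
  have h2 : φ (algebraMap A (AdicCompletion I A) a) ∈
      ((m ^ k).map (algebraMap A (AdicCompletion I A))).map φ := Ideal.mem_map_of_mem _ h
  rw [Ideal.map_map, hφ] at h2
  have h3 : φ (algebraMap A (AdicCompletion I A) a) = Ideal.Quotient.mk (I ^ k) a :=
    RingHom.congr_fun hφ a
  rw [h3, Ideal.mem_map_iff_of_surjective _ Ideal.Quotient.mk_surjective] at h2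
  obtain ⟨a', ha', haa'⟩ := h2
  have h4 : a' - a ∈ I ^ k := Ideal.Quotient.eq.mp haa'
  have : a = a' - (a' - a) := by ring
  rw [this]
  exact Ideal.sub_mem _ ha' (Ideal.pow_right_mono hI k h4)

theorem comap_isMaximal (m' : Ideal (AdicCompletion I A)) [hm' : m'.IsMaximal] :
    (m'.comap (algebraMap A (AdicCompletion I A))).IsMaximal := by
  let f : A →+* (AdicCompletion I A) ⧸ m' :=
    (Ideal.Quotient.mk m').comp (algebraMap A (AdicCompletion I A))
  have hf : Function.Surjective f := by
    intro y
    obtain ⟨x, rfl⟩ := Ideal.Quotient.mk_surjective y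
    obtain ⟨a, ha⟩ := exists_sub_mem_map_pow I I le_rfl 1 x
    rw [pow_one] at ha
    refine ⟨a, ?_⟩
    change Ideal.Quotient.mk m' (algebraMap A (AdicCompletion I A) a) = Ideal.Quotient.mk m' x
    rw [eq_comm, Ideal.Quotient.eq]
    exact map_le_of_isMaximal I m' ha
  letI : Field ((AdicCompletion I A) ⧸ m') := Ideal.Quotient.field m'
  have hbot : (⊥ : Ideal ((AdicCompletion I A) ⧸ m')).IsMaximal := Ideal.bot_isMaximal
  have h1 := Ideal.comap_isMaximal_of_surjective f hf (K := ⊥)
  have h2 : (⊥ : Ideal ((AdicCompletion I A) ⧸ m')).comap f =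
      m'.comap (algebraMap A (AdicCompletion I A)) := by
    rw [← Ideal.comap_comap, ← RingHom.ker_eq_comap_bot, Ideal.mk_ker]
  rw [← h2]
  exact h1

section Loc

variable (m' : Ideal (AdicCompletion I A)) [hm' : m'.IsMaximal]
  (L : Type u) [CommRing L] [Algebra (AdicCompletion I A) L] [IsLocalization.AtPrime L m']
  [IsLocalRing L]

theorem map_toLoc_le :
    (m'.comap (algebraMap A (AdicCompletion I A))).map (toLoc A (AdicCompletion I A) L) ≤
      maximalIdeal L :=
  haveI := comap_isMaximal I m'
  ComplLocMax.map_toLoc_le (m'.comap (algebraMap A (AdicCompletion I A))) m' rfl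
    (exists_sub_mem_map_pow I _ (le_comap_of_isMaximal I m')) L

/-- The `m`-adic completion of `A` is the completion of `A*_{m'}`. -/
theorem complMap_bijective :
    Function.Bijective (FSch.complMap (m'.comap (algebraMap A (AdicCompletion I A)))
      (maximalIdeal L) (toLoc A (AdicCompletion I A) L) (map_toLoc_le I m' L)) :=
  haveI := comap_isMaximal I m'
  ComplLocMax.complMap_bijective (m'.comap (algebraMap A (AdicCompletion I A))) m' rfl
    (exists_sub_mem_map_pow I _ (le_comap_of_isMaximal I m'))
    (mem_of_algebraMap_mem_map_pow I _ (le_comap_of_isMaximal I m')) L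

end Loc

section Self

variable (m : Ideal A) [hm : m.IsMaximal]
  (Am : Type u) [CommRing Am] [Algebra A Am] [IsLocalization.AtPrime Am m] [IsLocalRing Am]

theorem self_h1 : m.comap (algebraMap A A) = m := by
  rw [Algebra.algebraMap_self, Ideal.comap_id]

theorem self_ha (k : ℕ) (x : A) : ∃ b : A, x - algebraMap A A b ∈ (m ^ k).map (algebraMap A A) :=
  ⟨x, by rw [Algebra.algebraMap_self, RingHom.id_apply, sub_self]; exact Ideal.zero_mem _⟩

theorem self_hb (k : ℕ) (b : A) (h : algebraMap A A b ∈ (m ^ k).map (algebraMap A A)) :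
    b ∈ m ^ k := by
  rwa [Algebra.algebraMap_self, Ideal.map_id, RingHom.id_apply] at h

theorem map_toLoc_le_self : m.map (toLoc A A Am) ≤ maximalIdeal Am :=
  ComplLocMax.map_toLoc_le m m (self_h1 m) (self_ha m) Am

/-- The `m`-adic completion of `A` is the completion of `A_m`. -/
theorem complMap_bijective_self :
    Function.Bijective (FSch.complMap m (maximalIdeal Am) (toLoc A A Am)
      (map_toLoc_le_self m Am)) :=
  ComplLocMax.complMap_bijective m m (self_h1 m) (self_ha m) (self_hb m) Am

end Self

end Groth.Agent.H26.AdicComplMax
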