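import Mathlib
import Groth.Prelude.Def_EGA4b
import Groth.Agent.H26.AdicComplMax
import Groth.Agent.H26.RegHomDescent
import Groth.Agent.H20.ComplNoeth2

/-!
# Fibres of `A → AdicCompletion I A` from the formal fibres of the local rings of `A`

`Q` is a property of rings, invariant under isomorphisms, descending along faithfully flat maps, and
which can be checked on localizations covering the spectrum.  If `K` is a field over `A` and
`Q (K ⊗_A (A_m)^)` holds for all maximal ideals `m ⊇ I` of `A`, then `Q (A* ⊗_A K)` holds for the
`I`-adic completion `A*` of `A`.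
-/

set_option autoImplicit false
set_option linter.style.haveILetI false
set_option linter.unusedSectionVars false
universe u

open TensorProduct IsLocalRing

namespace Groth.Agent.H26.AdicComplFibres

open Groth.Agent.H26.AdicComplMax Groth.Agent.H26.ComplLocMax Groth.Agent.H26.RegHomDescent

section Equiv

variable {A : Type u} [CommRing A] [IsNoetherianRing A] (I : Ideal A)
  (m' : Ideal (AdicCompletion I A)) [hm' : m'.IsMaximal]
  (L : Type u) [CommRing L] [Algebra (AdicCompletion I A) L] [IsLocalization.AtPrime L m']
  [IsLocalRing L] [Algebra A L] [IsScalarTower A (AdicCompletion I A) L]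
  (Am : Type u) [CommRing Am] [Algebra A Am]
  [IsLocalization.AtPrime Am (m'.comap (algebraMap A (AdicCompletion I A)))] [IsLocalRing Am]

/-- The completions of `A_m` and of `A*_{m'}` are isomorphic `A`-algebras. -/
noncomputable def complEquiv :
    AdicCompletion (maximalIdeal Am) Am ≃ₐ[A] AdicCompletion (maximalIdeal L) L :=
  haveI := comap_isMaximal I m'
  let e1 : AdicCompletion (m'.comap (algebraMap A (AdicCompletion I A))) A ≃+*
      AdicCompletion (maximalIdeal Am) Am :=
    RingEquiv.ofBijective _ (complMap_bijective_self (m'.comap (algebraMap A (AdicCompletion I A))) Am)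
  let e2 : AdicCompletion (m'.comap (algebraMap A (AdicCompletion I A))) A ≃+*
      AdicCompletion (maximalIdeal L) L :=
    RingEquiv.ofBijective _ (AdicComplMax.complMap_bijective I m' L)
  AlgEquiv.ofRingEquiv (f := e1.symm.trans e2) (by
    intro a
    have h1 : e1 (AdicCompletion.of _ A a) = algebraMap A (AdicCompletion (maximalIdeal Am) Am) a := by
      change FSch.complMap _ _ _ (map_toLoc_le_self _ Am) (AdicCompletion.of _ A a) = _
      rw [Groth.Agent.H20.complMap_of, AdicCompletion.algebraMap_apply, toLoc, RingHom.comp_apply,
        Algebra.algebraMap_self, RingHom.id_apply]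
    have h2 : e2 (AdicCompletion.of _ A a) = algebraMap A (AdicCompletion (maximalIdeal L) L) a := by
      change FSch.complMap _ _ _ (AdicComplMax.map_toLoc_le I m' L) (AdicCompletion.of _ A a) = _
      rw [Groth.Agent.H20.complMap_of, AdicCompletion.algebraMap_apply, toLoc, RingHom.comp_apply,
        ← IsScalarTower.algebraMap_apply]
    rw [RingEquiv.trans_apply, ← h1, RingEquiv.symm_apply_apply, h2])

end Equiv

variable (Q : ∀ (X : Type u) [CommRing X], Prop)

set_option backward.isDefEq.respectTransparency false in
theorem main
    (hiso : ∀ (X Y : Type u) [CommRing X] [CommRing Y], (X ≃+* Y) → Q X → Q Y)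
    (hLG : ∀ (R : Type u) [CommRing R],
      (∀ (𝔔 : Ideal R) [𝔔.IsPrime], ∃ (R' : Type u) (_ : CommRing R') (_ : Algebra R R')
        (M : Submonoid R), IsLocalization M R' ∧ Disjoint (M : Set R) (𝔔 : Set R) ∧ Q R') → Q R)
    (hdesc : ∀ (R S : Type u) [CommRing R] [CommRing S] [Algebra R S]
      [Module.FaithfullyFlat R S], Q S → Q R)
    {A : Type u} [CommRing A] [IsNoetherianRing A] (I : Ideal A)
    (K : Type u) [Field K] [Algebra A K]
    (H : ∀ (m : Ideal A) [m.IsMaximal], I ≤ m → RingHom.ker (algebraMap A K) ≤ m →
      Q (K ⊗[A] AdicCompletion (maximalIdeal (Localization.AtPrime m)) (Localization.AtPrime m))) :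
    Q (AdicCompletion I A ⊗[A] K) := by
  apply hLG
  intro 𝔔 h𝔔
  let q' : Ideal (AdicCompletion I A) :=
    𝔔.comap (algebraMap (AdicCompletion I A) (AdicCompletion I A ⊗[A] K))
  have hq' : q'.IsPrime := Ideal.comap_isPrime _ _
  obtain ⟨m', hm', hle⟩ := Ideal.exists_le_maximal q' hq'.ne_top
  haveI hmax := comap_isMaximal I m'
  refine ⟨(AdicCompletion I A ⊗[A] K) ⊗[AdicCompletion I A] (Localization.AtPrime m'),
    inferInstance, inferInstance,
    Algebra.algebraMapSubmonoid (AdicCompletion I A ⊗[A] K) m'.primeCompl, inferInstance, ?_, ?_⟩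
  · rw [Set.disjoint_left]
    rintro x ⟨s, hs, rfl⟩ hx
    exact hs (hle hx)
  · have hker : RingHom.ker (algebraMap A K) ≤ m'.comap (algebraMap A (AdicCompletion I A)) := by
      intro a ha
      have h0 : algebraMap A (AdicCompletion I A ⊗[A] K) a = 0 := by
        rw [Algebra.TensorProduct.algebraMap_apply, Algebra.algebraMap_eq_smul_one,
          TensorProduct.smul_tmul, ← Algebra.algebraMap_eq_smul_one, (RingHom.mem_ker).mp ha,
          TensorProduct.tmul_zero]
      have h1 : algebraMap (AdicCompletion I A) (AdicCompletion I A ⊗[A] K)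
          (algebraMap A (AdicCompletion I A) a) ∈ 𝔔 := by
        rw [← IsScalarTower.algebraMap_apply, h0]
        exact Ideal.zero_mem _
      exact hle h1
    have hQ1 := H (m'.comap (algebraMap A (AdicCompletion I A))) (le_comap_of_isMaximal I m') hker
    have hQ2 : Q (K ⊗[A] AdicCompletion (maximalIdeal (Localization.AtPrime m'))
        (Localization.AtPrime m')) :=
      hiso _ _ (Algebra.TensorProduct.congr (AlgEquiv.refl (R := A) (A₁ := K))
        (complEquiv I m' (Localization.AtPrime m')
          (Localization.AtPrime (m'.comap (algebraMap A (AdicCompletion I A)))))).toRingEquiv hQ1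
    haveI : Module.FaithfullyFlat (Localization.AtPrime m')
        (AdicCompletion (maximalIdeal (Localization.AtPrime m')) (Localization.AtPrime m')) :=
      Module.FaithfullyFlat.of_flat_of_isLocalHom
    have hQ3 : Q ((Localization.AtPrime m' ⊗[A] K) ⊗[Localization.AtPrime m']
        AdicCompletion (maximalIdeal (Localization.AtPrime m')) (Localization.AtPrime m')) :=
      hiso _ _ (tensorTensorEquiv A (Localization.AtPrime m')
        (AdicCompletion (maximalIdeal (Localization.AtPrime m')) (Localization.AtPrime m')) K).symm
        hQ2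
    have hQ4 : Q (Localization.AtPrime m' ⊗[A] K) := hdesc _ _ hQ3
    have hQ5 : Q (K ⊗[A] Localization.AtPrime m') :=
      hiso _ _ (Algebra.TensorProduct.comm A (Localization.AtPrime m') K).toRingEquiv hQ4
    exact hiso _ _ (tensorTensorEquiv A (AdicCompletion I A) (Localization.AtPrime m') K).symm hQ5

section ResidueField

/-- A field `K` over `R'` (hence over `R`) which is an extension of the residue field of a prime
`p` of `R` is an extension of the residue field of a prime `P` of `R'`, compatibly. -/
theorem exists_residueField_algebra {R R' : Type u} [CommRing R] [CommRing R'] [Algebra R R']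
    (K : Type u) [Field K] [Algebra R K] [Algebra R' K] [IsScalarTower R R' K]
    (p : Ideal R) [p.IsPrime] [Algebra p.ResidueField K] [IsScalarTower R p.ResidueField K] :
    ∃ (P : Ideal R') (_ : P.IsPrime) (_ : Algebra P.ResidueField K)
      (_ : Algebra p.ResidueField P.ResidueField),
      IsScalarTower R' P.ResidueField K ∧ IsScalarTower p.ResidueField P.ResidueField K := by
  let P : Ideal R' := RingHom.ker (algebraMap R' K)
  have hP : P.IsPrime := RingHom.ker_isPrime _
  have hunits : P.primeCompl ≤ (IsUnit.submonoid K).comap (algebraMap R' K) := by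
    intro x hx
    have hx0 : algebraMap R' K x ≠ 0 := fun h0 => hx ((RingHom.mem_ker).mpr h0)
    exact hx0.isUnit
  let φ : P.ResidueField →+* K := Ideal.ResidueField.lift P (algebraMap R' K) le_rfl hunits
  have hpP : p = P.comap (algebraMap R R') := by
    ext r
    rw [Ideal.mem_comap, RingHom.mem_ker, ← IsScalarTower.algebraMap_apply,
      IsScalarTower.algebraMap_apply R p.ResidueField K, map_eq_zero_iff _
        (algebraMap p.ResidueField K).injective, Ideal.algebraMap_residueField_eq_zero]
  let ψ : p.ResidueField →+* P.ResidueField :=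
    Ideal.ResidueField.map p P (algebraMap R R') hpP
  refine ⟨P, hP, φ.toAlgebra, ψ.toAlgebra, ?_, ?_⟩
  · letI := φ.toAlgebra
    refine IsScalarTower.of_algebraMap_eq fun x => ?_
    exact (Ideal.ResidueField.lift_algebraMap P (algebraMap R' K) le_rfl hunits x).symm
  · letI := φ.toAlgebra
    letI := ψ.toAlgebra
    refine IsScalarTower.of_algebraMap_eq' ?_
    apply Ideal.ResidueField.ringHom_ext
    ext r
    change algebraMap p.ResidueField K (algebraMap R p.ResidueField r) =
      φ (ψ (algebraMap R p.ResidueField r))
    rw [Ideal.ResidueField.map_algebraMap, Ideal.ResidueField.lift_algebraMap,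
      ← IsScalarTower.algebraMap_apply, ← IsScalarTower.algebraMap_apply]

end ResidueField

section Transfer

variable {A : Type u} [CommRing A] [IsNoetherianRing A]

set_option backward.isDefEq.respectTransparency false in
/-- Transfer of a property of the formal fibres of `A_m` to `K ⊗_A (A_m)^`. -/
theorem formalFibre_transfer
    (hiso : ∀ (X Y : Type u) [CommRing X] [CommRing Y], (X ≃+* Y) → Q X → Q Y)
    (m : Ideal A) [m.IsMaximal] (p : Ideal A) [p.IsPrime] (K : Type u) [Field K] [Algebra A K]
    [Algebra p.ResidueField K] [IsScalarTower A p.ResidueField K]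
    (hker : RingHom.ker (algebraMap A K) ≤ m)
    (hQ : ∀ (P : Ideal (Localization.AtPrime m)) [P.IsPrime] [Algebra P.ResidueField K]
      [Algebra p.ResidueField P.ResidueField] [IsScalarTower p.ResidueField P.ResidueField K],
      Q (K ⊗[P.ResidueField]
        (P.Fiber (AdicCompletion (maximalIdeal (Localization.AtPrime m)) (Localization.AtPrime m))))) :
    Q (K ⊗[A] AdicCompletion (maximalIdeal (Localization.AtPrime m)) (Localization.AtPrime m)) := by
  have hg : ∀ y : m.primeCompl, IsUnit (algebraMap A K y) := by
    intro y
    have hy0 : algebraMap A K y ≠ 0 := fun h0 => y.2 (hker ((RingHom.mem_ker).mpr h0))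
    exact hy0.isUnit
  letI algK : Algebra (Localization.AtPrime m) K :=
    (IsLocalization.lift (M := m.primeCompl) (S := Localization.AtPrime m) hg).toAlgebra
  haveI : IsScalarTower A (Localization.AtPrime m) K := by
    refine IsScalarTower.of_algebraMap_eq fun a => ?_
    exact (IsLocalization.lift_eq (M := m.primeCompl) (S := Localization.AtPrime m) hg a).symm
  obtain ⟨P, hP, alg1, alg2, t1, t2⟩ :=
    exists_residueField_algebra (R := A) (R' := Localization.AtPrime m) K p
  have h1 := @hQ P hP alg1 alg2 t2
  have h2 : Q (K ⊗[Localization.AtPrime m]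
      AdicCompletion (maximalIdeal (Localization.AtPrime m)) (Localization.AtPrime m)) :=
    hiso _ _ (tensorFiberEquiv (Localization.AtPrime m)
      (AdicCompletion (maximalIdeal (Localization.AtPrime m)) (Localization.AtPrime m)) K P).symm h1
  exact hiso _ _ (IsLocalization.algebraTensorEquiv m.primeCompl (Localization.AtPrime m) K
    (AdicCompletion (maximalIdeal (Localization.AtPrime m)) (Localization.AtPrime m))).toRingEquiv h2

end Transfer

end Groth.Agent.H26.AdicComplFibres
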