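import Mathlib
import Groth.Prelude.Def_EGA4b
import Groth.Agent.H14.NormalFlatAscent
import Groth.Agent.H14.RegularNormal
import Groth.Agent.H47.SmoothNormal
import Groth.Agent.Lead.RegularLocal

/-!
# Normality ascends along flat maps with normal fibres (global version with fibre rings)
-/

set_option autoImplicit false
set_option linter.style.haveILetI false
set_option linter.unusedSectionVars false
set_option linter.unusedVariables false
universe u

open IsLocalRing TensorProduct

namespace Groth.Agent.H26.NormalFlat

/-- A regular ring is a normal ring. -/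
theorem isNormalRing_of_isRegularRing (X : Type u) [CommRing X] [IsRegularRing X] :
    EGA4.IsNormalRing X := by
  intro p hp
  exact ⟨Groth.Agent.Lead.RLR.isDomain _, Groth.Agent.H14.isIntegrallyClosed_of_isRegularLocalRing _⟩

set_option backward.isDefEq.respectTransparency false in
/-- The fibre local rings of a map with normal fibre rings are normal domains. -/
theorem fibLocRing_normal (R S : Type u) [CommRing R] [CommRing S] [Algebra R S]
    (h : ∀ (p : Ideal R) [p.IsPrime], EGA4.IsNormalRing (p.Fiber S))
    (r : Ideal S) [hr : r.IsPrime] :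
    IsDomain (EGA4.FibLocRing R S r) ∧ IsIntegrallyClosed (EGA4.FibLocRing R S r) := by
  set p : Ideal R := r.under R with hp
  have hpp : p.IsPrime := inferInstance
  let q0 := PrimeSpectrum.preimageEquivFiber R S ⟨p, hpp⟩ ⟨⟨r, hr⟩, rfl⟩
  have hq0 : q0.asIdeal.comap (Algebra.TensorProduct.includeRight (R := R) (A := p.ResidueField)
      (B := S)) = r := by
    have := (PrimeSpectrum.preimageEquivFiber R S ⟨p, hpp⟩).left_inv ⟨⟨r, hr⟩, rfl⟩
    exact congrArg (fun x => x.1.asIdeal) this
  have hgen : ∀ (r' : Ideal S) (hr' : r'.IsPrime),
      q0.asIdeal.comap (Algebra.TensorProduct.includeRight (R := R) (A := p.ResidueField)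
        (B := S)) = r' → r'.comap (algebraMap R S) = p →
      IsDomain (EGA4.FibLocRing R S r') ∧ IsIntegrallyClosed (EGA4.FibLocRing R S r') := by
    intro r' hr' e hcomap
    subst e
    obtain ⟨h1, h2⟩ := h p q0.asIdeal
    let e1 := (Ideal.Fiber.algEquivAux₂ p q0.asIdeal).toRingEquiv
    have hI : (p.map (algebraMap R S)).map (algebraMap S (Localization.AtPrime (q0.asIdeal.comap
        (Algebra.TensorProduct.includeRight (R := R) (A := p.ResidueField) (B := S))))) =
        ((q0.asIdeal.comap (Algebra.TensorProduct.includeRight (R := R) (A := p.ResidueField)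
          (B := S))).comap (algebraMap R S)).map (algebraMap R (Localization.AtPrime
          (q0.asIdeal.comap (Algebra.TensorProduct.includeRight (R := R) (A := p.ResidueField)
            (B := S))))) := by
      rw [hcomap, Ideal.map_map, ← IsScalarTower.algebraMap_eq]
    let e2 := e1.trans (Ideal.quotEquivOfEq hI)
    exact ⟨e2.symm.toMulEquiv.isDomain _, @IsIntegrallyClosed.of_equiv _ _ _ _ e2 h2⟩
  exact hgen r hr hq0 rfl

/-- Normality ascends along flat maps of Noetherian rings with normal fibre rings. -/
theorem isNormalRing_of_flat_of_fibres (R S : Type u) [CommRing R] [CommRing S] [Algebra R S]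
    [IsNoetherianRing R] [IsNoetherianRing S] [Module.Flat R S] (hR : EGA4.IsNormalRing R)
    (h : ∀ (p : Ideal R) [p.IsPrime], EGA4.IsNormalRing (p.Fiber S)) : EGA4.IsNormalRing S := by
  intro r hr
  obtain ⟨h1, h2⟩ := hR (r.comap (algebraMap R S))
  exact Groth.Agent.H14.isIntegrallyClosed_of_fibres_normal_of_flat R S
    (fun q _ => fibLocRing_normal R S h q) r

end Groth.Agent.H26.NormalFlat
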