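import Mathlib
import Groth.Prelude.Def_EGA4b
import Groth.Agent.H26.ZariskiCompl
import Groth.Agent.H26.NormalFlat
import Groth.Agent.H26.FormalFibreQuot
import Groth.Agent.H20.EtaleNormal
import Groth.Agent.H14.NormalFlatAscent

/-!
# Normality of `(1+J)⁻¹A` versus normality of the `J`-adic completion
-/

set_option autoImplicit false
set_option linter.style.haveILetI false
set_option linter.unusedSectionVars false
universe u

open IsLocalRing TensorProduct

namespace Groth.Agent.H26.ZariskiCompl

/-- Normal domains are invariant under ring isomorphisms. -/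
theorem isDomain_isIntegrallyClosed_of_ringEquiv {X Y : Type u} [CommRing X] [CommRing Y]
    (e : X ≃+* Y) [IsDomain X] [IsIntegrallyClosed X] : IsDomain Y ∧ IsIntegrallyClosed Y := by
  haveI : IsDomain Y := e.toMulEquiv.isDomain_iff.mp inferInstance
  exact ⟨inferInstance, IsIntegrallyClosed.of_equiv e⟩

/-- If `S = M⁻¹R` is a normal ring and `q` is a prime of `R` disjoint from `M`, then `R_q` is a
normal domain. -/
theorem normal_atPrime_of_isLocalization {R S : Type u} [CommRing R] [CommRing S]
    [Algebra R S] (M : Submonoid R) [IsLocalization M S] (hS : EGA4.IsNormalRing S) (q : Ideal R)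
    [q.IsPrime] (hdisj : Disjoint (M : Set R) (q : Set R)) :
    IsDomain (Localization.AtPrime q) ∧ IsIntegrallyClosed (Localization.AtPrime q) := by
  let q' : Ideal S := q.map (algebraMap R S)
  haveI hq' : q'.IsPrime := IsLocalization.isPrime_of_isPrime_disjoint M _ q ‹_› hdisj
  have hcomap : q'.comap (algebraMap R S) = q :=
    IsLocalization.under_map_of_isPrime_disjoint M _ ‹_› hdisj
  haveI : IsLocalization.AtPrime (Localization.AtPrime q') (q'.comap (algebraMap R S)) :=
    IsLocalization.isLocalization_isLocalization_atPrime_isLocalization M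
      (Localization.AtPrime q') q'
  haveI : IsLocalization.AtPrime (Localization.AtPrime q') q := by
    convert this
    exact hcomap.symm
  obtain ⟨h1, h2⟩ := hS q'
  exact isDomain_isIntegrallyClosed_of_ringEquiv
    (IsLocalization.algEquiv q.primeCompl (Localization.AtPrime q')
      (Localization.AtPrime q)).toRingEquiv

variable {A : Type u} [CommRing A] [IsNoetherianRing A] (J : Ideal A)

/-- If the completion is normal, then `A_p` is a normal domain for every prime `p` disjoint from
`1+J`. -/
theorem normal_of_isNormalRing_adicCompletion (h : EGA4.IsNormalRing (AdicCompletion J A))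
    (p : Ideal A) [p.IsPrime]
    (hp : Disjoint ((MonoidHom.mker (Ideal.Quotient.mk J) : Submonoid A) : Set A) (p : Set A)) :
    IsDomain (Localization.AtPrime p) ∧ IsIntegrallyClosed (Localization.AtPrime p) := by
  obtain ⟨Q, hQ, hle⟩ := exists_isPrime_comap_ge J p hp
  set M := Q.comap (algebraMap A (AdicCompletion J A)) with hM
  haveI hMp : M.IsPrime := Ideal.comap_isPrime _ _
  haveI hlies : Q.LiesOver M := ⟨rfl⟩
  let _ := Localization.AtPrime.algebraOfLiesOver M Q
  have hloc : IsLocalHom (algebraMap (Localization.AtPrime M) (Localization.AtPrime Q)) :=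
    Localization.isLocalHom_localRingHom M Q (algebraMap A (AdicCompletion J A))
      Ideal.LiesOver.over
  have hflatS : Module.Flat (AdicCompletion J A) (Localization.AtPrime Q) :=
    IsLocalization.flat _ Q.primeCompl
  have hflatR : Module.Flat A (Localization.AtPrime Q) :=
    Module.Flat.trans A (AdicCompletion J A) _
  have hflat' : Module.Flat (Localization.AtPrime M) (Localization.AtPrime Q) :=
    (Module.flat_iff_of_isLocalization (Localization.AtPrime M) M.primeCompl _).mpr hflatR
  haveI : Module.FaithfullyFlat (Localization.AtPrime M) (Localization.AtPrime Q) :=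
    Module.FaithfullyFlat.of_flat_of_isLocalHom
  obtain ⟨h1, h2⟩ := h Q
  obtain ⟨h3, h4⟩ := Groth.Agent.H20.isDomain_and_isIntegrallyClosed_of_faithfullyFlat
    (A := Localization.AtPrime M) (B := Localization.AtPrime Q)
  exact Groth.Agent.H14.isDomain_isIntegrallyClosed_localization_of_le M p hle

/-- `(1+J)⁻¹A` is normal iff the `J`-adic completion is normal, when `A → Â` is a normal
homomorphism. -/
theorem isNormalRing_localization_iff (hf : EGA4.IsNormalHom A (AdicCompletion J A))
    (T : Submonoid A) (hT : T = MonoidHom.mker (Ideal.Quotient.mk J)) :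
    EGA4.IsNormalRing (Localization T) ↔ EGA4.IsNormalRing (AdicCompletion J A) := by
  subst hT
  haveI : IsNoetherianRing (AdicCompletion J A) :=
    Groth.Agent.H20.isNoetherianRing_adicCompletion _
  constructor
  · intro h
    haveI := hf.1
    have hfib : ∀ (p : Ideal A) [p.IsPrime], EGA4.IsNormalRing (p.Fiber (AdicCompletion J A)) := by
      intro p hp
      have h1 := hf.2 p p.ResidueField inferInstance
      exact Groth.Agent.H26.FormalFibreQuot.isNormalRing_of_ringEquiv
        (Algebra.TensorProduct.lid p.ResidueField (p.Fiber (AdicCompletion J A))).toRingEquiv h1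
    intro r hr
    obtain ⟨h1, h2⟩ := normal_atPrime_of_isLocalization
      (S := Localization (MonoidHom.mker (Ideal.Quotient.mk J)))
      (MonoidHom.mker (Ideal.Quotient.mk J)) h
      (r.comap (algebraMap A (AdicCompletion J A))) (disjoint_comap J r)
    exact Groth.Agent.H14.isIntegrallyClosed_of_fibres_normal_of_flat A (AdicCompletion J A)
      (fun q _ => Groth.Agent.H26.NormalFlat.fibLocRing_normal A (AdicCompletion J A) hfib q) r
  · intro h q hq
    have hdisj := ((IsLocalization.isPrime_iff_isPrime_disjoint
      (MonoidHom.mker (Ideal.Quotient.mk J)) _ q).mp hq).2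
    haveI : (q.comap (algebraMap A (Localization (MonoidHom.mker (Ideal.Quotient.mk J))))).IsPrime :=
      Ideal.comap_isPrime _ q
    obtain ⟨h1, h2⟩ := normal_of_isNormalRing_adicCompletion J h
      (q.comap (algebraMap A (Localization (MonoidHom.mker (Ideal.Quotient.mk J))))) hdisj
    exact isDomain_isIntegrallyClosed_of_ringEquiv
      (IsLocalization.localizationLocalizationAtPrimeIsoLocalization
        (MonoidHom.mker (Ideal.Quotient.mk J)) q).toRingEquiv

end Groth.Agent.H26.ZariskiCompl
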