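import Mathlib
import Groth.Prelude.Def_EGA4b
import Groth.Agent.H26.AdicComplFibres
import Groth.Agent.H26.ZariskiComplNormal
import Groth.Agent.H26.FormalFibreQuot
import Groth.Agent.H47.SmoothNormal

/-!
# `A → AdicCompletion I A` is a normal / reduced homomorphism when the local rings of `A` have
geometrically normal / reduced formal fibres
-/

set_option autoImplicit false
set_option linter.style.haveILetI false
set_option linter.unusedSectionVars false
universe u

open TensorProduct IsLocalRing

namespace Groth.Agent.H26.AdicComplFibres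

open Groth.Agent.H26.RegHomDescent

/-- A ring is reduced as soon as every prime avoids the multiplicative set of some reduced
localization. -/
theorem isReduced_of_forall_prime (R : Type u) [CommRing R]
    (h : ∀ (𝔔 : Ideal R) [𝔔.IsPrime], ∃ (R' : Type u) (_ : CommRing R') (_ : Algebra R R')
      (M : Submonoid R), IsLocalization M R' ∧ Disjoint (M : Set R) (𝔔 : Set R) ∧ IsReduced R') :
    IsReduced R := by
  refine ⟨fun x hx => ?_⟩
  by_contra hx0
  let J : Ideal R := LinearMap.ker (LinearMap.toSpanSingleton R R x)
  have hJ : J ≠ ⊤ := by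
    intro hJ
    have h1 : (1 : R) ∈ J := by rw [hJ]; trivial
    have h2 : (1 : R) • x = 0 := by
      have := (LinearMap.mem_ker).mp h1
      simpa [LinearMap.toSpanSingleton_apply] using this
    exact hx0 (by simpa using h2)
  obtain ⟨𝔔, h𝔔, hle⟩ := Ideal.exists_le_maximal J hJ
  haveI : 𝔔.IsPrime := h𝔔.isPrime
  obtain ⟨R', _, _, M, hloc, hdisj, hred⟩ := h 𝔔
  have hnil : IsNilpotent (algebraMap R R' x) := hx.map _
  have h0 : algebraMap R R' x = 0 := hnil.eq_zero
  obtain ⟨s, hs⟩ := (IsLocalization.map_eq_zero_iff M R' x).mp h0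
  have hsJ : (s : R) ∈ J := by
    rw [LinearMap.mem_ker, LinearMap.toSpanSingleton_apply]
    exact hs
  exact Set.disjoint_left.mp hdisj s.2 (hle hsJ)

variable {A : Type u} [CommRing A] [IsNoetherianRing A]

/-- Generic form: a property of the geometric formal fibres of the local rings of `A` passes to the
geometric fibres of `A → AdicCompletion I A`. -/
theorem fiber_generic (Q : ∀ (X : Type u) [CommRing X], Prop)
    (hiso : ∀ (X Y : Type u) [CommRing X] [CommRing Y], (X ≃+* Y) → Q X → Q Y)
    (hLG : ∀ (R : Type u) [CommRing R],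
      (∀ (𝔔 : Ideal R) [𝔔.IsPrime], ∃ (R' : Type u) (_ : CommRing R') (_ : Algebra R R')
        (M : Submonoid R), IsLocalization M R' ∧ Disjoint (M : Set R) (𝔔 : Set R) ∧ Q R') → Q R)
    (hdesc : ∀ (R S : Type u) [CommRing R] [CommRing S] [Algebra R S]
      [Module.FaithfullyFlat R S], Q S → Q R)
    (I : Ideal A) (p : Ideal A) [p.IsPrime] (K : Type u) [Field K] [Algebra p.ResidueField K]
    (hQ : ∀ (m : Ideal A) [m.IsMaximal] (P : Ideal (Localization.AtPrime m)) [P.IsPrime]
      [Algebra P.ResidueField K] [Algebra p.ResidueField P.ResidueField]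
      [IsScalarTower p.ResidueField P.ResidueField K],
      Q (K ⊗[P.ResidueField]
        (P.Fiber (AdicCompletion (maximalIdeal (Localization.AtPrime m)) (Localization.AtPrime m))))) :
    Q (K ⊗[p.ResidueField] (p.Fiber (AdicCompletion I A))) := by
  letI : Algebra A K :=
    ((algebraMap p.ResidueField K).comp (algebraMap A p.ResidueField)).toAlgebra
  haveI : IsScalarTower A p.ResidueField K := IsScalarTower.of_algebraMap_eq (fun x => rfl)
  have h := main Q hiso hLG hdesc I K
    (fun m hm _ hker => formalFibre_transfer Q hiso m p K hker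
      (fun P hP alg1 alg2 t2 => @hQ m hm P hP alg1 alg2 t2))
  exact hiso _ _ ((Algebra.TensorProduct.comm A (AdicCompletion I A) K).toRingEquiv.trans
    (tensorFiberEquiv A (AdicCompletion I A) K p)) h

/-- `A → Â` (any adic completion) is a normal homomorphism when the local rings of `A` have
geometrically normal formal fibres. -/
theorem isNormalHom_adicCompletion
    (hA : ∀ (p : Ideal A) [p.IsPrime], EGA4.HasGeomNormalFormalFibres (Localization.AtPrime p))
    (I : Ideal A) : EGA4.IsNormalHom A (AdicCompletion I A) := by
  refine ⟨inferInstance, fun p hp k' _ _ hfin => ?_⟩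
  refine fiber_generic (fun X _ => EGA4.IsNormalRing X)
    (fun X Y _ _ e h => Groth.Agent.H26.FormalFibreQuot.isNormalRing_of_ringEquiv e h)
    (fun R _ hR 𝔔 h𝔔 => by
      obtain ⟨R', _, _, M, hloc, hdisj, hR'⟩ := hR 𝔔
      exact Groth.Agent.H26.ZariskiCompl.normal_atPrime_of_isLocalization M hR' 𝔔 hdisj)
    (fun R S _ _ _ _ hS => Groth.Agent.H47.SN.isNormalRing_of_faithfullyFlat R S hS)
    I p k' (fun m hm P hP alg1 alg2 t2 => ?_)
  have hfin' : Module.Finite P.ResidueField k' :=
    Module.Finite.of_restrictScalars_finite p.ResidueField P.ResidueField k'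
  exact hA m P k' hfin'

/-- The fibres of `A → Â` (any adic completion) are geometrically reduced when the local rings of
`A` have geometrically reduced formal fibres. -/
theorem isGeometricallyReduced_fiber_adicCompletion
    (hA : ∀ (p : Ideal A) [p.IsPrime], EGA4.HasGeomReducedFormalFibres (Localization.AtPrime p))
    (I : Ideal A) (p : Ideal A) [p.IsPrime] :
    Algebra.IsGeometricallyReduced p.ResidueField (p.Fiber (AdicCompletion I A)) := by
  rw [Algebra.isGeometricallyReduced_field_iff]
  refine fiber_generic (fun X _ => IsReduced X)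
    (fun X Y _ _ e h => by
      haveI := h
      exact isReduced_of_injective e.symm.toRingHom e.symm.injective)
    (fun R _ hR => isReduced_of_forall_prime R hR)
    (fun R S _ _ _ _ hS => by
      haveI := hS
      exact isReduced_of_injective (algebraMap R S) (FaithfulSMul.algebraMap_injective R S))
    I p (AlgebraicClosure p.ResidueField) (fun m hm P hP alg1 alg2 t2 => ?_)
  haveI : Algebra.IsAlgebraic P.ResidueField (AlgebraicClosure p.ResidueField) :=
    Algebra.IsAlgebraic.tower_top (K := p.ResidueField) P.ResidueField
  haveI := hA m P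
  exact Algebra.instIsReducedTensorProductOfIsAlgebraicOfIsGeometricallyReduced
    P.ResidueField _ (AlgebraicClosure p.ResidueField)

end Groth.Agent.H26.AdicComplFibres
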