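import Mathlib
import Groth.Agent.H26.FlatFibreLocal
import Groth.Agent.H14.SerreLoc
import Groth.Agent.H14.NormalFlatAscent
import Groth.Agent.H72.FlatCM

/-!
# Serre's condition `(S_k)` ascends along flat maps with `(S_k)` fibres
-/

set_option autoImplicit false
set_option linter.style.haveILetI false
set_option linter.unusedSectionVars false
universe u

open IsLocalRing TensorProduct

namespace Groth.Agent.H26.SkFlat

/-- `(S_k)` at the closed point of a Noetherian local ring. -/
def SkClosed (k : ℕ) (X : Type u) [CommRing X] : Prop :=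
  ∀ [IsLocalRing X] [IsNoetherianRing X], min (k : ℕ∞) (maximalIdeal X).height ≤
    LocCoh.idealDepth (maximalIdeal X) X

theorem height_maximalIdeal_of_ringEquiv {X Y : Type u} [CommRing X] [CommRing Y] [IsLocalRing X]
    [IsLocalRing Y] (e : X ≃+* Y) : (maximalIdeal X).height = (maximalIdeal Y).height := by
  have h := ringKrullDim_eq_of_ringEquiv e
  rw [← IsLocalRing.maximalIdeal_height_eq_ringKrullDim,
    ← IsLocalRing.maximalIdeal_height_eq_ringKrullDim] at h
  exact_mod_cast h

theorem skClosed_of_ringEquiv (k : ℕ) (X Y : Type u) [CommRing X] [CommRing Y] (e : X ≃+* Y)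
    (h : SkClosed k X) : SkClosed k Y := by
  intro hY hYN
  haveI : IsLocalRing X := e.symm.isLocalRing
  haveI : IsNoetherianRing X := isNoetherianRing_of_ringEquiv Y e.symm
  have h1 := h
  rw [height_maximalIdeal_of_ringEquiv e, H14.idealDepth_maximalIdeal_le_of_ringEquiv e] at h1
  exact h1

theorem skClosed_of_flat (k : ℕ) (A B : Type u) [CommRing A] [CommRing B] [Algebra A B]
    [IsLocalRing A] [IsLocalRing B] [IsNoetherianRing A] [IsNoetherianRing B]
    [IsLocalHom (algebraMap A B)] [Module.Flat A B] (hA : SkClosed k A)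
    (hF : SkClosed k (B ⧸ (maximalIdeal A).map (algebraMap A B))) : SkClosed k B := by
  intro _ _
  have h1 := H72.FlatCM.depth_eq_add_of_flat (A := A) (B := B)
  have h2 := H14.height_maximalIdeal_eq_add_of_flat A B
  unfold LocCoh.depth at h1
  rw [h1, h2]
  refine (H14.min_add_le _ _ _).trans (add_le_add hA ?_)
  exact hF

theorem height_maximalIdeal_localization {R : Type u} [CommRing R] (p : Ideal R) [p.IsPrime] :
    (maximalIdeal (Localization.AtPrime p)).height = p.height := by
  have h := IsLocalization.height_under p.primeCompl (maximalIdeal (Localization.AtPrime p))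
  rw [← h]
  congr 1
  exact Localization.AtPrime.under_maximalIdeal (I := p)

theorem isNoetherianRing_fiber {R : Type u} [CommRing R] (S : Type u) [CommRing S] [Algebra R S]
    [IsNoetherianRing S] (p : Ideal R) [p.IsPrime] : IsNoetherianRing (p.Fiber S) := by
  have h1 : Algebra.EssFiniteType S (S ⊗[R] p.ResidueField) := inferInstance
  have h2 : IsNoetherianRing (S ⊗[R] p.ResidueField) :=
    Algebra.EssFiniteType.isNoetherianRing S _
  exact isNoetherianRing_of_ringEquiv _
    (Algebra.TensorProduct.comm R S p.ResidueField).toRingEquiv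

theorem hasSk_self_iff_skClosed (k : ℕ) (R : Type u) [CommRing R] [IsNoetherianRing R] :
    LocCoh.HasSk k R R ↔ ∀ (p : Ideal R) [p.IsPrime], SkClosed k (Localization.AtPrime p) := by
  rw [H14.hasSk_self_iff]
  refine forall_congr' fun p => forall_congr' fun hp => ?_
  constructor
  · intro h _ _
    rw [height_maximalIdeal_localization]
    exact h
  · intro h
    have := h
    rw [height_maximalIdeal_localization] at this
    exact this

/-- Ascent of `(S_k)` along a flat map with `(S_k)` fibres. -/
theorem hasSk_of_flat_of_fibres {R S : Type u} [CommRing R] [CommRing S] [IsNoetherianRing R]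
    [IsNoetherianRing S] [Algebra R S] [Module.Flat R S] (k : ℕ) (hR : LocCoh.HasSk k R R)
    (hfib : ∀ (p : Ideal R) [p.IsPrime], LocCoh.HasSk k (p.Fiber S) (p.Fiber S)) :
    LocCoh.HasSk k S S := by
  rw [hasSk_self_iff_skClosed] at hR ⊢
  intro r hr
  refine FlatFibreLocal.localization_of_flat_of_fibres (SkClosed k)
    (fun X Y _ _ e h => skClosed_of_ringEquiv k X Y e h)
    (fun A B _ _ _ _ _ _ _ _ _ hA hF => skClosed_of_flat k A B hA hF) R S
    (fun p _ => hR p) (fun p _ q _ => ?_) r
  haveI : IsNoetherianRing (p.Fiber S) := isNoetherianRing_fiber S p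
  have h := hfib p
  rw [hasSk_self_iff_skClosed] at h
  exact @h q _

end Groth.Agent.H26.SkFlat
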