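import Mathlib
import Groth.Prelude.Def_Found
import Groth.Agent.H26.AdicComplNormalReduced
import Groth.Agent.H26.SkFlat
import Groth.Agent.H26.RegHomDescent
import Groth.Agent.Lead.RegularFlatDescent

/-!
# `A → AdicCompletion I A` is a regular homomorphism for a G-ring `A`
-/

set_option autoImplicit false
set_option linter.style.haveILetI false
set_option linter.unusedSectionVars false
universe u

open TensorProduct IsLocalRing

namespace Groth.Agent.H26.AdicComplFibres

/-- All local rings are regular local rings (no global Noetherian hypothesis). -/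
def LR (X : Type u) [CommRing X] : Prop :=
  ∀ (P : Ideal X) [P.IsPrime], IsRegularLocalRing (Localization.AtPrime P)

theorem LR.of_ringEquiv {X Y : Type u} [CommRing X] [CommRing Y] (e : X ≃+* Y) (h : LR X) :
    LR Y := by
  intro q hq
  let e' : Localization.AtPrime (q.comap e) ≃+* Localization.AtPrime q :=
    IsLocalization.ringEquivOfRingEquiv
      (Localization.AtPrime (q.comap e)) (Localization.AtPrime q) e (e.map_primeCompl_comap_eq q)
  haveI := h (q.comap e)
  exact IsRegularLocalRing.of_ringEquiv e'

theorem LR.of_faithfullyFlat (R S : Type u) [CommRing R] [CommRing S] [Algebra R S]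
    [Module.FaithfullyFlat R S] (h : LR S) : LR R := by
  intro p hp
  obtain ⟨q, hq, hqp⟩ := Ideal.exists_isPrime_liesOver_of_faithfullyFlat (B := S) p
  let _ := Localization.AtPrime.algebraOfLiesOver p q
  have hloc : IsLocalHom (algebraMap (Localization.AtPrime p) (Localization.AtPrime q)) :=
    Localization.isLocalHom_localRingHom p q (algebraMap R S) Ideal.LiesOver.over
  have hflatS : Module.Flat S (Localization.AtPrime q) := IsLocalization.flat _ q.primeCompl
  have hflatR : Module.Flat R (Localization.AtPrime q) := Module.Flat.trans R S _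
  have hflat : Module.Flat (Localization.AtPrime p) (Localization.AtPrime q) :=
    (Module.flat_iff_of_isLocalization (Localization.AtPrime p) p.primeCompl _).mpr hflatR
  have hff : Module.FaithfullyFlat (Localization.AtPrime p) (Localization.AtPrime q) :=
    Module.FaithfullyFlat.of_flat_of_isLocalHom
  haveI := h q
  have hN : IsNoetherianRing (Localization.AtPrime p) :=
    Groth.Agent.H26.isNoetherianRing_of_faithfullyFlat (Localization.AtPrime p)
      (Localization.AtPrime q)
  exact Groth.Agent.Lead.RLR.isRegularLocalRing_of_flat (Localization.AtPrime p)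
    (Localization.AtPrime q)

theorem LR.of_forall_prime (R : Type u) [CommRing R]
    (h : ∀ (𝔔 : Ideal R) [𝔔.IsPrime], ∃ (R' : Type u) (_ : CommRing R') (_ : Algebra R R')
      (M : Submonoid R), IsLocalization M R' ∧ Disjoint (M : Set R) (𝔔 : Set R) ∧ LR R') :
    LR R := by
  intro q hq
  obtain ⟨S, _, _, M, hloc, hdisj, hS⟩ := h q
  let q' : Ideal S := q.map (algebraMap R S)
  haveI hq' : q'.IsPrime := IsLocalization.isPrime_of_isPrime_disjoint M _ q ‹_› hdisj
  have hcomap : q'.comap (algebraMap R S) = q :=
    IsLocalization.under_map_of_isPrime_disjoint M _ ‹_› hdisj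
  haveI : IsLocalization.AtPrime (Localization.AtPrime q') (q'.comap (algebraMap R S)) :=
    IsLocalization.isLocalization_isLocalization_atPrime_isLocalization M
      (Localization.AtPrime q') q'
  haveI : IsLocalization.AtPrime (Localization.AtPrime q') q := by
    convert this
    exact hcomap.symm
  haveI := hS q'
  exact IsRegularLocalRing.of_ringEquiv
    (IsLocalization.algEquiv q.primeCompl (Localization.AtPrime q')
      (Localization.AtPrime q)).toRingEquiv

set_option backward.isDefEq.respectTransparency false in
/-- `A → Â` (any adic completion) is a regular homomorphism when `A` is a G-ring. -/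
theorem isRegularHom_adicCompletion {A : Type u} [CommRing A] (hA : CAlg.IsGRing A)
    (I : Ideal A) : CAlg.IsRegularHom A (AdicCompletion I A) := by
  haveI : IsNoetherianRing A := hA.1
  haveI : IsNoetherianRing (AdicCompletion I A) :=
    Groth.Agent.H20.isNoetherianRing_adicCompletion _
  refine ⟨inferInstance, fun p hp => ?_⟩
  haveI hN : IsNoetherianRing (p.Fiber (AdicCompletion I A)) :=
    Groth.Agent.H26.SkFlat.isNoetherianRing_fiber (AdicCompletion I A) p
  refine ⟨hN, fun k' _ _ hfin => ?_⟩
  have hC0 : IsNoetherianRing ((p.Fiber (AdicCompletion I A)) ⊗[p.ResidueField] k') :=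
    IsNoetherianRing.of_finite (p.Fiber (AdicCompletion I A))
      ((p.Fiber (AdicCompletion I A)) ⊗[p.ResidueField] k')
  haveI hC1 : IsNoetherianRing (k' ⊗[p.ResidueField] (p.Fiber (AdicCompletion I A))) :=
    isNoetherianRing_of_ringEquiv _
      (Algebra.TensorProduct.comm p.ResidueField (p.Fiber (AdicCompletion I A)) k').toRingEquiv
  rw [isRegularRing_iff]
  refine fiber_generic (fun X _ => LR X)
    (fun X Y _ _ e h => LR.of_ringEquiv e h)
    (fun R _ hR => LR.of_forall_prime R hR)
    (fun R S _ _ _ _ hS => LR.of_faithfullyFlat R S hS)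
    I p k' (fun m hm P hP alg1 alg2 t2 => ?_)
  have hfin' : Module.Finite P.ResidueField k' :=
    Module.Finite.of_restrictScalars_finite p.ResidueField P.ResidueField k'
  have hreg := ((hA.2 m).2 P).2 k' hfin'
  intro q hq
  exact hreg.isRegularLocalRing_localization q

end Groth.Agent.H26.AdicComplFibres
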