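import Mathlib
import Groth.Prelude.Def_Found
import Groth.Agent.H26.RegHomDescent
import Groth.Agent.H26.SkFlat
import Groth.Agent.H14.GeomBC.RegAny
import Groth.Agent.H14.GeomBC.Regular

/-!
# Base change of regular homomorphisms
-/

set_option autoImplicit false
set_option linter.style.haveILetI false
set_option linter.unusedSectionVars false
universe u

open TensorProduct

namespace Groth.Agent.H26.RegHomBaseChange

open Groth.Agent.H26.RegHomDescent

set_option backward.isDefEq.respectTransparency false in
/-- Criterion for the base change `A' → A' ⊗_A B` to be regular. -/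
theorem isRegularHom_baseChange_of_forall (A B A' : Type u) [CommRing A] [CommRing B] [CommRing A']
    [Algebra A B] [Algebra A A'] [Module.Flat A B]
    (H : ∀ (p' : Ideal A') [p'.IsPrime] (K : Type u) [Field K] [Algebra p'.ResidueField K]
      [Module.Finite p'.ResidueField K] [Algebra A' K] [IsScalarTower A' p'.ResidueField K]
      [Algebra A K] [IsScalarTower A A' K], IsRegularRing (K ⊗[A] B)) :
    CAlg.IsRegularHom A' (A' ⊗[A] B) := by
  refine ⟨inferInstance, fun p' hp' => ?_⟩
  have key : ∀ (K : Type u) [Field K] [Algebra p'.ResidueField K],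
      Module.Finite p'.ResidueField K → IsRegularRing (K ⊗[p'.ResidueField] (p'.Fiber (A' ⊗[A] B))) := by
    intro K _ _ hfin
    letI : Algebra A' K := ((algebraMap p'.ResidueField K).comp
      (algebraMap A' p'.ResidueField)).toAlgebra
    haveI : IsScalarTower A' p'.ResidueField K := IsScalarTower.of_algebraMap_eq (fun _ => rfl)
    letI : Algebra A K := ((algebraMap A' K).comp (algebraMap A A')).toAlgebra
    haveI : IsScalarTower A A' K := IsScalarTower.of_algebraMap_eq (fun _ => rfl)
    have e1 := (Algebra.TensorProduct.cancelBaseChange A' p'.ResidueField K K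
      (A' ⊗[A] B)).toRingEquiv
    have e2 := (Algebra.TensorProduct.cancelBaseChange A A' K K B).toRingEquiv
    have h := H p' K
    exact @IsRegularRing.of_ringEquiv _ _ _ _ (e1.trans e2).symm h
  refine ⟨?_, key⟩
  have h1 := key p'.ResidueField inferInstance
  have h2 : IsNoetherianRing (p'.ResidueField ⊗[p'.ResidueField] (p'.Fiber (A' ⊗[A] B))) :=
    h1.toIsNoetherian
  exact isNoetherianRing_of_ringEquiv _
    (Algebra.TensorProduct.lid p'.ResidueField (p'.Fiber (A' ⊗[A] B))).toRingEquiv

section Aux

variable (A B A' : Type u) [CommRing A] [CommRing B] [CommRing A'] [Algebra A B] [Algebra A A']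
  (p' : Ideal A') [p'.IsPrime] (K : Type u) [Field K] [Algebra p'.ResidueField K]
  [Algebra A' K] [IsScalarTower A' p'.ResidueField K] [Algebra A K] [IsScalarTower A A' K]

/-- The residue field of the contraction acts on `K`. -/
@[reducible] noncomputable def algRes :
    Algebra (p'.comap (algebraMap A A')).ResidueField K :=
  ((algebraMap p'.ResidueField K).comp
    (Ideal.ResidueField.map (p'.comap (algebraMap A A')) p' (algebraMap A A') rfl)).toAlgebra

theorem isScalarTower_algRes :
    letI := algRes A A' p' K
    IsScalarTower A (p'.comap (algebraMap A A')).ResidueField K := by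
  letI := algRes A A' p' K
  refine IsScalarTower.of_algebraMap_eq fun a => ?_
  change algebraMap A K a = algebraMap p'.ResidueField K
    (Ideal.ResidueField.map (p'.comap (algebraMap A A')) p' (algebraMap A A') rfl
      (algebraMap A (p'.comap (algebraMap A A')).ResidueField a))
  rw [Ideal.ResidueField.map_algebraMap, ← IsScalarTower.algebraMap_apply A' p'.ResidueField K,
    ← IsScalarTower.algebraMap_apply A A' K]

theorem essFiniteType_algRes [Algebra.EssFiniteType A A'] [Module.Finite p'.ResidueField K] :
    letI := algRes A A' p' K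
    Algebra.EssFiniteType (p'.comap (algebraMap A A')).ResidueField K := by
  letI := algRes A A' p' K
  haveI := isScalarTower_algRes A A' p' K
  haveI h1 : Algebra.EssFiniteType A' K := Algebra.EssFiniteType.comp A' p'.ResidueField K
  haveI h2 : Algebra.EssFiniteType A K := Algebra.EssFiniteType.comp A A' K
  exact Algebra.EssFiniteType.of_comp A _ K

end Aux

set_option backward.isDefEq.respectTransparency false in
/-- Base change of a regular homomorphism along an essentially finite type algebra. -/
theorem isRegularHom_baseChange_of_essFiniteType (A B A' : Type u) [CommRing A] [CommRing B]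
    [CommRing A'] [Algebra A B] [Algebra A A'] [Algebra.EssFiniteType A A']
    (h : CAlg.IsRegularHom A B) : CAlg.IsRegularHom A' (A' ⊗[A] B) := by
  haveI := h.1
  apply isRegularHom_baseChange_of_forall
  intro p' hp' K _ _ _ _ _ _ _
  letI := algRes A A' p' K
  haveI := isScalarTower_algRes A A' p' K
  haveI := essFiniteType_algRes A A' p' K
  have h1 := Groth.Agent.H14.GeomBC.isRegularRing_tensor_of_isGeometricallyRegular
    (p'.comap (algebraMap A A')).ResidueField ((p'.comap (algebraMap A A')).Fiber B)
    (h.2 (p'.comap (algebraMap A A'))).2 K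
  exact @IsRegularRing.of_ringEquiv _ _ _ _
    (tensorFiberEquiv A B K (p'.comap (algebraMap A A'))).symm h1

set_option backward.isDefEq.respectTransparency false in
/-- Base change of a regular homomorphism of finite type. -/
theorem isRegularHom_baseChange_of_finiteType (A B A' : Type u) [CommRing A] [CommRing B]
    [CommRing A'] [Algebra A B] [Algebra A A'] [Algebra.FiniteType A B]
    (h : CAlg.IsRegularHom A B) : CAlg.IsRegularHom A' (A' ⊗[A] B) := by
  haveI := h.1
  apply isRegularHom_baseChange_of_forall
  intro p' hp' K _ _ _ _ _ _ _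
  letI := algRes A A' p' K
  haveI := isScalarTower_algRes A A' p' K
  haveI hN : IsNoetherianRing (K ⊗[A] B) := Algebra.FiniteType.isNoetherianRing K (K ⊗[A] B)
  haveI hN' : IsNoetherianRing (K ⊗[(p'.comap (algebraMap A A')).ResidueField]
      ((p'.comap (algebraMap A A')).Fiber B)) :=
    isNoetherianRing_of_ringEquiv _ (tensorFiberEquiv A B K (p'.comap (algebraMap A A')))
  have h1 := Groth.Agent.H14.GeomBC.isRegularRing_tensor_of_isGeometricallyRegular_of_isNoetherianRing
    (p'.comap (algebraMap A A')).ResidueField ((p'.comap (algebraMap A A')).Fiber B)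
    (h.2 (p'.comap (algebraMap A A'))).2 K
  exact @IsRegularRing.of_ringEquiv _ _ _ _
    (tensorFiberEquiv A B K (p'.comap (algebraMap A A'))).symm h1

/-- A field over `R` is an extension of the residue field of its kernel. -/
theorem exists_residueField_algebra' {R : Type u} [CommRing R] (L : Type u) [Field L]
    [Algebra R L] :
    ∃ (P : Ideal R) (_ : P.IsPrime) (_ : Algebra P.ResidueField L),
      IsScalarTower R P.ResidueField L := by
  let P : Ideal R := RingHom.ker (algebraMap R L)
  have hP : P.IsPrime := RingHom.ker_isPrime _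
  have hunits : P.primeCompl ≤ (IsUnit.submonoid L).comap (algebraMap R L) := by
    intro x hx
    have hx0 : algebraMap R L x ≠ 0 := fun h0 => hx ((RingHom.mem_ker).mpr h0)
    exact hx0.isUnit
  let φ : P.ResidueField →+* L := Ideal.ResidueField.lift P (algebraMap R L) le_rfl hunits
  refine ⟨P, hP, φ.toAlgebra, ?_⟩
  letI := φ.toAlgebra
  refine IsScalarTower.of_algebraMap_eq fun x => ?_
  exact (Ideal.ResidueField.lift_algebraMap P (algebraMap R L) le_rfl hunits x).symm

set_option backward.isDefEq.respectTransparency false in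
/-- If `A' → A' ⊗_A B` is regular then `L ⊗_A B` is regular for every field `L` over `A'` for
which it is Noetherian. -/
theorem isRegularRing_field_tensor_of_baseChange (A B A' : Type u) [CommRing A] [CommRing B]
    [CommRing A'] [Algebra A B] [Algebra A A'] (h' : CAlg.IsRegularHom A' (A' ⊗[A] B))
    (L : Type u) [Field L] [Algebra A' L] [Algebra A L] [IsScalarTower A A' L]
    [IsNoetherianRing (L ⊗[A] B)] : IsRegularRing (L ⊗[A] B) := by
  obtain ⟨P, hP, alg, tower⟩ := exists_residueField_algebra' (R := A') L
  have e2 := (Algebra.TensorProduct.cancelBaseChange A A' L L B).toRingEquiv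
  have e1 := tensorFiberEquiv A' (A' ⊗[A] B) L P
  haveI : IsNoetherianRing (L ⊗[P.ResidueField] (P.Fiber (A' ⊗[A] B))) :=
    isNoetherianRing_of_ringEquiv _ (e2.symm.trans e1)
  have h1 := Groth.Agent.H14.GeomBC.isRegularRing_tensor_of_isGeometricallyRegular_of_isNoetherianRing
    P.ResidueField (P.Fiber (A' ⊗[A] B)) (h'.2 P).2 L
  exact @IsRegularRing.of_ringEquiv _ _ _ _ (e2.symm.trans e1).symm h1

set_option backward.isDefEq.respectTransparency false in
/-- Descent of regular homomorphisms along a faithfully flat base change. -/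
theorem isRegularHom_of_baseChange (A B A' : Type u) [CommRing A] [CommRing B] [CommRing A']
    [IsNoetherianRing B] [Algebra A B] [Algebra A A']
    (hft : Algebra.FiniteType A B ∨ Algebra.FiniteType A A')
    [Module.FaithfullyFlat A A'] (h' : CAlg.IsRegularHom A' (A' ⊗[A] B)) :
    CAlg.IsRegularHom A B := by
  haveI := h'.1
  refine ⟨Module.Flat.of_flat_tensorProduct A B A', fun p hp => ?_⟩
  refine ⟨Groth.Agent.H26.SkFlat.isNoetherianRing_fiber B p, fun k' _ _ hfin => ?_⟩
  letI : Algebra A k' := ((algebraMap p.ResidueField k').comp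
    (algebraMap A p.ResidueField)).toAlgebra
  haveI : IsScalarTower A p.ResidueField k' := IsScalarTower.of_algebraMap_eq (fun _ => rfl)
  refine @IsRegularRing.of_ringEquiv _ _ _ _ (tensorFiberEquiv A B k' p) ?_
  haveI : Nontrivial (k' ⊗[A] A') := by
    have := (Module.FaithfullyFlat.lTensor_nontrivial A A' k' : Nontrivial (A' ⊗[A] k'))
    exact (Algebra.TensorProduct.comm A A' k').toRingEquiv.injective.nontrivial
  obtain ⟨m, hm⟩ := Ideal.exists_maximal (k' ⊗[A] A')
  letI : Field ((k' ⊗[A] A') ⧸ m) := Ideal.Quotient.field m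
  letI : Algebra A' ((k' ⊗[A] A') ⧸ m) :=
    ((Ideal.Quotient.mk m).comp
      (Algebra.TensorProduct.includeRight (R := A) (A := k') (B := A')).toRingHom).toAlgebra
  haveI : IsScalarTower A k' ((k' ⊗[A] A') ⧸ m) := inferInstance
  haveI : IsScalarTower A A' ((k' ⊗[A] A') ⧸ m) := IsScalarTower.of_algebraMap_eq (fun a => by
    show Ideal.Quotient.mk m (algebraMap A (k' ⊗[A] A') a) =
      Ideal.Quotient.mk m ((1 : k') ⊗ₜ[A] algebraMap A A' a)
    congr 1
    rw [Algebra.TensorProduct.algebraMap_apply,
      Algebra.algebraMap_eq_smul_one, Algebra.algebraMap_eq_smul_one (A := A'),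
      TensorProduct.smul_tmul])
  -- Noetherianity of `L ⊗ B`
  haveI hNL : IsNoetherianRing (((k' ⊗[A] A') ⧸ m) ⊗[A] B) := by
    rcases hft with hB | hA'
    · haveI := hB
      exact Algebra.FiniteType.isNoetherianRing ((k' ⊗[A] A') ⧸ m) _
    · haveI := hA'
      haveI h0 : Algebra.EssFiniteType A k' := Algebra.EssFiniteType.comp A p.ResidueField k'
      haveI h1 : Algebra.FiniteType k' (k' ⊗[A] A') := inferInstance
      haveI h2 : Algebra.FiniteType k' ((k' ⊗[A] A') ⧸ m) :=
        Algebra.FiniteType.trans h1 inferInstance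
      haveI h3 : Algebra.EssFiniteType A ((k' ⊗[A] A') ⧸ m) :=
        Algebra.EssFiniteType.comp A k' _
      haveI h4 : IsNoetherianRing (B ⊗[A] ((k' ⊗[A] A') ⧸ m)) :=
        Algebra.EssFiniteType.isNoetherianRing B _
      exact isNoetherianRing_of_ringEquiv _
        (Algebra.TensorProduct.comm A B ((k' ⊗[A] A') ⧸ m)).toRingEquiv
  have hK : IsRegularRing (((k' ⊗[A] A') ⧸ m) ⊗[A] B) :=
    isRegularRing_field_tensor_of_baseChange A B A' h' ((k' ⊗[A] A') ⧸ m)
  have e3 := (Algebra.TensorProduct.cancelBaseChange A k' ((k' ⊗[A] A') ⧸ m)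
    ((k' ⊗[A] A') ⧸ m) B).toRingEquiv
  have e4 := (Algebra.TensorProduct.comm k' ((k' ⊗[A] A') ⧸ m) (k' ⊗[A] B)).toRingEquiv
  haveI hK2 : IsRegularRing ((k' ⊗[A] B) ⊗[k'] ((k' ⊗[A] A') ⧸ m)) :=
    @IsRegularRing.of_ringEquiv _ _ _ _ (e3.symm.trans e4) hK
  haveI : Module.Free k' ((k' ⊗[A] A') ⧸ m) := Module.Free.of_divisionRing k' _
  haveI : Nontrivial ((k' ⊗[A] A') ⧸ m) := Ideal.Quotient.nontrivial_iff.mpr hm.ne_top
  haveI : Module.FaithfullyFlat k' ((k' ⊗[A] A') ⧸ m) :=
    Module.FaithfullyFlat.instOfNontrivialOfFree k' _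
  haveI : Module.FaithfullyFlat (k' ⊗[A] B) ((k' ⊗[A] B) ⊗[k'] ((k' ⊗[A] A') ⧸ m)) :=
    inferInstance
  exact isRegularRing_of_faithfullyFlat (k' ⊗[A] B) ((k' ⊗[A] B) ⊗[k'] ((k' ⊗[A] A') ⧸ m))

end Groth.Agent.H26.RegHomBaseChange
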