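import Mathlib
import Groth.Prelude.Def_EGA4b
import Groth.Agent.H26.AdicComplRegular
import Groth.Agent.H26.RegHomBaseChange
import Groth.Agent.H48.GeomRed

/-!
# Formal fibres tested on finite domains

* `exists_finite_subalgebra_isFractionRing`: a finite extension `k'` of a residue field `κ(p)` of
  `A` is the fraction field of a finite `A`-subalgebra.
* `forall_prime_iff`: for a domain `B` over `A` with fraction field `K`, a local property holds at
  all primes of `K ⊗_A C` iff it holds at the primes of `B ⊗_A C` lying over `0` in `B`.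
-/

set_option autoImplicit false
set_option linter.style.haveILetI false
set_option linter.unusedSectionVars false
universe u

open TensorProduct

namespace Groth.Agent.H26.FormalFibreFinite

set_option backward.isDefEq.respectTransparency false in
/-- A finite extension of a residue field of `A` is the fraction field of a finite subalgebra. -/
theorem exists_finite_subalgebra_isFractionRing {A : Type u} [CommRing A] (p : Ideal A)
    [p.IsPrime] (k' : Type u) [Field k'] [Algebra p.ResidueField k']
    [Module.Finite p.ResidueField k'] [Algebra A k'] [IsScalarTower A p.ResidueField k'] :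
    ∃ B : Subalgebra A k', Module.Finite A B ∧ IsFractionRing B k' := by
  classical
  letI : Algebra (Localization.AtPrime p) k' :=
    ((algebraMap p.ResidueField k').comp
      (algebraMap (Localization.AtPrime p) p.ResidueField)).toAlgebra
  haveI : IsScalarTower (Localization.AtPrime p) p.ResidueField k' :=
    IsScalarTower.of_algebraMap_eq fun _ => rfl
  haveI : IsScalarTower A (Localization.AtPrime p) k' := IsScalarTower.of_algebraMap_eq fun a => by
    rw [IsScalarTower.algebraMap_apply A p.ResidueField k',
      IsScalarTower.algebraMap_apply A (Localization.AtPrime p) p.ResidueField]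
    rfl
  haveI : Algebra.IsIntegral (Localization.AtPrime p) p.ResidueField :=
    Algebra.isIntegral_of_surjective IsLocalRing.residue_surjective
  have hint : ∀ z : k', IsIntegral (Localization.AtPrime p) z := fun z =>
    isIntegral_trans (A := p.ResidueField) z (Algebra.IsIntegral.isIntegral z)
  have hmul : ∀ z : k', ∃ m : p.primeCompl, IsIntegral A (m • z) := fun z =>
    IsIntegral.exists_multiple_integral_of_isLocalization p.primeCompl z (hint z)
  choose m hm using hmul
  obtain ⟨s, hs⟩ := (Module.Finite.fg_top : (⊤ : Submodule p.ResidueField k').FG)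
  let T : Set k' := (fun z => m z • z) '' (s : Set k')
  let B : Subalgebra A k' := Algebra.adjoin A T
  have hfin : Module.Finite A B :=
    Algebra.finite_adjoin_of_finite_of_isIntegral (s.finite_toSet.image _)
      (by rintro _ ⟨z, _, rfl⟩; exact hm z)
  refine ⟨B, hfin, ?_⟩
  -- nonvanishing of the multipliers
  have hker : ∀ a : A, a ∉ p → algebraMap A k' a ≠ 0 := by
    intro a ha h0
    rw [IsScalarTower.algebraMap_apply A p.ResidueField k', map_eq_zero_iff _
      (algebraMap p.ResidueField k').injective] at h0
    exact ha ((Ideal.algebraMap_residueField_eq_zero).mp h0)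
  let F : Set k' := {z | ∃ x y : B, z = algebraMap B k' x / algebraMap B k' y}
  have hAF : ∀ a : A, algebraMap A k' a ∈ (B : Set k') := fun a => B.algebraMap_mem a
  have hF : ∀ z : k', z ∈ F := by
    intro z
    have hz : z ∈ Submodule.span p.ResidueField (s : Set k') := by rw [hs]; trivial
    induction hz using Submodule.span_induction with
    | mem z hz =>
      refine ⟨⟨m z • z, Algebra.subset_adjoin ⟨z, hz, rfl⟩⟩,
        ⟨algebraMap A k' (m z), hAF _⟩, ?_⟩
      change z = (m z • z) / algebraMap A k' (m z)
      rw [Submonoid.smul_def, Algebra.smul_def, mul_div_assoc, mul_comm,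
        div_mul_cancel₀ _ (hker _ (m z).2)]
    | zero => exact ⟨0, 1, by simp⟩
    | add x y _ _ hx hy =>
      obtain ⟨x1, x2, rfl⟩ := hx
      obtain ⟨y1, y2, rfl⟩ := hy
      by_cases h2 : algebraMap B k' x2 = 0
      · refine ⟨y1, y2, ?_⟩
        rw [h2, div_zero, zero_add]
      by_cases h3 : algebraMap B k' y2 = 0
      · refine ⟨x1, x2, ?_⟩
        rw [h3, div_zero, add_zero]
      refine ⟨x1 * y2 + y1 * x2, x2 * y2, ?_⟩
      rw [map_add, map_mul, map_mul, map_mul]
      field_simp
    | smul c z _ hz =>
      obtain ⟨z1, z2, rfl⟩ := hz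
      obtain ⟨a, b, hb, rfl⟩ := IsFractionRing.div_surjective (A := A ⧸ p) c
      obtain ⟨a, rfl⟩ := Ideal.Quotient.mk_surjective a
      obtain ⟨b, rfl⟩ := Ideal.Quotient.mk_surjective b
      refine ⟨⟨algebraMap A k' a, hAF a⟩ * z1, ⟨algebraMap A k' b, hAF b⟩ * z2, ?_⟩
      rw [map_mul, map_mul, Algebra.smul_def, map_div₀]
      have h1 : algebraMap p.ResidueField k' (algebraMap (A ⧸ p) p.ResidueField
          (Ideal.Quotient.mk p a)) = algebraMap A k' a := by
        rw [IsScalarTower.algebraMap_apply A p.ResidueField k']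
        rfl
      have h2 : algebraMap p.ResidueField k' (algebraMap (A ⧸ p) p.ResidueField
          (Ideal.Quotient.mk p b)) = algebraMap A k' b := by
        rw [IsScalarTower.algebraMap_apply A p.ResidueField k']
        rfl
      rw [h1, h2]
      change _ = algebraMap A k' a * _ / (algebraMap A k' b * _)
      rw [mul_div_mul_comm]
  haveI : FaithfulSMul B k' := (faithfulSMul_iff_algebraMap_injective B k').mpr
    Subtype.val_injective
  exact IsFractionRing.of_field (R := B) (K := k') (fun z => hF z)

set_option backward.isDefEq.respectTransparency false in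
/-- The fraction field of a finite `A`-algebra domain is finite over the residue field of the
kernel. -/
theorem finite_residueField_of_finite (A B K : Type u) [CommRing A] [CommRing B] [IsDomain B]
    [Field K] [Algebra A B] [Module.Finite A B] [Algebra B K] [IsFractionRing B K] [Algebra A K]
    [IsScalarTower A B K] (p : Ideal A) [p.IsPrime] [Algebra p.ResidueField K]
    [IsScalarTower A p.ResidueField K] : Module.Finite p.ResidueField K := by
  haveI h1 : Algebra.IsIntegral A B := Algebra.IsIntegral.of_finite A B
  have hB : ∀ b : B, IsIntegral p.ResidueField (algebraMap B K b) := fun b =>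
    (IsIntegral.algebraMap (B := K) (Algebra.IsIntegral.isIntegral (R := A) b)).tower_top
  haveI h5 : Algebra.IsAlgebraic p.ResidueField K := by
    refine ⟨fun z => ?_⟩
    obtain ⟨x, y, _, rfl⟩ := IsFractionRing.div_surjective (A := B) z
    rw [div_eq_mul_inv]
    exact ((hB x).mul (hB y).inv).isAlgebraic
  haveI h6 : Algebra.EssFiniteType B K :=
    Algebra.EssFiniteType.of_isLocalization K (nonZeroDivisors B)
  haveI h7 : Algebra.FiniteType A B := inferInstance
  haveI h8 : Algebra.EssFiniteType A B := inferInstance
  haveI h9 : Algebra.EssFiniteType A K := Algebra.EssFiniteType.comp A B K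
  haveI h10 : Algebra.EssFiniteType p.ResidueField K := Algebra.EssFiniteType.of_comp A _ K
  exact Algebra.finite_of_essFiniteType_of_isAlgebraic

section Generic

variable (P : ∀ (X : Type u) [CommRing X], Prop)
  (hP : ∀ (X Y : Type u) [CommRing X] [CommRing Y], (X ≃+* Y) → P X → P Y)

include hP

/-- The property "all localizations at primes satisfy `P`" is invariant under isomorphisms. -/
theorem forall_prime_of_ringEquiv {X Y : Type u} [CommRing X] [CommRing Y] (e : X ≃+* Y)
    (h : ∀ (𝔔 : Ideal X) [𝔔.IsPrime], P (Localization.AtPrime 𝔔)) (q : Ideal Y) [q.IsPrime] :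
    P (Localization.AtPrime q) := by
  let e' : Localization.AtPrime (q.comap e) ≃+* Localization.AtPrime q :=
    IsLocalization.ringEquivOfRingEquiv
      (Localization.AtPrime (q.comap e)) (Localization.AtPrime q) e (e.map_primeCompl_comap_eq q)
  exact hP _ _ e' (h (q.comap e))

/-- If all local rings of `S = M⁻¹R` satisfy `P`, so does `R_q` for `q` disjoint from `M`. -/
theorem atPrime_of_isLocalization {R S : Type u} [CommRing R] [CommRing S] [Algebra R S]
    (M : Submonoid R) [IsLocalization M S]
    (hS : ∀ (𝔔 : Ideal S) [𝔔.IsPrime], P (Localization.AtPrime 𝔔)) (q : Ideal R) [q.IsPrime]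
    (hdisj : Disjoint (M : Set R) (q : Set R)) : P (Localization.AtPrime q) := by
  let q' : Ideal S := q.map (algebraMap R S)
  haveI hq' : q'.IsPrime := IsLocalization.isPrime_of_isPrime_disjoint M _ q ‹_› hdisj
  have hcomap : q'.comap (algebraMap R S) = q :=
    IsLocalization.under_map_of_isPrime_disjoint M _ ‹_› hdisj
  haveI : IsLocalization.AtPrime (Localization.AtPrime q') (q'.comap (algebraMap R S)) :=
    IsLocalization.isLocalization_isLocalization_atPrime_isLocalization M
      (Localization.AtPrime q') q'
  haveI : IsLocalization.AtPrime (Localization.AtPrime q') q := by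
    convert this
    exact hcomap.symm
  exact hP _ _ (IsLocalization.algEquiv q.primeCompl (Localization.AtPrime q')
      (Localization.AtPrime q)).toRingEquiv (hS q')

/-- If `R_q` satisfies `P` for all primes `q` disjoint from `M`, then all local rings of `M⁻¹R`
satisfy `P`. -/
theorem forall_prime_of_isLocalization {R S : Type u} [CommRing R] [CommRing S] [Algebra R S]
    (M : Submonoid R) [IsLocalization M S]
    (hR : ∀ (q : Ideal R) [q.IsPrime], Disjoint (M : Set R) (q : Set R) →
      P (Localization.AtPrime q)) (𝔔 : Ideal S) [𝔔.IsPrime] : P (Localization.AtPrime 𝔔) := by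
  have hdisj := ((IsLocalization.isPrime_iff_isPrime_disjoint M S 𝔔).mp ‹_›).2
  haveI : (𝔔.comap (algebraMap R S)).IsPrime := Ideal.comap_isPrime _ 𝔔
  haveI : IsLocalization.AtPrime (Localization.AtPrime 𝔔) (𝔔.comap (algebraMap R S)) :=
    IsLocalization.isLocalization_isLocalization_atPrime_isLocalization M
      (Localization.AtPrime 𝔔) 𝔔
  exact hP _ _ (IsLocalization.algEquiv (𝔔.comap (algebraMap R S)).primeCompl
    (Localization.AtPrime (𝔔.comap (algebraMap R S))) (Localization.AtPrime 𝔔)).toRingEquiv
    (hR _ hdisj)

set_option backward.isDefEq.respectTransparency false in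
/-- For a domain `B` over `A` with fraction field `K`: the local rings of `K ⊗_A C` all satisfy
`P` iff the local rings of `B ⊗_A C` at the primes lying over `0` in `B` do. -/
theorem forall_prime_iff (A B C K : Type u) [CommRing A] [CommRing B] [IsDomain B] [CommRing C]
    [Field K] [Algebra A B] [Algebra A C] [Algebra B K] [IsFractionRing B K] [Algebra A K]
    [IsScalarTower A B K] :
    (∀ (𝔔 : Ideal (K ⊗[A] C)) [𝔔.IsPrime], P (Localization.AtPrime 𝔔)) ↔
      ∀ (q : Ideal (B ⊗[A] C)) [q.IsPrime], q.comap (algebraMap B (B ⊗[A] C)) = ⊥ →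
        P (Localization.AtPrime q) := by
  let M : Submonoid (B ⊗[A] C) := Algebra.algebraMapSubmonoid (B ⊗[A] C) (nonZeroDivisors B)
  haveI hloc : IsLocalization M ((B ⊗[A] C) ⊗[B] K) := IsLocalization.tensor K (nonZeroDivisors B)
  let e : (B ⊗[A] C) ⊗[B] K ≃+* K ⊗[A] C :=
    (Groth.Agent.H26.RegHomDescent.tensorTensorEquiv A B K C).trans
      (Algebra.TensorProduct.comm A C K).toRingEquiv
  have hiff : ∀ (q : Ideal (B ⊗[A] C)) [q.IsPrime],
      Disjoint (M : Set (B ⊗[A] C)) (q : Set (B ⊗[A] C)) ↔
        q.comap (algebraMap B (B ⊗[A] C)) = ⊥ := by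
    intro q hq
    constructor
    · intro hd
      rw [eq_bot_iff]
      intro b hb
      by_contra hb0
      have hb0' : b ≠ 0 := fun h => hb0 (by rw [h]; exact Ideal.zero_mem _)
      exact Set.disjoint_left.mp hd ⟨b, mem_nonZeroDivisors_of_ne_zero hb0', rfl⟩ hb
    · intro hq0
      rw [Set.disjoint_left]
      rintro _ ⟨b, hb, rfl⟩ hbq
      have : b ∈ q.comap (algebraMap B (B ⊗[A] C)) := hbq
      rw [hq0] at this
      exact nonZeroDivisors.ne_zero hb this
  constructor
  · intro h q hq hq0
    have h' : ∀ (𝔔 : Ideal ((B ⊗[A] C) ⊗[B] K)) [𝔔.IsPrime], P (Localization.AtPrime 𝔔) :=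
      fun 𝔔 _ => forall_prime_of_ringEquiv P hP e.symm h 𝔔
    exact atPrime_of_isLocalization P hP M h' q ((hiff q).mpr hq0)
  · intro h
    have h' : ∀ (𝔔 : Ideal ((B ⊗[A] C) ⊗[B] K)) [𝔔.IsPrime], P (Localization.AtPrime 𝔔) :=
      fun 𝔔 _ => forall_prime_of_isLocalization P hP M
        (fun q _ hd => h q ((hiff q).mp hd)) 𝔔
    exact fun 𝔔 _ => forall_prime_of_ringEquiv P hP e h' 𝔔

end Generic

section Reduced

variable (A C : Type u) [CommRing A] [CommRing C] [Algebra A C]

theorem isReduced_of_ringEquiv' {X Y : Type u} [CommRing X] [CommRing Y] (e : X ≃+* Y)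
    (h : IsReduced X) : IsReduced Y :=
  isReduced_of_injective e.symm.toRingHom e.symm.injective

set_option backward.isDefEq.respectTransparency false in
/-- If the fibres of `A → C` are geometrically reduced, then for a finite `A`-algebra domain `B`
the ring `B ⊗_A C` is reduced at the primes lying over `0` in `B`. -/
theorem isReduced_atPrime_of_geomReduced
    (h : ∀ (p : Ideal A) [p.IsPrime], Algebra.IsGeometricallyReduced p.ResidueField (p.Fiber C))
    (B : Type u) [CommRing B] [IsDomain B] [Algebra A B] [Module.Finite A B]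
    (q : Ideal (B ⊗[A] C)) [q.IsPrime] (hq0 : q.comap (algebraMap B (B ⊗[A] C)) = ⊥) :
    IsReduced (Localization.AtPrime q) := by
  obtain ⟨p, hp, alg, tower⟩ :=
    Groth.Agent.H26.RegHomBaseChange.exists_residueField_algebra' (R := A) (FractionRing B)
  haveI hfin : Module.Finite p.ResidueField (FractionRing B) :=
    finite_residueField_of_finite A B (FractionRing B) p
  haveI hgr : Algebra.IsGeometricallyReduced p.ResidueField (p.Fiber C) := h p
  have hred : IsReduced ((FractionRing B) ⊗[p.ResidueField] (p.Fiber C)) :=
    Algebra.instIsReducedTensorProductOfIsAlgebraicOfIsGeometricallyReduced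
      p.ResidueField _ (FractionRing B)
  haveI hred' : IsReduced ((FractionRing B) ⊗[A] C) :=
    isReduced_of_ringEquiv' (X := (FractionRing B) ⊗[p.ResidueField] (p.Fiber C))
      (Y := (FractionRing B) ⊗[A] C)
      (Groth.Agent.H26.RegHomDescent.tensorFiberEquiv A C (FractionRing B) p).symm hred
  have hLR : ∀ (𝔔 : Ideal ((FractionRing B) ⊗[A] C)) [𝔔.IsPrime],
      IsReduced (Localization.AtPrime 𝔔) :=
    fun 𝔔 _ => isReduced_localizationPreserves 𝔔.primeCompl (Localization.AtPrime 𝔔) hred'
  exact (forall_prime_iff (fun X _ => IsReduced X)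
    (fun X Y _ _ e h => isReduced_of_ringEquiv' e h)
    A B C (FractionRing B)).mp hLR q hq0

set_option backward.isDefEq.respectTransparency false in
/-- Converse: reducedness at the primes over `0` of `B ⊗_A C` for all finite domains `B` gives
reducedness of `E ⊗_κ(p) (fibre)` for finite extensions `E` of residue fields. -/
theorem isReduced_tensor_of_finite_domains
    (h : ∀ (B : Type u) [CommRing B] [IsDomain B] [Algebra A B] [Module.Finite A B]
      (q : Ideal (B ⊗[A] C)) [q.IsPrime],
      q.comap (algebraMap B (B ⊗[A] C)) = ⊥ → IsReduced (Localization.AtPrime q))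
    (p : Ideal A) [p.IsPrime] (E : Type u) [Field E] [Algebra p.ResidueField E]
    [Module.Finite p.ResidueField E] : IsReduced (E ⊗[p.ResidueField] (p.Fiber C)) := by
  letI : Algebra A E :=
    ((algebraMap p.ResidueField E).comp (algebraMap A p.ResidueField)).toAlgebra
  haveI : IsScalarTower A p.ResidueField E := IsScalarTower.of_algebraMap_eq (fun x => rfl)
  obtain ⟨B, hBfin, hBfrac⟩ := exists_finite_subalgebra_isFractionRing p E
  have hLR : ∀ (𝔔 : Ideal (E ⊗[A] C)) [𝔔.IsPrime], IsReduced (Localization.AtPrime 𝔔) :=
    (forall_prime_iff (fun X _ => IsReduced X) (fun X Y _ _ e h => isReduced_of_ringEquiv' e h)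
      A B C E).mpr (fun q _ hq0 => h B q hq0)
  have hred : IsReduced (E ⊗[A] C) := by
    refine Groth.Agent.H26.AdicComplFibres.isReduced_of_forall_prime _ (fun 𝔔 _ => ?_)
    exact ⟨Localization.AtPrime 𝔔, inferInstance, inferInstance, 𝔔.primeCompl, inferInstance,
      by rw [Set.disjoint_left]; exact fun x hx hx' => hx hx', hLR 𝔔⟩
  exact isReduced_of_ringEquiv' (X := E ⊗[A] C) (Y := E ⊗[p.ResidueField] (p.Fiber C))
    (Groth.Agent.H26.RegHomDescent.tensorFiberEquiv A C E p) hred

/-- Converse: reducedness at the primes over `0` of `B ⊗_A C` for all finite domains `B` gives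
geometrically reduced fibres. -/
theorem isGeometricallyReduced_of_finite_domains
    (h : ∀ (B : Type u) [CommRing B] [IsDomain B] [Algebra A B] [Module.Finite A B]
      (q : Ideal (B ⊗[A] C)) [q.IsPrime],
      q.comap (algebraMap B (B ⊗[A] C)) = ⊥ → IsReduced (Localization.AtPrime q))
    (p : Ideal A) [p.IsPrime] : Algebra.IsGeometricallyReduced p.ResidueField (p.Fiber C) := by
  rw [Algebra.isGeometricallyReduced_field_iff]
  exact Groth.Agent.H48.GeomRed.isReduced_of_finite_subextensions
    (fun E hE => isReduced_tensor_of_finite_domains A C h p E)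

end Reduced

section Regular

variable (A C : Type u) [CommRing A] [CommRing C] [Algebra A C]

theorem isRegularLocalRing_of_ringEquiv' {X Y : Type u} [CommRing X] [CommRing Y] (e : X ≃+* Y)
    (h : IsRegularLocalRing X) : IsRegularLocalRing Y := by
  haveI := h
  exact IsRegularLocalRing.of_ringEquiv e

set_option backward.isDefEq.respectTransparency false in
/-- If `A → C` is a regular homomorphism, then for a finite `A`-algebra domain `B`
the ring `B ⊗_A C` is regular at the primes lying over `0` in `B`. -/
theorem isRegularLocalRing_atPrime_of_isRegularHom (h : CAlg.IsRegularHom A C)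
    (B : Type u) [CommRing B] [IsDomain B] [Algebra A B] [Module.Finite A B]
    (q : Ideal (B ⊗[A] C)) [q.IsPrime] (hq0 : q.comap (algebraMap B (B ⊗[A] C)) = ⊥) :
    IsRegularLocalRing (Localization.AtPrime q) := by
  obtain ⟨p, hp, alg, tower⟩ :=
    Groth.Agent.H26.RegHomBaseChange.exists_residueField_algebra' (R := A) (FractionRing B)
  haveI hfin : Module.Finite p.ResidueField (FractionRing B) :=
    finite_residueField_of_finite A B (FractionRing B) p
  have hreg : IsRegularRing ((FractionRing B) ⊗[p.ResidueField] (p.Fiber C)) :=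
    (h.2 p).2 (FractionRing B) hfin
  have hreg' : IsRegularRing ((FractionRing B) ⊗[A] C) :=
    @IsRegularRing.of_ringEquiv _ _ _ _
      (Groth.Agent.H26.RegHomDescent.tensorFiberEquiv A C (FractionRing B) p).symm hreg
  have hLR : ∀ (𝔔 : Ideal ((FractionRing B) ⊗[A] C)) [𝔔.IsPrime],
      IsRegularLocalRing (Localization.AtPrime 𝔔) :=
    fun 𝔔 _ => hreg'.isRegularLocalRing_localization 𝔔
  exact (forall_prime_iff (fun X _ => IsRegularLocalRing X)
    (fun X Y _ _ e h => isRegularLocalRing_of_ringEquiv' e h)
    A B C (FractionRing B)).mp hLR q hq0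

set_option backward.isDefEq.respectTransparency false in
/-- Converse: if `A → C` is flat with Noetherian fibres and `B ⊗_A C` is regular at the primes
over `0` for all finite domains `B`, then `A → C` is regular. -/
theorem isRegularHom_of_finite_domains [Module.Flat A C]
    (hN : ∀ (p : Ideal A) [p.IsPrime], IsNoetherianRing (p.Fiber C))
    (h : ∀ (B : Type u) [CommRing B] [IsDomain B] [Algebra A B] [Module.Finite A B]
      (q : Ideal (B ⊗[A] C)) [q.IsPrime],
      q.comap (algebraMap B (B ⊗[A] C)) = ⊥ → IsRegularLocalRing (Localization.AtPrime q)) :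
    CAlg.IsRegularHom A C := by
  refine ⟨inferInstance, fun p hp => ?_⟩
  haveI hNp : IsNoetherianRing (p.Fiber C) := hN p
  refine ⟨hNp, fun k' _ _ hfin => ?_⟩
  letI : Algebra A k' :=
    ((algebraMap p.ResidueField k').comp (algebraMap A p.ResidueField)).toAlgebra
  haveI : IsScalarTower A p.ResidueField k' := IsScalarTower.of_algebraMap_eq (fun x => rfl)
  have hC0 : IsNoetherianRing ((p.Fiber C) ⊗[p.ResidueField] k') :=
    IsNoetherianRing.of_finite (p.Fiber C) ((p.Fiber C) ⊗[p.ResidueField] k')
  have hC1 : IsNoetherianRing (k' ⊗[p.ResidueField] (p.Fiber C)) :=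
    isNoetherianRing_of_ringEquiv _
      (Algebra.TensorProduct.comm p.ResidueField (p.Fiber C) k').toRingEquiv
  haveI hC2 : IsNoetherianRing (k' ⊗[A] C) :=
    isNoetherianRing_of_ringEquiv _
      (Groth.Agent.H26.RegHomDescent.tensorFiberEquiv A C k' p).symm
  obtain ⟨B, hBfin, hBfrac⟩ := exists_finite_subalgebra_isFractionRing p k'
  have hLR : ∀ (𝔔 : Ideal (k' ⊗[A] C)) [𝔔.IsPrime],
      IsRegularLocalRing (Localization.AtPrime 𝔔) :=
    (forall_prime_iff (fun X _ => IsRegularLocalRing X)
      (fun X Y _ _ e h => isRegularLocalRing_of_ringEquiv' e h)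
      A B C k').mpr (fun q _ hq0 => h B q hq0)
  have hreg : IsRegularRing (k' ⊗[A] C) := isRegularRing_iff.mpr hLR
  exact @IsRegularRing.of_ringEquiv _ _ _ _
    (Groth.Agent.H26.RegHomDescent.tensorFiberEquiv A C k' p) hreg

end Regular

end Groth.Agent.H26.FormalFibreFinite
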