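import Mathlib
import Groth.Prelude.Def_Found
import Groth.Agent.H26.RegularFlat
import Groth.Agent.H26.RegHomDescent

/-!
# Composition of regular homomorphisms
-/

set_option autoImplicit false
set_option linter.style.haveILetI false
set_option linter.unusedSectionVars false
universe u

open TensorProduct

namespace Groth.Agent.H26.RegHomComp

open Groth.Agent.H26.RegHomDescent

set_option backward.isDefEq.respectTransparency false in
/-- The composite of two regular ring maps is regular provided its fibres are Noetherian. -/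
theorem isRegularHom_comp (A B C : Type u) [CommRing A] [CommRing B]
    [CommRing C] [Algebra A B] [Algebra B C] [Algebra A C] [IsScalarTower A B C]
    (hAB : CAlg.IsRegularHom A B) (hBC : CAlg.IsRegularHom B C)
    (hN : ∀ (p : Ideal A) [p.IsPrime], IsNoetherianRing (p.Fiber C)) :
    CAlg.IsRegularHom A C := by
  haveI : Module.Flat A B := hAB.1
  haveI : Module.Flat B C := hBC.1
  refine ⟨Module.Flat.trans A B C, fun p hp => ⟨hN p, ?_⟩⟩
  intro k' _ _ hfin
  letI : Algebra A k' :=
    ((algebraMap p.ResidueField k').comp (algebraMap A p.ResidueField)).toAlgebra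
  haveI : IsScalarTower A p.ResidueField k' := IsScalarTower.of_algebraMap_eq (fun x => rfl)
  -- `B' = B ⊗ k'` is regular
  have hB0 : IsRegularRing (k' ⊗[p.ResidueField] (p.Fiber B)) := (hAB.2 p).2 k' hfin
  have hB' : IsRegularRing (B ⊗[A] k') :=
    @IsRegularRing.of_ringEquiv _ _ _ _
      ((Algebra.TensorProduct.comm A B k').toRingEquiv.trans (tensorFiberEquiv A B k' p)).symm hB0
  -- `C' = B' ⊗_B C` is Noetherian
  haveI : IsNoetherianRing (p.Fiber C) := hN p
  have hC0 : IsNoetherianRing ((p.Fiber C) ⊗[p.ResidueField] k') :=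
    IsNoetherianRing.of_finite (p.Fiber C) _
  have hC1 : IsNoetherianRing (k' ⊗[p.ResidueField] (p.Fiber C)) :=
    isNoetherianRing_of_ringEquiv _
      (Algebra.TensorProduct.comm p.ResidueField (p.Fiber C) k').toRingEquiv
  have hC'N : IsNoetherianRing ((B ⊗[A] k') ⊗[B] C) :=
    isNoetherianRing_of_ringEquiv _
      ((tensorTensorEquiv A B C k').trans (tensorFiberEquiv A C k' p)).symm
  -- quasi-finiteness
  haveI : Algebra.QuasiFinite A p.ResidueField := inferInstance
  haveI : Algebra.QuasiFinite A k' := Algebra.QuasiFinite.trans A p.ResidueField k'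
  haveI : Algebra.QuasiFinite B (B ⊗[A] k') := inferInstance
  have hC' : IsRegularRing ((B ⊗[A] k') ⊗[B] C) := by
    apply Groth.Agent.H26.isRegularRing_of_flat_of_regular_fibres (B ⊗[A] k')
    intro q' hq'
    let q := q'.under B
    let _ := Localization.AtPrime.algebraOfLiesOver q q'
    let e : q'.Fiber ((B ⊗[A] k') ⊗[B] C) ≃ₐ[q'.ResidueField]
        q'.ResidueField ⊗[q.ResidueField] (q.Fiber C) :=
      (Algebra.TensorProduct.cancelBaseChange _ _ _ _ _).trans
        (Algebra.TensorProduct.cancelBaseChange _ _ _ _ _).symm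
    have hfin' : Module.Finite q.ResidueField q'.ResidueField := inferInstance
    have h := (hBC.2 q).2 q'.ResidueField hfin'
    exact @IsRegularRing.of_ringEquiv _ _ _ _ e.symm.toRingEquiv h
  exact @IsRegularRing.of_ringEquiv _ _ _ _
    ((tensorTensorEquiv A B C k').trans (tensorFiberEquiv A C k' p)) hC'

end Groth.Agent.H26.RegHomComp
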