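import Mathlib
import Groth.Agent.H2.LocalCrit
import Groth.Agent.H20.ComplMap
import Groth.Agent.H20.ComplNoeth2

/-!
# The map of completions induced by a flat local homomorphism is (faithfully) flat
-/

set_option autoImplicit false
set_option linter.style.haveILetI false
set_option linter.unusedSectionVars false
universe u

open IsLocalRing TensorProduct

namespace Groth.Agent.H26.ComplFlatMap

variable (A A' : Type u) [CommRing A] [CommRing A'] [IsNoetherianRing A] [IsNoetherianRing A']
  [IsLocalRing A] [IsLocalRing A'] [Algebra A A'] [IsLocalHom (algebraMap A A')]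

local notation "Â" => AdicCompletion (maximalIdeal A) A
local notation "Â'" => AdicCompletion (maximalIdeal A') A'

theorem map_maximalIdeal_le : (maximalIdeal A).map (algebraMap A A') ≤ maximalIdeal A' :=
  ((local_hom_TFAE (algebraMap A A')).out 0 2 rfl rfl).mp inferInstance

/-- The induced map of completions. -/
noncomputable def complHom : Â →+* Â' :=
  FSch.complMap (maximalIdeal A) (maximalIdeal A') (algebraMap A A') (map_maximalIdeal_le A A')

theorem complHom_algebraMap (x : A) :
    complHom A A' (algebraMap A Â x) = algebraMap A' Â' (algebraMap A A' x) := by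
  rw [AdicCompletion.algebraMap_apply, AdicCompletion.algebraMap_apply, Algebra.algebraMap_self,
    Algebra.algebraMap_self, RingHom.id_apply, RingHom.id_apply]
  exact Groth.Agent.H20.complMap_of _ _ _ _ x

/-- The algebra structure on `Â'` over `Â` (not an instance). -/
@[reducible] noncomputable def complAlgebra : Algebra Â Â' := (complHom A A').toAlgebra

theorem isScalarTower : letI := complAlgebra A A'; IsScalarTower A Â Â' := by
  letI := complAlgebra A A'
  refine IsScalarTower.of_algebraMap_eq (fun x => ?_)
  rw [RingHom.algebraMap_toAlgebra, complHom_algebraMap]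
  rfl

theorem map_complHom_le :
    (maximalIdeal Â).map (complHom A A') ≤ maximalIdeal Â' := by
  rw [AdicCompletion.maximalIdeal_eq_map (R := A), AdicCompletion.maximalIdeal_eq_map (R := A'),
    Ideal.map_map]
  have h : (complHom A A').comp (algebraMap A Â) = (algebraMap A' Â').comp (algebraMap A A') := by
    refine RingHom.ext (fun x => ?_)
    exact complHom_algebraMap A A' x
  rw [h, ← Ideal.map_map]
  exact Ideal.map_mono (map_maximalIdeal_le A A')

theorem isLocalHom_complHom : IsLocalHom (complHom A A') :=
  ((local_hom_TFAE (complHom A A')).out 0 2 rfl rfl).mpr (map_complHom_le A A')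

section Flat

variable [Module.Flat A A']

theorem rTensor_injective : letI := complAlgebra A A'
    Function.Injective ((maximalIdeal Â).subtype.rTensor Â') := by
  letI := complAlgebra A A'
  haveI := isScalarTower A A'
  haveI : Module.Flat A Â' := Module.Flat.trans A A' Â'
  -- the inclusion `m → m̂`
  have hmem : ∀ x : maximalIdeal A, algebraMap A Â x ∈ maximalIdeal Â := by
    intro x
    rw [AdicCompletion.maximalIdeal_eq_map (R := A)]
    exact Ideal.mem_map_of_mem _ x.2
  -- σ : m ⊗[A] Â' →+ m̂ ⊗[Â] Â'
  let f : maximalIdeal A →+ Â' →+ (maximalIdeal Â) ⊗[Â] Â' :=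
    AddMonoidHom.mk' (fun x => AddMonoidHom.mk'
      (fun b => (⟨algebraMap A Â x, hmem x⟩ : maximalIdeal Â) ⊗ₜ[Â] b)
      (fun b b' => TensorProduct.tmul_add _ b b'))
      (fun x x' => by
        ext b
        simp only [AddMonoidHom.mk'_apply, AddMonoidHom.add_apply]
        rw [← TensorProduct.add_tmul]
        congr 1)
  have hf : ∀ (r : A) (x : maximalIdeal A) (b : Â'), f (r • x) b = f x (r • b) := by
    intro r x b
    simp only [f, AddMonoidHom.mk'_apply]
    have h1 : (⟨algebraMap A Â ((r • x : maximalIdeal A) : A), hmem (r • x)⟩ : maximalIdeal Â) =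
        (algebraMap A Â r) • (⟨algebraMap A Â x, hmem x⟩ : maximalIdeal Â) := by
      apply Subtype.ext
      simp only [Submodule.coe_smul, smul_eq_mul, map_mul]
    rw [h1, TensorProduct.smul_tmul, algebraMap_smul]
  let σ : (maximalIdeal A) ⊗[A] Â' →+ (maximalIdeal Â) ⊗[Â] Â' := TensorProduct.liftAddHom f hf
  have hσ : ∀ (x : maximalIdeal A) (b : Â'),
      σ (x ⊗ₜ b) = (⟨algebraMap A Â x, hmem x⟩ : maximalIdeal Â) ⊗ₜ[Â] b := fun x b => rfl
  -- surjectivity of σ
  have key : ∀ y ∈ Ideal.span ((algebraMap A Â) '' (maximalIdeal A : Set A)),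
      ∀ (hy : y ∈ maximalIdeal Â) (b : Â'), ∃ z, σ z = (⟨y, hy⟩ : maximalIdeal Â) ⊗ₜ[Â] b := by
    intro y hy
    induction hy using Submodule.span_induction with
    | mem y hy =>
      obtain ⟨x, hx, rfl⟩ := hy
      intro hy' b
      exact ⟨(⟨x, hx⟩ : maximalIdeal A) ⊗ₜ b, hσ _ _⟩
    | zero =>
      intro hy' b
      refine ⟨0, ?_⟩
      rw [map_zero]
      have : (⟨0, hy'⟩ : maximalIdeal Â) = 0 := rfl
      rw [this, TensorProduct.zero_tmul]
    | add y₁ y₂ h₁ h₂ ih₁ ih₂ =>
      intro hy' b
      have hm : Ideal.span ((algebraMap A Â) '' (maximalIdeal A : Set A)) ≤ maximalIdeal Â := by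
        rw [AdicCompletion.maximalIdeal_eq_map (R := A)]
        exact le_refl _
      obtain ⟨z₁, hz₁⟩ := ih₁ (hm h₁) b
      obtain ⟨z₂, hz₂⟩ := ih₂ (hm h₂) b
      refine ⟨z₁ + z₂, ?_⟩
      rw [map_add, hz₁, hz₂, ← TensorProduct.add_tmul]
      rfl
    | smul a y h ih =>
      intro hy' b
      have hm : Ideal.span ((algebraMap A Â) '' (maximalIdeal A : Set A)) ≤ maximalIdeal Â := by
        rw [AdicCompletion.maximalIdeal_eq_map (R := A)]
        exact le_refl _
      obtain ⟨z, hz⟩ := ih (hm h) (a • b)
      refine ⟨z, ?_⟩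
      rw [hz, ← TensorProduct.smul_tmul]
      rfl
  have hσsurj : Function.Surjective σ := by
    intro w
    induction w using TensorProduct.induction_on with
    | zero => exact ⟨0, map_zero _⟩
    | tmul y b =>
      obtain ⟨y, hy⟩ := y
      have hy' : y ∈ Ideal.span ((algebraMap A Â) '' (maximalIdeal A : Set A)) := by
        have := hy
        rw [AdicCompletion.maximalIdeal_eq_map (R := A)] at this
        exact this
      exact key y hy' hy b
    | add w₁ w₂ h₁ h₂ =>
      obtain ⟨z₁, hz₁⟩ := h₁
      obtain ⟨z₂, hz₂⟩ := h₂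
      exact ⟨z₁ + z₂, by rw [map_add, hz₁, hz₂]⟩
  -- the comparison
  let τ : (maximalIdeal A) ⊗[A] Â' →ₗ[A] Â' :=
    (TensorProduct.lid A Â').toLinearMap ∘ₗ ((maximalIdeal A).subtype.rTensor Â')
  have hτ : Function.Injective τ := by
    refine (TensorProduct.lid A Â').injective.comp ?_
    exact Module.Flat.rTensor_preserves_injective_linearMap _ Subtype.val_injective
  have hcomp : ∀ z, (TensorProduct.lid Â Â') ((maximalIdeal Â).subtype.rTensor Â' (σ z)) = τ z := by
    intro z
    induction z using TensorProduct.induction_on with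
    | zero => simp
    | tmul x b =>
      rw [hσ]
      simp only [τ, LinearMap.rTensor_tmul, Submodule.subtype_apply, LinearMap.coe_comp,
        LinearEquiv.coe_coe, Function.comp_apply, TensorProduct.lid_tmul]
      rw [algebraMap_smul]
    | add z₁ z₂ h₁ h₂ => simp only [map_add, h₁, h₂]
  rw [injective_iff_map_eq_zero]
  intro w hw
  obtain ⟨z, rfl⟩ := hσsurj w
  have h0 : τ z = 0 := by rw [← hcomp, hw, map_zero]
  have hz : z = 0 := hτ (by rw [h0, map_zero])
  rw [hz, map_zero]

/-- The map of completions induced by a flat local homomorphism of Noetherian local rings is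
flat. -/
theorem flat_complHom : letI := complAlgebra A A'; Module.Flat Â Â' := by
  letI := complAlgebra A A'
  haveI : IsNoetherianRing Â := Groth.Agent.H20.isNoetherianRing_adicCompletion _
  haveI : IsNoetherianRing Â' := Groth.Agent.H20.isNoetherianRing_adicCompletion _
  letI : Field (Â ⧸ maximalIdeal Â) := Ideal.Quotient.field (maximalIdeal Â)
  haveI : Module.Flat (Â ⧸ maximalIdeal Â) ((Â ⧸ maximalIdeal Â) ⊗[Â] Â') := by
    haveI : Module.Free (Â ⧸ maximalIdeal Â) ((Â ⧸ maximalIdeal Â) ⊗[Â] Â') :=
      Module.Free.of_divisionRing _ _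
    exact Module.Flat.of_free
  refine Groth.Agent.H2.flat_of_rTensor_injective_of_flat_quotient (R := Â) (S := Â') (M := Â')
    (maximalIdeal Â) ?_ (rTensor_injective A A')
  rw [IsLocalRing.jacobson_eq_maximalIdeal ⊥ bot_ne_top]
  exact map_complHom_le A A'

/-- The map of completions induced by a flat local homomorphism of Noetherian local rings is
faithfully flat. -/
theorem faithfullyFlat_complHom : letI := complAlgebra A A'; Module.FaithfullyFlat Â Â' := by
  letI := complAlgebra A A'
  haveI := flat_complHom A A'
  haveI : IsLocalHom (algebraMap Â Â') := isLocalHom_complHom A A'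
  exact Module.FaithfullyFlat.of_flat_of_isLocalHom

end Flat

end Groth.Agent.H26.ComplFlatMap
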