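import Mathlib
import Groth.Prelude.Def_Found
import Groth.Agent.Lead.RegularLocal

/-!
# Regular ring maps between fields

`k → K` is a regular ring map iff `K/k` is geometrically reduced.
-/

set_option autoImplicit false
set_option linter.style.haveILetI false
universe u

open TensorProduct

namespace Groth.Agent.H26.RegHomField

/-- A regular ring is reduced. -/
theorem isReduced_of_isRegularRing (R : Type u) [CommRing R] [IsRegularRing R] : IsReduced R := by
  apply isReduced_ofLocalizationMaximal
  intro J hJ
  have : IsRegularLocalRing (Localization.AtPrime J) := inferInstance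
  have : IsDomain (Localization.AtPrime J) := Groth.Agent.Lead.RLR.isDomain _
  infer_instance

/-- An artinian reduced ring is regular. -/
theorem isRegularRing_of_isArtinianRing_of_isReduced (R : Type*) [CommRing R] [IsArtinianRing R]
    [IsReduced R] : IsRegularRing R := by
  rw [isRegularRing_iff]
  intro p hp
  have isf : IsField (Localization.AtPrime p) :=
    IsArtinianRing.isField_of_isReduced_of_isLocalRing _
  let := isf.toField
  infer_instance

/-- Transport of reducedness of a two-step base change. -/
theorem isReduced_tensor_of_isRegularHom (k K : Type u) [Field k] [Field K] [Algebra k K]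
    (h : CAlg.IsRegularHom k K) (B : Type u) [Field B] [Algebra k B] [Module.Finite k B] :
    IsReduced (B ⊗[k] K) := by
  let p : Ideal k := ⊥
  haveI : p.IsPrime := Ideal.isPrime_bot
  let e : k ≃ₐ[k] p.ResidueField := p.algEquivResidueFieldOfField
  letI : Algebra p.ResidueField B := ((algebraMap k B).comp e.symm.toRingEquiv.toRingHom).toAlgebra
  haveI : IsScalarTower k p.ResidueField B := IsScalarTower.of_algebraMap_eq (fun x => by
    simp only [RingHom.algebraMap_toAlgebra, RingHom.coe_comp, Function.comp_apply]
    congr 1
    have : algebraMap k p.ResidueField x = e x := rfl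
    rw [this]
    simp)
  haveI : Module.Finite p.ResidueField B := Module.Finite.of_restrictScalars_finite k _ _
  have hreg : IsRegularRing (B ⊗[p.ResidueField] (p.Fiber K)) := (h.2 p).2 B inferInstance
  have hred := isReduced_of_isRegularRing (B ⊗[p.ResidueField] (p.Fiber K))
  let f := (Algebra.TensorProduct.cancelBaseChange k p.ResidueField p.ResidueField B K).symm
  exact isReduced_of_injective f.toRingEquiv.toRingHom f.injective


/-- `k → K` regular implies `K/k` geometrically reduced. -/
theorem isGeometricallyReduced_of_isRegularHom (k K : Type u) [Field k] [Field K] [Algebra k K]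
    (h : CAlg.IsRegularHom k K) : Algebra.IsGeometricallyReduced k K := by
  rw [Algebra.isGeometricallyReduced_field_iff]
  have h1 : IsReduced (K ⊗[k] AlgebraicClosure k) := by
    apply IsReduced.tensorProduct_of_flat_of_forall_fg
    intro B hB
    have isf : IsField B := Subalgebra.isField_of_algebraic B
    letI : Field B := isf.toField
    haveI : Algebra.FiniteType k B := (Subalgebra.fg_iff_finiteType B).mp hB
    haveI : Algebra.IsAlgebraic k B := Algebra.IsAlgebraic.of_injective B.val Subtype.val_injective
    haveI : Algebra.IsIntegral k B := Algebra.IsAlgebraic.isIntegral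
    haveI : Module.Finite k B := Algebra.IsIntegral.finite
    have := isReduced_tensor_of_isRegularHom k K h B
    let f := Algebra.TensorProduct.comm k K B
    exact isReduced_of_injective f.toRingEquiv.toRingHom f.injective
  let f := Algebra.TensorProduct.comm k (AlgebraicClosure k) K
  exact isReduced_of_injective f.toRingEquiv.toRingHom f.injective

/-- `K/k` geometrically reduced implies `k → K` regular. -/
theorem isRegularHom_of_isGeometricallyReduced (k K : Type u) [Field k] [Field K] [Algebra k K]
    [Algebra.IsGeometricallyReduced k K] : CAlg.IsRegularHom k K := by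
  refine ⟨inferInstance, fun p hp => ?_⟩
  let e : k ≃ₐ[k] p.ResidueField := p.algEquivResidueFieldOfField
  refine ⟨?_, ?_⟩
  · let g : p.Fiber K ≃+* K :=
      ((Algebra.TensorProduct.congr e.symm (AlgEquiv.refl (R := k) (A₁ := K))).trans
        (Algebra.TensorProduct.lid k K)).toRingEquiv
    exact isNoetherianRing_of_ringEquiv K g.symm
  · intro k' _ _ hfin
    letI : Algebra k k' := ((algebraMap p.ResidueField k').comp (algebraMap k p.ResidueField)).toAlgebra
    haveI : IsScalarTower k p.ResidueField k' := IsScalarTower.of_algebraMap_eq (fun x => rfl)
    haveI : Module.Finite k p.ResidueField :=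
      Module.Finite.of_surjective e.toLinearMap e.surjective
    haveI : Module.Finite k k' := Module.Finite.trans p.ResidueField k'
    haveI : Algebra.IsAlgebraic k k' := Algebra.IsAlgebraic.of_finite k k'
    have hred : IsReduced (k' ⊗[k] K) := inferInstance
    have hred' : IsReduced (K ⊗[k] k') := by
      let f := Algebra.TensorProduct.comm k K k'
      exact isReduced_of_injective f.toRingEquiv.toRingHom f.injective
    haveI : Module.Finite K (K ⊗[k] k') := inferInstance
    haveI : IsArtinianRing (K ⊗[k] k') := IsArtinianRing.of_finite K _
    haveI := isRegularRing_of_isArtinianRing_of_isReduced (K ⊗[k] k')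
    let f1 := Algebra.TensorProduct.comm k K k'
    let f2 := (Algebra.TensorProduct.cancelBaseChange k p.ResidueField p.ResidueField k' K).symm
    exact IsRegularRing.of_ringEquiv (R := K ⊗[k] k') (f1.toRingEquiv.trans f2.toRingEquiv)


/-- A geometrically regular algebra over a field is geometrically reduced. -/
theorem isGeometricallyReduced_of_isGeometricallyRegular (k F : Type u) [Field k] [CommRing F]
    [Algebra k F] (h : CAlg.IsGeometricallyRegular k F) : Algebra.IsGeometricallyReduced k F := by
  rw [Algebra.isGeometricallyReduced_field_iff]
  have h1 : IsReduced (F ⊗[k] AlgebraicClosure k) := by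
    apply IsReduced.tensorProduct_of_flat_of_forall_fg
    intro B hB
    have isf : IsField B := Subalgebra.isField_of_algebraic B
    letI : Field B := isf.toField
    haveI : Algebra.FiniteType k B := (Subalgebra.fg_iff_finiteType B).mp hB
    haveI : Algebra.IsAlgebraic k B := Algebra.IsAlgebraic.of_injective B.val Subtype.val_injective
    haveI : Algebra.IsIntegral k B := Algebra.IsAlgebraic.isIntegral
    haveI : Module.Finite k B := Algebra.IsIntegral.finite
    have hreg : IsRegularRing (B ⊗[k] F) := h B inferInstance
    have := isReduced_of_isRegularRing (B ⊗[k] F)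
    let f := Algebra.TensorProduct.comm k F B
    exact isReduced_of_injective f.toRingEquiv.toRingHom f.injective
  let f := Algebra.TensorProduct.comm k (AlgebraicClosure k) F
  exact isReduced_of_injective f.toRingEquiv.toRingHom f.injective

end Groth.Agent.H26.RegHomField
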