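import Mathlib
import Groth.Agent.H14.NormalLift

/-!
# Power series over a Noetherian normal domain form a normal domain
-/

set_option autoImplicit false
set_option linter.style.haveILetI false
set_option linter.unusedSectionVars false
universe u

open PowerSeries IsLocalRing

namespace Groth.Agent.H26.NormalPowerSeries

variable (R : Type u) [CommRing R]

theorem X_mem_of_isMaximal (M : Ideal R⟦X⟧) [hM : M.IsMaximal] : (X : R⟦X⟧) ∈ M := by
  by_contra hX
  obtain ⟨f, m, hm, hfm⟩ := hM.exists_inv hX
  -- `m = 1 - f * X` is a unit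
  have hunit : IsUnit m := by
    have h1 : m = 1 - f * X := by rw [← hfm]; ring
    rw [PowerSeries.isUnit_iff_constantCoeff, h1]
    simp
  exact hM.ne_top (Ideal.eq_top_of_isUnit_mem _ hm hunit)

theorem sub_C_constantCoeff_mem (φ : R⟦X⟧) :
    φ - C (constantCoeff φ) ∈ Ideal.span {(X : R⟦X⟧)} := by
  rw [Ideal.mem_span_singleton, PowerSeries.X_dvd_iff]
  simp

theorem ker_constantCoeff : RingHom.ker (constantCoeff (R := R)) = Ideal.span {(X : R⟦X⟧)} := by
  ext φ
  rw [RingHom.mem_ker, Ideal.mem_span_singleton, PowerSeries.X_dvd_iff]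

/-- The quotient of `R⟦X⟧_M` by `X` is a localization of `R`. -/
theorem isLocalization_quotient (M : Ideal R⟦X⟧) [hM : M.IsPrime]
    (S : Type u) [CommRing S] [Algebra R⟦X⟧ S] [IsLocalization M.primeCompl S]
    [Algebra R S] [IsScalarTower R R⟦X⟧ S] :
    IsLocalization (M.primeCompl.map (constantCoeff (R := R)))
      (S ⧸ Ideal.span {algebraMap R⟦X⟧ S X}) := by
  have hspan : (Ideal.span {(X : R⟦X⟧)}).map (algebraMap R⟦X⟧ S) =
      Ideal.span {algebraMap R⟦X⟧ S X} := by
    rw [Ideal.map_span, Set.image_singleton]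
  refine IsLocalization.of_surjective M.primeCompl S (constantCoeff (R := R))
    PowerSeries.constantCoeff_surj (Ideal.Quotient.mk _) Ideal.Quotient.mk_surjective ?_ ?_
  · refine RingHom.ext (fun φ => ?_)
    have h1 : algebraMap R (S ⧸ Ideal.span {algebraMap R⟦X⟧ S X}) (constantCoeff φ) =
        Ideal.Quotient.mk _ (algebraMap R⟦X⟧ S (C (constantCoeff φ))) := by
      rw [IsScalarTower.algebraMap_apply R S (S ⧸ Ideal.span {algebraMap R⟦X⟧ S X}),
        IsScalarTower.algebraMap_apply R R⟦X⟧ S]
      rfl
    simp only [RingHom.comp_apply]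
    rw [h1, ← sub_eq_zero, ← map_sub, ← map_sub, Ideal.Quotient.eq_zero_iff_mem, ← hspan]
    exact Ideal.mem_map_of_mem _ (sub_C_constantCoeff_mem R φ)
  · rw [Ideal.mk_ker, ker_constantCoeff, hspan]

variable [IsDomain R] [IsNoetherianRing R] [IsIntegrallyClosed R]

set_option backward.isDefEq.respectTransparency false in
theorem isIntegrallyClosed_localization (M : Ideal R⟦X⟧) [hM : M.IsMaximal] :
    IsIntegrallyClosed (Localization.AtPrime M) := by
  have hinj : Function.Injective (algebraMap R⟦X⟧ (Localization.AtPrime M)) :=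
    IsLocalization.injective _ M.primeCompl_le_nonZeroDivisors
  have htm : algebraMap R⟦X⟧ (Localization.AtPrime M) X ∈
      maximalIdeal (Localization.AtPrime M) := by
    rw [← Localization.AtPrime.map_eq_maximalIdeal]
    exact Ideal.mem_map_of_mem _ (X_mem_of_isMaximal R M)
  have ht0 : algebraMap R⟦X⟧ (Localization.AtPrime M) X ≠ 0 := by
    rw [Ne, map_eq_zero_iff _ hinj]
    exact PowerSeries.X_ne_zero
  have htreg : algebraMap R⟦X⟧ (Localization.AtPrime M) X ∈
      nonZeroDivisors (Localization.AtPrime M) := mem_nonZeroDivisors_of_ne_zero ht0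
  haveI hloc := isLocalization_quotient R M (Localization.AtPrime M)
  have hle : M.primeCompl.map (constantCoeff (R := R)) ≤ nonZeroDivisors R := by
    rintro _ ⟨φ, hφ, rfl⟩
    rw [mem_nonZeroDivisors_iff_ne_zero]
    intro h0
    apply hφ
    have : φ ∈ Ideal.span {(X : R⟦X⟧)} := by
      rw [Ideal.mem_span_singleton, PowerSeries.X_dvd_iff]
      exact h0
    exact (Ideal.span_singleton_le_iff_mem (I := M)).mpr (X_mem_of_isMaximal R M) this
  haveI : IsDomain (Localization.AtPrime M ⧸
      Ideal.span {algebraMap R⟦X⟧ (Localization.AtPrime M) X}) :=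
    @IsLocalization.isDomain_of_le_nonZeroDivisors R _ _ (Localization.AtPrime M ⧸
      Ideal.span {algebraMap R⟦X⟧ (Localization.AtPrime M) X}) _ _ hloc _ hle
  haveI : IsIntegrallyClosed (Localization.AtPrime M ⧸
      Ideal.span {algebraMap R⟦X⟧ (Localization.AtPrime M) X}) :=
    isIntegrallyClosed_of_isLocalization _ _ hle
  exact (Groth.Agent.H14.isDomain_and_isIntegrallyClosed_of_quotient (Localization.AtPrime M)
    _ htm htreg).2

/-- Power series over a Noetherian normal domain form a normal domain. -/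
theorem isIntegrallyClosed_powerSeries : IsIntegrallyClosed R⟦X⟧ :=
  IsIntegrallyClosed.of_localization_maximal (fun M _ _ => isIntegrallyClosed_localization R M)

end Groth.Agent.H26.NormalPowerSeries
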