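import Mathlib
import Groth.Agent.H26.RegHomDescent

/-!
# Generic transfer of properties of (geometric) fibres along composition and faithfully flat descent

`Q`, `Q'` are properties of commutative rings invariant under ring isomorphisms.
* `comp_generic`: if `Q` ascends along flat maps of Noetherian rings with `Q'` fibres, `A → B` has
  a `Q`-fibre (after the finite extension `k'` of `κ(p)`) and `B → C` is flat with geometrically `Q'`
  fibres, then the fibre of `A → C` (after the extension `k'`) has `Q`.
* `descent_generic`: if `Q` descends along faithfully flat maps and `B → C` is faithfully flat, then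
  `Q` for the fibre of `A → C` implies `Q` for the fibre of `A → B`.
-/

set_option autoImplicit false
set_option linter.style.haveILetI false
set_option linter.unusedSectionVars false
universe u

open TensorProduct

namespace Groth.Agent.H26.FibreProp

open Groth.Agent.H26.RegHomDescent

variable (Q Q' : ∀ (X : Type u) [CommRing X], Prop)

set_option backward.isDefEq.respectTransparency false in
theorem comp_generic
    (hiso : ∀ (X Y : Type u) [CommRing X] [CommRing Y], (X ≃+* Y) → Q X → Q Y)
    (hiso' : ∀ (X Y : Type u) [CommRing X] [CommRing Y], (X ≃+* Y) → Q' X → Q' Y)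
    (asc : ∀ (R S : Type u) [CommRing R] [CommRing S] [Algebra R S] [IsNoetherianRing R]
      [IsNoetherianRing S] [Module.Flat R S], Q R → (∀ (q : Ideal R) [q.IsPrime], Q' (q.Fiber S)) →
      Q S)
    (A B C : Type u) [CommRing A] [CommRing B] [CommRing C] [Algebra A B] [Algebra B C]
    [Algebra A C] [IsScalarTower A B C] [Module.Flat B C] (p : Ideal A) [p.IsPrime]
    (k' : Type u) [Field k'] [Algebra p.ResidueField k'] [Module.Finite p.ResidueField k']
    (hBN : IsNoetherianRing (k' ⊗[p.ResidueField] (p.Fiber B)))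
    (hB : Q (k' ⊗[p.ResidueField] (p.Fiber B)))
    (hC : ∀ (q : Ideal B) [q.IsPrime] (k'' : Type u) [Field k''] [Algebra q.ResidueField k''],
      Module.Finite q.ResidueField k'' → Q' (k'' ⊗[q.ResidueField] (q.Fiber C)))
    (hCN : IsNoetherianRing (k' ⊗[p.ResidueField] (p.Fiber C))) :
    Q (k' ⊗[p.ResidueField] (p.Fiber C)) := by
  letI : Algebra A k' :=
    ((algebraMap p.ResidueField k').comp (algebraMap A p.ResidueField)).toAlgebra
  haveI : IsScalarTower A p.ResidueField k' := IsScalarTower.of_algebraMap_eq (fun x => rfl)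
  let eB : B ⊗[A] k' ≃+* k' ⊗[p.ResidueField] (p.Fiber B) :=
    (Algebra.TensorProduct.comm A B k').toRingEquiv.trans (tensorFiberEquiv A B k' p)
  let eC : (B ⊗[A] k') ⊗[B] C ≃+* k' ⊗[p.ResidueField] (p.Fiber C) :=
    (tensorTensorEquiv A B C k').trans (tensorFiberEquiv A C k' p)
  have hB' : Q (B ⊗[A] k') := hiso _ _ eB.symm hB
  haveI hB'N : IsNoetherianRing (B ⊗[A] k') := isNoetherianRing_of_ringEquiv _ eB.symm
  haveI hC'N : IsNoetherianRing ((B ⊗[A] k') ⊗[B] C) := isNoetherianRing_of_ringEquiv _ eC.symm
  haveI : Algebra.QuasiFinite A p.ResidueField := inferInstance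
  haveI : Algebra.QuasiFinite A k' := Algebra.QuasiFinite.trans A p.ResidueField k'
  haveI : Algebra.QuasiFinite B (B ⊗[A] k') := inferInstance
  have hC' : Q ((B ⊗[A] k') ⊗[B] C) := by
    refine asc (B ⊗[A] k') ((B ⊗[A] k') ⊗[B] C) hB' (fun q' hq' => ?_)
    let q := q'.under B
    let _ := Localization.AtPrime.algebraOfLiesOver q q'
    let e : q'.Fiber ((B ⊗[A] k') ⊗[B] C) ≃ₐ[q'.ResidueField]
        q'.ResidueField ⊗[q.ResidueField] (q.Fiber C) :=
      (Algebra.TensorProduct.cancelBaseChange _ _ _ _ _).trans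
        (Algebra.TensorProduct.cancelBaseChange _ _ _ _ _).symm
    have hfin' : Module.Finite q.ResidueField q'.ResidueField := inferInstance
    exact hiso' _ _ e.symm.toRingEquiv (hC q q'.ResidueField hfin')
  exact hiso _ _ eC hC'

set_option backward.isDefEq.respectTransparency false in
theorem descent_generic
    (hiso : ∀ (X Y : Type u) [CommRing X] [CommRing Y], (X ≃+* Y) → Q X → Q Y)
    (desc : ∀ (R S : Type u) [CommRing R] [CommRing S] [Algebra R S] [Module.FaithfullyFlat R S],
      Q S → Q R)
    (A B C : Type u) [CommRing A] [CommRing B] [CommRing C] [Algebra A B] [Algebra B C]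
    [Algebra A C] [IsScalarTower A B C] [Module.FaithfullyFlat B C] (p : Ideal A) [p.IsPrime]
    (k' : Type u) [Field k'] [Algebra p.ResidueField k']
    (hC : Q (k' ⊗[p.ResidueField] (p.Fiber C))) :
    Q (k' ⊗[p.ResidueField] (p.Fiber B)) := by
  letI : Algebra A k' :=
    ((algebraMap p.ResidueField k').comp (algebraMap A p.ResidueField)).toAlgebra
  haveI : IsScalarTower A p.ResidueField k' := IsScalarTower.of_algebraMap_eq (fun x => rfl)
  let eB : B ⊗[A] k' ≃+* k' ⊗[p.ResidueField] (p.Fiber B) :=
    (Algebra.TensorProduct.comm A B k').toRingEquiv.trans (tensorFiberEquiv A B k' p)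
  let eC : (B ⊗[A] k') ⊗[B] C ≃+* k' ⊗[p.ResidueField] (p.Fiber C) :=
    (tensorTensorEquiv A B C k').trans (tensorFiberEquiv A C k' p)
  have h1 : Q ((B ⊗[A] k') ⊗[B] C) := hiso _ _ eC.symm hC
  have h2 : Q (B ⊗[A] k') := desc (B ⊗[A] k') ((B ⊗[A] k') ⊗[B] C) h1
  exact hiso _ _ eB h2

/-- The trivial extension. -/
noncomputable def selfTensorEquiv {A : Type u} [CommRing A] (p : Ideal A) [p.IsPrime] (B : Type u)
    [CommRing B] [Algebra A B] : p.ResidueField ⊗[p.ResidueField] (p.Fiber B) ≃+* p.Fiber B :=
  (Algebra.TensorProduct.lid p.ResidueField (p.Fiber B)).toRingEquiv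

end Groth.Agent.H26.FibreProp
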