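import Mathlib.RingTheory.HopfAlgebra.MonoidAlgebra
import Mathlib.RingTheory.HopfAlgebra.TensorProduct
import Mathlib.RingTheory.Bialgebra.Equiv
import Mathlib.RingTheory.Coalgebra.Convolution
import Mathlib.RingTheory.Flat.FaithfullyFlat.Algebra
import Mathlib.RingTheory.LocalProperties.Submodule
import Mathlib.RingTheory.Localization.BaseChange
import Mathlib.RingTheory.Nilpotent.Defs

/-!
# Rigidity of coalgebra maps into group algebras (homomorphisms from diagonalisable groups)
-/

set_option autoImplicit false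
open TensorProduct Coalgebra

namespace Groth.Agent.H26

section tmul₂

variable {R : Type*} [CommRing R] (S : Type*) [CommRing S] [Algebra R S]
  {B : Type*} [AddCommGroup B] [Module R B]
  {T : Type*} [AddCommGroup T] [Module R T] [Module S T] [IsScalarTower R S T]

/-- `b₁ ⊗ b₂ ↦ ι b₁ ⊗ₛ ι b₂` -/
noncomputable def tmul₂ (ι : B →ₗ[R] T) : B ⊗[R] B →ₗ[R] T ⊗[S] T :=
  TensorProduct.lift (LinearMap.mk₂ R (fun b₁ b₂ => ι b₁ ⊗ₜ[S] ι b₂)
    (by intros; simp [add_tmul]) (by intros; simp [smul_tmul'])
    (by intros; simp [tmul_add]) (by intros; simp [tmul_smul]))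

@[simp] lemma tmul₂_tmul (ι : B →ₗ[R] T) (b₁ b₂ : B) :
    tmul₂ S ι (b₁ ⊗ₜ[R] b₂) = ι b₁ ⊗ₜ[S] ι b₂ := by
  simp [tmul₂]

/-- `θ : C → T` is a coalgebra map from an `R`-coalgebra to an `S`-coalgebra, along `R → S` -/
structure IsCoalgMapOver [CoalgebraStruct R B] [CoalgebraStruct S T] (θ : B →ₗ[R] T) : Prop where
  comul : ∀ c, Coalgebra.comul (R := S) (θ c) = tmul₂ S θ (Coalgebra.comul (R := R) c)
  counit : ∀ c, Coalgebra.counit (R := S) (θ c) = algebraMap R S (Coalgebra.counit (R := R) c)

end tmul₂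

section inc

variable {R : Type*} [CommRing R] (S : Type*) [CommRing S] [Algebra R S]
  (B : Type*) [AddCommGroup B] [Module R B] [Coalgebra R B]

theorem isCoalgMapOver_inc : IsCoalgMapOver S (TensorProduct.mk R S B 1) where
  comul b := by
    change Coalgebra.comul (R := S) ((1 : S) ⊗ₜ[R] b) = _
    rw [TensorProduct.comul_tmul, CommSemiring.comul_apply]
    generalize Coalgebra.comul (R := R) b = x
    induction x with
    | zero => simp
    | add x y hx hy => rw [tmul_add, map_add, map_add, hx, hy]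
    | tmul b₁ b₂ => simp
  counit b := by
    change Coalgebra.counit (R := S) ((1 : S) ⊗ₜ[R] b) = _
    rw [TensorProduct.counit_tmul, CommSemiring.counit_apply, Algebra.algebraMap_eq_smul_one]

end inc

section comp

variable {R : Type*} [CommRing R] {S₁ : Type*} [CommRing S₁] [Algebra R S₁]
  {S₂ : Type*} [CommRing S₂] [Algebra S₁ S₂] [Algebra R S₂] [IsScalarTower R S₁ S₂]
  {C : Type*} [AddCommGroup C] [Module R C] [CoalgebraStruct R C]
  {T₁ : Type*} [AddCommGroup T₁] [Module R T₁] [Module S₁ T₁] [IsScalarTower R S₁ T₁]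
  [CoalgebraStruct S₁ T₁]
  {T₂ : Type*} [AddCommGroup T₂] [Module R T₂] [Module S₁ T₂] [Module S₂ T₂]
  [IsScalarTower R S₁ T₂] [IsScalarTower S₁ S₂ T₂] [IsScalarTower R S₂ T₂]
  [CoalgebraStruct S₂ T₂]

theorem IsCoalgMapOver.comp {θ₁ : C →ₗ[R] T₁} {θ₂ : T₁ →ₗ[S₁] T₂}
    (h₂ : IsCoalgMapOver S₂ θ₂) (h₁ : IsCoalgMapOver S₁ θ₁) :
    IsCoalgMapOver S₂ ((θ₂.restrictScalars R) ∘ₗ θ₁) where
  comul c := by
    change Coalgebra.comul (R := S₂) (θ₂ (θ₁ c)) = _
    rw [h₂.comul, h₁.comul]
    generalize Coalgebra.comul (R := R) c = x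
    induction x with
    | zero => simp
    | add x y hx hy => rw [map_add, map_add, map_add, hx, hy]
    | tmul b₁ b₂ => simp
  counit c := by
    change Coalgebra.counit (R := S₂) (θ₂ (θ₁ c)) = _
    rw [h₂.counit, h₁.counit, ← IsScalarTower.algebraMap_apply]

end comp

section coalgHom

variable {R : Type*} [CommRing R]
  {C : Type*} [AddCommGroup C] [Module R C] [CoalgebraStruct R C]
  {A : Type*} [AddCommGroup A] [Module R A] [CoalgebraStruct R A]

theorem isCoalgMapOver_of_coalgHom (φ : C →ₗc[R] A) : IsCoalgMapOver R (φ : C →ₗ[R] A) where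
  comul c := by
    have h := CoalgHomClass.map_comp_comul_apply φ c
    change Coalgebra.comul (R := R) (φ c) = _
    rw [← h]
    generalize Coalgebra.comul (R := R) c = x
    induction x with
    | zero => simp
    | add x y hx hy => rw [map_add, map_add, hx, hy]
    | tmul b₁ b₂ => simp
  counit c := by
    have h := CoalgHomClass.counit_comp_apply φ c
    simpa using h

end coalgHom

section core
variable {R' : Type*} [CommRing R'] {M : Type*}

/-- coefficient functional -/
noncomputable def coeffL (m : M) : MonoidAlgebra R' M →ₗ[R'] R' :=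
  (Finsupp.lapply m) ∘ₗ (MonoidAlgebra.coeffLinearEquiv R').toLinearMap

lemma coeffL_apply (m : M) (y : MonoidAlgebra R' M) : coeffL m y = y.coeff m := rfl

/-- pairing -/
noncomputable def coeffPair (m n : M) :
    MonoidAlgebra R' M ⊗[R'] MonoidAlgebra R' M →ₗ[R'] R' :=
  LinearMap.mul' R' R' ∘ₗ TensorProduct.map (coeffL m) (coeffL n)

lemma coeffPair_tmul (m n : M) (y₁ y₂ : MonoidAlgebra R' M) :
    coeffPair m n (y₁ ⊗ₜ y₂) = y₁.coeff m * y₂.coeff n := by
  simp [coeffPair, coeffL_apply]

open Classical in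
lemma coeffPair_comul (m : M) (y : MonoidAlgebra R' M) :
    coeffPair m m (Coalgebra.comul (R := R') y) = coeffL m y := by
  induction y using MonoidAlgebra.induction_linear with
  | zero => simp
  | add x y hx hy => rw [map_add, map_add, map_add, hx, hy]
  | single x a =>
    rw [MonoidAlgebra.comul_single, CommSemiring.comul_apply, TensorProduct.map_tmul,
      coeffPair_tmul, coeffL_apply]
    simp only [MonoidAlgebra.lsingle_apply, MonoidAlgebra.coeff_single, Finsupp.single_apply]
    split_ifs <;> simp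

variable {R : Type*} [CommRing R] [Algebra R R']
  {C : Type*} [AddCommGroup C] [Module R C] [Coalgebra R C]

/-- the `m`-th coefficient functional of `θ` -/
noncomputable def coeffFun (θ : C →ₗ[R] MonoidAlgebra R' M) (m : M) : C →ₗ[R] R' :=
  ((coeffL m).restrictScalars R) ∘ₗ θ

lemma coeffFun_apply (θ : C →ₗ[R] MonoidAlgebra R' M) (m : M) (c : C) :
    coeffFun θ m c = (θ c).coeff m := rfl

lemma coeffPair_tmul₂ (θ : C →ₗ[R] MonoidAlgebra R' M) (m n : M) (x : C ⊗[R] C) :
    coeffPair m n (tmul₂ R' θ x) =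
      LinearMap.mul' R R' (TensorProduct.map (coeffFun θ m) (coeffFun θ n) x) := by
  induction x with
  | zero => simp
  | add x y hx hy => rw [map_add, map_add, map_add, map_add, hx, hy]
  | tmul c₁ c₂ => simp [coeffPair_tmul, coeffFun_apply]

theorem coeffFun_idem (θ : C →ₗ[R] MonoidAlgebra R' M) (hθ : IsCoalgMapOver R' θ) (m : M) :
    WithConv.toConv (coeffFun θ m) * WithConv.toConv (coeffFun θ m) =
      WithConv.toConv (coeffFun θ m) := by
  apply WithConv.ext
  apply LinearMap.ext
  intro c
  change LinearMap.mul' R R' (TensorProduct.map (coeffFun θ m) (coeffFun θ m)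
    (Coalgebra.comul (R := R) c)) = coeffFun θ m c
  rw [← coeffPair_tmul₂, ← hθ.comul, coeffPair_comul]
  rfl

/-- convolution of functionals with values in `J R'`, `J' R'` has values in `J J' R'` -/
lemma convMul_mem_map (J J' : Ideal R) (f g : WithConv (C →ₗ[R] R'))
    (hf : ∀ c, f.ofConv c ∈ J.map (algebraMap R R'))
    (hg : ∀ c, g.ofConv c ∈ J'.map (algebraMap R R')) (c : C) :
    (f * g).ofConv c ∈ (J * J').map (algebraMap R R') := by
  change LinearMap.mul' R R' (TensorProduct.map f.ofConv g.ofConv (Coalgebra.comul (R := R) c)) ∈ _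
  generalize Coalgebra.comul (R := R) c = x
  induction x with
  | zero => simp
  | add x y hx hy => rw [map_add, map_add]; exact Ideal.add_mem _ hx hy
  | tmul c₁ c₂ =>
    rw [TensorProduct.map_tmul, LinearMap.mul'_apply, Ideal.map_mul]
    exact Ideal.mul_mem_mul (hf c₁) (hg c₂)

/-- an `R`-linear functional sends `I • ⊤` into `I R'` -/
lemma mem_map_of_mem_smul_top {N : Type*} [AddCommGroup N] [Module R N] (I : Ideal R)
    (g : N →ₗ[R] R') {x : N} (hx : x ∈ (I • ⊤ : Submodule R N)) :
    g x ∈ I.map (algebraMap R R') := by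
  refine Submodule.smul_induction_on hx ?_ ?_
  · intro i hi n _
    rw [map_smul, Algebra.smul_def]
    exact Ideal.mul_mem_right _ _ (Ideal.mem_map_of_mem _ hi)
  · intro x y hx hy
    rw [map_add]; exact Ideal.add_mem _ hx hy

/-- an idempotent functional with values in `I R'`, `I` nilpotent, vanishes -/
lemma eq_zero_of_idem_of_mem (I : Ideal R) (hI : IsNilpotent I) (f : WithConv (C →ₗ[R] R'))
    (hf : f * f = f) (h : ∀ c, f.ofConv c ∈ I.map (algebraMap R R')) : f = 0 := by
  have key : ∀ k : ℕ, ∀ c, f.ofConv c ∈ (I ^ (k + 1)).map (algebraMap R R') := by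
    intro k
    induction k with
    | zero => simpa using h
    | succ k ih =>
      intro c
      have := convMul_mem_map (I ^ (k + 1)) I f f ih h c
      rw [hf] at this
      rwa [pow_succ]
  obtain ⟨n, hn⟩ := hI
  apply WithConv.ext
  apply LinearMap.ext
  intro c
  have h1 := key n c
  rw [pow_succ, hn, Ideal.zero_eq_bot, Ideal.bot_mul, Ideal.map_bot] at h1
  simpa using h1

end core

section coreThm

variable {R' : Type*} [CommRing R'] {M : Type*} [Monoid M] {R : Type*} [CommRing R] [Algebra R R']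
  {C : Type*} [AddCommGroup C] [Module R C] [Coalgebra R C]

/-- a coalgebra map into a group algebra which is trivial modulo a nilpotent ideal is trivial -/
theorem coalgMap_eq_trivial (I : Ideal R) (hI : IsNilpotent I) (θ : C →ₗ[R] MonoidAlgebra R' M)
    (hθ : IsCoalgMapOver R' θ)
    (h : ∀ c, θ c - MonoidAlgebra.single 1 (algebraMap R R' (Coalgebra.counit (R := R) c)) ∈
      (I • ⊤ : Submodule R (MonoidAlgebra R' M))) (c : C) :
    θ c = MonoidAlgebra.single 1 (algebraMap R R' (Coalgebra.counit (R := R) c)) := by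
  classical
  have hvan : ∀ m : M, m ≠ 1 → ∀ c, (θ c).coeff m = 0 := by
    intro m hm
    have hz := eq_zero_of_idem_of_mem I hI (WithConv.toConv (coeffFun θ m))
      (coeffFun_idem θ hθ m) (by
        intro c
        have h1 := mem_map_of_mem_smul_top I ((coeffL m).restrictScalars R) (h c)
        simpa [coeffL_apply, coeffFun_apply, MonoidAlgebra.coeff_single, Finsupp.single_apply,
          Ne.symm hm] using h1)
    intro c
    have := congrArg (fun f => f.ofConv c) hz
    simpa [coeffFun_apply] using this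
  have hcounit := hθ.counit c
  have h1 : θ c = MonoidAlgebra.single 1 ((θ c).coeff 1) := by
    ext m
    by_cases hm : m = 1
    · subst hm; simp
    · rw [hvan m hm c]; simp [MonoidAlgebra.coeff_single, Finsupp.single_apply, Ne.symm hm]
  rw [h1, MonoidAlgebra.counit_single, CommSemiring.counit_apply] at hcounit
  rw [h1, hcounit]

/-- two coalgebra maps from a cocommutative coalgebra into a group algebra which agree modulo a
nilpotent ideal are equal -/
theorem coalgMap_eq_of_sub_mem [IsCocomm R C] (I : Ideal R) (hI : IsNilpotent I)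
    (θ₁ θ₂ : C →ₗ[R] MonoidAlgebra R' M)
    (h₁ : IsCoalgMapOver R' θ₁) (h₂ : IsCoalgMapOver R' θ₂)
    (h : ∀ c, θ₁ c - θ₂ c ∈ (I • ⊤ : Submodule R (MonoidAlgebra R' M))) (c : C) :
    θ₁ c = θ₂ c := by
  ext m
  set e : WithConv (C →ₗ[R] R') := WithConv.toConv (coeffFun θ₁ m) with he_def
  set f : WithConv (C →ₗ[R] R') := WithConv.toConv (coeffFun θ₂ m) with hf_def
  have he : e * e = e := coeffFun_idem θ₁ h₁ m
  have hf : f * f = f := coeffFun_idem θ₂ h₂ m
  have hd3 : (e - f) * (e - f) * (e - f) = e - f := by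
    linear_combination (e + 1 - 3 * f) * he + (3 * e - f - 1) * hf
  have hval : ∀ c, (e - f).ofConv c ∈ I.map (algebraMap R R') := by
    intro c
    have h1 := mem_map_of_mem_smul_top I ((coeffL m).restrictScalars R) (h c)
    simpa [coeffL_apply, coeffFun_apply, he_def, hf_def] using h1
  have key : ∀ k : ℕ, ∀ c, (e - f).ofConv c ∈ (I ^ (k + 1)).map (algebraMap R R') := by
    intro k
    induction k with
    | zero => simpa using hval
    | succ k ih =>
      intro c
      have h2 := convMul_mem_map (I ^ (k + 1)) I (e - f) (e - f) ih hval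
      have h3 := convMul_mem_map (I ^ (k + 1) * I) I ((e - f) * (e - f)) (e - f) h2 hval c
      rw [hd3] at h3
      rw [pow_succ]
      have hle : I ^ (k + 1) * I * I ≤ I ^ (k + 1) * I := Ideal.mul_le_left
      exact (Ideal.map_mono (f := algebraMap R R') hle) h3
  obtain ⟨n, hn⟩ := hI
  have h1 := key n c
  rw [pow_succ, hn, Ideal.zero_eq_bot, Ideal.bot_mul, Ideal.map_bot] at h1
  have h2 : (e - f).ofConv c = 0 := by simpa using h1
  have h3 : (θ₁ c).coeff m - (θ₂ c).coeff m = 0 := by
    simpa [he_def, hf_def, coeffFun_apply] using h2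
  exact sub_eq_zero.mp h3

end coreThm

end Groth.Agent.H26
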