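import Groth.Prelude.Def_SGA3b
import Groth.Agent.H26.DiagRigid
import Mathlib.RingTheory.Bialgebra.MonoidAlgebra
import Mathlib.RingTheory.HopfAlgebra.GroupLike
import Mathlib.RingTheory.TensorProduct.Basic

/-!
# Hopf algebras over a field spanned by group-like elements are diagonalisable
-/

set_option autoImplicit false
universe u
open TensorProduct Coalgebra

namespace Groth.Agent.H26

section groupLike

variable {R : Type*} [CommRing R] {S : Type*} [CommRing S] [Algebra R S]
  {B : Type*} [AddCommGroup B] [Module R B] [Coalgebra R B]
  {T : Type*} [AddCommGroup T] [Module R T] [Module S T] [IsScalarTower R S T] [Coalgebra S T]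

/-- coalgebra maps along a base change preserve group-like elements -/
theorem IsCoalgMapOver.isGroupLikeElem {θ : B →ₗ[R] T} (hθ : IsCoalgMapOver S θ) {g : B}
    (hg : IsGroupLikeElem R g) : IsGroupLikeElem S (θ g) where
  counit_eq_one := by rw [hθ.counit, hg.counit_eq_one, map_one]
  comul_eq_tmul_self := by rw [hθ.comul, hg.comul_eq_tmul_self, tmul₂_tmul]

end groupLike

section field

variable (K : Type u) [Field K] (H : Type u) [CommRing H] [HopfAlgebra K H]

/-- a commutative Hopf algebra over a field spanned by its group-like elements is diagonalisable -/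
theorem isDiag_of_span_isGroupLikeElem
    (hspan : Submodule.span K {a : H | IsGroupLikeElem K a} = ⊤) : SGA3b.IsDiag K H := by
  refine ⟨GroupLike K H, inferInstance, ⟨(BialgEquiv.ofBijective
    (MonoidAlgebra.liftGroupLikeBialgHom (R := K) (A := H)) ⟨?_, ?_⟩).symm⟩⟩
  · -- injective
    have hli := linearIndep_groupLikeVal (R := K) (A := H)
    rw [injective_iff_map_eq_zero]
    have h1 : ∀ x : MonoidAlgebra K (GroupLike K H),
        MonoidAlgebra.liftGroupLikeBialgHom (R := K) (A := H) x =
        Finsupp.linearCombination K (GroupLike.val (R := K) (A := H)) x.coeff := by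
      intro x
      induction x using MonoidAlgebra.induction_linear with
      | zero => simp
      | add x y hx hy => rw [map_add, hx, hy, MonoidAlgebra.coeff_add, map_add]
      | single g a => simp [MonoidAlgebra.liftGroupLikeBialgHom, Algebra.smul_def]
    intro x hx
    rw [h1] at hx
    have := (linearIndependent_iff.mp hli) x.coeff hx
    exact MonoidAlgebra.coeff_eq_zero.mp this
  · -- surjective
    have hle : Submodule.span K {a : H | IsGroupLikeElem K a} ≤
        LinearMap.range ((MonoidAlgebra.liftGroupLikeBialgHom (R := K) (A := H) :
          MonoidAlgebra K (GroupLike K H) →ₐ[K] H).toLinearMap) := by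
      rw [Submodule.span_le]
      intro a ha
      refine ⟨MonoidAlgebra.single ⟨a, ha⟩ 1, ?_⟩
      simp [MonoidAlgebra.liftGroupLikeBialgHom]
    rw [hspan, top_le_iff] at hle
    intro h
    have : h ∈ LinearMap.range ((MonoidAlgebra.liftGroupLikeBialgHom (R := K) (A := H) :
          MonoidAlgebra K (GroupLike K H) →ₐ[K] H).toLinearMap) := by rw [hle]; trivial
    obtain ⟨x, hx⟩ := this
    exact ⟨x, hx⟩

end field

section ext

variable {R : Type*} [CommRing R] {S : Type*} [CommRing S] [Algebra R S]
  {K : Type*} [CommRing K] [Algebra S K] [Algebra R K] [IsScalarTower R S K]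
  {T₀ : Type*} [AddCommGroup T₀] [Module R T₀] [Coalgebra R T₀]
  {H : Type*} [AddCommGroup H] [Module K H] [Coalgebra K H] [Module R H] [Module S H]
  [IsScalarTower R K H] [IsScalarTower S K H] [IsScalarTower R S H]

/-- the `S`-linear extension of a coalgebra map `T₀ → H` along `R → K` is a coalgebra map
`S ⊗ T₀ → H` along `S → K` -/
theorem IsCoalgMapOver.liftBaseChange {θ : T₀ →ₗ[R] H} (hθ : IsCoalgMapOver K θ) :
    IsCoalgMapOver K (θ.liftBaseChange S) where
  comul t := by
    induction t using TensorProduct.induction_on with
    | zero => simp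
    | add x y hx hy => rw [map_add, map_add, map_add, map_add, hx, hy]
    | tmul s x =>
      rw [LinearMap.liftBaseChange_tmul, TensorProduct.comul_tmul, CommSemiring.comul_apply,
        LinearMap.map_smul_of_tower, hθ.comul]
      generalize Coalgebra.comul (R := R) x = y
      induction y with
      | zero => simp
      | add y z hy hz => rw [map_add, smul_add, hy, hz, tmul_add, map_add, map_add]
      | tmul x₁ x₂ => simp [TensorProduct.tmul_smul]
  counit t := by
    induction t using TensorProduct.induction_on with
    | zero => simp
    | add x y hx hy => rw [map_add, map_add, map_add, map_add, hx, hy]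
    | tmul s x =>
      rw [LinearMap.liftBaseChange_tmul, LinearMap.map_smul_of_tower, hθ.counit,
        TensorProduct.counit_tmul, CommSemiring.counit_apply, Algebra.smul_def, Algebra.smul_def,
        map_mul, ← IsScalarTower.algebraMap_apply, mul_comm]

end ext

section Q

/-- a Hopf algebra over a field receiving a coalgebra map (along a base change) with spanning
image from a coalgebra spanned by group-like elements is diagonalisable -/
theorem isDiag_of_coalgMap (K : Type u) [Field K] (H : Type u) [CommRing H] [HopfAlgebra K H]
    {R' : Type*} [CommRing R'] [Algebra R' K] {T : Type*} [AddCommGroup T] [Module R' T]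
    [Coalgebra R' T] [Module R' H] [IsScalarTower R' K H]
    (hT : Submodule.span R' {t : T | IsGroupLikeElem R' t} = ⊤)
    (Θ : T →ₗ[R'] H) (hΘ : IsCoalgMapOver K Θ)
    (hsurj : Submodule.span K (Set.range Θ) = ⊤) : SGA3b.IsDiag K H := by
  apply isDiag_of_span_isGroupLikeElem
  rw [eq_top_iff, ← hsurj, Submodule.span_le]
  rintro _ ⟨t, rfl⟩
  have ht : t ∈ Submodule.span R' {t : T | IsGroupLikeElem R' t} := by rw [hT]; trivial
  induction ht using Submodule.span_induction with
  | mem g hg => exact Submodule.subset_span (hΘ.isGroupLikeElem hg)
  | zero => rw [map_zero]; exact Submodule.zero_mem _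
  | add x y _ _ hx hy => rw [map_add]; exact Submodule.add_mem _ hx hy
  | smul r x _ hx =>
    rw [map_smul, ← algebraMap_smul K r (Θ x)]
    exact Submodule.smul_mem _ _ hx

end Q

end Groth.Agent.H26
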