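import Mathlib.RingTheory.Filtration
import Mathlib.RingTheory.AdicCompletion.Basic
import Mathlib.RingTheory.Flat.FaithfullyFlat.Algebra
import Mathlib.LinearAlgebra.TensorProduct.Quotient
import Mathlib.Algebra.MonoidAlgebra.Module

set_option autoImplicit false
universe u
open TensorProduct

namespace Groth.Agent.H26

/-- `1 ⊗ b = 0` in `(A/J) ⊗ B` forces `b ∈ J B` -/
lemma mem_smul_top_of_one_tmul_eq_zero {A : Type*} [CommRing A] (J : Ideal A) {B : Type*}
    [AddCommGroup B] [Module A B] (b : B) (h : (1 : A ⧸ J) ⊗ₜ[A] b = 0) :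
    b ∈ (J • ⊤ : Submodule A B) := by
  have h1 := congrArg (quotTensorEquivQuotSMul B J) h
  rw [map_zero, ← map_one (Ideal.Quotient.mk J), quotTensorEquivQuotSMul_mk_tmul, one_smul,
    Submodule.Quotient.mk_eq_zero] at h1
  exact h1

/-- linear maps send `J • ⊤` into `J • ⊤` -/
lemma map_mem_smul_top {A : Type*} [CommRing A] (J : Ideal A) {B B' : Type*}
    [AddCommGroup B] [Module A B] [AddCommGroup B'] [Module A B'] (f : B →ₗ[A] B') {b : B}
    (hb : b ∈ (J • ⊤ : Submodule A B)) : f b ∈ (J • ⊤ : Submodule A B') := by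
  have : (J • ⊤ : Submodule A B).map f ≤ J • ⊤ := by
    rw [Submodule.map_smul'']
    exact Submodule.smul_mono le_rfl le_top
  exact this ⟨b, hb, rfl⟩

/-- Over a Noetherian ring complete along `I`, an element of a module which embeds linearly in
a group algebra `R'[M]` with `R'` finite over `A`, and which lies in all `I^n B`, is zero. -/
theorem eq_zero_of_forall_mem_pow_smul_top {A : Type u} [CommRing A] [IsNoetherianRing A]
    (I : Ideal A) [IsAdicComplete I A] {R' : Type u} [CommRing R'] [Algebra A R']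
    [Module.Finite A R'] {M : Type u} {B : Type u} [AddCommGroup B] [Module A B]
    (j : B →ₗ[A] MonoidAlgebra R' M) (hj : Function.Injective j) (b : B)
    (hb : ∀ n : ℕ, b ∈ (I ^ n • ⊤ : Submodule A B)) : b = 0 := by
  apply hj
  rw [map_zero]
  have hJ : I ≤ (⊥ : Ideal A).jacobson := IsAdicComplete.le_jacobson_bot I
  have hbot := Ideal.iInf_pow_smul_eq_bot_of_le_jacobson (M := R') I hJ
  apply (MonoidAlgebra.coeffLinearEquiv (R := A) (S := R') (M := M)).injective
  rw [map_zero]
  ext m
  have hm : ∀ n : ℕ, ((Finsupp.lapply m : (M →₀ R') →ₗ[A] R') ∘ₗ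
      (MonoidAlgebra.coeffLinearEquiv (R := A) (S := R') (M := M)).toLinearMap ∘ₗ j) b ∈
      (I ^ n • ⊤ : Submodule A R') := fun n => map_mem_smul_top (I ^ n) _ (hb n)
  have hm' : ((Finsupp.lapply m : (M →₀ R') →ₗ[A] R') ∘ₗ
      (MonoidAlgebra.coeffLinearEquiv (R := A) (S := R') (M := M)).toLinearMap ∘ₗ j) b ∈
      (⨅ i : ℕ, I ^ i • ⊤ : Submodule A R') := by
    rw [Submodule.mem_iInf]
    exact hm
  rw [hbot, Submodule.mem_bot] at hm'
  simpa using hm'

end Groth.Agent.H26
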