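import Mathlib
import Groth.Agent.H26.CMFlat
import Groth.Agent.H26.FibreProp
import Groth.Agent.H2.FFlatDescent

/-!
# Cohen–Macaulay fibres: composition and descent
-/

set_option autoImplicit false
set_option linter.style.haveILetI false
set_option linter.unusedSectionVars false
set_option linter.unusedVariables false
universe u

open IsLocalRing TensorProduct

namespace Groth.Agent.H26.CMFibreComp

open Groth.Agent.H26.CMFlat Groth.Agent.H26.FormalFibreQuot

/-- An Artinian ring is Cohen–Macaulay. -/
theorem isCohenMacaulayRing_of_isArtinianRing (X : Type u) [CommRing X] [IsArtinianRing X] :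
    LocCoh.IsCohenMacaulayRing X := by
  refine { isCohenMacaulayLocalRing_localization := fun p hp => ?_ }
  apply Groth.Agent.H72.FlatCM.isCohenMacaulayLocalRing_of_ringKrullDim_eq_zero
  have : Ring.KrullDimLE 0 (Localization.AtPrime p) := inferInstance
  exact ringKrullDimZero_iff_ringKrullDim_eq_zero.mp this

set_option backward.isDefEq.respectTransparency false in
/-- A finite extension of the base field preserves Cohen–Macaulayness. -/
theorem isCohenMacaulayRing_tensor_of_finite (κ F k' : Type u) [Field κ] [Field k'] [Algebra κ k']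
    [Module.Finite κ k'] [CommRing F] [Algebra κ F] (hF : LocCoh.IsCohenMacaulayRing F) :
    LocCoh.IsCohenMacaulayRing (k' ⊗[κ] F) := by
  haveI : IsNoetherianRing F := hF.toIsNoetherian
  haveI : IsNoetherianRing (F ⊗[κ] k') := IsNoetherianRing.of_finite F _
  have h : LocCoh.IsCohenMacaulayRing (F ⊗[κ] k') := by
    refine isCohenMacaulayRing_of_flat_of_fibres F (F ⊗[κ] k') hF (fun x hx => ?_)
    let e : x.Fiber (F ⊗[κ] k') ≃ₐ[x.ResidueField] x.ResidueField ⊗[κ] k' :=
      Algebra.TensorProduct.cancelBaseChange κ F x.ResidueField x.ResidueField k'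
    haveI : IsArtinianRing (x.ResidueField ⊗[κ] k') := IsArtinianRing.of_finite x.ResidueField _
    exact isCohenMacaulayRing_of_ringEquiv e.symm.toRingEquiv
      (isCohenMacaulayRing_of_isArtinianRing _)
  exact isCohenMacaulayRing_of_ringEquiv (Algebra.TensorProduct.comm κ F k').toRingEquiv h

/-- Composition: Cohen–Macaulay fibres. -/
theorem fibres_comp (A B C : Type u) [CommRing A] [CommRing B] [CommRing C]
    [IsNoetherianRing A] [IsNoetherianRing B] [IsNoetherianRing C] [Algebra A B] [Algebra B C]
    [Algebra A C] [IsScalarTower A B C] [Module.Flat A B] [Module.Flat B C]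
    (hAB : ∀ (p : Ideal A) [p.IsPrime], LocCoh.IsCohenMacaulayRing (p.Fiber B))
    (hBC : ∀ (q : Ideal B) [q.IsPrime], LocCoh.IsCohenMacaulayRing (q.Fiber C))
    (p : Ideal A) [p.IsPrime] : LocCoh.IsCohenMacaulayRing (p.Fiber C) := by
  have hiso : ∀ (X Y : Type u) [CommRing X] [CommRing Y], (X ≃+* Y) →
      LocCoh.IsCohenMacaulayRing X → LocCoh.IsCohenMacaulayRing Y :=
    fun X Y _ _ e h => isCohenMacaulayRing_of_ringEquiv e h
  have hN0 : IsNoetherianRing (p.Fiber C) := by
    have h1 : Algebra.EssFiniteType C (C ⊗[A] p.ResidueField) := inferInstance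
    have h2 : IsNoetherianRing (C ⊗[A] p.ResidueField) :=
      Algebra.EssFiniteType.isNoetherianRing C _
    exact isNoetherianRing_of_ringEquiv _
      (Algebra.TensorProduct.comm A C p.ResidueField).toRingEquiv
  have h1 : LocCoh.IsCohenMacaulayRing (p.ResidueField ⊗[p.ResidueField] (p.Fiber C)) := by
    refine Groth.Agent.H26.FibreProp.comp_generic
      (fun X _ => LocCoh.IsCohenMacaulayRing X) (fun X _ => LocCoh.IsCohenMacaulayRing X) hiso hiso
      (fun R S _ _ _ _ _ _ hR hfib => isCohenMacaulayRing_of_flat_of_fibres R S hR hfib)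
      A B C p p.ResidueField ?_ ?_ ?_ ?_
    · haveI : IsNoetherianRing (p.Fiber B) := (hAB p).toIsNoetherian
      exact isNoetherianRing_of_ringEquiv _ (Groth.Agent.H26.FibreProp.selfTensorEquiv p B).symm
    · exact hiso _ _ (Groth.Agent.H26.FibreProp.selfTensorEquiv p B).symm (hAB p)
    · intro q hq k'' _ _ hfin
      exact isCohenMacaulayRing_tensor_of_finite q.ResidueField (q.Fiber C) k'' (hBC q)
    · exact isNoetherianRing_of_ringEquiv _
        (Groth.Agent.H26.FibreProp.selfTensorEquiv p C).symm
  exact hiso _ _ (Groth.Agent.H26.FibreProp.selfTensorEquiv p C) h1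

/-- Descent: Cohen–Macaulay fibres. -/
theorem fibres_descent (A B C : Type u) [CommRing A] [CommRing B] [CommRing C]
    [Algebra A B] [Algebra B C]
    [Algebra A C] [IsScalarTower A B C] [Module.FaithfullyFlat B C]
    (hAC : ∀ (p : Ideal A) [p.IsPrime], LocCoh.IsCohenMacaulayRing (p.Fiber C))
    (p : Ideal A) [p.IsPrime] : LocCoh.IsCohenMacaulayRing (p.Fiber B) := by
  have hiso : ∀ (X Y : Type u) [CommRing X] [CommRing Y], (X ≃+* Y) →
      LocCoh.IsCohenMacaulayRing X → LocCoh.IsCohenMacaulayRing Y :=
    fun X Y _ _ e h => isCohenMacaulayRing_of_ringEquiv e h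
  have h2 : LocCoh.IsCohenMacaulayRing (p.ResidueField ⊗[p.ResidueField] (p.Fiber B)) :=
    Groth.Agent.H26.FibreProp.descent_generic (fun X _ => LocCoh.IsCohenMacaulayRing X) hiso
      (fun R S _ _ _ _ h => isCohenMacaulayRing_of_faithfullyFlat R S h)
      A B C p p.ResidueField
      (hiso _ _ (Groth.Agent.H26.FibreProp.selfTensorEquiv p C).symm (hAC p))
  exact hiso _ _ (Groth.Agent.H26.FibreProp.selfTensorEquiv p B) h2

end Groth.Agent.H26.CMFibreComp
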