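import Mathlib
import Groth.Prelude.Def_CAlg
import Groth.Agent.H26.CMFlat
import Groth.Agent.H26.CMFibreComp
import Groth.Agent.H26.FormalFibreQuot
import Groth.Agent.H26.RegHomField
import Groth.Agent.H14.GeomBC.RegSep

/-!
# The tensor product of two field extensions, one of them finitely generated, is Cohen–Macaulay
-/

set_option autoImplicit false
set_option linter.style.haveILetI false
set_option linter.unusedSectionVars false
universe u

open TensorProduct IntermediateField

namespace Groth.Agent.H26.FieldTensorCM

/-- A finitely generated field extension has a finite transcendence basis. -/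
theorem exists_finset_isTranscendenceBasis (k K : Type u) [Field k] [Field K] [Algebra k K]
    [Algebra.EssFiniteType k K] : ∃ t : Finset K, IsTranscendenceBasis k ((↑) : t → K) := by
  have ⟨s, hs⟩ := IntermediateField.fg_top k K
  have : Algebra.IsAlgebraic (Algebra.adjoin k (s : Set K)) K := by
    rw [← isAlgebraic_adjoin_iff_top, hs, Algebra.isAlgebraic_iff_isIntegral]
    refine Algebra.isIntegral_of_surjective topEquiv.surjective
  have ⟨t, hts, ht⟩ := exists_isTranscendenceBasis_subset (R := k) (s : Set K)
  lift t to Finset K using s.finite_toSet.subset hts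
  exact ⟨t, ht⟩

set_option backward.isDefEq.respectTransparency false in
/-- Passing to a finite extension of the first factor. -/
theorem isCohenMacaulayRing_tensor_of_finite_left (k K0 K L : Type u) [Field k] [Field K0]
    [Field K] [Field L] [Algebra k K0] [Algebra K0 K] [Algebra k K] [IsScalarTower k K0 K]
    [Algebra k L] [Module.Finite K0 K] (h : LocCoh.IsCohenMacaulayRing (K0 ⊗[k] L)) :
    LocCoh.IsCohenMacaulayRing (K ⊗[k] L) := by
  have h4 : LocCoh.IsCohenMacaulayRing (K ⊗[K0] (K0 ⊗[k] L)) :=
    Groth.Agent.H26.CMFibreComp.isCohenMacaulayRing_tensor_of_finite K0 (K0 ⊗[k] L) K h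
  exact Groth.Agent.H26.FormalFibreQuot.isCohenMacaulayRing_of_ringEquiv
    (Algebra.TensorProduct.cancelBaseChange k K0 K0 K L).toRingEquiv h4

set_option backward.isDefEq.respectTransparency false in
/-- `K ⊗_k L` is Cohen–Macaulay when `K/k` is a finitely generated field extension. -/
theorem isCohenMacaulayRing_tensor_field (k K L : Type u) [Field k] [Field K] [Field L]
    [Algebra k K] [Algebra k L] [Algebra.EssFiniteType k K] :
    LocCoh.IsCohenMacaulayRing (K ⊗[k] L) := by
  obtain ⟨t, ht⟩ := exists_finset_isTranscendenceBasis k K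
  have halg : Algebra.IsAlgebraic (adjoin k (Set.range ((↑) : t → K))) K := ht.isAlgebraic_field
  haveI : Algebra.EssFiniteType (adjoin k (Set.range ((↑) : t → K))) K :=
    Algebra.EssFiniteType.of_comp k _ K
  haveI hfin : Module.Finite (adjoin k (Set.range ((↑) : t → K))) K :=
    Algebra.finite_of_essFiniteType_of_isAlgebraic
  -- the purely transcendental part
  haveI hL : IsRegularRing L := by
    haveI : IsArtinianRing L := inferInstance
    exact Groth.Agent.H26.RegHomField.isRegularRing_of_isArtinianRing_of_isReduced L
  haveI : Algebra.Smooth k (MvPolynomial t k) := {}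
  haveI h1 : IsRegularRing (FractionRing (MvPolynomial t k) ⊗[k] L) :=
    Groth.Agent.H14.GeomBC.isRegularRing_tensor_of_isFractionRing k
      (FractionRing (MvPolynomial t k)) (MvPolynomial t k) L
  let e : FractionRing (MvPolynomial t k) ≃ₐ[k] adjoin k (Set.range ((↑) : t → K)) :=
    ht.1.aevalEquivField
  haveI h2 : IsRegularRing ((adjoin k (Set.range ((↑) : t → K))) ⊗[k] L) :=
    IsRegularRing.of_ringEquiv
      (Algebra.TensorProduct.congr e (AlgEquiv.refl (R := k) (A₁ := L))).toRingEquiv
  have h3 : LocCoh.IsCohenMacaulayRing ((adjoin k (Set.range ((↑) : t → K))) ⊗[k] L) :=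
    Groth.Agent.H26.CMFlat.isCohenMacaulayRing_of_isRegularRing _
  exact isCohenMacaulayRing_tensor_of_finite_left k (adjoin k (Set.range ((↑) : t → K))) K L h3

/-- `K ⊗_k L` is Cohen–Macaulay when one of the field extensions is finitely generated. -/
theorem isCohenMacaulayRing_tensor_field' (k K L : Type u) [Field k] [Field K] [Field L]
    [Algebra k K] [Algebra k L] (h : Algebra.EssFiniteType k K ∨ Algebra.EssFiniteType k L) :
    LocCoh.IsCohenMacaulayRing (K ⊗[k] L) := by
  rcases h with h | h
  · haveI := h
    exact isCohenMacaulayRing_tensor_field k K L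
  · haveI := h
    exact Groth.Agent.H26.FormalFibreQuot.isCohenMacaulayRing_of_ringEquiv
      (Algebra.TensorProduct.comm k L K).toRingEquiv (isCohenMacaulayRing_tensor_field k L K)

end Groth.Agent.H26.FieldTensorCM
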