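import Mathlib
import Groth.Agent.H26.SkFlat
import Groth.Agent.H26.FibreProp
import Groth.Agent.H2.FFlatDescent
import Groth.Agent.H14.SkDescent

/-!
# `(S_n)` fibres: composition and descent
-/

set_option autoImplicit false
set_option linter.style.haveILetI false
set_option linter.unusedSectionVars false
set_option linter.unusedVariables false
universe u

open IsLocalRing TensorProduct

namespace Groth.Agent.H26.SkFibreComp

open Groth.Agent.H26.SkFlat

/-- `(S_k)` (together with Noetherianity) is invariant under ring isomorphisms. -/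
theorem hasSk_of_ringEquiv (k : ℕ) {X Y : Type u} [CommRing X] [CommRing Y] (e : X ≃+* Y)
    [IsNoetherianRing X] (h : LocCoh.HasSk k X X) : IsNoetherianRing Y ∧ LocCoh.HasSk k Y Y := by
  letI : Algebra Y X := e.symm.toRingHom.toAlgebra
  let e' : X ≃ₗ[Y] Y :=
    { e with
      map_smul' := fun r x => by
        simp only [smul_eq_mul, RingHom.id_apply, Algebra.smul_def]
        change e (e.symm r * x) = r * e x
        simp }
  haveI : Module.FaithfullyFlat Y X := Module.FaithfullyFlat.of_linearEquiv Y Y e'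
  exact H14.hasSk_of_faithfullyFlat k Y X h

/-- An Artinian ring has `(S_k)`. -/
theorem hasSk_of_isArtinianRing (k : ℕ) (X : Type u) [CommRing X] [IsArtinianRing X] :
    LocCoh.HasSk k X X := by
  rw [H14.hasSk_self_iff]
  intro p hp
  have h0 : p.height = 0 := by
    have h1 : (p.height : WithBot ℕ∞) ≤ ringKrullDim X :=
      Ideal.height_le_ringKrullDim_of_ne_top hp.ne_top
    have h2 : ringKrullDim X ≤ 0 := by
      have := (Ring.krullDimLE_iff (n := 0) (R := X)).mp inferInstance
      simpa using this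
    have h3 : (p.height : WithBot ℕ∞) ≤ (0 : ℕ∞) := h1.trans h2
    exact le_antisymm (by exact_mod_cast h3) bot_le
  rw [h0]
  simp

/-- The abbreviation used with the generic transfer results. -/
def NSk (k : ℕ) (X : Type u) [CommRing X] : Prop := IsNoetherianRing X ∧ LocCoh.HasSk k X X

theorem nSk_of_ringEquiv (k : ℕ) (X Y : Type u) [CommRing X] [CommRing Y] (e : X ≃+* Y)
    (h : NSk k X) : NSk k Y := by
  haveI := h.1
  exact hasSk_of_ringEquiv k e h.2

set_option backward.isDefEq.respectTransparency false in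
/-- A finite extension of the base field preserves `(S_k)`. -/
theorem nSk_tensor_of_finite (k : ℕ) (κ F k' : Type u) [Field κ] [Field k'] [Algebra κ k']
    [Module.Finite κ k'] [CommRing F] [Algebra κ F] (hF : NSk k F) :
    NSk k (k' ⊗[κ] F) := by
  haveI : IsNoetherianRing F := hF.1
  haveI : IsNoetherianRing (F ⊗[κ] k') := IsNoetherianRing.of_finite F _
  have h : NSk k (F ⊗[κ] k') := by
    refine ⟨inferInstance, hasSk_of_flat_of_fibres k hF.2 (fun x hx => ?_)⟩
    let e : x.Fiber (F ⊗[κ] k') ≃ₐ[x.ResidueField] x.ResidueField ⊗[κ] k' :=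
      Algebra.TensorProduct.cancelBaseChange κ F x.ResidueField x.ResidueField k'
    haveI : IsArtinianRing (x.ResidueField ⊗[κ] k') := IsArtinianRing.of_finite x.ResidueField _
    exact (hasSk_of_ringEquiv k e.symm.toRingEquiv (hasSk_of_isArtinianRing k _)).2
  exact nSk_of_ringEquiv k _ _ (Algebra.TensorProduct.comm κ F k').toRingEquiv h

/-- Composition: `(S_n)` fibres. -/
theorem fibres_comp (n : ℕ) (A B C : Type u) [CommRing A] [CommRing B] [CommRing C]
    [IsNoetherianRing A] [IsNoetherianRing B] [IsNoetherianRing C] [Algebra A B] [Algebra B C]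
    [Algebra A C] [IsScalarTower A B C] [Module.Flat A B] [Module.Flat B C]
    (hAB : ∀ (p : Ideal A) [p.IsPrime], LocCoh.HasSk n (p.Fiber B) (p.Fiber B))
    (hBC : ∀ (q : Ideal B) [q.IsPrime], LocCoh.HasSk n (q.Fiber C) (q.Fiber C))
    (p : Ideal A) [p.IsPrime] : LocCoh.HasSk n (p.Fiber C) (p.Fiber C) := by
  have hiso := nSk_of_ringEquiv n
  have hN0 : IsNoetherianRing (p.Fiber C) := isNoetherianRing_fiber C p
  have hN1 : IsNoetherianRing (p.Fiber B) := isNoetherianRing_fiber B p
  have h1 : NSk n (p.ResidueField ⊗[p.ResidueField] (p.Fiber C)) := by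
    refine Groth.Agent.H26.FibreProp.comp_generic
      (fun X _ => NSk n X) (fun X _ => NSk n X) hiso hiso
      (fun R S _ _ _ _ _ _ hR hfib =>
        ⟨inferInstance, hasSk_of_flat_of_fibres n hR.2 (fun q hq => (hfib q).2)⟩)
      A B C p p.ResidueField ?_ ?_ ?_ ?_
    · exact isNoetherianRing_of_ringEquiv _ (Groth.Agent.H26.FibreProp.selfTensorEquiv p B).symm
    · exact hiso _ _ (Groth.Agent.H26.FibreProp.selfTensorEquiv p B).symm ⟨hN1, hAB p⟩
    · intro q hq k'' _ _ hfin
      exact nSk_tensor_of_finite n q.ResidueField (q.Fiber C) k''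
        ⟨isNoetherianRing_fiber C q, hBC q⟩
    · exact isNoetherianRing_of_ringEquiv _
        (Groth.Agent.H26.FibreProp.selfTensorEquiv p C).symm
  exact (hiso _ _ (Groth.Agent.H26.FibreProp.selfTensorEquiv p C) h1).2

/-- Descent: `(S_n)` fibres. -/
theorem fibres_descent (n : ℕ) (A B C : Type u) [CommRing A] [CommRing B] [CommRing C]
    [IsNoetherianRing C] [Algebra A B] [Algebra B C]
    [Algebra A C] [IsScalarTower A B C] [Module.FaithfullyFlat B C]
    (hAC : ∀ (p : Ideal A) [p.IsPrime], LocCoh.HasSk n (p.Fiber C) (p.Fiber C))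
    (p : Ideal A) [p.IsPrime] : LocCoh.HasSk n (p.Fiber B) (p.Fiber B) := by
  have hiso := nSk_of_ringEquiv n
  have hN0 : IsNoetherianRing (p.Fiber C) := isNoetherianRing_fiber C p
  have h2 : NSk n (p.ResidueField ⊗[p.ResidueField] (p.Fiber B)) :=
    Groth.Agent.H26.FibreProp.descent_generic (fun X _ => NSk n X) hiso
      (fun R S _ _ _ _ h => by
        haveI := h.1
        exact H14.hasSk_of_faithfullyFlat n R S h.2)
      A B C p p.ResidueField
      (hiso _ _ (Groth.Agent.H26.FibreProp.selfTensorEquiv p C).symm ⟨hN0, hAC p⟩)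
  exact (hiso _ _ (Groth.Agent.H26.FibreProp.selfTensorEquiv p B) h2).2

end Groth.Agent.H26.SkFibreComp
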