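import Mathlib
import Groth.Prelude.Def_CAlg
import Groth.Agent.H26.SkFlat
import Groth.Agent.H26.SkFibreComp
import Groth.Agent.H26.FieldTensorCM
import Groth.Agent.H72.FlatCM

/-!
# Serre's condition `(S_n)` for tensor products over a field
-/

set_option autoImplicit false
set_option linter.style.haveILetI false
set_option linter.unusedSectionVars false
universe u

open TensorProduct IsLocalRing

namespace Groth.Agent.H26.SkTensor

open Groth.Agent.H26.SkFlat Groth.Agent.H26.SkFibreComp

/-- A Cohen–Macaulay ring satisfies `(S_k)` for every `k`. -/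
theorem hasSk_of_isCohenMacaulayRing (k : ℕ) (X : Type u) [CommRing X]
    (h : LocCoh.IsCohenMacaulayRing X) : LocCoh.HasSk k X X := by
  haveI : IsNoetherianRing X := h.toIsNoetherian
  rw [hasSk_self_iff_skClosed]
  intro p hp _ _
  have hcm := h.isCohenMacaulayLocalRing_localization p
  rw [Groth.Agent.H72.FlatCM.isCohenMacaulayLocalRing_iff,
    ← IsLocalRing.maximalIdeal_height_eq_ringKrullDim] at hcm
  have h2 : (maximalIdeal (Localization.AtPrime p)).height =
      LocCoh.depth (Localization.AtPrime p) (Localization.AtPrime p) := by exact_mod_cast hcm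
  rw [h2]
  exact min_le_right _ _

set_option backward.isDefEq.respectTransparency false in
/-- `(S_n)` is preserved by a field extension of the base field. -/
theorem hasSk_field_tensor (n : ℕ) (k T K : Type u) [Field k] [CommRing T] [Algebra k T]
    [IsNoetherianRing T] [Field K] [Algebra k K]
    (hft : Algebra.EssFiniteType k K ∨ Algebra.FiniteType k T)
    [IsNoetherianRing (T ⊗[k] K)] (hT : LocCoh.HasSk n T T) :
    LocCoh.HasSk n (T ⊗[k] K) (T ⊗[k] K) := by
  refine hasSk_of_flat_of_fibres (R := T) (S := T ⊗[k] K) n hT (fun q hq => ?_)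
  let e : q.Fiber (T ⊗[k] K) ≃ₐ[q.ResidueField] q.ResidueField ⊗[k] K :=
    Algebra.TensorProduct.cancelBaseChange k T q.ResidueField q.ResidueField K
  have hess : Algebra.EssFiniteType k q.ResidueField ∨ Algebra.EssFiniteType k K := by
    rcases hft with h | h
    · exact Or.inr h
    · haveI := h
      exact Or.inl (Algebra.EssFiniteType.comp k T q.ResidueField)
  have hcm : LocCoh.IsCohenMacaulayRing (q.ResidueField ⊗[k] K) :=
    Groth.Agent.H26.FieldTensorCM.isCohenMacaulayRing_tensor_field' k q.ResidueField K hess
  haveI : IsNoetherianRing (q.ResidueField ⊗[k] K) := hcm.toIsNoetherian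
  exact (hasSk_of_ringEquiv n e.symm.toRingEquiv (hasSk_of_isCohenMacaulayRing n _ hcm)).2

set_option backward.isDefEq.respectTransparency false in
/-- `(S_n)` for a tensor product over a field. -/
theorem hasSk_tensor (n : ℕ) (k S T : Type u) [Field k] [CommRing S] [CommRing T] [Algebra k S]
    [Algebra k T] [IsNoetherianRing S] [IsNoetherianRing T]
    (hft : Algebra.FiniteType k S ∨ Algebra.FiniteType k T) [IsNoetherianRing (S ⊗[k] T)]
    (hS : LocCoh.HasSk n S S) (hT : LocCoh.HasSk n T T) :
    LocCoh.HasSk n (S ⊗[k] T) (S ⊗[k] T) := by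
  refine hasSk_of_flat_of_fibres (R := S) (S := S ⊗[k] T) n hS (fun p hp => ?_)
  let e : p.Fiber (S ⊗[k] T) ≃ₐ[p.ResidueField] p.ResidueField ⊗[k] T :=
    Algebra.TensorProduct.cancelBaseChange k S p.ResidueField p.ResidueField T
  have hft' : Algebra.EssFiniteType k p.ResidueField ∨ Algebra.FiniteType k T := by
    rcases hft with h | h
    · haveI := h
      exact Or.inl (Algebra.EssFiniteType.comp k S p.ResidueField)
    · exact Or.inr h
  haveI hN : IsNoetherianRing (T ⊗[k] p.ResidueField) := by
    rcases hft' with h | h
    · haveI := h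
      exact Algebra.EssFiniteType.isNoetherianRing T _
    · haveI := h
      haveI : IsNoetherianRing (p.ResidueField ⊗[k] T) :=
        Algebra.FiniteType.isNoetherianRing p.ResidueField _
      exact isNoetherianRing_of_ringEquiv _
        (Algebra.TensorProduct.comm k p.ResidueField T).toRingEquiv
  have h1 := hasSk_field_tensor n k T p.ResidueField hft' hT
  have h2 := hasSk_of_ringEquiv n
    ((Algebra.TensorProduct.comm k T p.ResidueField).toRingEquiv.trans e.symm.toRingEquiv) h1
  exact h2.2

end Groth.Agent.H26.SkTensor
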