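import Mathlib
import Groth.Prelude.Def_EGA4b
import Groth.Agent.H26.SkTensor
import Groth.Agent.H26.FlatFibreLocal
import Groth.Agent.H14.SerreLoc
import Groth.Agent.H14.SkDescent
import Groth.Agent.H14.SkQuot
import Groth.Agent.H48.TensorNormal2

/-!
# Codepth and `(S_n)` of local rings under extension of the base field
-/

set_option autoImplicit false
set_option linter.style.haveILetI false
set_option linter.unusedSectionVars false
universe u

open TensorProduct IsLocalRing

namespace Groth.Agent.H26.SkFieldExt

open Groth.Agent.H26.SkFlat Groth.Agent.H26.SkFibreComp Groth.Agent.H26.SkTensor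

section Generic

variable (P P' : ∀ (X : Type u) [CommRing X], Prop)

/-- Two-property version of `FlatFibreLocal.localization_of_flat_of_fibres`, at a single prime. -/
theorem localization_of_flat_of_fibres₂
    (hiso' : ∀ (X Y : Type u) [CommRing X] [CommRing Y], (X ≃+* Y) → P' X → P' Y)
    (hflat : ∀ (A B : Type u) [CommRing A] [CommRing B] [Algebra A B] [IsLocalRing A]
      [IsLocalRing B] [IsNoetherianRing A] [IsNoetherianRing B] [IsLocalHom (algebraMap A B)]
      [Module.Flat A B], P A → P' (B ⧸ (maximalIdeal A).map (algebraMap A B)) → P B)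
    (R S : Type u) [CommRing R] [CommRing S] [Algebra R S] [IsNoetherianRing R]
    [IsNoetherianRing S] [Module.Flat R S]
    (r : Ideal S) [hr : r.IsPrime]
    (hR : P (Localization.AtPrime (r.under R)))
    (hfib : ∀ (q : Ideal ((r.under R).Fiber S)) [q.IsPrime], P' (Localization.AtPrime q)) :
    P (Localization.AtPrime r) := by
  set p : Ideal R := r.under R with hp
  have hpp : p.IsPrime := inferInstance
  let q0 := PrimeSpectrum.preimageEquivFiber R S ⟨p, hpp⟩ ⟨⟨r, hr⟩, rfl⟩
  have hq0 : q0.asIdeal.comap (Algebra.TensorProduct.includeRight (R := R) (A := p.ResidueField)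
      (B := S)) = r := by
    have := (PrimeSpectrum.preimageEquivFiber R S ⟨p, hpp⟩).left_inv ⟨⟨r, hr⟩, rfl⟩
    exact congrArg (fun x => x.1.asIdeal) this
  have hgen : ∀ (r' : Ideal S) (hr' : r'.IsPrime) (hlies : r'.LiesOver p),
      q0.asIdeal.comap (Algebra.TensorProduct.includeRight (R := R) (A := p.ResidueField)
        (B := S)) = r' → P (Localization.AtPrime r') := by
    intro r' hr' hrp e
    let _ := Localization.AtPrime.algebraOfLiesOver p r'
    have hloc : IsLocalHom (algebraMap (Localization.AtPrime p) (Localization.AtPrime r')) :=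
      Localization.isLocalHom_localRingHom p r' (algebraMap R S) Ideal.LiesOver.over
    have hflatS : Module.Flat S (Localization.AtPrime r') := IsLocalization.flat _ r'.primeCompl
    have hflatR : Module.Flat R (Localization.AtPrime r') := Module.Flat.trans R S _
    have hflat' : Module.Flat (Localization.AtPrime p) (Localization.AtPrime r') :=
      (Module.flat_iff_of_isLocalization (Localization.AtPrime p) p.primeCompl _).mpr hflatR
    have hideal : (maximalIdeal (Localization.AtPrime p)).map
        (algebraMap (Localization.AtPrime p) (Localization.AtPrime r')) =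
        (p.map (algebraMap R S)).map (algebraMap S (Localization.AtPrime r')) := by
      rw [← Localization.AtPrime.map_eq_maximalIdeal, Ideal.map_map, Ideal.map_map,
        ← IsScalarTower.algebraMap_eq, ← IsScalarTower.algebraMap_eq]
    have hquot : P' (Localization.AtPrime r' ⧸
        (maximalIdeal (Localization.AtPrime p)).map
          (algebraMap (Localization.AtPrime p) (Localization.AtPrime r'))) := by
      rw [hideal]
      subst e
      exact hiso' _ _ (Ideal.Fiber.algEquivAux₂ p q0.asIdeal).toRingEquiv (hfib q0.asIdeal)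
    exact hflat (Localization.AtPrime p) (Localization.AtPrime r') hR hquot
  exact hgen r hr inferInstance hq0

end Generic

section Codepth

/-- The codepth of a Noetherian local ring is `c`. -/
def CodepthEq (c : ℕ) (X : Type u) [CommRing X] : Prop :=
  ∀ [IsLocalRing X] [IsNoetherianRing X],
    ringKrullDim X = ((LocCoh.depth X X : ℕ∞) : WithBot ℕ∞) + ((c : ℕ∞) : WithBot ℕ∞)

theorem exists_codepthEq (X : Type u) [CommRing X] [IsLocalRing X] [IsNoetherianRing X] :
    ∃ c : ℕ, ringKrullDim X = ((LocCoh.depth X X : ℕ∞) : WithBot ℕ∞) + ((c : ℕ∞) : WithBot ℕ∞) := by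
  obtain ⟨d, hd⟩ := Groth.Agent.H72.FlatCM.exists_ringKrullDim_eq_natCast X
  have h1 := Groth.Agent.H72.FlatCM.depth_le_ringKrullDim X
  rw [hd] at h1
  have h2 : LocCoh.depth X X ≤ (d : ℕ∞) := by exact_mod_cast h1
  obtain ⟨e, he⟩ := ENat.ne_top_iff_exists.mp (ne_top_of_le_ne_top (ENat.natCast_ne_top d) h2)
  rw [← he] at h2
  have h3 : e ≤ d := by exact_mod_cast h2
  refine ⟨d - e, ?_⟩
  rw [hd, ← he]
  have : ((d : ℕ) : WithBot ℕ∞) = (((e : ℕ) : ℕ∞) : WithBot ℕ∞) + (((d - e : ℕ) : ℕ∞) : WithBot ℕ∞) := by
    have h4 : d = e + (d - e) := by omega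
    conv_lhs => rw [h4]
    push_cast
    rfl
  exact this

theorem codepthEq_of_flat (c : ℕ) (A B : Type u) [CommRing A] [CommRing B] [Algebra A B]
    [IsLocalRing A] [IsLocalRing B] [IsNoetherianRing A] [IsNoetherianRing B]
    [IsLocalHom (algebraMap A B)] [Module.Flat A B] (hA : CodepthEq c A)
    (hF : LocCoh.IsCohenMacaulayLocalRing (B ⧸ (maximalIdeal A).map (algebraMap A B))) :
    CodepthEq c B := by
  intro _ _
  have h1 := Groth.Agent.H72.FlatCM.ringKrullDim_eq_add_of_flat (A := A) (B := B)
  have h2 := Groth.Agent.H72.FlatCM.depth_eq_add_of_flat (A := A) (B := B)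
  have h3 := (Groth.Agent.H72.FlatCM.isCohenMacaulayLocalRing_iff _).mp hF
  have h4 := hA
  rw [h1, h2, h3, h4]
  push_cast
  exact add_right_comm _ _ _

end Codepth

section Sk

set_option backward.isDefEq.respectTransparency false in
/-- `(S_n)` is preserved by a field extension of the base field (essentially finite type version). -/
theorem hasSk_field_tensor' (n : ℕ) (k T K : Type u) [Field k] [CommRing T] [Algebra k T]
    [IsNoetherianRing T] [Field K] [Algebra k K]
    (hft : Algebra.EssFiniteType k K ∨ Algebra.EssFiniteType k T)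
    [IsNoetherianRing (T ⊗[k] K)] (hT : LocCoh.HasSk n T T) :
    LocCoh.HasSk n (T ⊗[k] K) (T ⊗[k] K) := by
  refine hasSk_of_flat_of_fibres (R := T) (S := T ⊗[k] K) n hT (fun q hq => ?_)
  let e : q.Fiber (T ⊗[k] K) ≃ₐ[q.ResidueField] q.ResidueField ⊗[k] K :=
    Algebra.TensorProduct.cancelBaseChange k T q.ResidueField q.ResidueField K
  have hess : Algebra.EssFiniteType k q.ResidueField ∨ Algebra.EssFiniteType k K := by
    rcases hft with h | h
    · exact Or.inr h
    · haveI := h
      exact Or.inl (Algebra.EssFiniteType.comp k T q.ResidueField)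
  have hcm : LocCoh.IsCohenMacaulayRing (q.ResidueField ⊗[k] K) :=
    Groth.Agent.H26.FieldTensorCM.isCohenMacaulayRing_tensor_field' k q.ResidueField K hess
  haveI : IsNoetherianRing (q.ResidueField ⊗[k] K) := hcm.toIsNoetherian
  exact (hasSk_of_ringEquiv n e.symm.toRingEquiv (hasSk_of_isCohenMacaulayRing n _ hcm)).2

/-- If `S = M⁻¹R` has `(S_n)` and `q` is a prime of `R` disjoint from `M`, then `R_q` has `(S_n)`. -/
theorem hasSk_atPrime_of_isLocalization (n : ℕ) {R S : Type u} [CommRing R] [CommRing S]
    [Algebra R S] (M : Submonoid R) [IsLocalization M S] [IsNoetherianRing S]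
    (hS : LocCoh.HasSk n S S) (q : Ideal R)
    [q.IsPrime] (hdisj : Disjoint (M : Set R) (q : Set R)) :
    LocCoh.HasSk n (Localization.AtPrime q) (Localization.AtPrime q) := by
  let q' : Ideal S := q.map (algebraMap R S)
  haveI hq' : q'.IsPrime := IsLocalization.isPrime_of_isPrime_disjoint M _ q ‹_› hdisj
  have hcomap : q'.comap (algebraMap R S) = q :=
    IsLocalization.under_map_of_isPrime_disjoint M _ ‹_› hdisj
  haveI : IsLocalization.AtPrime (Localization.AtPrime q') (q'.comap (algebraMap R S)) :=
    IsLocalization.isLocalization_isLocalization_atPrime_isLocalization M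
      (Localization.AtPrime q') q'
  haveI : IsLocalization.AtPrime (Localization.AtPrime q') q := by
    convert this
    exact hcomap.symm
  have h1 := Groth.Agent.H14.hasSk_localization n S q' hS
  exact (hasSk_of_ringEquiv n
    (IsLocalization.algEquiv q.primeCompl (Localization.AtPrime q')
      (Localization.AtPrime q)).toRingEquiv h1).2

end Sk

section Main

variable (k S k' : Type u) [Field k] [CommRing S] [Algebra k S] [IsNoetherianRing S] [Field k']
  [Algebra k k'] (hft : Algebra.FiniteType k S ∨ Algebra.EssFiniteType k k')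
  [IsNoetherianRing (S ⊗[k] k')] (q' : Ideal (S ⊗[k] k')) [q'.IsPrime]

include hft in
set_option backward.isDefEq.respectTransparency false in
/-- The local rings `S_q` and `(S ⊗_k k')_{q'}` have the same codepth. -/
theorem codepth_eq :
    ringKrullDim (Localization.AtPrime (q'.comap (algebraMap S (S ⊗[k] k')))) +
        ((LocCoh.depth (Localization.AtPrime q') (Localization.AtPrime q') : ℕ∞) : WithBot ℕ∞) =
      ringKrullDim (Localization.AtPrime q') +
        ((LocCoh.depth (Localization.AtPrime (q'.comap (algebraMap S (S ⊗[k] k'))))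
          (Localization.AtPrime (q'.comap (algebraMap S (S ⊗[k] k')))) : ℕ∞) : WithBot ℕ∞) := by
  obtain ⟨c, hc⟩ := exists_codepthEq (Localization.AtPrime (q'.under S))
  have hB : CodepthEq c (Localization.AtPrime q') := by
    refine localization_of_flat_of_fibres₂ (CodepthEq c)
      (fun X _ => LocCoh.IsCohenMacaulayLocalRing X)
      (fun X Y _ _ e hX => Groth.Agent.H49.isCohenMacaulayLocalRing_of_ringEquiv e hX)
      (fun A B _ _ _ _ _ _ _ _ _ hA hF => codepthEq_of_flat c A B hA hF)
      S (S ⊗[k] k') q' (fun {_ _} => hc) (fun q hq => ?_)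
    let e : (q'.under S).Fiber (S ⊗[k] k') ≃ₐ[(q'.under S).ResidueField]
        (q'.under S).ResidueField ⊗[k] k' :=
      Algebra.TensorProduct.cancelBaseChange k S (q'.under S).ResidueField
        (q'.under S).ResidueField k'
    have hess : Algebra.EssFiniteType k (q'.under S).ResidueField ∨ Algebra.EssFiniteType k k' := by
      rcases hft with h | h
      · haveI := h
        exact Or.inl (Algebra.EssFiniteType.comp k S (q'.under S).ResidueField)
      · exact Or.inr h
    have hcm := Groth.Agent.H26.FieldTensorCM.isCohenMacaulayRing_tensor_field' k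
      (q'.under S).ResidueField k' hess
    have hcm' : LocCoh.IsCohenMacaulayRing ((q'.under S).Fiber (S ⊗[k] k')) :=
      Groth.Agent.H26.FormalFibreQuot.isCohenMacaulayRing_of_ringEquiv e.symm.toRingEquiv hcm
    exact hcm'.isCohenMacaulayLocalRing_localization q
  have h1 := hB
  change ringKrullDim (Localization.AtPrime (q'.under S)) + _ = _ +
    ((LocCoh.depth (Localization.AtPrime (q'.under S)) (Localization.AtPrime (q'.under S)) : ℕ∞) :
      WithBot ℕ∞)
  rw [hc, h1]
  abel

include hft in
set_option backward.isDefEq.respectTransparency false in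
/-- `(S_n)` at `q` and at `q'`. -/
theorem hasSk_iff (n : ℕ) :
    LocCoh.HasSk n (Localization.AtPrime (q'.comap (algebraMap S (S ⊗[k] k'))))
        (Localization.AtPrime (q'.comap (algebraMap S (S ⊗[k] k')))) ↔
      LocCoh.HasSk n (Localization.AtPrime q') (Localization.AtPrime q') := by
  constructor
  · intro hA
    letI : Algebra (S ⊗[k] k')
        (Localization.AtPrime (q'.comap (algebraMap S (S ⊗[k] k'))) ⊗[k] k') :=
      (Algebra.TensorProduct.map (IsScalarTower.toAlgHom k S
        (Localization.AtPrime (q'.comap (algebraMap S (S ⊗[k] k'))))) (AlgHom.id k k')).toRingHom.toAlgebra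
    haveI hloc := Groth.Agent.H48.TensorNormal.isLocalization_tensor_left k S k'
      (q'.comap (algebraMap S (S ⊗[k] k'))).primeCompl
      (Localization.AtPrime (q'.comap (algebraMap S (S ⊗[k] k'))))
    haveI hN : IsNoetherianRing
        (Localization.AtPrime (q'.comap (algebraMap S (S ⊗[k] k'))) ⊗[k] k') :=
      IsLocalization.isNoetherianRing
        (Algebra.algebraMapSubmonoid (S ⊗[k] k') (q'.comap (algebraMap S (S ⊗[k] k'))).primeCompl)
        _ inferInstance
    have hft' : Algebra.EssFiniteType k k' ∨ Algebra.EssFiniteType k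
        (Localization.AtPrime (q'.comap (algebraMap S (S ⊗[k] k')))) := by
      rcases hft with h | h
      · haveI := h
        exact Or.inr (Algebra.EssFiniteType.comp k S _)
      · exact Or.inl h
    have hT := hasSk_field_tensor' n k
      (Localization.AtPrime (q'.comap (algebraMap S (S ⊗[k] k')))) k' hft' hA
    refine hasSk_atPrime_of_isLocalization n
      (S := Localization.AtPrime (q'.comap (algebraMap S (S ⊗[k] k'))) ⊗[k] k')
      (Algebra.algebraMapSubmonoid (S ⊗[k] k') (q'.comap (algebraMap S (S ⊗[k] k'))).primeCompl)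
      hT q' ?_
    rw [Set.disjoint_left]
    rintro _ ⟨s, hs, rfl⟩ hsq
    exact hs hsq
  · intro hB
    letI : Algebra (Localization.AtPrime (q'.comap (algebraMap S (S ⊗[k] k'))))
        (Localization.AtPrime q') :=
      (Localization.localRingHom (q'.comap (algebraMap S (S ⊗[k] k'))) q'
        (algebraMap S (S ⊗[k] k')) rfl).toAlgebra
    haveI : IsLocalHom (algebraMap (Localization.AtPrime (q'.comap (algebraMap S (S ⊗[k] k'))))
        (Localization.AtPrime q')) := by
      show IsLocalHom (Localization.localRingHom (q'.comap (algebraMap S (S ⊗[k] k'))) q'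
        (algebraMap S (S ⊗[k] k')) rfl)
      infer_instance
    haveI : Module.Flat (Localization.AtPrime (q'.comap (algebraMap S (S ⊗[k] k'))))
        (Localization.AtPrime q') := by
      have hf : (algebraMap S (S ⊗[k] k')).Flat := RingHom.flat_algebraMap_iff.2 inferInstance
      exact RingHom.Flat.localRingHom hf q' (q'.comap (algebraMap S (S ⊗[k] k'))) rfl
    haveI : Module.FaithfullyFlat (Localization.AtPrime (q'.comap (algebraMap S (S ⊗[k] k'))))
        (Localization.AtPrime q') := Module.FaithfullyFlat.of_flat_of_isLocalHom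
    exact (Groth.Agent.H14.hasSk_of_faithfullyFlat n
      (Localization.AtPrime (q'.comap (algebraMap S (S ⊗[k] k')))) (Localization.AtPrime q') hB).2

include hft in
/-- `(S_n)` at `q` and at `q'`, in the form of `EGA4.HasSkAt`. -/
theorem hasSkAt_iff (n : ℕ) :
    EGA4.HasSkAt n S S (q'.comap (algebraMap S (S ⊗[k] k'))) ↔
      EGA4.HasSkAt n (S ⊗[k] k') (S ⊗[k] k') q' := by
  have h1 : ∀ (R : Type u) [CommRing R] (p : Ideal R) [p.IsPrime], EGA4.HasSkAt n R R p ↔
      LocCoh.HasSk n (Localization.AtPrime p) (Localization.AtPrime p) := fun R _ p _ =>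
    ⟨Groth.Agent.H14.hasSk_of_equiv n (Groth.Agent.H14.localizedModuleSelfEquiv p),
      Groth.Agent.H14.hasSk_of_equiv n (Groth.Agent.H14.localizedModuleSelfEquiv p).symm⟩
  rw [h1, h1]
  exact hasSk_iff k S k' hft q' n

end Main

end Groth.Agent.H26.SkFieldExt
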