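import Mathlib
import Groth.Prelude.Def_DDual2
import Groth.Agent.H35.FlatBaseChangeD

/-!
# Flat base change for `Hom` in the derived category, part 1: the comparison map  (helper26)

`A → B` flat.  `LB : D(A) ⥤ D(B)` is the triangulated functor induced by the exact functor
`B ⊗_A -`.  For `X Y : D(A)` we define the `B`-linear comparison map
`theta X Y : B ⊗_A Hom(X, Y) → Hom(LB X, LB Y)`, `b ⊗ f ↦ b • LB f`,
and prove its naturality, invariance under isomorphisms, and the four/five lemma steps along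
distinguished triangles in the first variable.
-/

set_option autoImplicit false
set_option linter.unusedSectionVars false
set_option linter.style.haveILetI false

universe u

open CategoryTheory Limits Pretriangulated DerivedCategory TensorProduct ChangeOfRings

namespace Groth.Agent.H26.FlatBCHom

attribute [local instance] HasDerivedCategory.standard

variable {A B : Type u} [CommRing A] [CommRing B] [Algebra A B] [Module.Flat A B]

variable (A B) in
/-- the exact functor `B ⊗_A -` on module categories -/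
noncomputable abbrev F0 : ModuleCat.{u} A ⥤ ModuleCat.{u} B :=
  ModuleCat.extendScalars.{u, u, u} (algebraMap A B)

variable (A B) in
/-- flat base change on derived categories -/
noncomputable abbrev LB : Dual.D A ⥤ Dual.D B := (F0 A B).mapDerivedCategory

/-- the `A`-module structure on morphisms in `D(B)` -/
@[reducible] noncomputable def homModuleA (X' Y' : Dual.D B) : Module A (X' ⟶ Y') :=
  Module.compHom _ (algebraMap A B)

attribute [local instance] homModuleA

theorem smulA_def {X' Y' : Dual.D B} (a : A) (f : X' ⟶ Y') : a • f = algebraMap A B a • f := rfl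

instance (X' Y' : Dual.D B) : IsScalarTower A B (X' ⟶ Y') :=
  ⟨fun a b f => by
    change (a • b) • f = algebraMap A B a • (b • f)
    rw [Algebra.smul_def, mul_smul]⟩

section Semilinear

/-- `B ⊗_A -` sends `a • 𝟙` to `φ a • 𝟙` -/
lemma F0_map_smul_id (M : ModuleCat.{u} A) (a : A) :
    (F0 A B).map (a • 𝟙 M) = algebraMap A B a • 𝟙 ((F0 A B).obj M) := by
  apply ModuleCat.ExtendScalars.hom_ext
  intro m
  have h1 : ((algebraMap A B a • 𝟙 ((ModuleCat.extendScalars.{u, u, u} (algebraMap A B)).obj M) :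
      (ModuleCat.extendScalars.{u, u, u} (algebraMap A B)).obj M ⟶ _)).hom
        ((1 : B) ⊗ₜ[A, algebraMap A B] m) =
      (algebraMap A B a * 1) ⊗ₜ[A, algebraMap A B] m := rfl
  have h2 : ((ModuleCat.extendScalars.{u, u, u} (algebraMap A B)).map (a • 𝟙 M)).hom
        ((1 : B) ⊗ₜ[A, algebraMap A B] m) = (1 : B) ⊗ₜ[A, algebraMap A B] (a • m) := rfl
  refine h2.trans (Eq.trans ?_ h1.symm)
  change (1 : B) ⊗ₜ[A, algebraMap A B] (a • m) = (algebraMap A B a * 1) ⊗ₜ[A, algebraMap A B] m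
  letI : Module A B := Module.compHom B (algebraMap A B)
  exact (TensorProduct.smul_tmul (R := A) (R' := A) a (1 : B) m).symm

/-- `B ⊗_A -` on complexes sends `a • 𝟙` to `φ a • 𝟙` -/
lemma mapHC_smul_id (E : CochainComplex (ModuleCat.{u} A) ℤ) (a : A) :
    ((F0 A B).mapHomologicalComplex (ComplexShape.up ℤ)).map (a • 𝟙 E) =
      algebraMap A B a • 𝟙 _ := by
  ext i : 1
  exact F0_map_smul_id (E.X i) a

/-- `LB` sends `a • 𝟙` to `φ a • 𝟙` -/
lemma LB_map_smul_id (X : Dual.D A) (a : A) :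
    (LB A B).map (a • 𝟙 X) = algebraMap A B a • 𝟙 _ := by
  let E := Q.objPreimage X
  let e : Q.obj E ≅ X := Q.objObjPreimageIso X
  have h1 : a • 𝟙 X = e.inv ≫ Q.map (a • 𝟙 E) ≫ e.hom := by
    rw [Functor.map_smul, CategoryTheory.Functor.map_id, Linear.smul_comp, Linear.comp_smul,
      Category.id_comp, e.inv_hom_id]
  have h2 := (F0 A B).mapDerivedCategoryFactors_hom_naturality (a • 𝟙 E)
  rw [mapHC_smul_id] at h2
  have h5 : Q.map (algebraMap A B a • 𝟙 (((F0 A B).mapHomologicalComplex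
      (ComplexShape.up ℤ)).obj E)) = algebraMap A B a • 𝟙 _ := by
    rw [Functor.map_smul, CategoryTheory.Functor.map_id]
  rw [h5, Linear.comp_smul] at h2
  erw [Category.comp_id] at h2
  have h3 : (LB A B).map (Q.map (a • 𝟙 E)) = algebraMap A B a • 𝟙 _ := by
    have h4 : (LB A B).map (Q.map (a • 𝟙 E)) =
        ((LB A B).map (Q.map (a • 𝟙 E)) ≫
          (F0 A B).mapDerivedCategoryFactors.hom.app E) ≫
          (F0 A B).mapDerivedCategoryFactors.inv.app E := by
      rw [Category.assoc, Iso.hom_inv_id_app]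
      exact (Category.comp_id _).symm
    rw [h4, h2, Linear.smul_comp, Iso.hom_inv_id_app]
    rfl
  rw [h1, Functor.map_comp, Functor.map_comp, h3, Linear.smul_comp, Linear.comp_smul,
    Category.id_comp, ← Functor.map_comp, e.inv_hom_id, CategoryTheory.Functor.map_id]

/-- `LB` is semilinear along `A → B` -/
lemma LB_map_smul {X Y : Dual.D A} (f : X ⟶ Y) (a : A) :
    (LB A B).map (a • f) = algebraMap A B a • (LB A B).map f := by
  have : a • f = (a • 𝟙 X) ≫ f := by rw [Linear.smul_comp, Category.id_comp]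
  rw [this, Functor.map_comp, LB_map_smul_id, Linear.smul_comp, Category.id_comp]

end Semilinear

section Theta

/-- `LB` on morphisms, as an `A`-linear map -/
noncomputable def mapL (X Y : Dual.D A) : (X ⟶ Y) →ₗ[A] ((LB A B).obj X ⟶ (LB A B).obj Y) where
  toFun f := (LB A B).map f
  map_add' _ _ := Functor.map_add _
  map_smul' a f := by
    rw [LB_map_smul]
    rfl

@[simp] theorem mapL_apply {X Y : Dual.D A} (f : X ⟶ Y) : mapL (B := B) X Y f = (LB A B).map f := rfl

/-- the comparison map `B ⊗_A Hom(X, Y) → Hom(LB X, LB Y)` -/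
noncomputable def theta (X Y : Dual.D A) :
    B ⊗[A] (X ⟶ Y) →ₗ[B] ((LB A B).obj X ⟶ (LB A B).obj Y) :=
  (mapL X Y).liftBaseChange B

theorem theta_tmul {X Y : Dual.D A} (b : B) (f : X ⟶ Y) :
    theta X Y (b ⊗ₜ f) = b • (LB A B).map f := rfl

/-- the flat base change property for the pair `(X, Y)` -/
def BC (X Y : Dual.D A) : Prop := Function.Bijective (theta (B := B) X Y)

end Theta

section Pre

/-- precomposition, `A`-linear -/
noncomputable def pre {R : Type u} [CommRing R] {X' X : Dual.D R} (u : X' ⟶ X) (Y : Dual.D R) :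
    (X ⟶ Y) →ₗ[R] (X' ⟶ Y) where
  toFun f := u ≫ f
  map_add' _ _ := Preadditive.comp_add _ _ _ _ _ _
  map_smul' a f := Linear.comp_smul _ _ _ u a f

/-- postcomposition, `A`-linear -/
noncomputable def post {R : Type u} [CommRing R] (X : Dual.D R) {Y Y' : Dual.D R} (v : Y ⟶ Y') :
    (X ⟶ Y) →ₗ[R] (X ⟶ Y') where
  toFun f := f ≫ v
  map_add' _ _ := Preadditive.add_comp _ _ _ _ _ _
  map_smul' a f := Linear.smul_comp _ _ _ a f v

@[simp] theorem pre_apply {R : Type u} [CommRing R] {X' X : Dual.D R} (u : X' ⟶ X) (Y : Dual.D R)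
    (f : X ⟶ Y) : pre u Y f = u ≫ f := rfl

@[simp] theorem post_apply {R : Type u} [CommRing R] (X : Dual.D R) {Y Y' : Dual.D R} (v : Y ⟶ Y')
    (f : X ⟶ Y) : post X v f = f ≫ v := rfl

theorem theta_pre {X' X : Dual.D A} (u : X' ⟶ X) (Y : Dual.D A) :
    (theta (B := B) X' Y).comp ((pre u Y).baseChange B) =
      (pre ((LB A B).map u) ((LB A B).obj Y)).comp (theta X Y) := by
  apply TensorProduct.AlgebraTensorModule.curry_injective
  apply LinearMap.ext_ring
  apply LinearMap.ext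
  intro f
  change theta X' Y ((pre u Y).baseChange B (1 ⊗ₜ f)) = (LB A B).map u ≫ theta X Y (1 ⊗ₜ f)
  rw [LinearMap.baseChange_tmul, theta_tmul, theta_tmul, one_smul, one_smul]
  change (LB A B).map (u ≫ f) = _
  rw [Functor.map_comp]

theorem theta_post (X : Dual.D A) {Y Y' : Dual.D A} (v : Y ⟶ Y') :
    (theta (B := B) X Y').comp ((post X v).baseChange B) =
      (post ((LB A B).obj X) ((LB A B).map v)).comp (theta X Y) := by
  apply TensorProduct.AlgebraTensorModule.curry_injective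
  apply LinearMap.ext_ring
  apply LinearMap.ext
  intro f
  change theta X Y' ((post X v).baseChange B (1 ⊗ₜ f)) = theta X Y (1 ⊗ₜ f) ≫ (LB A B).map v
  rw [LinearMap.baseChange_tmul, theta_tmul, theta_tmul, one_smul, one_smul]
  change (LB A B).map (f ≫ v) = _
  rw [Functor.map_comp]

end Pre

section Transport

theorem baseChange_bijective {M N : Type*} [AddCommGroup M] [Module A M] [AddCommGroup N]
    [Module A N] (σ : M →ₗ[A] N) (hσ : Function.Bijective σ) :
    Function.Bijective (σ.baseChange B) := by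
  let e := LinearEquiv.ofBijective σ hσ
  have h1 : (e.symm.toLinearMap.baseChange B).comp (σ.baseChange B) = LinearMap.id := by
    rw [← LinearMap.baseChange_comp]
    have : e.symm.toLinearMap ∘ₗ σ = LinearMap.id := by
      ext x
      exact e.symm_apply_apply x
    rw [this, LinearMap.baseChange_id]
  have h2 : (σ.baseChange B).comp (e.symm.toLinearMap.baseChange B) = LinearMap.id := by
    rw [← LinearMap.baseChange_comp]
    have : σ ∘ₗ e.symm.toLinearMap = LinearMap.id := by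
      ext x
      exact e.apply_symm_apply x
    rw [this, LinearMap.baseChange_id]
  refine ⟨?_, ?_⟩
  · intro x y hxy
    have := congrArg (e.symm.toLinearMap.baseChange B) hxy
    rw [← LinearMap.comp_apply, ← LinearMap.comp_apply, h1] at this
    exact this
  · intro y
    refine ⟨e.symm.toLinearMap.baseChange B y, ?_⟩
    rw [← LinearMap.comp_apply, h2]
    rfl

variable {X Y X₂ Y₂ : Dual.D A}

/-- the comparison square for a pair of compatible maps -/
theorem theta_transport (σ : (X ⟶ Y) →ₗ[A] (X₂ ⟶ Y₂))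
    (τ : ((LB A B).obj X ⟶ (LB A B).obj Y) →ₗ[B] ((LB A B).obj X₂ ⟶ (LB A B).obj Y₂))
    (h : ∀ f : X ⟶ Y, τ ((LB A B).map f) = (LB A B).map (σ f)) :
    (theta (B := B) X₂ Y₂).comp (σ.baseChange B) = τ.comp (theta X Y) := by
  apply TensorProduct.AlgebraTensorModule.curry_injective
  apply LinearMap.ext_ring
  apply LinearMap.ext
  intro f
  change theta X₂ Y₂ (σ.baseChange B (1 ⊗ₜ f)) = τ (theta X Y (1 ⊗ₜ f))
  rw [LinearMap.baseChange_tmul, theta_tmul, theta_tmul, one_smul, one_smul, h]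

theorem injective_transport (σ : (X ⟶ Y) →ₗ[A] (X₂ ⟶ Y₂)) (hσ : Function.Bijective σ)
    (τ : ((LB A B).obj X ⟶ (LB A B).obj Y) →ₗ[B] ((LB A B).obj X₂ ⟶ (LB A B).obj Y₂))
    (hτ : Function.Injective τ)
    (h : ∀ f : X ⟶ Y, τ ((LB A B).map f) = (LB A B).map (σ f))
    (hθ : Function.Injective (theta (B := B) X Y)) : Function.Injective (theta (B := B) X₂ Y₂) := by
  have h1 := theta_transport σ τ h
  have h2 : Function.Injective ((theta (B := B) X₂ Y₂).comp (σ.baseChange B)) := by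
    rw [h1]
    exact hτ.comp hθ
  have h3 := baseChange_bijective (B := B) σ hσ
  intro x y hxy
  obtain ⟨x', rfl⟩ := h3.2 x
  obtain ⟨y', rfl⟩ := h3.2 y
  exact congrArg _ (h2 hxy)

theorem surjective_transport (σ : (X ⟶ Y) →ₗ[A] (X₂ ⟶ Y₂))
    (τ : ((LB A B).obj X ⟶ (LB A B).obj Y) →ₗ[B] ((LB A B).obj X₂ ⟶ (LB A B).obj Y₂))
    (hτ : Function.Surjective τ)
    (h : ∀ f : X ⟶ Y, τ ((LB A B).map f) = (LB A B).map (σ f))
    (hθ : Function.Surjective (theta (B := B) X Y)) :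
    Function.Surjective (theta (B := B) X₂ Y₂) := by
  have h1 := theta_transport σ τ h
  intro y
  obtain ⟨z, rfl⟩ := hτ y
  obtain ⟨w, rfl⟩ := hθ z
  refine ⟨σ.baseChange B w, ?_⟩
  rw [← LinearMap.comp_apply, h1]
  rfl

theorem BC_transport (σ : (X ⟶ Y) →ₗ[A] (X₂ ⟶ Y₂)) (hσ : Function.Bijective σ)
    (τ : ((LB A B).obj X ⟶ (LB A B).obj Y) →ₗ[B] ((LB A B).obj X₂ ⟶ (LB A B).obj Y₂))
    (hτ : Function.Bijective τ)
    (h : ∀ f : X ⟶ Y, τ ((LB A B).map f) = (LB A B).map (σ f))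
    (hθ : BC (B := B) X Y) : BC (B := B) X₂ Y₂ :=
  ⟨injective_transport σ hσ τ hτ.1 h hθ.1, surjective_transport σ τ hτ.2 h hθ.2⟩

end Transport

section Tr

/-- injectivity and surjectivity of `theta` pass from `(X, Y)` to `(X₂, Y₂)` -/
def Tr (X Y X₂ Y₂ : Dual.D A) : Prop :=
  (Function.Injective (theta (B := B) X Y) → Function.Injective (theta (B := B) X₂ Y₂)) ∧
  (Function.Surjective (theta (B := B) X Y) → Function.Surjective (theta (B := B) X₂ Y₂))

variable {X Y X₂ Y₂ X₃ Y₃ : Dual.D A}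

theorem Tr.trans (h₁ : Tr (B := B) X Y X₂ Y₂) (h₂ : Tr (B := B) X₂ Y₂ X₃ Y₃) :
    Tr (B := B) X Y X₃ Y₃ :=
  ⟨fun h => h₂.1 (h₁.1 h), fun h => h₂.2 (h₁.2 h)⟩

theorem Tr.bc (h : Tr (B := B) X Y X₂ Y₂) (hBC : BC (B := B) X Y) : BC (B := B) X₂ Y₂ :=
  ⟨h.1 hBC.1, h.2 hBC.2⟩

theorem tr_of (σ : (X ⟶ Y) →ₗ[A] (X₂ ⟶ Y₂)) (hσ : Function.Bijective σ)
    (τ : ((LB A B).obj X ⟶ (LB A B).obj Y) →ₗ[B] ((LB A B).obj X₂ ⟶ (LB A B).obj Y₂))
    (hτ : Function.Bijective τ)
    (h : ∀ f : X ⟶ Y, τ ((LB A B).map f) = (LB A B).map (σ f)) : Tr (B := B) X Y X₂ Y₂ :=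
  ⟨injective_transport σ hσ τ hτ.1 h, surjective_transport σ τ hτ.2 h⟩

theorem pre_bijective {R : Type u} [CommRing R] {X' X : Dual.D R} (u : X' ⟶ X) [IsIso u]
    (Y : Dual.D R) : Function.Bijective (pre u Y) := by
  refine ⟨fun f g h => ?_, fun f => ⟨inv u ≫ f, ?_⟩⟩
  · have := congrArg (fun t => inv u ≫ t) h
    simpa using this
  · simp

theorem post_bijective {R : Type u} [CommRing R] (X : Dual.D R) {Y Y' : Dual.D R} (v : Y ⟶ Y')
    [IsIso v] : Function.Bijective (post X v) := by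
  refine ⟨fun f g h => ?_, fun f => ⟨f ≫ inv v, ?_⟩⟩
  · have := congrArg (fun t => t ≫ inv v) h
    simpa using this
  · simp

theorem tr_iso_left (e : X ≅ X₂) (Y : Dual.D A) : Tr (B := B) X Y X₂ Y :=
  tr_of (pre e.inv Y) (pre_bijective e.inv Y) (pre ((LB A B).map e.inv) _)
    (pre_bijective _ _) (fun f => by
      change (LB A B).map e.inv ≫ (LB A B).map f = (LB A B).map (e.inv ≫ f)
      rw [Functor.map_comp])

theorem tr_iso_right (X : Dual.D A) (e : Y ≅ Y₂) : Tr (B := B) X Y X Y₂ :=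
  tr_of (post X e.hom) (post_bijective X e.hom) (post _ ((LB A B).map e.hom))
    (post_bijective _ _) (fun f => by
      change (LB A B).map f ≫ (LB A B).map e.hom = (LB A B).map (f ≫ e.hom)
      rw [Functor.map_comp])

/-- the shift map on morphisms, linear -/
noncomputable def shiftL {R : Type u} [CommRing R] (X Y : Dual.D R) (k : ℤ) :
    (X ⟶ Y) →ₗ[R] (X⟦k⟧ ⟶ Y⟦k⟧) where
  toFun f := f⟦k⟧'
  map_add' _ _ := Functor.map_add _
  map_smul' a f := Functor.map_smul _ a f

theorem shiftL_bijective {R : Type u} [CommRing R] (X Y : Dual.D R) (k : ℤ) :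
    Function.Bijective (shiftL X Y k) :=
  ⟨fun _ _ h => (shiftFunctor (Dual.D R) k).map_injective h,
    fun g => (shiftFunctor (Dual.D R) k).map_surjective g⟩

theorem tr_shift (X Y : Dual.D A) (k : ℤ) : Tr (B := B) X Y (X⟦k⟧) (Y⟦k⟧) := by
  refine tr_of (shiftL X Y k) (shiftL_bijective X Y k)
    ((post _ (((LB A B).commShiftIso k).inv.app Y)).comp
      ((pre (((LB A B).commShiftIso k).hom.app X) _).comp
        (shiftL ((LB A B).obj X) ((LB A B).obj Y) k)))
    ?_ ?_
  · exact (post_bijective _ _).comp ((pre_bijective _ _).comp (shiftL_bijective _ _ k))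
  · intro f
    change (((LB A B).commShiftIso k).hom.app X ≫ ((LB A B).map f)⟦k⟧') ≫
      ((LB A B).commShiftIso k).inv.app Y = (LB A B).map (f⟦k⟧')
    rw [← Functor.commShiftIso_hom_naturality, Category.assoc, Iso.hom_inv_id_app]
    exact Category.comp_id _

/-- shifting the source by `k`, with a target isomorphic to the shifted target -/
theorem tr_shift' (X Y : Dual.D A) (k : ℤ) {Y' : Dual.D A} (e : Y⟦k⟧ ≅ Y') :
    Tr (B := B) X Y (X⟦k⟧) Y' :=
  (tr_shift X Y k).trans (tr_iso_right _ e)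

end Tr

section Cons

/-- consecutive morphisms of a distinguished triangle -/
def Cons {R : Type u} [CommRing R] {X₁ X₂ X₃ : Dual.D R} (u : X₁ ⟶ X₂) (v : X₂ ⟶ X₃) : Prop :=
  ∃ w : X₃ ⟶ X₁⟦(1 : ℤ)⟧, Triangle.mk u v w ∈ distTriang (Dual.D R)

theorem Cons.exact {R : Type u} [CommRing R] {X₁ X₂ X₃ : Dual.D R} {u : X₁ ⟶ X₂} {v : X₂ ⟶ X₃}
    (h : Cons u v) (Y : Dual.D R) : Function.Exact (pre v Y) (pre u Y) := by
  obtain ⟨w, hT⟩ := h
  intro f
  constructor
  · intro hf
    obtain ⟨g, hg⟩ := Triangle.yoneda_exact₂ _ hT f hf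
    exact ⟨g, hg.symm⟩
  · rintro ⟨g, rfl⟩
    change u ≫ v ≫ g = 0
    rw [← Category.assoc]
    have : u ≫ v = 0 := comp_distTriang_mor_zero₁₂ _ hT
    rw [this, zero_comp]

theorem Cons.coexact {R : Type u} [CommRing R] {X₁ X₂ X₃ : Dual.D R} {u : X₁ ⟶ X₂} {v : X₂ ⟶ X₃}
    (h : Cons u v) (Y : Dual.D R) : Function.Exact (post Y u) (post Y v) := by
  obtain ⟨w, hT⟩ := h
  intro f
  constructor
  · intro hf
    obtain ⟨g, hg⟩ := Triangle.coyoneda_exact₂ _ hT f hf
    exact ⟨g, hg.symm⟩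
  · rintro ⟨g, rfl⟩
    change (g ≫ u) ≫ v = 0
    rw [Category.assoc]
    have : u ≫ v = 0 := comp_distTriang_mor_zero₁₂ _ hT
    rw [this, comp_zero]

theorem cons_of_distTriang {R : Type u} [CommRing R] (T : Triangle (Dual.D R))
    (hT : T ∈ distTriang (Dual.D R)) : Cons T.mor₁ T.mor₂ := ⟨T.mor₃, hT⟩

theorem cons_rot {R : Type u} [CommRing R] (T : Triangle (Dual.D R))
    (hT : T ∈ distTriang (Dual.D R)) : Cons T.mor₂ T.mor₃ :=
  ⟨_, rot_of_distTriang _ hT⟩

theorem cons_invRot {R : Type u} [CommRing R] (T : Triangle (Dual.D R))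
    (hT : T ∈ distTriang (Dual.D R)) : Cons T.invRotate.mor₁ T.mor₁ :=
  ⟨_, inv_rot_of_distTriang _ hT⟩

theorem Cons.map {X₁ X₂ X₃ : Dual.D A} {u : X₁ ⟶ X₂} {v : X₂ ⟶ X₃} (h : Cons u v) :
    Cons ((LB A B).map u) ((LB A B).map v) := by
  obtain ⟨w, hT⟩ := h
  exact ⟨_, (LB A B).map_distinguished _ hT⟩

theorem exact_baseChange {M N P : Type*} [AddCommGroup M] [Module A M] [AddCommGroup N]
    [Module A N] [AddCommGroup P] [Module A P] {f : M →ₗ[A] N} {g : N →ₗ[A] P}
    (h : Function.Exact f g) : Function.Exact (f.baseChange B) (g.baseChange B) := by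
  have := Module.Flat.lTensor_exact B h
  rw [LinearMap.baseChange_eq_ltensor, LinearMap.baseChange_eq_ltensor]
  exact this

end Cons

section Four

variable {O₁ O₂ O₃ O₄ O₅ : Dual.D A} (u₁ : O₂ ⟶ O₁) (u₂ : O₃ ⟶ O₂) (u₃ : O₄ ⟶ O₃) (u₄ : O₅ ⟶ O₄)
  (Y : Dual.D A)

theorem theta_injective_of_four (h₂₁ : Cons u₂ u₁) (h₃₂ : Cons u₃ u₂)
    (hs₁ : Function.Surjective (theta (B := B) O₁ Y))
    (hi₂ : Function.Injective (theta (B := B) O₂ Y))
    (hi₄ : Function.Injective (theta (B := B) O₄ Y)) :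
    Function.Injective (theta (B := B) O₃ Y) :=
  LinearMap.injective_of_surjective_of_injective_of_injective
    ((pre u₁ Y).baseChange B) ((pre u₂ Y).baseChange B) ((pre u₃ Y).baseChange B)
    (pre ((LB A B).map u₁) _) (pre ((LB A B).map u₂) _) (pre ((LB A B).map u₃) _)
    (theta O₁ Y) (theta O₂ Y) (theta O₃ Y) (theta O₄ Y)
    (theta_pre u₁ Y).symm (theta_pre u₂ Y).symm (theta_pre u₃ Y).symm
    (exact_baseChange (h₂₁.exact Y)) (exact_baseChange (h₃₂.exact Y))
    (h₂₁.map.exact _) hs₁ hi₂ hi₄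

theorem theta_surjective_of_four (h₃₂ : Cons u₃ u₂) (h₄₃ : Cons u₄ u₃)
    (hs₂ : Function.Surjective (theta (B := B) O₂ Y))
    (hs₄ : Function.Surjective (theta (B := B) O₄ Y))
    (hi₅ : Function.Injective (theta (B := B) O₅ Y)) :
    Function.Surjective (theta (B := B) O₃ Y) :=
  LinearMap.surjective_of_surjective_of_surjective_of_injective
    ((pre u₂ Y).baseChange B) ((pre u₃ Y).baseChange B) ((pre u₄ Y).baseChange B)
    (pre ((LB A B).map u₂) _) (pre ((LB A B).map u₃) _) (pre ((LB A B).map u₄) _)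
    (theta O₂ Y) (theta O₃ Y) (theta O₄ Y) (theta O₅ Y)
    (theta_pre u₂ Y).symm (theta_pre u₃ Y).symm (theta_pre u₄ Y).symm
    (exact_baseChange (h₄₃.exact Y))
    (h₃₂.map.exact _) (h₄₃.map.exact _) hs₂ hs₄ hi₅

theorem BC_of_five (h₂₁ : Cons u₂ u₁) (h₃₂ : Cons u₃ u₂) (h₄₃ : Cons u₄ u₃)
    (h₁ : BC (B := B) O₁ Y) (h₂ : BC (B := B) O₂ Y) (h₄ : BC (B := B) O₄ Y)
    (h₅ : BC (B := B) O₅ Y) : BC (B := B) O₃ Y :=
  ⟨theta_injective_of_four u₁ u₂ u₃ Y h₂₁ h₃₂ h₁.2 h₂.1 h₄.1,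
    theta_surjective_of_four u₂ u₃ u₄ Y h₃₂ h₄₃ h₂.2 h₄.2 h₅.1⟩

end Four

section CoFour

variable {O₁ O₂ O₃ O₄ O₅ : Dual.D A} (v₁ : O₁ ⟶ O₂) (v₂ : O₂ ⟶ O₃) (v₃ : O₃ ⟶ O₄) (v₄ : O₄ ⟶ O₅)
  (X : Dual.D A)

theorem theta_injective_of_cofour (h₁₂ : Cons v₁ v₂) (h₂₃ : Cons v₂ v₃)
    (hs₁ : Function.Surjective (theta (B := B) X O₁))
    (hi₂ : Function.Injective (theta (B := B) X O₂))
    (hi₄ : Function.Injective (theta (B := B) X O₄)) :
    Function.Injective (theta (B := B) X O₃) :=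
  LinearMap.injective_of_surjective_of_injective_of_injective
    ((post X v₁).baseChange B) ((post X v₂).baseChange B) ((post X v₃).baseChange B)
    (post _ ((LB A B).map v₁)) (post _ ((LB A B).map v₂)) (post _ ((LB A B).map v₃))
    (theta X O₁) (theta X O₂) (theta X O₃) (theta X O₄)
    (theta_post X v₁).symm (theta_post X v₂).symm (theta_post X v₃).symm
    (exact_baseChange (h₁₂.coexact X)) (exact_baseChange (h₂₃.coexact X))
    (h₁₂.map.coexact _) hs₁ hi₂ hi₄

theorem theta_surjective_of_cofour (h₂₃ : Cons v₂ v₃) (h₃₄ : Cons v₃ v₄)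
    (hs₂ : Function.Surjective (theta (B := B) X O₂))
    (hs₄ : Function.Surjective (theta (B := B) X O₄))
    (hi₅ : Function.Injective (theta (B := B) X O₅)) :
    Function.Surjective (theta (B := B) X O₃) :=
  LinearMap.surjective_of_surjective_of_surjective_of_injective
    ((post X v₂).baseChange B) ((post X v₃).baseChange B) ((post X v₄).baseChange B)
    (post _ ((LB A B).map v₂)) (post _ ((LB A B).map v₃)) (post _ ((LB A B).map v₄))
    (theta X O₂) (theta X O₃) (theta X O₄) (theta X O₅)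
    (theta_post X v₂).symm (theta_post X v₃).symm (theta_post X v₄).symm
    (exact_baseChange (h₃₄.coexact X))
    (h₂₃.map.coexact _) (h₃₄.map.coexact _) hs₂ hs₄ hi₅

theorem BC_of_cofive (h₁₂ : Cons v₁ v₂) (h₂₃ : Cons v₂ v₃) (h₃₄ : Cons v₃ v₄)
    (h₁ : BC (B := B) X O₁) (h₂ : BC (B := B) X O₂) (h₄ : BC (B := B) X O₄)
    (h₅ : BC (B := B) X O₅) : BC (B := B) X O₃ :=
  ⟨theta_injective_of_cofour v₁ v₂ v₃ X h₁₂ h₂₃ h₁.2 h₂.1 h₄.1,
    theta_surjective_of_cofour v₂ v₃ v₄ X h₂₃ h₃₄ h₂.2 h₄.2 h₅.1⟩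

end CoFour

end Groth.Agent.H26.FlatBCHom
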