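import Mathlib
import Groth.Prelude.Def_DDual2
import Groth.Agent.H26.FlatBCHom
import Groth.Agent.H28.DualSelf
import Groth.Agent.H28.Bidual
import Groth.Agent.H35.LBaseChangeLib
import Groth.Agent.H45.Derived.BoundedInduction
import Groth.Agent.H45.Derived.TExact

/-!
# Flat base change for `Hom` in the derived category, part 2: the base case  (helper26)

`BC (A[0]) (N[0]⟦m⟧)` for every `A`-module `N` and every `m : ℤ`.
-/

set_option autoImplicit false
set_option linter.unusedSectionVars false
set_option linter.style.haveILetI false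

universe u

open CategoryTheory Limits Pretriangulated DerivedCategory TensorProduct ChangeOfRings

namespace Groth.Agent.H26.FlatBCHom

attribute [local instance] HasDerivedCategory.standard
attribute [local instance] homModuleA

variable {A B : Type u} [CommRing A] [CommRing B] [Algebra A B] [Module.Flat A B]

section Vanish

theorem bijective_of_subsingleton {X Y : Dual.D A} (h₁ : Subsingleton (X ⟶ Y))
    (h₂ : Subsingleton ((LB A B).obj X ⟶ (LB A B).obj Y)) : BC (B := B) X Y := by
  haveI : Subsingleton (B ⊗[A] (X ⟶ Y)) := by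
    refine ⟨fun x y => ?_⟩
    have h0 : ∀ z : B ⊗[A] (X ⟶ Y), z = 0 := by
      intro z
      induction z using TensorProduct.induction_on with
      | zero => rfl
      | tmul b f => rw [Subsingleton.elim f 0, TensorProduct.tmul_zero]
      | add x y hx hy => rw [hx, hy, add_zero]
    rw [h0 x, h0 y]
  exact ⟨fun x y _ => Subsingleton.elim x y, fun y => ⟨0, Subsingleton.elim _ _⟩⟩

theorem subsingleton_hom_of_iso {R : Type u} [CommRing R] {X X' Y Y' : Dual.D R} (e : X ≅ X')
    (e' : Y ≅ Y') (h : Subsingleton (X ⟶ Y)) : Subsingleton (X' ⟶ Y') :=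
  ⟨fun f g => by
    have := Subsingleton.elim (e.hom ≫ f ≫ e'.inv) (e.hom ≫ g ≫ e'.inv)
    have h2 := congrArg (fun t => e.inv ≫ t ≫ e'.hom) this
    simpa using h2⟩

/-- `Hom(P[0], N[0]⟦m⟧) = 0` for `P` projective and `m ≠ 0` -/
theorem subsingleton_hom_single_of_projective {R : Type u} [CommRing R] (P N : ModuleCat.{u} R)
    [Projective P] (m : ℤ) (hm : m ≠ 0) :
    Subsingleton ((DerivedCategory.singleFunctor (ModuleCat.{u} R) 0).obj P ⟶
      ((DerivedCategory.singleFunctor (ModuleCat.{u} R) 0).obj N)⟦m⟧) := by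
  rcases lt_or_gt_of_ne hm with h | h
  · exact Groth.Agent.H28.DualSelf.subsingleton_hom_shift_of_neg R N P m h
  · obtain ⟨k, rfl⟩ : ∃ k : ℕ, m = ((k + 1 : ℕ) : ℤ) := ⟨(m - 1).toNat, by omega⟩
    rw [Groth.Agent.H28.DualSelf.subsingleton_hom_shift_iff_ext]
    exact ⟨fun x y => by
      rw [Abelian.Ext.eq_zero_of_projective x, Abelian.Ext.eq_zero_of_projective y]⟩

end Vanish

section Base

theorem ext_one_tmul {N L : Type*} [AddCommGroup N] [Module A N] [AddCommGroup L] [Module B L]
    (f g : B ⊗[A] N →ₗ[B] L) (h : ∀ n : N, f (1 ⊗ₜ n) = g (1 ⊗ₜ n)) : f = g := by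
  apply LinearMap.ext
  intro x
  induction x using TensorProduct.induction_on with
  | zero => rw [map_zero, map_zero]
  | tmul b n =>
    have : b ⊗ₜ[A] n = b • ((1 : B) ⊗ₜ[A] n) := by
      rw [TensorProduct.smul_tmul', smul_eq_mul, mul_one]
    rw [this, map_smul, map_smul, h]
  | add x y hx hy => rw [map_add, map_add, hx, hy]

/-- `LB (M[0]) ≅ (B ⊗ M)[0]` -/
noncomputable def eps (M : ModuleCat.{u} A) :
    (LB A B).obj ((DerivedCategory.singleFunctor (ModuleCat.{u} A) 0).obj M) ≅
      (DerivedCategory.singleFunctor (ModuleCat.{u} B) 0).obj ((F0 A B).obj M) :=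
  ((F0 A B).mapDerivedCategorySingleFunctor 0).app M

theorem LB_map_single {M N : ModuleCat.{u} A} (g : M ⟶ N) :
    (LB A B).map ((DerivedCategory.singleFunctor (ModuleCat.{u} A) 0).map g) =
      (eps M).hom ≫ (DerivedCategory.singleFunctor (ModuleCat.{u} B) 0).map ((F0 A B).map g) ≫
        (eps N).inv := by
  have h := ((F0 A B).mapDerivedCategorySingleFunctor 0).hom.naturality g
  have h' : (LB A B).map ((DerivedCategory.singleFunctor (ModuleCat.{u} A) 0).map g) ≫
      (eps N).hom = (eps M).hom ≫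
        (DerivedCategory.singleFunctor (ModuleCat.{u} B) 0).map ((F0 A B).map g) := h
  rw [← Category.assoc, ← h', Category.assoc, Iso.hom_inv_id, Category.comp_id]

/-- `LB (N[0]⟦m⟧) ≅ (B ⊗ N)[0]⟦m⟧` -/
noncomputable def epsShift (N : ModuleCat.{u} A) (m : ℤ) :
    (LB A B).obj (((DerivedCategory.singleFunctor (ModuleCat.{u} A) 0).obj N)⟦m⟧) ≅
      ((DerivedCategory.singleFunctor (ModuleCat.{u} B) 0).obj ((F0 A B).obj N))⟦m⟧ :=
  ((LB A B).commShiftIso m).app _ ≪≫ (shiftFunctor (Dual.D B) m).mapIso (eps N)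

instance projective_F0_self : Projective ((F0 A B).obj (ModuleCat.of A A)) := by
  have h := Groth.Agent.H35.LT.projective_extendScalars (algebraMap A B) (ModuleCat.of A A)
  exact (IsProjective.iff_projective (R := B)
    (P := ((ModuleCat.extendScalars.{u, u, u} (algebraMap A B)).obj (ModuleCat.of A A)))).mp h

instance projective_self : Projective (ModuleCat.of A A) :=
  (IsProjective.iff_projective _).mp inferInstance

/-- the base case in nonzero degrees: both sides vanish -/
theorem BC_single_of_ne (N : ModuleCat.{u} A) (m : ℤ) (hm : m ≠ 0) :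
    BC (B := B) ((DerivedCategory.singleFunctor (ModuleCat.{u} A) 0).obj (ModuleCat.of A A))
      (((DerivedCategory.singleFunctor (ModuleCat.{u} A) 0).obj N)⟦m⟧) := by
  apply bijective_of_subsingleton
  · exact subsingleton_hom_single_of_projective _ _ m hm
  · exact subsingleton_hom_of_iso (eps (ModuleCat.of A A)).symm (epsShift N m).symm
      (subsingleton_hom_single_of_projective _ _ m hm)

/-- the generator `1 ⊗ 1` of `B ⊗_A A` -/
noncomputable def x₀ : (F0 A B).obj (ModuleCat.of A A) :=
  (1 : B) ⊗ₜ[A, algebraMap A B] (1 : A)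

/-- evaluation at `1 ⊗ 1` -/
noncomputable def evB (L : ModuleCat.{u} B) :
    ((F0 A B).obj (ModuleCat.of A A) ⟶ L) →ₗ[B] L where
  toFun h := h.hom x₀
  map_add' _ _ := rfl
  map_smul' _ _ := rfl

theorem evB_injective (L : ModuleCat.{u} B) : Function.Injective (evB (A := A) L) := by
  intro h h' hh
  apply ModuleCat.ExtendScalars.hom_ext
  intro (a : A)
  have key : ((1 : B) ⊗ₜ[A, algebraMap A B] a : (F0 A B).obj (ModuleCat.of A A)) =
      algebraMap A B a • (x₀ (A := A) (B := B)) := by
    change _ = (algebraMap A B a * 1) ⊗ₜ[A, algebraMap A B] (1 : A)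
    letI : Module A B := Module.compHom B (algebraMap A B)
    have h2 := (TensorProduct.smul_tmul (R := A) (R' := A) a (1 : B) (1 : A))
    have h3 : a • (1 : A) = a := mul_one _
    rw [h3] at h2
    exact h2.symm
  have hh' : h.hom (x₀ (A := A) (B := B)) = h'.hom x₀ := hh
  calc h.hom ((1 : B) ⊗ₜ[A, algebraMap A B] a)
      = h.hom (algebraMap A B a • (x₀ (A := A) (B := B))) := congrArg _ key
    _ = algebraMap A B a • h.hom x₀ := map_smul _ _ _
    _ = algebraMap A B a • h'.hom x₀ := congrArg _ hh'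
    _ = h'.hom (algebraMap A B a • (x₀ (A := A) (B := B))) := (map_smul _ _ _).symm
    _ = h'.hom ((1 : B) ⊗ₜ[A, algebraMap A B] a) := (congrArg _ key).symm

/-- `n ↦ (1 ↦ n)[0]` -/
noncomputable def gam (N : ModuleCat.{u} A) :
    N →ₗ[A] ((DerivedCategory.singleFunctor (ModuleCat.{u} A) 0).obj (ModuleCat.of A A) ⟶
      (DerivedCategory.singleFunctor (ModuleCat.{u} A) 0).obj N) :=
  ((DerivedCategory.singleFunctor (ModuleCat.{u} A) 0).mapLinearMap A).comp
    ((ModuleCat.homLinearEquiv (S := A) (M := ModuleCat.of A A) (N := N)).symm.toLinearMap.comp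
      (LinearMap.ringLmapEquivSelf A A N).symm.toLinearMap)

theorem gam_apply (N : ModuleCat.{u} A) (n : N) :
    gam N n = (DerivedCategory.singleFunctor (ModuleCat.{u} A) 0).map
      (ModuleCat.ofHom (LinearMap.toSpanSingleton A N n)) := by
  unfold gam
  rw [LinearMap.comp_apply, LinearMap.comp_apply]
  rfl

theorem gam_bijective (N : ModuleCat.{u} A) : Function.Bijective (gam N) := by
  have h1 : Function.Bijective ((DerivedCategory.singleFunctor (ModuleCat.{u} A) 0).mapLinearMap A
      (X := ModuleCat.of A A) (Y := N)) :=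
    ⟨(DerivedCategory.singleFunctor (ModuleCat.{u} A) 0).map_injective,
      (DerivedCategory.singleFunctor (ModuleCat.{u} A) 0).map_surjective⟩
  have h2 := (ModuleCat.homLinearEquiv (S := A) (M := ModuleCat.of A A) (N := N)).symm.bijective
  have h3 := (LinearMap.ringLmapEquivSelf A A N).symm.bijective
  exact h1.comp (h2.comp h3)

/-- `h ↦ ε ≫ h[0] ≫ ε⁻¹` -/
noncomputable def Phi (N : ModuleCat.{u} A) :
    ((F0 A B).obj (ModuleCat.of A A) ⟶ (F0 A B).obj N) →ₗ[B]
      ((LB A B).obj ((DerivedCategory.singleFunctor (ModuleCat.{u} A) 0).obj (ModuleCat.of A A)) ⟶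
        (LB A B).obj ((DerivedCategory.singleFunctor (ModuleCat.{u} A) 0).obj N)) :=
  (post _ (eps N).inv).comp ((pre (eps (ModuleCat.of A A)).hom _).comp
    ((DerivedCategory.singleFunctor (ModuleCat.{u} B) 0).mapLinearMap B))

theorem Phi_bijective (N : ModuleCat.{u} A) : Function.Bijective (Phi (B := B) N) := by
  have h1 : Function.Bijective ((DerivedCategory.singleFunctor (ModuleCat.{u} B) 0).mapLinearMap B
      (X := (F0 A B).obj (ModuleCat.of A A)) (Y := (F0 A B).obj N)) :=
    ⟨(DerivedCategory.singleFunctor (ModuleCat.{u} B) 0).map_injective,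
      (DerivedCategory.singleFunctor (ModuleCat.{u} B) 0).map_surjective⟩
  exact (post_bijective _ (eps N).inv).comp
    ((pre_bijective (eps (ModuleCat.of A A)).hom _).comp h1)

theorem Phi_apply (N : ModuleCat.{u} A)
    (h : (F0 A B).obj (ModuleCat.of A A) ⟶ (F0 A B).obj N) :
    Phi N h = (eps (ModuleCat.of A A)).hom ≫
      (DerivedCategory.singleFunctor (ModuleCat.{u} B) 0).map h ≫ (eps N).inv := by
  change ((eps (ModuleCat.of A A)).hom ≫
      (DerivedCategory.singleFunctor (ModuleCat.{u} B) 0).map h) ≫ (eps N).inv = _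
  rw [Category.assoc]

/-- the base case in degree zero -/
theorem BC_single_zero (N : ModuleCat.{u} A) :
    BC (B := B) ((DerivedCategory.singleFunctor (ModuleCat.{u} A) 0).obj (ModuleCat.of A A))
      ((DerivedCategory.singleFunctor (ModuleCat.{u} A) 0).obj N) := by
  let ΦE := LinearEquiv.ofBijective (Phi (B := B) N) (Phi_bijective N)
  let G : ((LB A B).obj ((DerivedCategory.singleFunctor (ModuleCat.{u} A) 0).obj
      (ModuleCat.of A A)) ⟶
        (LB A B).obj ((DerivedCategory.singleFunctor (ModuleCat.{u} A) 0).obj N)) →ₗ[B]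
      (F0 A B).obj N := (evB ((F0 A B).obj N)).comp ΦE.symm.toLinearMap
  have hG : Function.Injective G := (evB_injective _).comp ΦE.symm.injective
  let β := (gam N).baseChange B
  have hβ : Function.Bijective β := baseChange_bijective (gam N) (gam_bijective N)
  let c : B ⊗[A] N →ₗ[B] (F0 A B).obj N := G.comp ((theta _ _).comp β)
  have hc : c = (Groth.Agent.H12.BC.bridge (B := B) N).symm.toLinearMap := by
    apply ext_one_tmul
    intro n
    change G (theta _ _ (β (1 ⊗ₜ n))) = (Groth.Agent.H12.BC.bridge (B := B) N).symm (1 ⊗ₜ n)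
    have h1 : β ((1 : B) ⊗ₜ[A] n) = (1 : B) ⊗ₜ[A] (gam N n) := LinearMap.baseChange_tmul _ _ _
    rw [h1, theta_tmul, one_smul, gam_apply, LB_map_single, ← Phi_apply]
    have h2 : ΦE.symm (Phi N ((F0 A B).map (ModuleCat.ofHom (LinearMap.toSpanSingleton A N n)))) =
        (F0 A B).map (ModuleCat.ofHom (LinearMap.toSpanSingleton A N n)) :=
      ΦE.symm_apply_apply _
    change evB _ (ΦE.symm (Phi N _)) = _
    rw [h2]
    symm
    rw [LinearEquiv.symm_apply_eq]
    change (1 : B) ⊗ₜ[A] n = Groth.Agent.H12.BC.bridge (B := B) N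
      ((1 : B) ⊗ₜ[A, algebraMap A B] ((LinearMap.toSpanSingleton A N n) (1 : A)))
    rw [LinearMap.toSpanSingleton_apply, one_smul]
    rfl
  have hcb : Function.Bijective c := by
    rw [hc]
    exact (Groth.Agent.H12.BC.bridge (B := B) N).symm.bijective
  have hGθ : Function.Bijective (G.comp (theta _ _)) := by
    have : (G.comp (theta _ _) : _ → _) = c ∘ (LinearEquiv.ofBijective β hβ).symm := by
      funext x
      obtain ⟨y, rfl⟩ := hβ.2 x
      change G (theta _ _ (β y)) = c ((LinearEquiv.ofBijective β hβ).symm (β y))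
      have : (LinearEquiv.ofBijective β hβ).symm (β y) = y :=
        (LinearEquiv.ofBijective β hβ).symm_apply_apply y
      rw [this]
      rfl
    rw [this]
    exact hcb.comp (LinearEquiv.ofBijective β hβ).symm.bijective
  refine ⟨fun x y hxy => hGθ.1 (congrArg G hxy), fun y => ?_⟩
  obtain ⟨x, hx⟩ := hGθ.2 (G y)
  exact ⟨x, hG hx⟩

/-- the base case: `BC (A[0]) (N[0]⟦m⟧)` -/
theorem BC_single (N : ModuleCat.{u} A) (m : ℤ) :
    BC (B := B) ((DerivedCategory.singleFunctor (ModuleCat.{u} A) 0).obj (ModuleCat.of A A))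
      (((DerivedCategory.singleFunctor (ModuleCat.{u} A) 0).obj N)⟦m⟧) := by
  by_cases hm : m = 0
  · subst hm
    exact (tr_iso_right _ ((shiftFunctorZero (Dual.D A) ℤ).app _).symm).bc (BC_single_zero N)
  · exact BC_single_of_ne N m hm

end Base

end Groth.Agent.H26.FlatBCHom
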