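import Mathlib
import Groth.Prelude.Def_DDual2
import Groth.Agent.H26.FlatBCHom2
import Groth.Agent.H28.ExtFinite2

/-!
# Flat base change for `Hom` in the derived category, part 3: dévissage  (helper26)

Main result `BC_of_bounded`: for `A → B` flat, `A` Noetherian, `X ∈ D^b_coh(A)`, `Y ∈ D^b(A)`,
the comparison map `B ⊗_A Hom(X, Y) → Hom(LB X, LB Y)` is bijective.
-/

set_option autoImplicit false
set_option linter.unusedSectionVars false
set_option linter.style.haveILetI false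

universe u

open CategoryTheory Limits Pretriangulated DerivedCategory TensorProduct

namespace Groth.Agent.H26.FlatBCHom

attribute [local instance] HasDerivedCategory.standard
attribute [local instance] homModuleA

variable {A B : Type u} [CommRing A] [CommRing B] [Algebra A B] [Module.Flat A B]

variable (A) in
/-- modules in degree zero -/
noncomputable abbrev S0 : ModuleCat.{u} A ⥤ Dual.D A :=
  DerivedCategory.singleFunctor (ModuleCat.{u} A) 0

section Zero

theorem BC_of_isZero_left {X : Dual.D A} (hX : IsZero X) (Y : Dual.D A) : BC (B := B) X Y :=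
  bijective_of_subsingleton ⟨fun f g => hX.eq_of_src f g⟩
    ⟨fun f g => ((LB A B).map_isZero hX).eq_of_src f g⟩

theorem BC_of_isZero_right (X : Dual.D A) {Y : Dual.D A} (hY : IsZero Y) : BC (B := B) X Y :=
  bijective_of_subsingleton ⟨fun f g => hY.eq_of_tgt f g⟩
    ⟨fun f g => ((LB A B).map_isZero hY).eq_of_tgt f g⟩

end Zero

section Second

/-- the iso `(Y⟦n⟧)⟦k⟧ ≅ Y⟦m⟧` for `n + k = m` -/
noncomputable def shiftShiftIso (Y : Dual.D A) (n k m : ℤ) (h : n + k = m) : (Y⟦n⟧)⟦k⟧ ≅ Y⟦m⟧ :=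
  ((shiftFunctorAdd' (Dual.D A) n k m h).app Y).symm

/-- `X`-fixed property of the second variable: base change for all shifts of `Y` -/
def PY (X : Dual.D A) : ObjectProperty (Dual.D A) := fun Y => ∀ n : ℤ, BC (B := B) X (Y⟦n⟧)

instance (X : Dual.D A) : (PY (B := B) X).IsClosedUnderIsomorphisms where
  of_iso e h := fun n => (tr_iso_right X ((shiftFunctor (Dual.D A) n).mapIso e)).bc (h n)

theorem PY_tri (X : Dual.D A) (T : Triangle (Dual.D A)) (hT : T ∈ distTriang (Dual.D A))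
    (h₁ : PY (B := B) X T.obj₁) (h₃ : PY (B := B) X T.obj₃) : PY (B := B) X T.obj₂ := by
  intro n
  let T' := (Triangle.shiftFunctor (Dual.D A) n).obj T
  have hT' : T' ∈ distTriang (Dual.D A) := Triangle.shift_distinguished T hT n
  refine BC_of_cofive (B := B) T'.invRotate.mor₁ T'.mor₁ T'.mor₂ T'.mor₃ X
    (cons_invRot T' hT') (cons_of_distTriang T' hT') (cons_rot T' hT') ?_ (h₁ n) (h₃ n) ?_
  · exact (tr_iso_right X (shiftShiftIso T.obj₃ n (-1) (n - 1) (by omega)).symm).bc (h₃ (n - 1))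
  · exact (tr_iso_right X (shiftShiftIso T.obj₁ n 1 (n + 1) rfl).symm).bc (h₁ (n + 1))

/-- `(M placed in degree n₀) ≅ M[0]⟦-n₀⟧` -/
noncomputable def singleIso (M : ModuleCat.{u} A) (n₀ : ℤ) :
    ((DerivedCategory.singleFunctor (ModuleCat.{u} A) 0).obj M)⟦-n₀⟧ ≅
      (DerivedCategory.singleFunctor (ModuleCat.{u} A) n₀).obj M :=
  ((DerivedCategory.singleFunctors (ModuleCat.{u} A)).shiftIso (-n₀) n₀ 0 (by omega)).app M

theorem PY_self_single (M : ModuleCat.{u} A) (n₀ : ℤ) :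
    PY (B := B) ((DerivedCategory.singleFunctor (ModuleCat.{u} A) 0).obj (ModuleCat.of A A))
      ((DerivedCategory.singleFunctor (ModuleCat.{u} A) n₀).obj M) := by
  intro n
  have e : ((DerivedCategory.singleFunctor (ModuleCat.{u} A) 0).obj M)⟦n - n₀⟧ ≅
      ((DerivedCategory.singleFunctor (ModuleCat.{u} A) n₀).obj M)⟦n⟧ :=
    (shiftShiftIso _ (-n₀) n (n - n₀) (by omega)).symm ≪≫
      (shiftFunctor (Dual.D A) n).mapIso (singleIso M n₀)
  exact (tr_iso_right _ e).bc (BC_single M (n - n₀))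

/-- base change for `A[0]` against every bounded object -/
theorem PY_self_of_bounded (Y : Dual.D A) (a b : ℤ) (hGE : Y.IsGE a) (hLE : Y.IsLE b) :
    PY (B := B) ((DerivedCategory.singleFunctor (ModuleCat.{u} A) 0).obj (ModuleCat.of A A)) Y := by
  refine Groth.Agent.H45.bounded_induction' (PY (B := B) _) (⊤ : ObjectProperty (ModuleCat.{u} A))
    ?_ ?_ ?_ ?_ Y a b hGE hLE ?_
  · intro Z hZ n
    exact BC_of_isZero_right _ ((shiftFunctor (Dual.D A) n).map_isZero hZ)
  · intro T hT h₁ h₃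
    exact PY_tri _ T hT h₁ h₃
  · intro M n₀ _
    exact PY_self_single M n₀
  · intro M _
    trivial
  · intro q
    trivial

end Second

section First

/-- `Y`-fixed property of the first variable: base change against all shifts of `Y` -/
def PX (Y : Dual.D A) : ObjectProperty (Dual.D A) := fun X => ∀ n : ℤ, BC (B := B) X (Y⟦n⟧)

variable (Y : Dual.D A)

instance : (PX (B := B) Y).IsClosedUnderIsomorphisms where
  of_iso e h := fun n => (tr_iso_left e (Y⟦n⟧)).bc (h n)

theorem PX_shift {X : Dual.D A} (h : PX (B := B) Y X) (k : ℤ) : PX (B := B) Y (X⟦k⟧) := by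
  intro n
  exact (tr_shift' X (Y⟦n - k⟧) k (shiftShiftIso Y (n - k) k n (by omega))).bc (h (n - k))

theorem PX_tri (T : Triangle (Dual.D A)) (hT : T ∈ distTriang (Dual.D A))
    (h₁ : PX (B := B) Y T.obj₁) (h₃ : PX (B := B) Y T.obj₃) : PX (B := B) Y T.obj₂ := by
  intro n
  have c1 : Cons T.mor₂ T.mor₃ := cons_rot T hT
  have c2 : Cons T.mor₁ T.mor₂ := cons_of_distTriang T hT
  have c3 : Cons (T.invRotate.mor₁ : T.obj₃⟦(-1 : ℤ)⟧ ⟶ T.obj₁) T.mor₁ := cons_invRot T hT
  have b1 : BC (B := B) (T.obj₁⟦(1 : ℤ)⟧) (Y⟦n⟧) := PX_shift Y h₁ 1 n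
  have b5 : BC (B := B) (T.obj₃⟦(-1 : ℤ)⟧) (Y⟦n⟧) := PX_shift Y h₃ (-1) n
  have b2 : BC (B := B) T.obj₃ (Y⟦n⟧) := h₃ n
  have b4 : BC (B := B) T.obj₁ (Y⟦n⟧) := h₁ n
  exact BC_of_five (B := B) (O₁ := T.obj₁⟦(1 : ℤ)⟧) (O₂ := T.obj₃) (O₃ := T.obj₂) (O₄ := T.obj₁)
    (O₅ := T.obj₃⟦(-1 : ℤ)⟧) T.mor₃ T.mor₂ T.mor₁ T.invRotate.mor₁ (Y⟦n⟧) c1 c2 c3 b1 b2 b4 b5

theorem PX_zero {X : Dual.D A} (hX : IsZero X) : PX (B := B) Y X :=
  fun _ => BC_of_isZero_left hX _

/-- free modules of finite rank -/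
theorem PX_free (h : PX (B := B) Y
    ((DerivedCategory.singleFunctor (ModuleCat.{u} A) 0).obj (ModuleCat.of A A))) (k : ℕ) :
    PX (B := B) Y ((DerivedCategory.singleFunctor (ModuleCat.{u} A) 0).obj
      (ModuleCat.of A (Fin k → A))) := by
  induction k with
  | zero =>
    apply PX_zero
    apply (DerivedCategory.singleFunctor (ModuleCat.{u} A) 0).map_isZero
    exact ModuleCat.isZero_of_subsingleton _
  | succ k ih =>
    have hS := Groth.Agent.H28.Bidual.freeSC_shortExact (A := A) k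
    have hT := hS.singleTriangle_distinguished
    have h₁ : PX (B := B) Y hS.singleTriangle.obj₁ := h
    have h₃ : PX (B := B) Y hS.singleTriangle.obj₃ := ih
    exact PX_tri Y hS.singleTriangle hT h₁ h₃

section Modules

variable [IsNoetherianRing A] (a : ℤ) [hY : Y.IsGE a]


include hY in
/-- both sides vanish in low degrees -/
theorem BC_module_of_lt (M : ModuleCat.{u} A) (n : ℤ) (hn : n < a) :
    BC (B := B) ((S0 A).obj M) (Y⟦n⟧) := by
  haveI : (Y⟦n⟧).IsGE (a - n) := Groth.Agent.H28.ExtFinite.isGE_shift' Y a n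
  apply bijective_of_subsingleton
  · exact Groth.Agent.H28.ExtFinite.subsingleton_hom_of_isLE_of_isGE _ _ 0 (a - n) (by omega)
  · haveI : ((LB A B).obj ((S0 A).obj M)).IsLE 0 :=
      Groth.Agent.H45.isLE_mapDerivedCategory_obj (F0 A B) _ 0 inferInstance
    haveI : ((LB A B).obj (Y⟦n⟧)).IsGE (a - n) :=
      Groth.Agent.H45.isGE_mapDerivedCategory_obj (F0 A B) _ (a - n) inferInstance
    exact Groth.Agent.H28.ExtFinite.subsingleton_hom_of_isLE_of_isGE _ _ 0 (a - n) (by omega)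

variable (hfree : PX (B := B) Y ((S0 A).obj (ModuleCat.of A A)))

include hfree in
/-- one step of the induction on the degree -/
theorem BC_module_step (n : ℤ)
    (hprev : ∀ (M : ModuleCat.{u} A) [Module.Finite A M], BC (B := B) ((S0 A).obj M) (Y⟦n - 1⟧)) :
    ∀ (M : ModuleCat.{u} A) [Module.Finite A M], BC (B := B) ((S0 A).obj M) (Y⟦n⟧) := by
  have hF : ∀ k : ℕ, PX (B := B) Y ((S0 A).obj (ModuleCat.of A (Fin k → A))) := PX_free Y hfree
  have hsh : ∀ (K : ModuleCat.{u} A) [Module.Finite A K],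
      BC (B := B) (((S0 A).obj K)⟦(1 : ℤ)⟧) (Y⟦n⟧) := by
    intro K _
    exact (tr_shift' ((S0 A).obj K) (Y⟦n - 1⟧) 1 (shiftShiftIso Y (n - 1) 1 n (by omega))).bc
      (hprev K)
  have hinj : ∀ (M : ModuleCat.{u} A) [Module.Finite A M],
      Function.Injective (theta (B := B) ((S0 A).obj M) (Y⟦n⟧)) := by
    intro M _
    obtain ⟨k, K, f, g, w, hK, hS⟩ := Groth.Agent.H28.Bidual.exists_pres M
    let T := hS.singleTriangle
    have hT : T ∈ distTriang (Dual.D A) := hS.singleTriangle_distinguished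
    have c1 : Cons T.mor₃ T.rotate.mor₃ := cons_rot T.rotate (rot_of_distTriang _ hT)
    have c2 : Cons T.mor₂ T.mor₃ := cons_rot T hT
    have b1 : BC (B := B) (T.obj₂⟦(1 : ℤ)⟧) (Y⟦n⟧) := PX_shift Y (hF k) 1 n
    have b2 : BC (B := B) (T.obj₁⟦(1 : ℤ)⟧) (Y⟦n⟧) := hsh K
    have b4 : BC (B := B) T.obj₂ (Y⟦n⟧) := hF k n
    exact theta_injective_of_four (B := B) (O₁ := T.obj₂⟦(1 : ℤ)⟧) (O₂ := T.obj₁⟦(1 : ℤ)⟧)
      (O₃ := T.obj₃) (O₄ := T.obj₂) T.rotate.mor₃ T.mor₃ T.mor₂ (Y⟦n⟧) c1 c2 b1.2 b2.1 b4.1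
  intro M _
  refine ⟨hinj M, ?_⟩
  obtain ⟨k, K, f, g, w, hK, hS⟩ := Groth.Agent.H28.Bidual.exists_pres M
  let T := hS.singleTriangle
  have hT : T ∈ distTriang (Dual.D A) := hS.singleTriangle_distinguished
  have c2 : Cons T.mor₂ T.mor₃ := cons_rot T hT
  have c3 : Cons T.mor₁ T.mor₂ := cons_of_distTriang T hT
  have b2 : BC (B := B) (T.obj₁⟦(1 : ℤ)⟧) (Y⟦n⟧) := hsh K
  have b4 : BC (B := B) T.obj₂ (Y⟦n⟧) := hF k n
  have b5 : Function.Injective (theta (B := B) T.obj₁ (Y⟦n⟧)) := hinj K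
  exact theta_surjective_of_four (B := B) (O₂ := T.obj₁⟦(1 : ℤ)⟧)
    (O₃ := T.obj₃) (O₄ := T.obj₂) (O₅ := T.obj₁) T.mor₃ T.mor₂ T.mor₁ (Y⟦n⟧) c2 c3 b2.2 b4.2 b5

include hfree hY in
/-- base change for finite modules against all shifts of a bounded below `Y` -/
theorem BC_module (M : ModuleCat.{u} A) [Module.Finite A M] (n : ℤ) :
    BC (B := B) ((S0 A).obj M) (Y⟦n⟧) := by
  have key : ∀ (j : ℕ) (n : ℤ), n < a + j → ∀ (M : ModuleCat.{u} A) [Module.Finite A M],
      BC (B := B) ((S0 A).obj M) (Y⟦n⟧) := by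
    intro j
    induction j with
    | zero =>
      intro n hn M _
      exact BC_module_of_lt Y a M n (by simpa using hn)
    | succ j ih =>
      intro n hn
      exact BC_module_step Y hfree n (fun M _ => ih (n - 1) (by push_cast at hn; omega) M)
  exact key (n - a + 1).toNat n (by omega) M

end Modules

end First

section Main

variable [IsNoetherianRing A]

/-- **Flat base change for `Hom` in the derived category.**  For `A → B` flat, `A` Noetherian,
`X` bounded with finite cohomology modules and `Y` bounded, the comparison map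
`B ⊗_A Hom(X, Y) → Hom(LB X, LB Y)` is bijective. -/
theorem BC_of_bounded (X Y : Dual.D A) (a b c d : ℤ) (hXa : X.IsGE a) (hXb : X.IsLE b)
    (hX : ∀ q : ℤ, Module.Finite A ((DerivedCategory.homologyFunctor (ModuleCat.{u} A) q).obj X))
    (hYc : Y.IsGE c) (hYd : Y.IsLE d) (n : ℤ) : BC (B := B) X (Y⟦n⟧) := by
  have hfree := PY_self_of_bounded (B := B) Y c d hYc hYd
  have hfree' : PX (B := B) Y
      ((DerivedCategory.singleFunctor (ModuleCat.{u} A) 0).obj (ModuleCat.of A A)) := hfree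
  have main : PX (B := B) Y X := by
    refine Groth.Agent.H45.bounded_induction' (PX (B := B) Y)
      (Groth.Agent.H28.ExtFinite.FinMod (A := A)) ?_ ?_ ?_ ?_ X a b hXa hXb hX
    · intro Z hZ
      exact PX_zero Y hZ
    · intro T hT h₁ h₃
      exact PX_tri Y T hT h₁ h₃
    · intro M n₀ hM
      haveI : Module.Finite A M := hM
      have h0 : PX (B := B) Y ((DerivedCategory.singleFunctor (ModuleCat.{u} A) 0).obj M) :=
        fun n => BC_module Y c hfree' M n
      have h1 : PX (B := B) Y (((DerivedCategory.singleFunctor (ModuleCat.{u} A) 0).obj M)⟦-n₀⟧) :=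
        PX_shift Y h0 (-n₀)
      intro n
      exact (tr_iso_left (singleIso M n₀) (Y⟦n⟧)).bc (h1 n)
    · intro M hM
      haveI : Subsingleton M := ModuleCat.subsingleton_of_isZero hM
      exact (inferInstance : Module.Finite A M)
  exact main n

theorem BC_of_bounded' (X Y : Dual.D A) (a b c d : ℤ) (hXa : X.IsGE a) (hXb : X.IsLE b)
    (hX : ∀ q : ℤ, Module.Finite A ((DerivedCategory.homologyFunctor (ModuleCat.{u} A) q).obj X))
    (hYc : Y.IsGE c) (hYd : Y.IsLE d) : BC (B := B) X Y :=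
  (tr_iso_right X ((shiftFunctorZero (Dual.D A) ℤ).app Y)).bc
    (BC_of_bounded X Y a b c d hXa hXb hX hYc hYd 0)

end Main

end Groth.Agent.H26.FlatBCHom
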