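import Mathlib
import Groth.Prelude.Def_DDual2
import Groth.Agent.H26.FlatBCHom3
import Groth.Agent.H35.InjAmp
import Groth.Agent.H45.Derived.MapDerivedHomology
import Groth.Agent.H2.DualCx.Single

/-!
# Dualizing complexes and flat base change  (helper26)

* `lbcIso` : for flat `A → B`, `DRing.LBaseChange (algebraMap A B) ≅ LB A B`.
* `isDualizing_of_iso`, `isNormalized_of_iso`.
* `subsingleton_of_cyclic` : vanishing of `Hom(M[0], K[i])` for all modules from cyclic ones.
* `HD_LB_equiv` : `H^i(LB K) ≃ₗ[B] B ⊗_A H^i(K)`.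
* `isDualizing_LB_of_cyclic` : ascent criterion for `LB ω` to be dualizing.
* `isDualizing_of_LB` : faithfully flat descent.
-/

set_option autoImplicit false
set_option linter.unusedSectionVars false
set_option linter.style.haveILetI false
set_option linter.overlappingInstances false

universe u

open CategoryTheory Limits Pretriangulated DerivedCategory TensorProduct

namespace Groth.Agent.H26.FlatBCDual

open Groth.Agent.H26.FlatBCHom

attribute [local instance] HasDerivedCategory.standard
attribute [local instance] homModuleA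

section Iso

variable {R : Type u} [CommRing R]

theorem toEnd_bijective_of_iso {K K' : Dual.D R} (e : K ≅ K')
    (h : Function.Bijective (fun a : R => a • (𝟙 K))) :
    Function.Bijective (fun a : R => a • (𝟙 K')) := by
  have h1 : (fun a : R => a • (𝟙 K')) = (e.homCongr e) ∘ (fun a : R => a • (𝟙 K)) := by
    funext a
    simp [Iso.homCongr, Linear.smul_comp, Linear.comp_smul]
  rw [h1]
  exact (e.homCongr e).bijective.comp h

theorem isDualizing_of_iso {K K' : Dual.D R} (e : K ≅ K') (h : Dual.IsDualizing R K) :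
    Dual.IsDualizing R K' where
  isNoetherianRing := h.isNoetherianRing
  finite_injective_dimension := by
    obtain ⟨a, b, hab⟩ := h.finite_injective_dimension
    refine ⟨a, b, fun M _ _ i hi => ?_⟩
    exact subsingleton_hom_of_iso (Iso.refl _) ((shiftFunctor (Dual.D R) i).mapIso e) (hab M i hi)
  finite_cohomology := fun i => by
    haveI := h.finite_cohomology i
    exact Module.Finite.equiv
      ((DerivedCategory.homologyFunctor (ModuleCat.{u} R) i).mapIso e).toLinearEquiv
  toEnd_bijective := toEnd_bijective_of_iso e h.toEnd_bijective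
  ext_self_subsingleton := fun i hi =>
    subsingleton_hom_of_iso e ((shiftFunctor (Dual.D R) i).mapIso e) (h.ext_self_subsingleton i hi)

theorem isNormalized_of_iso [IsLocalRing R] {K K' : Dual.D R} (e : K ≅ K')
    (h : Dual.IsNormalized R K) : Dual.IsNormalized R K' := fun i hi =>
  subsingleton_hom_of_iso (Iso.refl _) ((shiftFunctor (Dual.D R) i).mapIso e) (h i hi)

/-- vanishing of `Hom(M[0], K[i])` for cyclic modules implies vanishing for all modules -/
theorem subsingleton_of_cyclic (K : Dual.D R) (a b : ℤ)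
    (h : ∀ (I : Ideal R) (i : ℤ), (i < a ∨ b < i) →
      Subsingleton ((DerivedCategory.singleFunctor (ModuleCat.{u} R) 0).obj
        (ModuleCat.of R (R ⧸ I)) ⟶ K⟦i⟧))
    (M : Type u) [AddCommGroup M] [Module R M] (i : ℤ) (hi : i < a ∨ b < i) :
    Subsingleton (Dual.inD R M ⟶ K⟦i⟧) := by
  obtain ⟨E, hE, hinj, ⟨e⟩⟩ := Groth.Agent.H35.hasInjAmplitudeIn_of_ext_vanishing K a b h
  have h1 := Groth.Agent.H35.subsingleton_hom_shift_of_injective_amplitude E a b hE hinj
    (ModuleCat.of R M) i hi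
  exact subsingleton_hom_of_iso (Iso.refl _) ((shiftFunctor (Dual.D R) i).mapIso e) h1

end Iso

variable {A B : Type u} [CommRing A] [CommRing B] [Algebra A B] [Module.Flat A B]

/-- for flat `A → B`, derived base change is induced by the exact functor `B ⊗_A -`
(same proof as `Groth.Agent.H9.RG.lbcIso`) -/
noncomputable def lbcIso [DRing.HasLBaseChange (algebraMap A B)] :
    DRing.LBaseChange (algebraMap A B) ≅ LB A B := by
  haveI : (LB A B).IsLeftDerivedFunctor
      (F0 A B).mapDerivedCategoryFactorsh.hom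
      (HomotopyCategory.quasiIso (ModuleCat.{u} A) (ComplexShape.up ℤ)) :=
    Functor.isLeftDerivedFunctor_of_inverts _ _ (F0 A B).mapDerivedCategoryFactorsh
  exact Functor.leftDerivedUnique _ _
    ((DRing.baseChangeKh (algebraMap A B)).totalLeftDerivedCounit DerivedCategory.Qh
      (HomotopyCategory.quasiIso (ModuleCat.{u} A) (ComplexShape.up ℤ)))
    (F0 A B).mapDerivedCategoryFactorsh.hom
    (HomotopyCategory.quasiIso (ModuleCat.{u} A) (ComplexShape.up ℤ))


section HD

/-- `H^i(LB K) ≃ₗ[B] B ⊗_A H^i(K)` -/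
noncomputable def HD_LB_equiv (K : Dual.D A) (i : ℤ) :
    Dual.HD B ((LB A B).obj K) i ≃ₗ[B] B ⊗[A] Dual.HD A K i :=
  (Groth.Agent.H45.homologyMapDerivedCategoryObjIso (F0 A B) K i).toLinearEquiv ≪≫ₗ
    Groth.Agent.H12.BC.bridge _

theorem finite_HD_LB (K : Dual.D A) (i : ℤ) (h : Module.Finite A (Dual.HD A K i)) :
    Module.Finite B (Dual.HD B ((LB A B).obj K) i) :=
  Module.Finite.equiv (HD_LB_equiv K i).symm

theorem subsingleton_HD_LB (K : Dual.D A) (i : ℤ) (h : Subsingleton (Dual.HD A K i)) :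
    Subsingleton (Dual.HD B ((LB A B).obj K) i) :=
  (HD_LB_equiv (B := B) K i).toEquiv.subsingleton

theorem finite_HD_of_LB [Module.FaithfullyFlat A B] (K : Dual.D A) (i : ℤ)
    (h : Module.Finite B (Dual.HD B ((LB A B).obj K) i)) : Module.Finite A (Dual.HD A K i) := by
  haveI : Module.Finite B (B ⊗[A] Dual.HD A K i) := Module.Finite.equiv (HD_LB_equiv K i)
  exact Module.Finite.of_finite_tensorProduct_of_faithfullyFlat B

theorem subsingleton_HD_of_LB [Module.FaithfullyFlat A B] (K : Dual.D A) (i : ℤ)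
    (h : Subsingleton (Dual.HD B ((LB A B).obj K) i)) : Subsingleton (Dual.HD A K i) := by
  haveI : Subsingleton (B ⊗[A] Dual.HD A K i) := (HD_LB_equiv (B := B) K i).symm.toEquiv.subsingleton
  exact (Module.FaithfullyFlat.subsingleton_tensorProduct_iff_right A B).mp inferInstance

end HD

section Bounds

variable {R : Type u} [CommRing R]

theorem isGE_of_vanishing (K : Dual.D R) (a : ℤ)
    (h : ∀ i : ℤ, i < a → Subsingleton (Dual.HD R K i)) : K.IsGE a := by
  rw [DerivedCategory.isGE_iff]
  intro i hi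
  haveI := h i hi
  exact ModuleCat.isZero_of_subsingleton _

theorem isLE_of_vanishing (K : Dual.D R) (b : ℤ)
    (h : ∀ i : ℤ, b < i → Subsingleton (Dual.HD R K i)) : K.IsLE b := by
  rw [DerivedCategory.isLE_iff]
  intro i hi
  haveI := h i hi
  exact ModuleCat.isZero_of_subsingleton _

theorem subsingleton_HD_of_fid (K : Dual.D R) (a b : ℤ)
    (hab : ∀ (M : Type u) [AddCommGroup M] [Module R M] (i : ℤ),
      (i < a ∨ b < i) → Subsingleton (Dual.inD R M ⟶ K⟦i⟧)) (i : ℤ) (hi : i < a ∨ b < i) :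
    Subsingleton (Dual.HD R K i) :=
  (Groth.Agent.H2.DualCx.subsingleton_T_self_iff K i).mp (hab R i hi)

end Bounds

section HomShift

theorem subsingleton_LB_hom_shift (X Y : Dual.D A) (i : ℤ) (hBC : BC (B := B) X (Y⟦i⟧))
    (h : Subsingleton (X ⟶ Y⟦i⟧)) :
    Subsingleton ((LB A B).obj X ⟶ ((LB A B).obj Y)⟦i⟧) := by
  have h1 : Subsingleton ((LB A B).obj X ⟶ (LB A B).obj (Y⟦i⟧)) := by
    refine ⟨fun f g => ?_⟩
    obtain ⟨x, rfl⟩ := hBC.2 f
    obtain ⟨y, rfl⟩ := hBC.2 g
    rw [Subsingleton.elim x y]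
  exact subsingleton_hom_of_iso (Iso.refl _) (((LB A B).commShiftIso i).app Y) h1

theorem subsingleton_hom_shift_of_LB [Module.FaithfullyFlat A B] (X Y : Dual.D A) (i : ℤ)
    (hBC : BC (B := B) X (Y⟦i⟧))
    (h : Subsingleton ((LB A B).obj X ⟶ ((LB A B).obj Y)⟦i⟧)) : Subsingleton (X ⟶ Y⟦i⟧) := by
  have h1 : Subsingleton ((LB A B).obj X ⟶ (LB A B).obj (Y⟦i⟧)) :=
    subsingleton_hom_of_iso (Iso.refl _) (((LB A B).commShiftIso i).app Y).symm h
  haveI : Subsingleton (B ⊗[A] (X ⟶ Y⟦i⟧)) := hBC.1.subsingleton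
  exact (Module.FaithfullyFlat.subsingleton_tensorProduct_iff_right A B).mp inferInstance

end HomShift


section End

/-- `a ↦ a • 𝟙 K` as a linear map -/
noncomputable def rho {R : Type u} [CommRing R] (K : Dual.D R) : R →ₗ[R] (K ⟶ K) :=
  LinearMap.toSpanSingleton R (K ⟶ K) (𝟙 K)

theorem rho_apply {R : Type u} [CommRing R] (K : Dual.D R) (a : R) : rho K a = a • 𝟙 K := rfl

theorem toEnd_LB_eq (K : Dual.D A) :
    (fun b : B => b • 𝟙 ((LB A B).obj K)) =
      (theta (B := B) K K) ∘ ((rho K).baseChange B) ∘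
        (TensorProduct.AlgebraTensorModule.rid A B B).symm := by
  funext b
  have h1 : (TensorProduct.AlgebraTensorModule.rid A B B).symm b = b ⊗ₜ[A] (1 : A) := rfl
  simp only [Function.comp_apply, h1, LinearMap.baseChange_tmul, theta_tmul, rho_apply, one_smul,
    CategoryTheory.Functor.map_id]

theorem toEnd_LB_bijective (K : Dual.D A) (hBC : BC (B := B) K K)
    (h : Function.Bijective (fun a : A => a • 𝟙 K)) :
    Function.Bijective (fun b : B => b • 𝟙 ((LB A B).obj K)) := by
  rw [toEnd_LB_eq]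
  exact hBC.comp ((baseChange_bijective (B := B) (rho K) h).comp
    (TensorProduct.AlgebraTensorModule.rid A B B).symm.bijective)

theorem toEnd_bijective_of_LB [Module.FaithfullyFlat A B] (K : Dual.D A) (hBC : BC (B := B) K K)
    (h : Function.Bijective (fun b : B => b • 𝟙 ((LB A B).obj K))) :
    Function.Bijective (fun a : A => a • 𝟙 K) := by
  rw [toEnd_LB_eq] at h
  have h1 : Function.Bijective ((theta (B := B) K K) ∘ ((rho K).baseChange B)) := by
    have := h.comp (TensorProduct.AlgebraTensorModule.rid A B B).bijective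
    have h2 : (((theta (B := B) K K) ∘ ((rho K).baseChange B) ∘
        (TensorProduct.AlgebraTensorModule.rid A B B).symm) ∘
        (TensorProduct.AlgebraTensorModule.rid A B B)) =
        (theta (B := B) K K) ∘ ((rho K).baseChange B) := by
      funext x
      simp
    rwa [h2] at this
  have h3 : Function.Bijective ((rho K).baseChange B) := by
    refine ⟨?_, ?_⟩
    · exact h1.1.of_comp
    · intro y
      obtain ⟨x, hx⟩ := h1.2 (theta (B := B) K K y)
      exact ⟨x, hBC.1 hx⟩
  have h4 : Function.Bijective ((rho K).lTensor B) := by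
    have : ((rho K).baseChange B : B ⊗[A] A → B ⊗[A] (K ⟶ K)) = (rho K).lTensor B := rfl
    rwa [this] at h3
  exact (Module.FaithfullyFlat.lTensor_bijective_iff_bijective A B (rho K)).mp h4

end End


section Main

variable [IsNoetherianRing A]

/-- base change for `Hom(M[0], Y[n])`, `M` a finite module, `Y` bounded -/
theorem BC_single_of_bounded (M : ModuleCat.{u} A) [Module.Finite A M] (Y : Dual.D A) (c d : ℤ)
    (hYc : Y.IsGE c) (hYd : Y.IsLE d) (n : ℤ) : BC (B := B) ((S0 A).obj M) (Y⟦n⟧) :=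
  BC_module Y c (PY_self_of_bounded (B := B) Y c d hYc hYd) M n

/-- a dualizing complex is bounded, with explicit bounds -/
theorem exists_bounds {R : Type u} [CommRing R] (ω : Dual.D R) (hω : Dual.IsDualizing R ω) :
    ∃ a b : ℤ, ω.IsGE a ∧ ω.IsLE b ∧
      ∀ (M : Type u) [AddCommGroup M] [Module R M] (i : ℤ),
        (i < a ∨ b < i) → Subsingleton (Dual.inD R M ⟶ ω⟦i⟧) := by
  obtain ⟨a, b, hab⟩ := hω.finite_injective_dimension
  refine ⟨a, b, ?_, ?_, hab⟩
  · exact isGE_of_vanishing ω a (fun i hi => subsingleton_HD_of_fid ω a b hab i (Or.inl hi))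
  · exact isLE_of_vanishing ω b (fun i hi => subsingleton_HD_of_fid ω a b hab i (Or.inr hi))

/-- **Faithfully flat descent of dualizing complexes** (for `LB`). -/
theorem isDualizing_of_LB [Module.FaithfullyFlat A B] (K : Dual.D A)
    (hK : Dual.IsDualizing B ((LB A B).obj K)) : Dual.IsDualizing A K := by
  obtain ⟨a, b, hab⟩ := hK.finite_injective_dimension
  have hvan : ∀ i : ℤ, (i < a ∨ b < i) → Subsingleton (Dual.HD A K i) := fun i hi =>
    subsingleton_HD_of_LB (B := B) K i (subsingleton_HD_of_fid _ a b hab i hi)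
  have hGE : K.IsGE a := isGE_of_vanishing K a (fun i hi => hvan i (Or.inl hi))
  have hLE : K.IsLE b := isLE_of_vanishing K b (fun i hi => hvan i (Or.inr hi))
  have hfin : ∀ i : ℤ, Module.Finite A (Dual.HD A K i) := fun i =>
    finite_HD_of_LB (B := B) K i (hK.finite_cohomology i)
  have hBC : ∀ i : ℤ, BC (B := B) K (K⟦i⟧) := fun i =>
    BC_of_bounded K K a b a b hGE hLE hfin hGE hLE i
  have hBC0 : BC (B := B) K K := BC_of_bounded' K K a b a b hGE hLE hfin hGE hLE
  refine ⟨inferInstance, ⟨a, b, ?_⟩, hfin, ?_, ?_⟩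
  · refine fun M _ _ i hi => subsingleton_of_cyclic K a b ?_ M i hi
    intro I i hi
    have h1 : BC (B := B) ((S0 A).obj (ModuleCat.of A (A ⧸ I))) (K⟦i⟧) :=
      BC_single_of_bounded (ModuleCat.of A (A ⧸ I)) K a b hGE hLE i
    refine subsingleton_hom_shift_of_LB (B := B) _ K i h1 ?_
    exact subsingleton_hom_of_iso (eps (ModuleCat.of A (A ⧸ I))).symm (Iso.refl _)
      (hab ((F0 A B).obj (ModuleCat.of A (A ⧸ I))) i hi)
  · exact toEnd_bijective_of_LB (B := B) K hBC0 hK.toEnd_bijective
  · intro i hi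
    exact subsingleton_hom_shift_of_LB (B := B) K K i (hBC i) (hK.ext_self_subsingleton i hi)

/-- **Ascent criterion**: `LB ω` is dualizing as soon as `Hom((B/J)[0], LB ω [i])` vanishes
outside a bounded range for all ideals `J` of `B`. -/
theorem isDualizing_LB_of_cyclic [IsNoetherianRing B] (ω : Dual.D A) (hω : Dual.IsDualizing A ω)
    (a b : ℤ) (h : ∀ (J : Ideal B) (i : ℤ), (i < a ∨ b < i) →
      Subsingleton ((S0 B).obj (ModuleCat.of B (B ⧸ J)) ⟶ ((LB A B).obj ω)⟦i⟧)) :
    Dual.IsDualizing B ((LB A B).obj ω) := by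
  obtain ⟨a', b', hGE, hLE, -⟩ := exists_bounds ω hω
  have hfin := hω.finite_cohomology
  have hBC : ∀ i : ℤ, BC (B := B) ω (ω⟦i⟧) := fun i =>
    BC_of_bounded ω ω a' b' a' b' hGE hLE hfin hGE hLE i
  have hBC0 : BC (B := B) ω ω := BC_of_bounded' ω ω a' b' a' b' hGE hLE hfin hGE hLE
  refine ⟨inferInstance, ⟨a, b, ?_⟩, ?_, ?_, ?_⟩
  · exact fun M _ _ i hi => subsingleton_of_cyclic _ a b h M i hi
  · exact fun i => finite_HD_LB ω i (hfin i)
  · exact toEnd_LB_bijective (B := B) ω hBC0 hω.toEnd_bijective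
  · intro i hi
    exact subsingleton_LB_hom_shift (B := B) ω ω i (hBC i) (hω.ext_self_subsingleton i hi)

/-- **Ascent when cyclic modules are extended**: if every cyclic `B`-module is `B ⊗_A M` for a
finite `A`-module `M` (e.g. for localizations), `LB ω` is dualizing. -/
theorem isDualizing_LB_of_extended [IsNoetherianRing B] (ω : Dual.D A)
    (hω : Dual.IsDualizing A ω)
    (hJ : ∀ J : Ideal B, ∃ (M : ModuleCat.{u} A) (_ : Module.Finite A M),
      Nonempty ((F0 A B).obj M ≅ ModuleCat.of B (B ⧸ J))) :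
    Dual.IsDualizing B ((LB A B).obj ω) := by
  obtain ⟨a, b, hGE, hLE, hab⟩ := exists_bounds ω hω
  refine isDualizing_LB_of_cyclic ω hω a b ?_
  intro J i hi
  obtain ⟨M, hM, ⟨e⟩⟩ := hJ J
  have h1 : BC (B := B) ((S0 A).obj M) (ω⟦i⟧) := BC_single_of_bounded M ω a b hGE hLE i
  have h2 := subsingleton_LB_hom_shift (B := B) ((S0 A).obj M) ω i h1 (hab M i hi)
  exact subsingleton_hom_of_iso (eps M ≪≫ (S0 B).mapIso e) (Iso.refl _) h2

end Main

end Groth.Agent.H26.FlatBCDual
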