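import Mathlib
import Groth.Prelude.Def_DDual2
import Groth.Agent.H26.FlatBCDual

/-!
# Dualizing complexes and flat base change, part 2: localization  (helper26)
-/

set_option autoImplicit false
set_option linter.unusedSectionVars false
set_option linter.style.haveILetI false
set_option linter.overlappingInstances false

universe u

open CategoryTheory Limits Pretriangulated DerivedCategory TensorProduct

namespace Groth.Agent.H26.FlatBCDual

open Groth.Agent.H26.FlatBCHom

attribute [local instance] HasDerivedCategory.standard
attribute [local instance] homModuleA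

variable {A B : Type u} [CommRing A] [CommRing B] [Algebra A B] [Module.Flat A B]

/-- `B ⊗_A (A/I) ≅ B/IB` in `ModuleCat B` -/
noncomputable def F0QuotIso (I : Ideal A) :
    (F0 A B).obj (ModuleCat.of A (A ⧸ I)) ≅ ModuleCat.of B (B ⧸ I.map (algebraMap A B)) :=
  (Groth.Agent.H12.BC.bridge (B := B) (ModuleCat.of A (A ⧸ I)) ≪≫ₗ
    (Algebra.TensorProduct.quotIdealMapEquivTensorQuot B I).toLinearEquiv.symm).toModuleIso

/-- a cyclic module `B/J` with `J` extended from `A` is extended from a finite `A`-module -/
theorem extended_of_map_comap [IsNoetherianRing A] (J : Ideal B)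
    (hJ : (J.comap (algebraMap A B)).map (algebraMap A B) = J) :
    ∃ (M : ModuleCat.{u} A) (_ : Module.Finite A M),
      Nonempty ((F0 A B).obj M ≅ ModuleCat.of B (B ⧸ J)) := by
  refine ⟨ModuleCat.of A (A ⧸ J.comap (algebraMap A B)),
    (inferInstance : Module.Finite A (A ⧸ J.comap (algebraMap A B))), ⟨?_⟩⟩
  exact F0QuotIso (B := B) (J.comap (algebraMap A B)) ≪≫
    (Submodule.quotEquivOfEq _ _ hJ).toModuleIso

/-- **Localization of a dualizing complex is dualizing** (for `LB`). -/
theorem isDualizing_LB_localization [IsNoetherianRing A] (S : Submonoid A) [IsLocalization S B]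
    [IsNoetherianRing B] (ω : Dual.D A) (hω : Dual.IsDualizing A ω) :
    Dual.IsDualizing B ((LB A B).obj ω) :=
  isDualizing_LB_of_extended ω hω
    (fun J => extended_of_map_comap J (IsLocalization.map_under S B J))

end Groth.Agent.H26.FlatBCDual
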