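import Mathlib
import Groth.Prelude.Def_DDual2
import Groth.Agent.H26.FlatBCDual2
import Groth.Agent.H2.DualCx.Vanish

/-!
# Dualizing complexes and flat base change, part 3: ascent via maximal ideals  (helper26)

`isDualizing_LB_of_maximal`: `A → B` flat, both Noetherian, `ω` dualizing over `A`.  If for every
maximal ideal `n` of `B` the residue field `B/n` is `B ⊗_A M` for a finite `A`-module `M`
(e.g. `n = mB` for a maximal ideal `m` of `A`), then `ω ⊗_A B` is dualizing over `B`.
-/

set_option autoImplicit false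
set_option linter.unusedSectionVars false
set_option linter.style.haveILetI false
set_option linter.overlappingInstances false

universe u

open CategoryTheory Limits Pretriangulated DerivedCategory TensorProduct

namespace Groth.Agent.H26.FlatBCDual

open Groth.Agent.H26.FlatBCHom

attribute [local instance] HasDerivedCategory.standard
attribute [local instance] homModuleA

theorem subsingleton_of_forall_maximal_tensor {R : Type u} [CommRing R] (H : Type*)
    [AddCommGroup H] [Module R H]
    (h : ∀ (n : Ideal R) [n.IsMaximal], Subsingleton (Localization.AtPrime n ⊗[R] H)) :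
    Subsingleton H :=
  Module.subsingleton_of_localization_maximal
    (fun P _ => Localization.AtPrime P ⊗[R] H)
    (fun P _ => TensorProduct.mk R (Localization.AtPrime P) H 1) h

section Bounded

variable {A B : Type u} [CommRing A] [CommRing B] [Algebra A B] [Module.Flat A B]

theorem isGE_LB (K : Dual.D A) (a : ℤ) (h : K.IsGE a) : ((LB A B).obj K).IsGE a :=
  Groth.Agent.H45.isGE_mapDerivedCategory_obj (F0 A B) K a h

theorem isLE_LB (K : Dual.D A) (b : ℤ) (h : K.IsLE b) : ((LB A B).obj K).IsLE b :=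
  Groth.Agent.H45.isLE_mapDerivedCategory_obj (F0 A B) K b h

theorem subsingleton_T_of_isGE {R : Type u} [CommRing R] (K : Dual.D R) (a : ℤ) (h : K.IsGE a)
    (M : Type u) [AddCommGroup M] [Module R M] (i : ℤ) (hi : i < a) :
    Subsingleton (Dual.inD R M ⟶ K⟦i⟧) := by
  haveI : (K⟦i⟧).IsGE (a - i) := Groth.Agent.H28.ExtFinite.isGE_shift' K a i
  exact Groth.Agent.H28.ExtFinite.subsingleton_hom_of_isLE_of_isGE _ _ 0 (a - i) (by omega)

end Bounded


section Maximal

variable {A B : Type u} [CommRing A] [CommRing B] [Algebra A B] [Module.Flat A B]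
  [IsNoetherianRing A] [IsNoetherianRing B]

/-- two-step flat base change of vanishing: `Hom(M[0], ω[j]) = 0` implies
`Hom(LB' (LB (M[0])), (LB' (LB ω))[j]) = 0` -/
theorem subsingleton_LB_LB (C : Type u) [CommRing C] [Algebra B C] [Module.Flat B C]
    (ω : Dual.D A) (a b : ℤ) (hGE : ω.IsGE a) (hLE : ω.IsLE b)
    (M : ModuleCat.{u} A) [Module.Finite A M] (j : ℤ)
    (h : Subsingleton ((S0 A).obj M ⟶ ω⟦j⟧)) :
    Subsingleton ((LB B C).obj ((LB A B).obj ((S0 A).obj M)) ⟶
      ((LB B C).obj ((LB A B).obj ω))⟦j⟧) := by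
  have h1 : BC (B := B) ((S0 A).obj M) (ω⟦j⟧) := BC_single_of_bounded M ω a b hGE hLE j
  have h2 := subsingleton_LB_hom_shift (B := B) ((S0 A).obj M) ω j h1 h
  haveI : Module.Finite B ((F0 A B).obj M) :=
    Groth.Agent.H35.LT.finite_extendScalars (algebraMap A B) M
  have h3 : BC (B := C) ((S0 B).obj ((F0 A B).obj M)) (((LB A B).obj ω)⟦j⟧) :=
    BC_single_of_bounded ((F0 A B).obj M) ((LB A B).obj ω) a b (isGE_LB ω a hGE)
      (isLE_LB ω b hLE) j
  have h4 : BC (B := C) ((LB A B).obj ((S0 A).obj M)) (((LB A B).obj ω)⟦j⟧) :=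
    (tr_iso_left (eps M).symm _).bc h3
  exact subsingleton_LB_hom_shift (B := C) _ _ j h4 h2


/-- the residue field of `B_n` is extended from `B/n` -/
noncomputable def residueIso (n : Ideal B) [n.IsMaximal] :
    (F0 B (Localization.AtPrime n)).obj (ModuleCat.of B (B ⧸ n)) ≅
      ModuleCat.of (Localization.AtPrime n)
        (Localization.AtPrime n ⧸ IsLocalRing.maximalIdeal (Localization.AtPrime n)) :=
  F0QuotIso (B := Localization.AtPrime n) n ≪≫
    (Submodule.quotEquivOfEq _ _ (Localization.AtPrime.map_eq_maximalIdeal)).toModuleIso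

/-- upper vanishing of `T^i` over the local ring `B_n`, `n` maximal, for the two-step base
change of `ω` -/
theorem subsingleton_T_localization (ω : Dual.D A) (a b : ℤ) (hGE : ω.IsGE a) (hLE : ω.IsLE b)
    (hfin : ∀ i : ℤ, Module.Finite A (Dual.HD A ω i))
    (hab : ∀ (M : Type u) [AddCommGroup M] [Module A M] (i : ℤ), b < i →
      Subsingleton (Dual.inD A M ⟶ ω⟦i⟧))
    (n : Ideal B) [n.IsMaximal] (M : ModuleCat.{u} A) [Module.Finite A M]
    (e : (F0 A B).obj M ≅ ModuleCat.of B (B ⧸ n))
    (N : Type u) [AddCommGroup N] [Module (Localization.AtPrime n) N]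
    [Module.Finite (Localization.AtPrime n) N] (i : ℤ) (hi : b < i) :
    Subsingleton (Dual.inD (Localization.AtPrime n) N ⟶
      ((LB B (Localization.AtPrime n)).obj ((LB A B).obj ω))⟦i⟧) := by
  haveI : IsNoetherianRing (Localization.AtPrime n) :=
    IsLocalization.isNoetherianRing n.primeCompl _ inferInstance
  set W' := (LB B (Localization.AtPrime n)).obj ((LB A B).obj ω) with hW'
  have hGE' : W'.IsGE a := isGE_LB _ a (isGE_LB ω a hGE)
  have hfin' : ∀ i : ℤ, Module.Finite (Localization.AtPrime n)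
      (Dual.HD (Localization.AtPrime n) W' i) := fun i =>
    finite_HD_LB _ i (finite_HD_LB ω i (hfin i))
  have hfinT : Groth.Agent.H2.DualCx.FinT W' := fun j M _ _ _ =>
    Groth.Agent.H2.DualCx.finite_T W' a
      (fun M _ _ i hi => subsingleton_T_of_isGE W' a hGE' M i hi) hfin' j M
  refine Groth.Agent.H2.DualCx.up_all hfinT (b + 1) ?_ N i (by omega)
  intro j hj
  have h1 := subsingleton_LB_LB (B := B) (Localization.AtPrime n) ω a b hGE hLE M j
    (hab M j (by omega))
  refine subsingleton_hom_of_iso ?_ (Iso.refl _) h1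
  exact (LB B (Localization.AtPrime n)).mapIso (eps M) ≪≫ eps _ ≪≫
    (S0 (Localization.AtPrime n)).mapIso
      ((F0 B (Localization.AtPrime n)).mapIso e ≪≫ residueIso n)

/-- **Ascent via maximal ideals.** -/
theorem isDualizing_LB_of_maximal (ω : Dual.D A) (hω : Dual.IsDualizing A ω)
    (hmax : ∀ n : Ideal B, n.IsMaximal → ∃ (M : ModuleCat.{u} A) (_ : Module.Finite A M),
      Nonempty ((F0 A B).obj M ≅ ModuleCat.of B (B ⧸ n))) :
    Dual.IsDualizing B ((LB A B).obj ω) := by
  obtain ⟨a, b, hGE, hLE, hab⟩ := exists_bounds ω hω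
  refine isDualizing_LB_of_cyclic ω hω a b ?_
  intro J i hi
  rcases hi with hi | hi
  · exact subsingleton_T_of_isGE _ a (isGE_LB ω a hGE) (B ⧸ J) i hi
  · refine subsingleton_of_forall_maximal_tensor (R := B) _ ?_
    intro n hn
    obtain ⟨M, hM, ⟨e⟩⟩ := hmax n hn
    have h1 : BC (B := Localization.AtPrime n) ((S0 B).obj (ModuleCat.of B (B ⧸ J)))
        (((LB A B).obj ω)⟦i⟧) :=
      BC_single_of_bounded (ModuleCat.of B (B ⧸ J)) ((LB A B).obj ω) a b (isGE_LB ω a hGE)
        (isLE_LB ω b hLE) i
    haveI : Module.Finite (Localization.AtPrime n)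
        ((F0 B (Localization.AtPrime n)).obj (ModuleCat.of B (B ⧸ J))) :=
      Groth.Agent.H35.LT.finite_extendScalars (algebraMap B (Localization.AtPrime n)) _
    have h2 := subsingleton_T_localization ω a b hGE hLE hω.finite_cohomology
      (fun M _ _ i hi => hab M i (Or.inr hi)) n M e
      ((F0 B (Localization.AtPrime n)).obj (ModuleCat.of B (B ⧸ J))) i hi
    have h3 : Subsingleton ((LB B (Localization.AtPrime n)).obj
        ((S0 B).obj (ModuleCat.of B (B ⧸ J))) ⟶
        (LB B (Localization.AtPrime n)).obj (((LB A B).obj ω)⟦i⟧)) :=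
      subsingleton_hom_of_iso (eps _).symm
        (((LB B (Localization.AtPrime n)).commShiftIso i).app _).symm h2
    exact h1.1.subsingleton

end Maximal


section Local

variable {A B : Type u} [CommRing A] [CommRing B] [Algebra A B] [Module.Flat A B]
  [IsNoetherianRing A] [IsNoetherianRing B] [IsLocalRing A] [IsLocalRing B]

/-- `B ⊗_A κ_A ≅ κ_B` when `m_A B = m_B` -/
noncomputable def F0ResidueIso
    (hm : (IsLocalRing.maximalIdeal A).map (algebraMap A B) = IsLocalRing.maximalIdeal B) :
    (F0 A B).obj (ModuleCat.of A (IsLocalRing.ResidueField A)) ≅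
      ModuleCat.of B (IsLocalRing.ResidueField B) :=
  (F0 A B).mapIso
      (LinearEquiv.refl A _ : IsLocalRing.ResidueField A ≃ₗ[A]
        (A ⧸ IsLocalRing.maximalIdeal A)).toModuleIso ≪≫
    F0QuotIso (B := B) (IsLocalRing.maximalIdeal A) ≪≫
    (Submodule.quotEquivOfEq _ _ hm).toModuleIso ≪≫
    (LinearEquiv.refl B _ : (B ⧸ IsLocalRing.maximalIdeal B) ≃ₗ[B]
      IsLocalRing.ResidueField B).toModuleIso

/-- **Flat local maps with `m_A B = m_B`**: the base change of a dualizing complex is
dualizing. -/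
theorem isDualizing_LB_of_map_maximalIdeal
    (hm : (IsLocalRing.maximalIdeal A).map (algebraMap A B) = IsLocalRing.maximalIdeal B)
    (ω : Dual.D A) (hω : Dual.IsDualizing A ω) : Dual.IsDualizing B ((LB A B).obj ω) := by
  refine isDualizing_LB_of_maximal ω hω ?_
  intro n hn
  obtain rfl := IsLocalRing.eq_maximalIdeal hn
  refine ⟨ModuleCat.of A (A ⧸ IsLocalRing.maximalIdeal A),
    (inferInstance : Module.Finite A (A ⧸ IsLocalRing.maximalIdeal A)), ⟨?_⟩⟩
  exact F0QuotIso (B := B) (IsLocalRing.maximalIdeal A) ≪≫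
    (Submodule.quotEquivOfEq _ _ hm).toModuleIso

/-- ... and the base change of a normalized one is normalized. -/
theorem isNormalized_LB_of_map_maximalIdeal
    (hm : (IsLocalRing.maximalIdeal A).map (algebraMap A B) = IsLocalRing.maximalIdeal B)
    (ω : Dual.D A) (hω : Dual.IsDualizing A ω) (hn : Dual.IsNormalized A ω) :
    Dual.IsNormalized B ((LB A B).obj ω) := by
  obtain ⟨a, b, hGE, hLE, -⟩ := exists_bounds ω hω
  intro i hi
  have h1 : BC (B := B) ((S0 A).obj (ModuleCat.of A (IsLocalRing.ResidueField A))) (ω⟦i⟧) :=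
    BC_single_of_bounded (ModuleCat.of A (IsLocalRing.ResidueField A)) ω a b hGE hLE i
  have h2 := subsingleton_LB_hom_shift (B := B) _ ω i h1 (hn i hi)
  exact subsingleton_hom_of_iso (eps _ ≪≫ (S0 B).mapIso (F0ResidueIso hm)) (Iso.refl _) h2

end Local

end Groth.Agent.H26.FlatBCDual
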