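import Mathlib
import Groth.Prelude.Def_DDual2
import Groth.Agent.H26.FlatBCDual3

/-!
# Dualizing complexes and flat base change, part 6: transitivity and a refined ascent criterion
(helper26)
-/

set_option autoImplicit false
set_option linter.unusedSectionVars false
set_option linter.style.haveILetI false
set_option linter.overlappingInstances false

universe u

open CategoryTheory Limits Pretriangulated DerivedCategory TensorProduct

namespace Groth.Agent.H26.FlatBCDual

open Groth.Agent.H26.FlatBCHom

attribute [local instance] HasDerivedCategory.standard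
attribute [local instance] homModuleA

section Comp

variable (A B C : Type u) [CommRing A] [CommRing B] [CommRing C] [Algebra A B] [Algebra B C]
  [Algebra A C] [IsScalarTower A B C] [Module.Flat A B] [Module.Flat B C] [Module.Flat A C]

/-- `C ⊗_A - ≅ C ⊗_B (B ⊗_A -)` -/
noncomputable def F0comp : F0 A C ≅ F0 A B ⋙ F0 B C :=
  eqToIso (congrArg (fun f => ModuleCat.extendScalars.{u, u, u} f)
    (IsScalarTower.algebraMap_eq A B C)) ≪≫
    ModuleCat.extendScalarsComp (algebraMap A B) (algebraMap B C)

/-- termwise version on complexes -/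
noncomputable def F0compCx (E : CochainComplex (ModuleCat.{u} A) ℤ) :
    ((F0 B C).mapHomologicalComplex (ComplexShape.up ℤ)).obj
      (((F0 A B).mapHomologicalComplex (ComplexShape.up ℤ)).obj E) ≅
    ((F0 A C).mapHomologicalComplex (ComplexShape.up ℤ)).obj E :=
  HomologicalComplex.Hom.isoOfComponents (fun i => ((F0comp A B C).app (E.X i)).symm)
    (fun i j _ => by
      have := (F0comp A B C).inv.naturality (E.d i j)
      exact this.symm)

variable {A}

/-- transitivity of flat base change, objectwise -/
noncomputable def LBcomp (K : Dual.D A) :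
    (LB B C).obj ((LB A B).obj K) ≅ (LB A C).obj K :=
  let E := Q.objPreimage K
  let e : Q.obj E ≅ K := Q.objObjPreimageIso K
  (LB B C).mapIso ((LB A B).mapIso e.symm) ≪≫
    (LB B C).mapIso ((F0 A B).mapDerivedCategoryFactors.app E) ≪≫
    (F0 B C).mapDerivedCategoryFactors.app _ ≪≫
    Q.mapIso (F0compCx A B C E) ≪≫
    ((F0 A C).mapDerivedCategoryFactors.app E).symm ≪≫ (LB A C).mapIso e

end Comp


section Residue

variable {A B : Type u} [CommRing A] [CommRing B] [Algebra A B] [Module.Flat A B]
  [IsNoetherianRing A] [IsNoetherianRing B]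

/-- upper vanishing over `B_n` from vanishing on the residue field -/
theorem subsingleton_T_localization' (ω : Dual.D A) (a : ℤ) (hGE : ω.IsGE a)
    (hfin : ∀ i : ℤ, Module.Finite A (Dual.HD A ω i))
    (n : Ideal B) [n.IsMaximal] (j₀ : ℤ)
    (hκ : ∀ j : ℤ, j₀ ≤ j → Subsingleton (Dual.inD (Localization.AtPrime n)
      (Localization.AtPrime n ⧸ IsLocalRing.maximalIdeal (Localization.AtPrime n)) ⟶
      ((LB B (Localization.AtPrime n)).obj ((LB A B).obj ω))⟦j⟧))
    (N : Type u) [AddCommGroup N] [Module (Localization.AtPrime n) N]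
    [Module.Finite (Localization.AtPrime n) N] (i : ℤ) (hi : j₀ ≤ i) :
    Subsingleton (Dual.inD (Localization.AtPrime n) N ⟶
      ((LB B (Localization.AtPrime n)).obj ((LB A B).obj ω))⟦i⟧) := by
  haveI : IsNoetherianRing (Localization.AtPrime n) :=
    IsLocalization.isNoetherianRing n.primeCompl _ inferInstance
  set W' := (LB B (Localization.AtPrime n)).obj ((LB A B).obj ω) with hW'
  have hGE' : W'.IsGE a := isGE_LB _ a (isGE_LB ω a hGE)
  have hfin' : ∀ i : ℤ, Module.Finite (Localization.AtPrime n)
      (Dual.HD (Localization.AtPrime n) W' i) := fun i =>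
    finite_HD_LB _ i (finite_HD_LB ω i (hfin i))
  have hfinT : Groth.Agent.H2.DualCx.FinT W' := fun j M _ _ _ =>
    Groth.Agent.H2.DualCx.finite_T W' a
      (fun M _ _ i hi => subsingleton_T_of_isGE W' a hGE' M i hi) hfin' j M
  exact Groth.Agent.H2.DualCx.up_all hfinT j₀ hκ N i hi

/-- **Ascent via residue fields of maximal ideals**: `LB ω` is dualizing as soon as
`Hom(κ(n)[0], (ω ⊗ B_n)[j])` vanishes for `j > b'`, uniformly in the maximal ideal `n`. -/
theorem isDualizing_LB_of_residue (ω : Dual.D A) (hω : Dual.IsDualizing A ω) (b' : ℤ)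
    (hκ : ∀ (n : Ideal B) [n.IsMaximal] (j : ℤ), b' < j →
      Subsingleton (Dual.inD (Localization.AtPrime n)
        (Localization.AtPrime n ⧸ IsLocalRing.maximalIdeal (Localization.AtPrime n)) ⟶
        ((LB B (Localization.AtPrime n)).obj ((LB A B).obj ω))⟦j⟧)) :
    Dual.IsDualizing B ((LB A B).obj ω) := by
  obtain ⟨a, b, hGE, hLE, -⟩ := exists_bounds ω hω
  refine isDualizing_LB_of_cyclic ω hω a b' ?_
  intro J i hi
  rcases hi with hi | hi
  · exact subsingleton_T_of_isGE _ a (isGE_LB ω a hGE) (B ⧸ J) i hi
  · refine subsingleton_of_forall_maximal_tensor (R := B) _ ?_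
    intro n hn
    have h1 : BC (B := Localization.AtPrime n) ((S0 B).obj (ModuleCat.of B (B ⧸ J)))
        (((LB A B).obj ω)⟦i⟧) :=
      BC_single_of_bounded (ModuleCat.of B (B ⧸ J)) ((LB A B).obj ω) a b (isGE_LB ω a hGE)
        (isLE_LB ω b hLE) i
    haveI : Module.Finite (Localization.AtPrime n)
        ((F0 B (Localization.AtPrime n)).obj (ModuleCat.of B (B ⧸ J))) :=
      Groth.Agent.H35.LT.finite_extendScalars (algebraMap B (Localization.AtPrime n)) _
    have h2 := subsingleton_T_localization' ω a hGE hω.finite_cohomology n (b' + 1)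
      (fun j hj => hκ n j (by omega))
      ((F0 B (Localization.AtPrime n)).obj (ModuleCat.of B (B ⧸ J))) i (by omega)
    have h3 : Subsingleton ((LB B (Localization.AtPrime n)).obj
        ((S0 B).obj (ModuleCat.of B (B ⧸ J))) ⟶
        (LB B (Localization.AtPrime n)).obj (((LB A B).obj ω)⟦i⟧)) :=
      subsingleton_hom_of_iso (eps _).symm
        (((LB B (Localization.AtPrime n)).commShiftIso i).app _).symm h2
    exact h1.1.subsingleton

end Residue

end Groth.Agent.H26.FlatBCDual
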