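import Mathlib
import Groth.Prelude.Def_DDual2
import Groth.Agent.H26.FlatBCDual6
import Groth.Agent.H2.DualCx.AdjTransfer
import Groth.Agent.H28.DualFinLen2

/-!
# Dualizing complexes and flat base change, part 7: a quotient with finite injective dimension
(helper26)

`subsingleton_T_of_quotient`: `C → F` surjective, `W ∈ D(C)` with `Hom(F[0], W[j]) = 0` for
`j ≠ s` and `≃ F` for `j = s`, `F` of injective dimension `≤ N` over itself.  Then
`Hom(M[0], W[j]) = 0` for every `F`-module `M` and `j > s + N`.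
-/

set_option autoImplicit false
set_option linter.unusedSectionVars false
set_option linter.style.haveILetI false
set_option linter.overlappingInstances false

universe u

open CategoryTheory Limits Pretriangulated DerivedCategory TensorProduct

namespace Groth.Agent.H26.FlatBCDual

open Groth.Agent.H26.FlatBCHom

attribute [local instance] HasDerivedCategory.standard

section HomSelf

variable {B : Type u} [CommRing B]

/-- `Hom(B[0], X[i]) ≃ₗ[B] H^i(X)` -/
noncomputable def homSelfEquivHD (X : Dual.D B) (i : ℤ) :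
    (Dual.inD B B ⟶ X⟦i⟧) ≃ₗ[B] Dual.HD B X i :=
  let E := Q.objPreimage X
  let e : Q.obj E ≅ X := Q.objObjPreimageIso X
  let i1 : (DerivedCategory.homologyFunctor (ModuleCat.{u} B) i).obj X ≅ E.homology i :=
    (DerivedCategory.homologyFunctor (ModuleCat.{u} B) i).mapIso e.symm ≪≫
      (DerivedCategory.homologyFunctorFactors (ModuleCat.{u} B) i).app E
  let e0 : (Dual.inD B B ⟶ X⟦i⟧) ≃ₗ[B] (Dual.inD B B ⟶ (DRing.toD E)⟦i⟧) :=
    Linear.homCongr B (Iso.refl _) ((shiftFunctor (Dual.D B) i).mapIso e.symm)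
  let e1 : (ModuleCat.of B B ⟶ E.homology i) ≃ₗ[B] (B →ₗ[B] E.homology i) :=
    ModuleCat.homLinearEquiv (S := B)
  let e2 : (B →ₗ[B] E.homology i) ≃ₗ[B] E.homology i := LinearMap.ringLmapEquivSelf B B _
  let e3 : (Dual.inD B B ⟶ (DRing.toD E)⟦i⟧) ≃ₗ[B] (ModuleCat.of B B ⟶ E.homology i) :=
    LinearEquiv.ofBijective (Groth.Agent.H28.ExtFinite.relMap E i)
      ⟨Groth.Agent.H28.ExtFinite.relMap_injective E i,
        Groth.Agent.H28.RestrAdj.relMap_surjective E i⟩
  e0 ≪≫ₗ e3 ≪≫ₗ e1 ≪≫ₗ e2 ≪≫ₗ i1.toLinearEquiv.symm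

end HomSelf


section Quotient

variable {C F : Type u} [CommRing C] [CommRing F] [Algebra C F]

/-- adjunction transfer: `Hom_{D(F)}(M[0], (R W)[j]) ≃ Hom_{D(C)}(M[0], W[j])` -/
noncomputable def adjT (W : Dual.D C) (M : Type u) [AddCommGroup M] [Module C M] [Module F M]
    [IsScalarTower C F M] (j : ℤ) :
    (Dual.inD F M ⟶ ((Groth.Agent.H28.CoextModel.RRc (A := C) (B := F)).obj W)⟦j⟧) ≃
      (Dual.inD C M ⟶ W⟦j⟧) :=
  (Groth.Agent.H2.DualCx.thetaEquiv (Groth.Agent.H28.CoextModel.RRc (A := C) (B := F))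
    (Groth.Agent.H28.CoextModel.adj' (A := C) (B := F)) (Dual.inD F M) W j).trans
    (Iso.homCongr (Groth.Agent.H28.DualFinLen.e1 (A := C) (B := F) M) (Iso.refl _))

theorem adjT_apply (W : Dual.D C) (M : Type u) [AddCommGroup M] [Module C M] [Module F M]
    [IsScalarTower C F M] (j : ℤ)
    (g : Dual.inD F M ⟶ ((Groth.Agent.H28.CoextModel.RRc (A := C) (B := F)).obj W)⟦j⟧) :
    adjT W M j g = (Groth.Agent.H28.DualFinLen.e1 (A := C) (B := F) M).inv ≫
      Groth.Agent.H2.DualCx.thetaFun (Groth.Agent.H28.CoextModel.RRc (A := C) (B := F))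
        (Groth.Agent.H28.CoextModel.adj' (A := C) (B := F)) (Dual.inD F M) W j g := by
  simp only [adjT, Equiv.trans_apply, Iso.homCongr_apply, Iso.refl_hom, Category.comp_id,
    Groth.Agent.H2.DualCx.thetaEquiv_apply]

theorem adjT_add (W : Dual.D C) (M : Type u) [AddCommGroup M] [Module C M] [Module F M]
    [IsScalarTower C F M] (j : ℤ)
    (g g' : Dual.inD F M ⟶ ((Groth.Agent.H28.CoextModel.RRc (A := C) (B := F)).obj W)⟦j⟧) :
    adjT W M j (g + g') = adjT W M j g + adjT W M j g' := by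
  rw [adjT_apply, adjT_apply, adjT_apply, Groth.Agent.H2.DualCx.thetaFun_add,
    Preadditive.comp_add]

theorem adjT_smul (W : Dual.D C) (M : Type u) [AddCommGroup M] [Module C M] [Module F M]
    [IsScalarTower C F M] (j : ℤ) (c : C)
    (g : Dual.inD F M ⟶ ((Groth.Agent.H28.CoextModel.RRc (A := C) (B := F)).obj W)⟦j⟧) :
    adjT W M j (algebraMap C F c • g) = c • adjT W M j g := by
  rw [adjT_apply, adjT_apply, Groth.Agent.H2.DualCx.thetaFun_smul, Linear.comp_smul]


/-- the `F`-linear equivalence `Hom_{D(F)}(F[0], (R W)[s]) ≃ F` induced by a `C`-linear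
equivalence `Hom_{D(C)}(F[0], W[s]) ≃ F` -/
noncomputable def homSelfEquivOfC (hsurj : Function.Surjective (algebraMap C F)) (W : Dual.D C)
    (s : ℤ) (h1 : (Dual.inD C F ⟶ W⟦s⟧) ≃ₗ[C] F) :
    (Dual.inD F F ⟶ ((Groth.Agent.H28.CoextModel.RRc (A := C) (B := F)).obj W)⟦s⟧) ≃ₗ[F] F where
  toFun g := h1 (adjT W F s g)
  invFun x := (adjT W F s).symm (h1.symm x)
  left_inv g := by simp
  right_inv x := by simp
  map_add' g g' := by rw [adjT_add, map_add]
  map_smul' f g := by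
    obtain ⟨c, rfl⟩ := hsurj f
    rw [adjT_smul, map_smul, RingHom.id_apply, Algebra.smul_def, smul_eq_mul]

theorem subsingleton_T_of_quotient (hsurj : Function.Surjective (algebraMap C F))
    (W : Dual.D C) (s : ℤ) (N : ℕ)
    (h0 : ∀ j : ℤ, j ≠ s → Subsingleton (Dual.inD C F ⟶ W⟦j⟧))
    (h1 : Nonempty ((Dual.inD C F ⟶ W⟦s⟧) ≃ₗ[C] F))
    (h2 : HasInjectiveDimensionLT (ModuleCat.of F F) (N + 1))
    (M : Type u) [AddCommGroup M] [Module C M] [Module F M] [IsScalarTower C F M]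
    (j : ℤ) (hj : s + N < j) : Subsingleton (Dual.inD C M ⟶ W⟦j⟧) := by
  obtain ⟨h1⟩ := h1
  set V := (Groth.Agent.H28.CoextModel.RRc (A := C) (B := F)).obj W with hVdef
  have hV : ∀ i : ℤ, i ≠ s → Subsingleton (Dual.HD F V i) := by
    intro i hi
    haveI := h0 i hi
    haveI : Subsingleton (Dual.inD F F ⟶ V⟦i⟧) := (adjT W F i).subsingleton
    exact (homSelfEquivHD V i).symm.toEquiv.subsingleton
  haveI hGE : V.IsGE s := isGE_of_vanishing V s (fun i hi => hV i (by omega))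
  haveI hLE : V.IsLE s := isLE_of_vanishing V s (fun i hi => hV i (by omega))
  obtain ⟨M₀, ⟨e⟩⟩ := DerivedCategory.exists_iso_singleFunctor_obj_of_isGE_of_isLE V s
  -- `M₀ ≅ F`
  let i2 : Dual.HD F V s ≃ₗ[F] M₀ :=
    ((DerivedCategory.homologyFunctor (ModuleCat.{u} F) s).mapIso e ≪≫
      (DerivedCategory.singleFunctorCompHomologyFunctorIso (ModuleCat.{u} F) s).app M₀).toLinearEquiv
  let eM : M₀ ≃ₗ[F] F := i2.symm ≪≫ₗ (homSelfEquivHD V s).symm ≪≫ₗ homSelfEquivOfC hsurj W s h1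
  haveI : HasInjectiveDimensionLT M₀ (N + 1) :=
    hasInjectiveDimensionLT_of_iso (eM.symm.toModuleIso : ModuleCat.of F F ≅ M₀) (N + 1)
  -- the vanishing in `D(F)`
  obtain ⟨k, hk⟩ : ∃ k : ℕ, (k : ℤ) = j - s := ⟨(j - s).toNat, by omega⟩
  have e' : V⟦j⟧ ≅ ((S0 F).obj M₀)⟦(k : ℤ)⟧ :=
    (shiftFunctor (Dual.D F) j).mapIso (e ≪≫ (singleIso M₀ s).symm) ≪≫
      shiftShiftIso _ (-s) j k (by omega)
  have h3 : Subsingleton (Dual.inD F M ⟶ ((S0 F).obj M₀)⟦(k : ℤ)⟧) :=
    (Groth.Agent.H28.DualSelf.subsingleton_hom_shift_iff_ext F M₀ (ModuleCat.of F M) k).mpr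
      (HasInjectiveDimensionLT.subsingleton M₀ (N + 1) k (by omega) _)
  have h4 : Subsingleton (Dual.inD F M ⟶ V⟦j⟧) :=
    subsingleton_hom_of_iso (Iso.refl _) e'.symm h3
  haveI := h4
  exact (adjT (F := F) W M j).symm.subsingleton

end Quotient

end Groth.Agent.H26.FlatBCDual
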