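import Mathlib

/-!
# Reducing a flat local homomorphism modulo an ideal of the base

For `A → B` flat local and an ideal `I ≤ 𝔪_A`: `A/I → B/IB` is flat and local, with the same closed
fibre.
-/

set_option autoImplicit false
set_option linter.style.haveILetI false
set_option linter.unusedSectionVars false
universe u

open TensorProduct IsLocalRing

namespace Groth.Agent.H26.QuotBase

variable (A B : Type u) [CommRing A] [CommRing B] [Algebra A B] (I : Ideal A)

set_option backward.isDefEq.respectTransparency false in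
/-- `B/IB` is flat over `A/I`. -/
theorem flat_quotient [Module.Flat A B] :
    Module.Flat (A ⧸ I) (B ⧸ I.map (algebraMap A B)) := by
  let e : (B ⧸ I.map (algebraMap A B)) ≃ₐ[A] (A ⧸ I) ⊗[A] B :=
    ((Algebra.TensorProduct.quotIdealMapEquivTensorQuot B I).restrictScalars A).trans
      (Algebra.TensorProduct.comm A B (A ⧸ I))
  let e' : (B ⧸ I.map (algebraMap A B)) ≃ₐ[A ⧸ I] (A ⧸ I) ⊗[A] B :=
    e.extendScalarsOfSurjective Ideal.Quotient.mk_surjective
  exact Module.Flat.of_linearEquiv e'.toLinearEquiv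

variable [IsLocalRing A] [IsLocalRing B] [IsLocalHom (algebraMap A B)]

theorem map_le_maximalIdeal (hI : I ≤ maximalIdeal A) :
    I.map (algebraMap A B) ≤ maximalIdeal B :=
  (Ideal.map_mono hI).trans
    (((IsLocalRing.local_hom_TFAE (algebraMap A B)).out 0 2).mp ‹IsLocalHom (algebraMap A B)›)

theorem map_ne_top (hI : I ≤ maximalIdeal A) : I.map (algebraMap A B) ≠ ⊤ := fun h =>
  (maximalIdeal.isMaximal B).ne_top (top_le_iff.mp (h ▸ map_le_maximalIdeal A B I hI))

theorem ne_top_of_le (hI : I ≤ maximalIdeal A) : I ≠ ⊤ := fun h =>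
  (maximalIdeal.isMaximal A).ne_top (top_le_iff.mp (h ▸ hI))

theorem isLocalRing_quotient_base (hI : I ≤ maximalIdeal A) : IsLocalRing (A ⧸ I) := by
  haveI : Nontrivial (A ⧸ I) := Ideal.Quotient.nontrivial_iff.mpr (ne_top_of_le A I hI)
  exact IsLocalRing.of_surjective' (Ideal.Quotient.mk I) Ideal.Quotient.mk_surjective

theorem isLocalRing_quotient_top (hI : I ≤ maximalIdeal A) :
    IsLocalRing (B ⧸ I.map (algebraMap A B)) := by
  haveI : Nontrivial (B ⧸ I.map (algebraMap A B)) :=
    Ideal.Quotient.nontrivial_iff.mpr (map_ne_top A B I hI)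
  exact IsLocalRing.of_surjective' (Ideal.Quotient.mk _) Ideal.Quotient.mk_surjective

/-- `A/I → B/IB` is a local homomorphism. -/
theorem isLocalHom_quotient [IsLocalRing (A ⧸ I)] [IsLocalRing (B ⧸ I.map (algebraMap A B))] :
    IsLocalHom (algebraMap (A ⧸ I) (B ⧸ I.map (algebraMap A B))) := by
  haveI h1 : IsLocalHom (Ideal.Quotient.mk (I.map (algebraMap A B))) :=
    IsLocalHom.of_surjective _ Ideal.Quotient.mk_surjective
  constructor
  intro a' ha'
  obtain ⟨a, rfl⟩ := Ideal.Quotient.mk_surjective a'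
  rw [Ideal.Quotient.algebraMap_quotient_map_quotient] at ha'
  have h2 : IsUnit (algebraMap A B a) := isUnit_of_map_unit _ _ ha'
  have h3 : IsUnit a := isUnit_of_map_unit (algebraMap A B) a h2
  exact h3.map _

set_option backward.isDefEq.respectTransparency false in
/-- The closed fibre of `A/I → B/IB` is the closed fibre of `A → B`. -/
theorem nonempty_fibre_equiv (hI : I ≤ maximalIdeal A) [IsLocalRing (A ⧸ I)] :
    Nonempty (((B ⧸ I.map (algebraMap A B)) ⧸
      (maximalIdeal (A ⧸ I)).map (algebraMap (A ⧸ I) (B ⧸ I.map (algebraMap A B)))) ≃+*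
      (B ⧸ (maximalIdeal A).map (algebraMap A B))) := by
  have h1 : (maximalIdeal (A ⧸ I)).map (algebraMap (A ⧸ I) (B ⧸ I.map (algebraMap A B))) =
      ((maximalIdeal A).map (algebraMap A B)).map
        (Ideal.Quotient.mk (I.map (algebraMap A B))) := by
    rw [← map_maximalIdeal_of_surjective (Ideal.Quotient.mk I) Ideal.Quotient.mk_surjective,
      Ideal.map_map, Ideal.map_map]
    congr 1
  have h2 : I.map (algebraMap A B) ⊔ (maximalIdeal A).map (algebraMap A B) =
      (maximalIdeal A).map (algebraMap A B) :=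
    sup_eq_right.mpr (Ideal.map_mono hI)
  exact ⟨(Ideal.quotEquivOfEq h1).trans
    ((DoubleQuot.quotQuotEquivQuotSup (I.map (algebraMap A B))
      ((maximalIdeal A).map (algebraMap A B))).trans (Ideal.quotEquivOfEq h2))⟩

end Groth.Agent.H26.QuotBase
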