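import Mathlib
import Groth.Prelude.Def_DDual2
import Groth.Agent.H26.FlatBCDual7
import Groth.Agent.H2.DualCx.ResidueExt

/-!
# Dualizing complexes and flat base change, part 8: flat local maps with Gorenstein closed fibre
(helper26)
-/

set_option autoImplicit false
set_option linter.unusedSectionVars false
set_option linter.style.haveILetI false
set_option linter.overlappingInstances false

universe u

open CategoryTheory Limits Pretriangulated DerivedCategory TensorProduct

namespace Groth.Agent.H26.FlatBCDual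

open Groth.Agent.H26.FlatBCHom

attribute [local instance] HasDerivedCategory.standard
attribute [local instance] homModuleA

section Local

variable {A C : Type u} [CommRing A] [CommRing C] [Algebra A C] [Module.Flat A C]
  [IsNoetherianRing A] [IsNoetherianRing C]

/-- the `C`-linear flat base change equivalence
`Hom((C/IC)[0], (LB ω)[j]) ≃ C ⊗_A Hom((A/I)[0], ω[j])` -/
noncomputable def TQuotEquiv (ω : Dual.D A) (a b : ℤ) (hGE : ω.IsGE a) (hLE : ω.IsLE b)
    (I : Ideal A) (j : ℤ) :
    (Dual.inD C (C ⧸ I.map (algebraMap A C)) ⟶ ((LB A C).obj ω)⟦j⟧) ≃ₗ[C]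
      C ⊗[A] (Dual.inD A (A ⧸ I) ⟶ ω⟦j⟧) :=
  (Linear.homCongr C
    (eps (ModuleCat.of A (A ⧸ I)) ≪≫ (S0 C).mapIso (F0QuotIso (B := C) I)).symm
    (((LB A C).commShiftIso j).app ω).symm) ≪≫ₗ
  (LinearEquiv.ofBijective (theta (B := C) ((S0 A).obj (ModuleCat.of A (A ⧸ I))) (ω⟦j⟧))
    (BC_single_of_bounded (ModuleCat.of A (A ⧸ I)) ω a b hGE hLE j)).symm


open IsLocalRing in
/-- **Flat local homomorphisms with closed fibre of finite injective dimension**: upper
vanishing of `Hom(M[0], (ω ⊗ C)[j])` for modules over the closed fibre. -/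
theorem subsingleton_T_of_closedFibre [IsLocalRing A] (ω : Dual.D A)
    (hω : Dual.IsDualizing A ω) (b : ℤ)
    (hb : ∀ (M : Type u) [AddCommGroup M] [Module A M] (i : ℤ), b < i →
      Subsingleton (Dual.inD A M ⟶ ω⟦i⟧))
    (N : ℕ)
    (h2 : HasInjectiveDimensionLT
      (ModuleCat.of (C ⧸ (maximalIdeal A).map (algebraMap A C))
        (C ⧸ (maximalIdeal A).map (algebraMap A C))) (N + 1))
    (M : Type u) [AddCommGroup M] [Module C M]
    (hM : Module.IsTorsionBySet C M ((maximalIdeal A).map (algebraMap A C) : Set C))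
    (j : ℤ) (hj : b + N < j) :
    Subsingleton (Dual.inD C M ⟶ ((LB A C).obj ω)⟦j⟧) := by
  obtain ⟨a, b₀, hGE, hLE, -⟩ := exists_bounds ω hω
  obtain ⟨s, hs0, ⟨hs1⟩⟩ := Groth.Agent.H2.DualCx.residue_ext A ω hω (maximalIdeal A)
  have hsb : s ≤ b := by
    by_contra h
    push Not at h
    haveI := hb (A ⧸ maximalIdeal A) s h
    haveI : Subsingleton (A ⧸ maximalIdeal A) := hs1.symm.toEquiv.subsingleton
    haveI : Nontrivial (A ⧸ maximalIdeal A) :=
      Ideal.Quotient.nontrivial_iff.mpr (Ideal.IsPrime.ne_top inferInstance)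
    exact not_subsingleton (A ⧸ maximalIdeal A) inferInstance
  have h0 : ∀ i : ℤ, i ≠ s → Subsingleton
      (Dual.inD C (C ⧸ (maximalIdeal A).map (algebraMap A C)) ⟶ ((LB A C).obj ω)⟦i⟧) := by
    intro i hi
    haveI := hs0 i hi
    exact (TQuotEquiv (C := C) ω a b₀ hGE hLE (maximalIdeal A) i).toEquiv.subsingleton
  have h1 : (Dual.inD C (C ⧸ (maximalIdeal A).map (algebraMap A C)) ⟶ ((LB A C).obj ω)⟦s⟧) ≃ₗ[C]
      (C ⧸ (maximalIdeal A).map (algebraMap A C)) :=
    TQuotEquiv (C := C) ω a b₀ hGE hLE (maximalIdeal A) s ≪≫ₗ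
      (TensorProduct.AlgebraTensorModule.congr (LinearEquiv.refl C C) hs1) ≪≫ₗ
      (Algebra.TensorProduct.quotIdealMapEquivTensorQuot C (maximalIdeal A)).symm.toLinearEquiv
  letI : Module (C ⧸ (maximalIdeal A).map (algebraMap A C)) M := hM.module
  haveI : IsScalarTower C (C ⧸ (maximalIdeal A).map (algebraMap A C)) M := hM.isScalarTower
  exact subsingleton_T_of_quotient Ideal.Quotient.mk_surjective ((LB A C).obj ω) s N h0 ⟨h1⟩ h2
    M j (by omega)

end Local

end Groth.Agent.H26.FlatBCDual
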