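import Mathlib

/-!
# Vanishing of `Ext` and flat base change

For a flat ring map `A → B` with `A` Noetherian, a finite `A`-module `M` and any `A`-module `N`:
if `Ext^i_A(M, N) = 0` then `Ext^i_B(B ⊗ M, B ⊗ N) = 0`.
-/

set_option autoImplicit false
set_option linter.style.haveILetI false
set_option linter.unusedSectionVars false
universe u

open CategoryTheory Abelian TensorProduct

namespace Groth.Agent.H26.ExtFlat

section Hom

variable {A B : Type u} [CommRing A] [CommRing B] [Algebra A B] [Module.Flat A B]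
  [IsNoetherianRing A]

/-- If every map `K → N` extends along `ι : K → P`, then every `B`-linear map `B ⊗ K → B ⊗ N`
extends along `B ⊗ ι`, when `B` is flat and `K` is finite over the Noetherian ring `A`. -/
theorem exists_extend_baseChange {K P N : Type u} [AddCommGroup K] [Module A K] [Module.Finite A K]
    [AddCommGroup P] [Module A P] [AddCommGroup N] [Module A N] (ι : K →ₗ[A] P)
    (h : ∀ φ : K →ₗ[A] N, ∃ ψ : P →ₗ[A] N, ψ ∘ₗ ι = φ) (φ' : B ⊗[A] K →ₗ[B] B ⊗[A] N) :
    ∃ ψ' : B ⊗[A] P →ₗ[B] B ⊗[A] N, ψ' ∘ₗ (ι.baseChange B) = φ' := by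
  haveI : Module.FinitePresentation A K := Module.finitePresentation_of_finite A K
  have hbc := Module.FinitePresentation.isBaseChange_map A K N B
  induction φ' using hbc.inductionOn with
  | zero => exact ⟨0, by simp⟩
  | tmul φ =>
    obtain ⟨ψ, hψ⟩ := h φ
    refine ⟨ψ.baseChange B, ?_⟩
    rw [← LinearMap.baseChange_comp, hψ]
    rfl
  | smul b φ' ih =>
    obtain ⟨ψ', hψ'⟩ := ih
    exact ⟨b • ψ', by rw [LinearMap.smul_comp, hψ']⟩
  | add φ₁ φ₂ ih₁ ih₂ =>
    obtain ⟨ψ₁, h₁⟩ := ih₁
    obtain ⟨ψ₂, h₂⟩ := ih₂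
    exact ⟨ψ₁ + ψ₂, by rw [LinearMap.add_comp, h₁, h₂]⟩

end Hom

section Ext

variable {A B : Type u} [CommRing A] [CommRing B] (f : A →+* B) (hf : f.Flat)
  [IsNoetherianRing A]

include hf in
set_option backward.isDefEq.respectTransparency false in
/-- Flat base change preserves vanishing of `Ext^i(M, N)`, `i ≥ 1`, for finite `M`. -/
theorem subsingleton_ext_extendScalars (N : ModuleCat.{u} A) :
    ∀ (i : ℕ) (M : ModuleCat.{u} A) [Module.Finite A M], Subsingleton (Ext M N (i + 1)) →
      Subsingleton (Ext ((ModuleCat.extendScalars.{u, u, u} f).obj M)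
        ((ModuleCat.extendScalars.{u, u, u} f).obj N) (i + 1)) := by
  algebraize [f]
  haveI := ModuleCat.preservesFiniteLimits_extendScalars_of_flat.{u} hf
  intro i
  induction i with
  | zero =>
    intro M _ hM
    rcases Module.exists_finite_presentation A M with ⟨P, _, _, _, _, g, surjg⟩
    let S := g.shortComplexKer
    have S_exact := LinearMap.shortExact_shortComplexKer surjg
    have proj := ModuleCat.projective_of_categoryTheory_projective S.X₂
    let F := ModuleCat.extendScalars.{u, u, u} f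
    have S'_exact : (S.map F).ShortExact := S_exact.map_of_exact F
    have proj' : Projective (S.map F).X₂ :=
      (ModuleCat.extendRestrictScalarsAdj.{u, u, u} f).map_projective _ proj
    have hext : ∀ φ : LinearMap.ker g →ₗ[A] N, ∃ ψ : P →ₗ[A] N,
        ψ ∘ₗ (LinearMap.ker g).subtype = φ := by
      intro φ
      obtain ⟨x₂, hx₂⟩ := Ext.contravariant_sequence_exact₁ S_exact N
        (Ext.mk₀ (ModuleCat.ofHom φ)) (rfl : 1 + 0 = 1) (Subsingleton.elim _ _)
      obtain ⟨ψ, rfl⟩ := (Ext.mk₀_bijective _ _).2 x₂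
      rw [Ext.mk₀_comp_mk₀] at hx₂
      have := (Ext.mk₀_bijective _ _).1 hx₂
      exact ⟨ψ.hom, congrArg ModuleCat.Hom.hom this⟩
    refine subsingleton_of_forall_eq 0 fun z => ?_
    have hz : (Ext.mk₀ (S.map F).g).comp z (zero_add 1) = 0 := Ext.eq_zero_of_projective _
    obtain ⟨x₁, rfl⟩ := Ext.contravariant_sequence_exact₃ S'_exact _ z hz (rfl : 1 + 0 = 1)
    obtain ⟨φ', rfl⟩ := (Ext.mk₀_bijective _ _).2 x₁
    let φ'' : B ⊗[A] (LinearMap.ker g) →ₗ[B] B ⊗[A] N := φ'.hom
    obtain ⟨ψ', hψ'⟩ := exists_extend_baseChange (B := B) (LinearMap.ker g).subtype hext φ''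
    let ψ'' : (S.map F).X₂ ⟶ F.obj N := ModuleCat.ofHom ψ'
    have hφ' : φ' = (S.map F).f ≫ ψ'' := by
      apply ModuleCat.hom_ext
      exact hψ'.symm
    rw [hφ', ← Ext.mk₀_comp_mk₀]
    exact S'_exact.extClass_comp_assoc _
  | succ i ih =>
    intro M _ hM
    rcases Module.exists_finite_presentation A M with ⟨P, _, _, _, _, g, surjg⟩
    let S := g.shortComplexKer
    have S_exact := LinearMap.shortExact_shortComplexKer surjg
    have proj := ModuleCat.projective_of_categoryTheory_projective S.X₂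
    let F := ModuleCat.extendScalars.{u, u, u} f
    have S'_exact : (S.map F).ShortExact := S_exact.map_of_exact F
    have proj' : Projective (S.map F).X₂ :=
      (ModuleCat.extendRestrictScalarsAdj.{u, u, u} f).map_projective _ proj
    haveI : Module.Finite A (LinearMap.ker g) := inferInstance
    -- `Ext^{i+1}(K, N) = 0`
    have hK : Subsingleton (Ext (ModuleCat.of A (LinearMap.ker g)) N (i + 1)) := by
      refine subsingleton_of_forall_eq 0 fun x₁ => ?_
      have h0 : S_exact.extClass.comp x₁ (rfl : 1 + (i + 1) = 1 + (i + 1)) = 0 := by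
        have e : 1 + (i + 1) = i + 1 + 1 := by omega
        have : Subsingleton (Ext S.X₃ N (1 + (i + 1))) := by rw [e]; exact hM
        exact Subsingleton.elim _ _
      obtain ⟨x₂, rfl⟩ := Ext.contravariant_sequence_exact₁ S_exact N x₁ rfl h0
      rw [Ext.eq_zero_of_projective x₂, Ext.comp_zero]
    have hK' := ih (ModuleCat.of A (LinearMap.ker g)) hK
    refine subsingleton_of_forall_eq 0 fun z => ?_
    have hz : (Ext.mk₀ (S.map F).g).comp z (zero_add (i + 1 + 1)) = 0 :=
      Ext.eq_zero_of_projective _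
    obtain ⟨x₁, rfl⟩ := Ext.contravariant_sequence_exact₃ S'_exact _ z hz
      (by omega : 1 + (i + 1) = i + 1 + 1)
    have : x₁ = 0 := Subsingleton.elim (h := hK') _ _
    rw [this, Ext.comp_zero]

end Ext

end Groth.Agent.H26.ExtFlat
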