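import Mathlib
import Groth.Agent.H26.ExtFlat

/-!
# Faithfully flat descent of vanishing of `Ext`

For a faithfully flat ring map `A → B` with `A` Noetherian, a finite `A`-module `M` and any
`A`-module `N`: if `Ext^i_B(B ⊗ M, B ⊗ N) = 0` then `Ext^i_A(M, N) = 0` (`i ≥ 1`).
-/

set_option autoImplicit false
set_option linter.style.haveILetI false
set_option linter.unusedSectionVars false
universe u

open CategoryTheory Abelian TensorProduct

namespace Groth.Agent.H26.ExtFlatDescent

section Hom

variable {A B : Type u} [CommRing A] [CommRing B] [Algebra A B] [Module.FaithfullyFlat A B]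
  [IsNoetherianRing A]

/-- Descent of the extension property along a faithfully flat map. -/
theorem exists_extend_of_baseChange {K P N : Type u} [AddCommGroup K] [Module A K]
    [Module.Finite A K] [AddCommGroup P] [Module A P] [Module.Finite A P] [AddCommGroup N]
    [Module A N] (ι : K →ₗ[A] P)
    (h : ∀ φ' : B ⊗[A] K →ₗ[B] B ⊗[A] N, ∃ ψ' : B ⊗[A] P →ₗ[B] B ⊗[A] N,
      ψ' ∘ₗ (ι.baseChange B) = φ') (φ : K →ₗ[A] N) :
    ∃ ψ : P →ₗ[A] N, ψ ∘ₗ ι = φ := by
  haveI : Module.FinitePresentation A K := Module.finitePresentation_of_finite A K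
  haveI : Module.FinitePresentation A P := Module.finitePresentation_of_finite A P
  have hK := Module.FinitePresentation.isBaseChange_map A K N B
  have hP := Module.FinitePresentation.isBaseChange_map A P N B
  let r : (P →ₗ[A] N) →ₗ[A] (K →ₗ[A] N) := LinearMap.lcomp A N ι
  suffices hr : Function.Surjective r from hr φ
  rw [← Module.FaithfullyFlat.lTensor_surjective_iff_surjective A B]
  intro t
  obtain ⟨ψ', hψ'⟩ := h (hK.equiv t)
  refine ⟨hP.equiv.symm ψ', ?_⟩
  apply hK.equiv.injective
  have hnat : ∀ s : B ⊗[A] (P →ₗ[A] N),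
      hK.equiv (r.lTensor B s) = (hP.equiv s) ∘ₗ ι.baseChange B := by
    intro s
    induction s using TensorProduct.induction_on with
    | zero => simp
    | tmul b ψ =>
      rw [LinearMap.lTensor_tmul, IsBaseChange.equiv_tmul, IsBaseChange.equiv_tmul,
        LinearMap.smul_comp]
      congr 1
      apply LinearMap.ext
      intro x
      induction x using TensorProduct.induction_on with
      | zero => simp
      | tmul c x => simp [r]
      | add x y hx hy => simp only [map_add, hx, hy]
    | add x y hx hy => simp only [map_add, hx, hy, LinearMap.add_comp]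
  rw [hnat, LinearEquiv.apply_symm_apply, hψ']

end Hom


section Ext

variable {A B : Type u} [CommRing A] [CommRing B] (f : A →+* B) (hf : f.FaithfullyFlat)
  [IsNoetherianRing A]

include hf in
set_option backward.isDefEq.respectTransparency false in
/-- Faithfully flat descent of vanishing of `Ext^i(M, N)`, `i ≥ 1`, for finite `M`. -/
theorem subsingleton_ext_of_extendScalars (N : ModuleCat.{u} A) :
    ∀ (i : ℕ) (M : ModuleCat.{u} A) [Module.Finite A M],
      Subsingleton (Ext ((ModuleCat.extendScalars.{u, u, u} f).obj M)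
        ((ModuleCat.extendScalars.{u, u, u} f).obj N) (i + 1)) →
      Subsingleton (Ext M N (i + 1)) := by
  have hf' : f.Flat := hf.flat
  algebraize [f]
  haveI := ModuleCat.preservesFiniteLimits_extendScalars_of_flat.{u} hf'
  intro i
  induction i with
  | zero =>
    intro M _ hM
    rcases Module.exists_finite_presentation A M with ⟨P, _, _, _, _, g, surjg⟩
    let S := g.shortComplexKer
    have S_exact := LinearMap.shortExact_shortComplexKer surjg
    have proj := ModuleCat.projective_of_categoryTheory_projective S.X₂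
    let F := ModuleCat.extendScalars.{u, u, u} f
    have S'_exact : (S.map F).ShortExact := S_exact.map_of_exact F
    have hext' : ∀ φ' : B ⊗[A] (LinearMap.ker g) →ₗ[B] B ⊗[A] N,
        ∃ ψ' : B ⊗[A] P →ₗ[B] B ⊗[A] N,
          ψ' ∘ₗ ((LinearMap.ker g).subtype.baseChange B) = φ' := by
      intro φ'
      let φ'' : (S.map F).X₁ ⟶ F.obj N := ModuleCat.ofHom φ'
      have hM' : Subsingleton (Ext (S.map F).X₃ (F.obj N) (1 + 0)) := hM
      obtain ⟨x₂, hx₂⟩ := Ext.contravariant_sequence_exact₁ S'_exact (F.obj N)
        (Ext.mk₀ φ'') (rfl : 1 + 0 = 1) (Subsingleton.elim _ _)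
      obtain ⟨ψ, rfl⟩ := (Ext.mk₀_bijective _ _).2 x₂
      rw [Ext.mk₀_comp_mk₀] at hx₂
      have := (Ext.mk₀_bijective _ _).1 hx₂
      exact ⟨ψ.hom, congrArg ModuleCat.Hom.hom this⟩
    refine subsingleton_of_forall_eq 0 fun z => ?_
    have hz : (Ext.mk₀ S.g).comp z (zero_add 1) = 0 := Ext.eq_zero_of_projective _
    obtain ⟨x₁, rfl⟩ := Ext.contravariant_sequence_exact₃ S_exact _ z hz (rfl : 1 + 0 = 1)
    obtain ⟨φ, rfl⟩ := (Ext.mk₀_bijective _ _).2 x₁
    obtain ⟨ψ, hψ⟩ := exists_extend_of_baseChange (B := B) (LinearMap.ker g).subtype hext' φ.hom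
    have hφ : φ = S.f ≫ ModuleCat.ofHom ψ := by
      apply ModuleCat.hom_ext
      exact hψ.symm
    rw [hφ, ← Ext.mk₀_comp_mk₀]
    exact S_exact.extClass_comp_assoc _
  | succ i ih =>
    intro M _ hM
    rcases Module.exists_finite_presentation A M with ⟨P, _, _, _, _, g, surjg⟩
    let S := g.shortComplexKer
    have S_exact := LinearMap.shortExact_shortComplexKer surjg
    have proj := ModuleCat.projective_of_categoryTheory_projective S.X₂
    let F := ModuleCat.extendScalars.{u, u, u} f
    have S'_exact : (S.map F).ShortExact := S_exact.map_of_exact F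
    have proj' : Projective (S.map F).X₂ :=
      (ModuleCat.extendRestrictScalarsAdj.{u, u, u} f).map_projective _ proj
    haveI : Module.Finite A (LinearMap.ker g) := inferInstance
    -- `Ext^{i+1}(B ⊗ K, B ⊗ N) = 0`
    have hK' : Subsingleton (Ext (F.obj (ModuleCat.of A (LinearMap.ker g))) (F.obj N) (i + 1)) := by
      refine subsingleton_of_forall_eq 0 fun x₁ => ?_
      have h0 : S'_exact.extClass.comp x₁ (rfl : 1 + (i + 1) = 1 + (i + 1)) = 0 := by
        have e : 1 + (i + 1) = i + 1 + 1 := by omega
        have : Subsingleton (Ext (S.map F).X₃ (F.obj N) (1 + (i + 1))) := by rw [e]; exact hM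
        exact Subsingleton.elim _ _
      obtain ⟨x₂, rfl⟩ := Ext.contravariant_sequence_exact₁ S'_exact (F.obj N) x₁ rfl h0
      rw [Ext.eq_zero_of_projective x₂, Ext.comp_zero]
    have hK := ih (ModuleCat.of A (LinearMap.ker g)) hK'
    refine subsingleton_of_forall_eq 0 fun z => ?_
    have hz : (Ext.mk₀ S.g).comp z (zero_add (i + 1 + 1)) = 0 :=
      Ext.eq_zero_of_projective _
    obtain ⟨x₁, rfl⟩ := Ext.contravariant_sequence_exact₃ S_exact _ z hz
      (by omega : 1 + (i + 1) = i + 1 + 1)
    have : x₁ = 0 := Subsingleton.elim (h := hK) _ _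
    rw [this, Ext.comp_zero]

end Ext

end Groth.Agent.H26.ExtFlatDescent
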