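import Mathlib
import Groth.Prelude.Def_CAlg
import Groth.Agent.H26.ExtFlat
import Groth.Agent.S0340
import Groth.Agent.S0343
import Groth.Agent.H72.DepthFlat
import Groth.Agent.Lead.RegularLocal2
import Groth.Agent.Lead.RegularGlDim

/-!
# Ascent of the Gorenstein property along flat local homomorphisms

* `isGorensteinLocalRing_of_flat_of_map_eq`: flat local homomorphism whose closed fibre is a field.
-/

set_option autoImplicit false
set_option linter.style.haveILetI false
set_option linter.unusedSectionVars false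
universe u

open CategoryTheory Abelian TensorProduct IsLocalRing Pointwise

namespace Groth.Agent.H26.GorFlat

/-- `Ext` groups of isomorphic objects vanish together. -/
theorem subsingleton_ext_of_iso {C : Type*} [Category C] [Abelian C] [HasExt C] {X X' Y Y' : C}
    (e : X ≅ X') (e' : Y ≅ Y') (n : ℕ) (h : Subsingleton (Ext X Y n)) :
    Subsingleton (Ext X' Y' n) := by
  refine subsingleton_of_forall_eq 0 fun z => ?_
  have hw : ((Ext.mk₀ e.hom).comp z (zero_add n)).comp (Ext.mk₀ e'.inv) (add_zero n) = 0 :=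
    Subsingleton.elim _ _
  have h1 : z = (Ext.mk₀ e.inv).comp
      ((((Ext.mk₀ e.hom).comp z (zero_add n)).comp (Ext.mk₀ e'.inv) (add_zero n)).comp
        (Ext.mk₀ e'.hom) (add_zero n)) (zero_add n) := by
    rw [Ext.comp_assoc_of_third_deg_zero, Ext.mk₀_comp_mk₀, e'.inv_hom_id, Ext.comp_mk₀_id,
      ← Ext.comp_assoc_of_second_deg_zero, Ext.mk₀_comp_mk₀, e.inv_hom_id, Ext.mk₀_id_comp]
  rw [h1, hw, Ext.zero_comp, Ext.comp_zero]

section FieldFibre

variable {A B : Type u} [CommRing A] [CommRing B] [IsLocalRing A] [IsLocalRing B]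
  [IsNoetherianRing A] [IsNoetherianRing B]

set_option backward.isDefEq.respectTransparency false in
/-- Gorenstein ascends along a flat local homomorphism whose closed fibre is a field. -/
theorem isGorensteinLocalRing_of_flat_of_map_eq (f : A →+* B) (hf : f.Flat)
    (hm : (maximalIdeal A).map f = maximalIdeal B) (hA : LocCoh.IsGorensteinLocalRing A) :
    LocCoh.IsGorensteinLocalRing B := by
  obtain ⟨N, hN⟩ := (Groth.Agent.S0340.result A).mp hA
  rw [Groth.Agent.S0340.result B]
  refine ⟨N + 1, fun i hi => ?_⟩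
  obtain ⟨j, rfl⟩ : ∃ j, i = j + 1 := ⟨i - 1, by omega⟩
  have h1 := Groth.Agent.H26.ExtFlat.subsingleton_ext_extendScalars f hf (ModuleCat.of A A) j
    (ModuleCat.of A (ResidueField A)) (hN (j + 1) (by omega))
  algebraize [f]
  let e₁ : (ModuleCat.extendScalars.{u, u, u} f).obj (ModuleCat.of A A) ≅ ModuleCat.of B B :=
    (TensorProduct.AlgebraTensorModule.rid A B B).toModuleIso
  have hm' : (maximalIdeal A).map (algebraMap A B) = maximalIdeal B := hm
  let e₂' : (B ⊗[A] (A ⧸ maximalIdeal A)) ≃ₗ[B] (B ⧸ maximalIdeal B) :=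
    (Algebra.TensorProduct.quotIdealMapEquivTensorQuot B (maximalIdeal A)).symm.toLinearEquiv.trans
      (Submodule.quotEquivOfEq _ _ hm')
  let e₂ : (ModuleCat.extendScalars.{u, u, u} f).obj (ModuleCat.of A (ResidueField A)) ≅
      ModuleCat.of B (ResidueField B) := e₂'.toModuleIso
  exact subsingleton_ext_of_iso e₂ e₁ (j + 1) h1

end FieldFibre

section RegularFibre

/-- the closed fibre ideal -/
abbrev mB (A B : Type u) [CommRing A] [CommRing B] [IsLocalRing A] [Algebra A B] : Ideal B :=
  (maximalIdeal A).map (algebraMap A B)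

theorem map_le_maximalIdeal (A B : Type u) [CommRing A] [CommRing B] [IsLocalRing A]
    [IsLocalRing B] [Algebra A B] [IsLocalHom (algebraMap A B)] :
    (mB A B) ≤ maximalIdeal B :=
  ((IsLocalRing.local_hom_TFAE (algebraMap A B)).out 0 2).mp ‹IsLocalHom (algebraMap A B)›

set_option backward.isDefEq.respectTransparency false in
/-- base case: the closed fibre is a field -/
theorem isGorensteinLocalRing_of_flat_of_fibre_dim_zero (A B : Type u) [CommRing A] [CommRing B]
    [IsLocalRing A] [IsLocalRing B] [IsNoetherianRing A] [IsNoetherianRing B] [Algebra A B]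
    [IsLocalHom (algebraMap A B)] [Module.Flat A B] (hA : LocCoh.IsGorensteinLocalRing A)
    (hF : IsRegularLocalRing (B ⧸ mB A B)) (hdim : ringKrullDim (B ⧸ mB A B) = (0 : ℕ)) :
    LocCoh.IsGorensteinLocalRing B := by
  refine isGorensteinLocalRing_of_flat_of_map_eq (algebraMap A B)
    (RingHom.flat_algebraMap_iff.mpr inferInstance) ?_ hA
  refine le_antisymm (map_le_maximalIdeal A B) ?_
  have hsf : (maximalIdeal (B ⧸ mB A B)).spanFinrank = 0 := by
    have := Groth.Agent.Lead.RLR.ringKrullDim_eq_spanFinrank (B ⧸ mB A B)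
    rw [hdim] at this
    exact_mod_cast this.symm
  have hbot : maximalIdeal (B ⧸ mB A B) = ⊥ :=
    (Submodule.spanFinrank_eq_zero_iff_eq_bot (IsNoetherian.noetherian _)).mp hsf
  intro b hb
  have h1 : Ideal.Quotient.mk (mB A B) b ∈ maximalIdeal (B ⧸ mB A B) := by
    rw [mem_maximalIdeal, mem_nonunits_iff]
    intro hu
    haveI : IsLocalHom (Ideal.Quotient.mk (mB A B)) :=
      IsLocalHom.of_surjective _ Ideal.Quotient.mk_surjective
    exact (mem_maximalIdeal b).mp hb (isUnit_of_map_unit (Ideal.Quotient.mk (mB A B)) b hu)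
  rw [hbot] at h1
  exact Ideal.Quotient.eq_zero_iff_mem.mp h1

set_option backward.isDefEq.respectTransparency false in
/-- An element regular on the closed fibre is regular on `B`, and `B/yB` is flat over `A`. -/
theorem isSMulRegular_and_flat_of_fibre (A B : Type u) [CommRing A] [CommRing B]
    [IsLocalRing A] [IsLocalRing B] [IsNoetherianRing A] [IsNoetherianRing B] [Algebra A B]
    [IsLocalHom (algebraMap A B)] [Module.Flat A B] (y : B)
    (hy : IsSMulRegular (B ⧸ mB A B) (Ideal.Quotient.mk (mB A B) y)) :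
    IsSMulRegular B y ∧ Module.Flat A (B ⧸ Ideal.span {y}) := by
  have hy1 : IsSMulRegular (B ⧸ mB A B) y := by
    refine (Equiv.isSMulRegular_congr (e := Equiv.refl (B ⧸ mB A B)) (r := y)
      (s := Ideal.Quotient.mk (mB A B) y) (fun z => ?_)).mpr hy
    obtain ⟨z, rfl⟩ := Ideal.Quotient.mk_surjective z
    rfl
  have hy2 : IsSMulRegular (B ⊗[A] (A ⧸ maximalIdeal A)) y :=
    ((Algebra.TensorProduct.quotIdealMapEquivTensorQuot B
      (maximalIdeal A)).toLinearEquiv.isSMulRegular_congr y).mp hy1
  constructor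
  · have h3 := Groth.Agent.H72.DepthFlat.isSMulRegular_tensor_of_fibre (R := A) (S := B) B y hy2 A
    exact ((TensorProduct.AlgebraTensorModule.rid A B B).isSMulRegular_congr y).mp h3
  · have h4 := Groth.Agent.H72.DepthFlat.flat_quotSMulTop_of_fibre (R := A) (S := B) B y hy2
    have heq : (y • (⊤ : Submodule B B)) = Ideal.span {y} := by
      simp [← Submodule.ideal_span_singleton_smul]
    let e : QuotSMulTop y B ≃ₗ[A] (B ⧸ Ideal.span {y}) :=
      (Submodule.quotEquivOfEq (y • (⊤ : Submodule B B)) (Ideal.span {y}) heq).restrictScalars A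
    exact Module.Flat.of_linearEquiv e.symm


/-- In a regular local ring of dimension `e + 1` there is a regular element `x` of the maximal
ideal such that the quotient is regular of dimension `e`. -/
theorem exists_regular_quotient (F : Type u) [CommRing F] [IsRegularLocalRing F] (e : ℕ)
    (hd : ringKrullDim F = ((e + 1 : ℕ) : WithBot ℕ∞)) :
    ∃ x ∈ maximalIdeal F, IsSMulRegular F x ∧ IsRegularLocalRing (F ⧸ Ideal.span {x}) ∧
      ringKrullDim (F ⧸ Ideal.span {x}) = (e : WithBot ℕ∞) := by
  classical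
  obtain ⟨x, hx⟩ := Groth.Agent.Lead.RLR.exists_fin_span_eq F (e + 1) hd
  have hreg := Groth.Agent.Lead.RLR.isRegular_ofFn F (e + 1) hd x hx
  rw [List.ofFn_succ, Groth.Agent.Lead.RLR.isRegular_cons_iff_quotient] at hreg
  have hsf : (maximalIdeal F).spanFinrank = e + 1 := by
    have h := Groth.Agent.Lead.RLR.ringKrullDim_eq_spanFinrank F
    rw [hd] at h
    exact_mod_cast h.symm
  have hrange : Set.range x = insert (x 0) (Set.range fun i : Fin e => x i.succ) := by
    ext y
    constructor
    · rintro ⟨i, rfl⟩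
      refine Fin.cases ?_ (fun i => ?_) i
      · exact Set.mem_insert _ _
      · exact Set.mem_insert_of_mem _ ⟨i, rfl⟩
    · rintro (rfl | ⟨i, rfl⟩)
      · exact ⟨0, rfl⟩
      · exact ⟨i.succ, rfl⟩
  let t : Finset F := Finset.univ.image (fun i : Fin e => x i.succ)
  have htcoe : (t : Set F) = Set.range fun i : Fin e => x i.succ := by
    simp [t]
  have htcard : t.card ≤ e := by
    refine Finset.card_image_le.trans ?_
    simp
  have hspan : Ideal.span (insert (x 0) (t : Set F)) = maximalIdeal F := by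
    rw [htcoe, ← hrange, hx]
  obtain ⟨hreg', hdim, hcard⟩ :=
    Groth.Agent.Lead.RLR.quotient_regular F (x 0) t hspan (by rw [hsf]; omega)
  refine ⟨x 0, ?_, hreg.1, hreg', ?_⟩
  · rw [← hx]
    exact Ideal.subset_span ⟨0, rfl⟩
  · obtain ⟨d', hd'eq, -⟩ := Groth.Agent.Lead.RLR.exists_ringKrullDim_eq (F ⧸ Ideal.span {x 0})
    rw [hd'eq, hd] at hdim
    have : d' + 1 = e + 1 := by exact_mod_cast hdim
    rw [hd'eq]
    have : d' = e := by omega
    rw [this]


set_option backward.isDefEq.respectTransparency false in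
/-- Gorenstein ascends along a flat local homomorphism with regular closed fibre (induction). -/
theorem isGorensteinLocalRing_of_flat_of_regular_fibre_aux : ∀ (e : ℕ) (A B : Type u) [CommRing A]
    [CommRing B] [IsLocalRing A] [IsLocalRing B] [IsNoetherianRing A] [IsNoetherianRing B]
    [Algebra A B] [IsLocalHom (algebraMap A B)] [Module.Flat A B],
    LocCoh.IsGorensteinLocalRing A → IsRegularLocalRing (B ⧸ mB A B) →
    ringKrullDim (B ⧸ mB A B) = (e : WithBot ℕ∞) → LocCoh.IsGorensteinLocalRing B := by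
  intro e
  induction e with
  | zero =>
    intro A B _ _ _ _ _ _ _ _ _ hA hF hdim
    exact isGorensteinLocalRing_of_flat_of_fibre_dim_zero A B hA hF hdim
  | succ e ih =>
    intro A B _ _ _ _ _ _ _ _ _ hA hF hdim
    obtain ⟨x, hxm, hxreg, hxR, hxdim⟩ := exists_regular_quotient (B ⧸ mB A B) e hdim
    obtain ⟨y, rfl⟩ := Ideal.Quotient.mk_surjective x
    obtain ⟨hyreg, hyflat⟩ := isSMulRegular_and_flat_of_fibre A B y hxreg
    have hym : y ∈ maximalIdeal B := by
      rw [mem_maximalIdeal, mem_nonunits_iff]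
      intro hu
      have hu' : IsUnit (Ideal.Quotient.mk (mB A B) y) := hu.map (Ideal.Quotient.mk (mB A B))
      exact hxm hu'
    have hne : Ideal.span {y} ≠ ⊤ := by
      intro h
      have h1 : (1 : B) ∈ maximalIdeal B := by
        have : Ideal.span {y} ≤ maximalIdeal B := (Ideal.span_singleton_le_iff_mem _).mpr hym
        exact this (h ▸ Submodule.mem_top)
      exact (maximalIdeal.isMaximal B).ne_top ((Ideal.eq_top_iff_one _).mpr h1)
    haveI : IsLocalRing (B ⧸ Ideal.span {y}) := Groth.Agent.Lead.RLR.isLocalRing_quotient B _ hne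
    haveI : IsLocalHom (Ideal.Quotient.mk (Ideal.span {y})) :=
      IsLocalHom.of_surjective _ Ideal.Quotient.mk_surjective
    haveI : IsLocalHom (algebraMap A (B ⧸ Ideal.span {y})) := by
      rw [IsScalarTower.algebraMap_eq A B (B ⧸ Ideal.span {y})]
      exact RingHom.isLocalHom_comp _ _
    refine (Groth.Agent.S0343.result B y hym hyreg).mpr ?_
    -- the closed fibre of `B/yB`
    have hmB : mB A (B ⧸ Ideal.span {y}) =
        (mB A B).map (Ideal.Quotient.mk (Ideal.span {y})) := by
      change (maximalIdeal A).map (algebraMap A (B ⧸ Ideal.span {y})) = _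
      rw [IsScalarTower.algebraMap_eq A B (B ⧸ Ideal.span {y}), ← Ideal.map_map]
      rfl
    have hsp : (Ideal.span {y}).map (Ideal.Quotient.mk (mB A B)) =
        Ideal.span {Ideal.Quotient.mk (mB A B) y} := by
      rw [Ideal.map_span, Set.image_singleton]
    let ε : ((B ⧸ Ideal.span {y}) ⧸ mB A (B ⧸ Ideal.span {y})) ≃+*
        ((B ⧸ mB A B) ⧸ Ideal.span {Ideal.Quotient.mk (mB A B) y}) :=
      (Ideal.quotEquivOfEq hmB).trans
        ((DoubleQuot.quotQuotEquivComm (Ideal.span {y}) (mB A B)).trans
          (Ideal.quotEquivOfEq hsp))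
    refine ih A (B ⧸ Ideal.span {y}) hA (IsRegularLocalRing.of_ringEquiv ε.symm) ?_
    rw [ringKrullDim_eq_of_ringEquiv ε]
    exact hxdim

/-- **Gorenstein ascent**: a flat local homomorphism of Noetherian local rings with Gorenstein
source and regular closed fibre has Gorenstein target. -/
theorem isGorensteinLocalRing_of_flat_of_regular_fibre (A B : Type u) [CommRing A]
    [CommRing B] [IsLocalRing A] [IsLocalRing B] [IsNoetherianRing A] [IsNoetherianRing B]
    [Algebra A B] [IsLocalHom (algebraMap A B)] [Module.Flat A B]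
    (hA : LocCoh.IsGorensteinLocalRing A) (hF : IsRegularLocalRing (B ⧸ mB A B)) :
    LocCoh.IsGorensteinLocalRing B := by
  obtain ⟨e, he, -⟩ := Groth.Agent.Lead.RLR.exists_ringKrullDim_eq (B ⧸ mB A B)
  exact isGorensteinLocalRing_of_flat_of_regular_fibre_aux e A B hA hF he

end RegularFibre

end Groth.Agent.H26.GorFlat
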