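import Mathlib
import Groth.Prelude.Def_CAlg
import Groth.Agent.H26.ExtFlatDescent
import Groth.Agent.H26.GorFlat
import Groth.Agent.S0340

/-!
# Faithfully flat descent of the Gorenstein property for local rings
-/

set_option autoImplicit false
set_option linter.style.haveILetI false
set_option linter.unusedSectionVars false
universe u

open CategoryTheory Abelian TensorProduct IsLocalRing

namespace Groth.Agent.H26.GorDescent

open Groth.Agent.H26.GorFlat

set_option backward.isDefEq.respectTransparency false in
/-- If `A → B` is faithfully flat, `A` is a Noetherian local ring and `B` is a Gorenstein local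
ring, then `A` is Gorenstein. -/
theorem isGorensteinLocalRing_of_faithfullyFlat {A B : Type u} [CommRing A] [CommRing B]
    [IsLocalRing A] [IsNoetherianRing A] (f : A →+* B) (hf : f.FaithfullyFlat)
    (hB : LocCoh.IsGorensteinLocalRing B) : LocCoh.IsGorensteinLocalRing A := by
  obtain ⟨n, hn⟩ := hB.exists_hasInjectiveDimensionLT
  rw [Groth.Agent.S0340.result A]
  refine ⟨n + 1, fun i hi => ?_⟩
  obtain ⟨j, rfl⟩ : ∃ j, i = j + 1 := ⟨i - 1, by omega⟩
  refine Groth.Agent.H26.ExtFlatDescent.subsingleton_ext_of_extendScalars f hf
    (ModuleCat.of A A) j (ModuleCat.of A (ResidueField A)) ?_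
  algebraize [f]
  let e₁ : (ModuleCat.extendScalars.{u, u, u} f).obj (ModuleCat.of A A) ≅ ModuleCat.of B B :=
    (TensorProduct.AlgebraTensorModule.rid A B B).toModuleIso
  have h1 : Subsingleton (Ext ((ModuleCat.extendScalars.{u, u, u} f).obj
      (ModuleCat.of A (ResidueField A))) (ModuleCat.of B B) (j + 1)) :=
    HasInjectiveDimensionLT.subsingleton (ModuleCat.of B B) n (j + 1) (by omega) _
  exact subsingleton_ext_of_iso (Iso.refl _) e₁.symm (j + 1) h1

/-- Flat local descent of Gorenstein. -/
theorem isGorensteinLocalRing_of_flat_descent (A B : Type u) [CommRing A] [CommRing B]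
    [IsLocalRing A] [IsLocalRing B] [IsNoetherianRing A] [Algebra A B]
    [IsLocalHom (algebraMap A B)] [Module.Flat A B] (hB : LocCoh.IsGorensteinLocalRing B) :
    LocCoh.IsGorensteinLocalRing A := by
  haveI : Module.FaithfullyFlat A B := Module.FaithfullyFlat.of_flat_of_isLocalHom
  exact isGorensteinLocalRing_of_faithfullyFlat (algebraMap A B)
    (RingHom.faithfullyFlat_algebraMap_iff.mpr inferInstance) hB

end Groth.Agent.H26.GorDescent
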