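import Mathlib
import Groth.Prelude.Def_CAlg
import Groth.Prelude.Def_Found
import Groth.Agent.H26.GorFlat
import Groth.Agent.H26.SkFieldExt
import Groth.Agent.H26.SkFlat
import Groth.Agent.H26.FormalFibreFinite
import Groth.Agent.H26.RegHomDescent
import Groth.Agent.H26.RegHomBaseChange

/-!
# Gorenstein rings and regular homomorphisms

* `isGorensteinLocalRing_of_ringEquiv`, `isGorensteinRing_of_ringEquiv`
* `isGorensteinRing_of_flat_of_regular_fibres`: flat map of Noetherian rings, Gorenstein source,
  regular fibres ⟹ Gorenstein target.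
* `isGorensteinRing_fiber_comp`: S8949.
-/

set_option autoImplicit false
set_option linter.style.haveILetI false
set_option linter.unusedSectionVars false
universe u

open TensorProduct IsLocalRing

namespace Groth.Agent.H26.GorRegHom

open Groth.Agent.H26.GorFlat

theorem isGorensteinLocalRing_of_ringEquiv {X Y : Type u} [CommRing X] [CommRing Y] (e : X ≃+* Y)
    (h : LocCoh.IsGorensteinLocalRing X) : LocCoh.IsGorensteinLocalRing Y := by
  haveI := h.toIsLocalRing
  haveI : IsNoetherianRing X := h.toIsNoetherian
  haveI : IsLocalRing Y := e.isLocalRing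
  haveI : IsNoetherianRing Y := isNoetherianRing_of_ringEquiv X e
  refine isGorensteinLocalRing_of_flat_of_map_eq (e : X →+* Y) ?_ ?_ h
  · exact RingHom.Flat.of_bijective e.bijective
  · exact map_maximalIdeal_of_surjective (e : X →+* Y) e.surjective

theorem isGorensteinRing_of_ringEquiv {X Y : Type u} [CommRing X] [CommRing Y] (e : X ≃+* Y)
    (h : LocCoh.IsGorensteinRing X) : LocCoh.IsGorensteinRing Y := by
  haveI : IsNoetherianRing X := h.toIsNoetherian
  haveI : IsNoetherianRing Y := isNoetherianRing_of_ringEquiv X e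
  refine ⟨fun p _ => ?_⟩
  exact Groth.Agent.H26.FormalFibreFinite.forall_prime_of_ringEquiv
    (fun X _ => LocCoh.IsGorensteinLocalRing X)
    (fun X Y _ _ e h => isGorensteinLocalRing_of_ringEquiv e h) e
    (fun 𝔔 _ => h.isGorensteinLocalRing_localization 𝔔) p

/-- A flat map of Noetherian rings with Gorenstein source and regular fibres has Gorenstein
target. -/
theorem isGorensteinRing_of_flat_of_regular_fibres (R S : Type u) [CommRing R] [CommRing S]
    [Algebra R S] [IsNoetherianRing S] [Module.Flat R S] (hR : LocCoh.IsGorensteinRing R)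
    (hfib : ∀ (p : Ideal R) [p.IsPrime], IsRegularRing (p.Fiber S)) :
    LocCoh.IsGorensteinRing S := by
  haveI : IsNoetherianRing R := hR.toIsNoetherian
  refine ⟨fun r _ => ?_⟩
  refine Groth.Agent.H26.SkFieldExt.localization_of_flat_of_fibres₂
    (fun X _ => LocCoh.IsGorensteinLocalRing X) (fun X _ => IsRegularLocalRing X)
    (fun X Y _ _ e h => Groth.Agent.H26.FormalFibreFinite.isRegularLocalRing_of_ringEquiv' e h)
    (fun A B _ _ _ _ _ _ _ _ _ hA hF => isGorensteinLocalRing_of_flat_of_regular_fibre A B hA hF)
    R S r (hR.isGorensteinLocalRing_localization _) ?_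
  intro q _
  exact (hfib (r.under R)).isRegularLocalRing_localization q


/-- Geometrically regular fibres are in particular regular. -/
theorem isRegularRing_fiber_of_isRegularHom (R S : Type u) [CommRing R] [CommRing S]
    [Algebra R S] (h : CAlg.IsRegularHom R S) (p : Ideal R) [p.IsPrime] :
    IsRegularRing (p.Fiber S) := by
  have h1 : IsRegularRing (p.ResidueField ⊗[p.ResidueField] (p.Fiber S)) :=
    (h.2 p).2 p.ResidueField (Module.Finite.self _)
  exact @IsRegularRing.of_ringEquiv _ _ _ _
    (Algebra.TensorProduct.lid p.ResidueField (p.Fiber S)).toRingEquiv h1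

/-- A regular homomorphism to a Noetherian ring transfers Gorenstein. -/
theorem isGorensteinRing_of_isRegularHom (R S : Type u) [CommRing R] [CommRing S]
    [Algebra R S] [IsNoetherianRing S] (hR : LocCoh.IsGorensteinRing R)
    (h : CAlg.IsRegularHom R S) : LocCoh.IsGorensteinRing S := by
  haveI := h.1
  exact isGorensteinRing_of_flat_of_regular_fibres R S hR
    (fun p _ => isRegularRing_fiber_of_isRegularHom R S h p)

set_option backward.isDefEq.respectTransparency false in
/-- S8949: Gorenstein fibres are preserved by composing with a regular map. -/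
theorem isGorensteinRing_fiber_comp (A B C : Type u) [CommRing A] [CommRing B] [CommRing C]
    [IsNoetherianRing A] [IsNoetherianRing B] [IsNoetherianRing C] [Algebra A B] [Algebra B C]
    [Algebra A C] [IsScalarTower A B C] [Module.Flat A B] [Module.Flat B C]
    (hAB : ∀ (q : Ideal A) [q.IsPrime], LocCoh.IsGorensteinRing (q.Fiber B))
    (hBC : CAlg.IsRegularHom B C) (q : Ideal A) [q.IsPrime] :
    LocCoh.IsGorensteinRing (q.Fiber C) := by
  have hR' : LocCoh.IsGorensteinRing (B ⊗[A] q.ResidueField) :=
    isGorensteinRing_of_ringEquiv (Algebra.TensorProduct.comm A q.ResidueField B).toRingEquiv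
      (hAB q)
  have hreg : CAlg.IsRegularHom (B ⊗[A] q.ResidueField) ((B ⊗[A] q.ResidueField) ⊗[B] C) :=
    Groth.Agent.H26.RegHomBaseChange.isRegularHom_baseChange_of_essFiniteType B C
      (B ⊗[A] q.ResidueField) hBC
  let ε : (B ⊗[A] q.ResidueField) ⊗[B] C ≃+* q.Fiber C :=
    Groth.Agent.H26.RegHomDescent.tensorTensorEquiv A B C q.ResidueField
  haveI : IsNoetherianRing (q.Fiber C) := Groth.Agent.H26.SkFlat.isNoetherianRing_fiber C q
  haveI : IsNoetherianRing ((B ⊗[A] q.ResidueField) ⊗[B] C) :=
    isNoetherianRing_of_ringEquiv _ ε.symm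
  exact isGorensteinRing_of_ringEquiv ε
    (isGorensteinRing_of_isRegularHom (B ⊗[A] q.ResidueField) _ hR' hreg)

end Groth.Agent.H26.GorRegHom
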