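import Mathlib

/-!
# Annihilators and flat base change

For a flat `A`-algebra `B` and finitely many `x i : A`: an element `b : B` killed by all `x i`
lies in the extension of the ideal `{a | ∀ i, x i * a = 0}`.
-/

set_option autoImplicit false
set_option linter.style.haveILetI false
set_option linter.unusedSectionVars false
universe u

open TensorProduct

namespace Groth.Agent.H26.FlatAnn

variable {A B : Type u} [CommRing A] [CommRing B] [Algebra A B] [Module.Flat A B]

/-- the simultaneous multiplication map `a ↦ (x i * a)_i` -/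
noncomputable def mulPi {ι : Type} (x : ι → A) : A →ₗ[A] (ι → A) :=
  LinearMap.pi fun i => LinearMap.lsmul A A (x i)

@[simp] theorem mulPi_apply {ι : Type} (x : ι → A) (a : A) (i : ι) : mulPi x a i = x i * a := rfl

/-- the ideal of elements killed by all `x i` -/
noncomputable def annPi {ι : Type} (x : ι → A) : Ideal A := LinearMap.ker (mulPi x)

theorem mem_annPi {ι : Type} (x : ι → A) (a : A) : a ∈ annPi x ↔ ∀ i, x i * a = 0 := by
  unfold annPi
  rw [LinearMap.mem_ker]
  constructor
  · intro h i
    exact congrFun h i
  · intro h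
    funext i
    exact h i

theorem mem_map_annPi {ι : Type} [Fintype ι] [DecidableEq ι] (x : ι → A) (b : B)
    (hb : ∀ i, algebraMap A B (x i) * b = 0) : b ∈ (annPi x).map (algebraMap A B) := by
  have h := Module.Flat.ker_lTensor_eq (R := A) B B (mulPi x)
  have hmem : (b ⊗ₜ[A] (1 : A)) ∈ LinearMap.ker (AlgebraTensorModule.lTensor B B (mulPi x)) := by
    rw [LinearMap.mem_ker, AlgebraTensorModule.lTensor_tmul]
    apply (TensorProduct.piRight A B B (fun _ : ι => A)).injective
    funext i
    rw [TensorProduct.piRight_apply, TensorProduct.piRightHom_tmul, map_zero, Pi.zero_apply]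
    show b ⊗ₜ[A] (mulPi x 1 i) = 0
    rw [mulPi_apply, mul_one]
    have : x i = x i • (1 : A) := by rw [smul_eq_mul, mul_one]
    rw [this, ← TensorProduct.smul_tmul, Algebra.smul_def, hb i, TensorProduct.zero_tmul]
  rw [h] at hmem
  obtain ⟨z, hz⟩ := hmem
  have hb' : b = TensorProduct.AlgebraTensorModule.rid A B B (b ⊗ₜ[A] (1 : A)) := by
    rw [TensorProduct.AlgebraTensorModule.rid_tmul, one_smul]
  rw [hb', ← hz]
  clear hz hb' h
  induction z using TensorProduct.induction_on with
  | zero => simp
  | tmul b' a =>
    rw [AlgebraTensorModule.lTensor_tmul, TensorProduct.AlgebraTensorModule.rid_tmul,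
      Submodule.subtype_apply, Algebra.smul_def]
    exact Ideal.mul_mem_right _ _ (Ideal.mem_map_of_mem _ a.2)
  | add z₁ z₂ h₁ h₂ =>
    rw [map_add, map_add]
    exact Ideal.add_mem _ h₁ h₂

/-- single element version: `x b = 0` implies `b ∈ ann(x) B` -/
theorem mem_map_of_mul_eq_zero (x : A) (b : B) (hb : algebraMap A B x * b = 0) :
    b ∈ (Ideal.span {x}).annihilator.map (algebraMap A B) := by
  classical
  have h := mem_map_annPi (fun _ : Unit => x) b (fun _ => hb)
  refine Ideal.map_mono ?_ h
  intro a ha
  rw [mem_annPi] at ha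
  rw [Submodule.mem_annihilator_span_singleton, smul_eq_mul, mul_comm]
  exact ha ()

end Groth.Agent.H26.FlatAnn
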