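import Mathlib
import Groth.Agent.H26.FlatAnn
import Groth.Agent.H72.FlatCM

/-!
# Socles along a flat local homomorphism with zero-dimensional source

`IsSocleGen X s`: `s` is a nonzero generator of the socle of the local ring `X`.
For a flat local homomorphism `A → B` where the socle of `A` is generated by `s`, the socle of
`B` is simple iff the socle of the closed fibre is.
-/

set_option autoImplicit false
set_option linter.style.haveILetI false
set_option linter.unusedSectionVars false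
universe u

open IsLocalRing

namespace Groth.Agent.H26.SocleFlat

/-- `s` is a nonzero generator of the socle of the local ring `X` -/
def IsSocleGen (X : Type u) [CommRing X] [IsLocalRing X] (s : X) : Prop :=
  s ≠ 0 ∧ (∀ y ∈ maximalIdeal X, y * s = 0) ∧
    ∀ c : X, (∀ y ∈ maximalIdeal X, y * c = 0) → ∃ u : X, c = u * s

variable {A B : Type u} [CommRing A] [CommRing B] [Algebra A B]
  [IsNoetherianRing A] [IsLocalRing A] [IsNoetherianRing B] [IsLocalRing B]
  [IsLocalHom (algebraMap A B)] [Module.Flat A B]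

local notation "𝔪B" => Ideal.map (algebraMap A B) (IsLocalRing.maximalIdeal A)

/-- Elements killed by `𝔪_A` are multiples of the socle generator. -/
theorem exists_eq_mul_of_forall_mul_eq_zero {s : A} (hs : IsSocleGen A s) (b : B)
    (hb : ∀ x ∈ maximalIdeal A, algebraMap A B x * b = 0) :
    ∃ b' : B, b = b' * algebraMap A B s := by
  classical
  obtain ⟨n, x, hx⟩ := (Submodule.fg_iff_exists_fin_generating_family).mp
    (IsNoetherian.noetherian (maximalIdeal A))
  have hxm : ∀ i, x i ∈ maximalIdeal A := fun i => by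
    rw [← hx]
    exact Submodule.subset_span ⟨i, rfl⟩
  have h1 := Groth.Agent.H26.FlatAnn.mem_map_annPi (B := B) x b (fun i => hb _ (hxm i))
  have hle : Groth.Agent.H26.FlatAnn.annPi x ≤ Ideal.span {s} := by
    intro a ha
    rw [Groth.Agent.H26.FlatAnn.mem_annPi] at ha
    have hall : ∀ y ∈ maximalIdeal A, y * a = 0 := by
      intro y hy
      have hle' : maximalIdeal A ≤ (Ideal.span {a}).annihilator := by
        rw [← hx]
        refine Submodule.span_le.mpr ?_
        rintro _ ⟨i, rfl⟩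
        rw [SetLike.mem_coe, Submodule.mem_annihilator_span_singleton, smul_eq_mul]
        exact ha i
      have := hle' hy
      rwa [Submodule.mem_annihilator_span_singleton, smul_eq_mul] at this
    obtain ⟨u, hu⟩ := hs.2.2 a hall
    rw [Ideal.mem_span_singleton']
    exact ⟨u, hu.symm⟩
  have h2 := Ideal.map_mono (f := algebraMap A B) hle h1
  rw [Ideal.map_span, Set.image_singleton, Ideal.mem_span_singleton'] at h2
  obtain ⟨b', hb'⟩ := h2
  exact ⟨b', hb'.symm⟩

/-- Elements killed by the socle generator lie in `𝔪_A B`. -/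
theorem mem_mB_of_mul_eq_zero {s : A} (hs : IsSocleGen A s) (b : B)
    (hb : algebraMap A B s * b = 0) : b ∈ 𝔪B := by
  have h1 := Groth.Agent.H26.FlatAnn.mem_map_of_mul_eq_zero s b hb
  refine Ideal.map_mono ?_ h1
  intro a ha
  rw [Submodule.mem_annihilator_span_singleton, smul_eq_mul] at ha
  by_contra hnm
  have hu : IsUnit a := by
    by_contra hnu
    exact hnm ((mem_maximalIdeal a).mpr hnu)
  exact hs.1 (hu.mul_right_eq_zero.mp ha)

theorem mul_eq_zero_of_mem_mB {s : A} (hs : IsSocleGen A s) (b : B) (hb : b ∈ 𝔪B) :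
    algebraMap A B s * b = 0 := by
  have h1 : Ideal.span {algebraMap A B s} * 𝔪B = ⊥ := by
    rw [← Set.image_singleton, ← Ideal.map_span, ← Ideal.map_mul]
    have : Ideal.span {s} * maximalIdeal A = ⊥ := by
      rw [eq_bot_iff, Ideal.span_singleton_mul_le_iff]
      intro z hz
      rw [Ideal.mem_bot, mul_comm]
      exact hs.2.1 z hz
    rw [this, Ideal.map_bot]
  have h2 : algebraMap A B s * b ∈ Ideal.span {algebraMap A B s} * 𝔪B :=
    Ideal.mul_mem_mul (Ideal.mem_span_singleton_self _) hb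
  rwa [h1, Ideal.mem_bot] at h2

theorem mk_mem_maximalIdeal_iff (y : B) :
    Ideal.Quotient.mk 𝔪B y ∈ maximalIdeal (B ⧸ 𝔪B) ↔ y ∈ maximalIdeal B := by
  haveI : IsLocalHom (Ideal.Quotient.mk 𝔪B) :=
    IsLocalHom.of_surjective _ Ideal.Quotient.mk_surjective
  rw [mem_maximalIdeal, mem_maximalIdeal, mem_nonunits_iff, mem_nonunits_iff,
    isUnit_map_iff (Ideal.Quotient.mk 𝔪B)]

/-- simple socle of the fibre ⟹ simple socle of `B` -/
theorem isSocleGen_of_fibre {s : A} (hs : IsSocleGen A s) (t : B)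
    (ht : IsSocleGen (B ⧸ 𝔪B) (Ideal.Quotient.mk 𝔪B t)) :
    IsSocleGen B (algebraMap A B s * t) := by
  refine ⟨?_, ?_, ?_⟩
  · intro h0
    exact ht.1 (Ideal.Quotient.eq_zero_iff_mem.mpr (mem_mB_of_mul_eq_zero hs t h0))
  · intro y hy
    have h1 := ht.2.1 _ ((mk_mem_maximalIdeal_iff y).mpr hy)
    rw [← map_mul, Ideal.Quotient.eq_zero_iff_mem] at h1
    have h2 := mul_eq_zero_of_mem_mB hs _ h1
    rw [← h2]
    ring
  · intro c hc
    obtain ⟨b, rfl⟩ := exists_eq_mul_of_forall_mul_eq_zero hs c (fun x hx =>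
      hc _ (Groth.Agent.H72.FlatCM.mB_le (A := A) (B := B) (Ideal.mem_map_of_mem _ hx)))
    have hb : ∀ y' ∈ maximalIdeal (B ⧸ 𝔪B), y' * Ideal.Quotient.mk 𝔪B b = 0 := by
      intro y' hy'
      obtain ⟨y, rfl⟩ := Ideal.Quotient.mk_surjective y'
      have hy := (mk_mem_maximalIdeal_iff y).mp hy'
      rw [← map_mul, Ideal.Quotient.eq_zero_iff_mem]
      refine mem_mB_of_mul_eq_zero hs _ ?_
      have := hc y hy
      rw [← this]
      ring
    obtain ⟨u', hu'⟩ := ht.2.2 _ hb
    obtain ⟨u, rfl⟩ := Ideal.Quotient.mk_surjective u'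
    rw [← map_mul, ← sub_eq_zero, ← map_sub, Ideal.Quotient.eq_zero_iff_mem] at hu'
    have h3 := mul_eq_zero_of_mem_mB hs _ hu'
    refine ⟨u, ?_⟩
    rw [mul_sub, sub_eq_zero] at h3
    rw [mul_comm b, h3]
    ring

/-- simple socle of `B` ⟹ simple socle of the fibre -/
theorem exists_isSocleGen_fibre {s : A} (hs : IsSocleGen A s) (c₀ : B) (hc₀ : IsSocleGen B c₀) :
    ∃ t : B, c₀ = algebraMap A B s * t ∧ IsSocleGen (B ⧸ 𝔪B) (Ideal.Quotient.mk 𝔪B t) := by
  obtain ⟨t, ht⟩ := exists_eq_mul_of_forall_mul_eq_zero hs c₀ (fun x hx =>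
    hc₀.2.1 _ (Groth.Agent.H72.FlatCM.mB_le (A := A) (B := B) (Ideal.mem_map_of_mem _ hx)))
  refine ⟨t, by rw [ht, mul_comm], ?_, ?_, ?_⟩
  · intro h0
    rw [Ideal.Quotient.eq_zero_iff_mem] at h0
    have := mul_eq_zero_of_mem_mB hs _ h0
    rw [mul_comm, ← ht] at this
    exact hc₀.1 this
  · intro y' hy'
    obtain ⟨y, rfl⟩ := Ideal.Quotient.mk_surjective y'
    have hy := (mk_mem_maximalIdeal_iff y).mp hy'
    rw [← map_mul, Ideal.Quotient.eq_zero_iff_mem]
    refine mem_mB_of_mul_eq_zero hs _ ?_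
    have := hc₀.2.1 y hy
    rw [ht] at this
    rw [← this]
    ring
  · intro b' hb'
    obtain ⟨b, rfl⟩ := Ideal.Quotient.mk_surjective b'
    have hsb : ∀ y ∈ maximalIdeal B, y * (algebraMap A B s * b) = 0 := by
      intro y hy
      have h1 := hb' _ ((mk_mem_maximalIdeal_iff y).mpr hy)
      rw [← map_mul, Ideal.Quotient.eq_zero_iff_mem] at h1
      have h2 := mul_eq_zero_of_mem_mB hs _ h1
      rw [← h2]
      ring
    obtain ⟨u, hu⟩ := hc₀.2.2 _ hsb
    refine ⟨Ideal.Quotient.mk 𝔪B u, ?_⟩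
    rw [← map_mul, ← sub_eq_zero, ← map_sub, Ideal.Quotient.eq_zero_iff_mem]
    refine mem_mB_of_mul_eq_zero hs _ ?_
    rw [mul_sub, hu, ht]
    ring

end Groth.Agent.H26.SocleFlat
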