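import Mathlib
import Groth.Prelude.Def_CAlg
import Groth.Agent.H26.SocleFlat
import Groth.Agent.H2.MatlisChar
import Groth.Agent.H2.GorensteinCM

/-!
# Zero-dimensional Gorenstein local rings and simple socles
-/

set_option autoImplicit false
set_option linter.style.haveILetI false
set_option linter.unusedSectionVars false
universe u

open IsLocalRing CategoryTheory Abelian

namespace Groth.Agent.H26.SocleGor

open Groth.Agent.H26.SocleFlat

variable {X : Type u} [CommRing X] [IsLocalRing X] [IsNoetherianRing X]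

/-- The socle of `X` is isomorphic to the residue field when generated by a nonzero `s`. -/
theorem nonempty_hom_residueField_equiv {s : X} (hs : IsSocleGen X s) :
    Nonempty ((ResidueField X →ₗ[X] X) ≃ₗ[X] ResidueField X) := by
  let T : Submodule X X := Submodule.torsionBySet X X (maximalIdeal X : Set X)
  have hsT : ∀ u : X, u * s ∈ T := by
    intro u
    rw [Submodule.mem_torsionBySet_iff]
    rintro ⟨y, hy⟩
    show y * (u * s) = 0
    rw [mul_left_comm, hs.2.1 y hy, mul_zero]
  let φ : X →ₗ[X] T := (LinearMap.toSpanSingleton X X s).codRestrict T (fun u => by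
    rw [LinearMap.toSpanSingleton_apply, smul_eq_mul]
    exact hsT u)
  have hφs : Function.Surjective φ := by
    rintro ⟨c, hc⟩
    rw [Submodule.mem_torsionBySet_iff] at hc
    obtain ⟨u, hu⟩ := hs.2.2 c (fun y hy => hc ⟨y, hy⟩)
    refine ⟨u, Subtype.ext ?_⟩
    show u • s = c
    rw [smul_eq_mul, hu]
  have hker : LinearMap.ker φ = maximalIdeal X := by
    ext u
    rw [LinearMap.mem_ker]
    constructor
    · intro hu
      have hu' : u * s = 0 := congrArg Subtype.val hu
      by_contra hnm
      have hunit : IsUnit u := by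
        by_contra hnu
        exact hnm ((mem_maximalIdeal u).mpr hnu)
      exact hs.1 (hunit.mul_right_eq_zero.mp hu')
    · intro hu
      apply Subtype.ext
      show u • s = 0
      rw [smul_eq_mul]
      exact hs.2.1 u hu
  let e1 : (X ⧸ LinearMap.ker φ) ≃ₗ[X] T := φ.quotKerEquivOfSurjective hφs
  let e2 : (X ⧸ maximalIdeal X) ≃ₗ[X] (X ⧸ LinearMap.ker φ) :=
    Submodule.quotEquivOfEq _ _ hker.symm
  exact ⟨(Groth.Agent.H2.MatlisChar.homQuotEquivTorsion (maximalIdeal X) X).trans
    (e1.symm.trans e2.symm)⟩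

/-- A Noetherian local ring with nilpotent maximal ideal and simple socle is Gorenstein. -/
theorem isGorensteinLocalRing_of_isSocleGen {s : X} (hs : IsSocleGen X s)
    (hnil : ∃ N : ℕ, maximalIdeal X ^ N = ⊥) : LocCoh.IsGorensteinLocalRing X := by
  obtain ⟨N, hN⟩ := hnil
  have ha : LocCoh.IsPowerTorsion (maximalIdeal X) X := by
    intro m
    refine ⟨N, fun a ha => ?_⟩
    rw [hN, Ideal.mem_bot] at ha
    rw [ha, zero_smul]
  have hlen : Module.length X (X ⧸ (⊥ : Ideal X)) =
      Module.length X ((X ⧸ (⊥ : Ideal X)) →ₗ[X] X) := by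
    let e0 : (X ⧸ (⊥ : Ideal X)) ≃ₗ[X] X := Submodule.quotEquivOfEqBot ⊥ rfl
    let e1 : ((X ⧸ (⊥ : Ideal X)) →ₗ[X] X) ≃ₗ[X] X :=
      (LinearEquiv.congrLeft X X e0).trans (LinearMap.ringLmapEquivSelf X X X)
    exact (e0.trans e1.symm).length_eq
  obtain ⟨f, hf⟩ := Groth.Agent.H2.MatlisChar.isInjectiveHull_of_length X ha
    (nonempty_hom_residueField_equiv hs) (fun _ => ⊥) (fun _ => ⟨N, hN.le⟩)
    (fun _ => ⟨0, bot_le⟩) (fun _ => hlen)
  haveI := hf.isInjective
  haveI : Injective (ModuleCat.of X X) := Module.injective_object_of_injective_module X _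
  exact { exists_hasInjectiveDimensionLT := ⟨1, inferInstance⟩ }

/-- A Gorenstein local ring with a nonzero socle element is zero-dimensional with simple socle. -/
theorem isSocleGen_of_isGorensteinLocalRing (hX : LocCoh.IsGorensteinLocalRing X) (a : X)
    (ha0 : a ≠ 0) (ha : ∀ y ∈ maximalIdeal X, y * a = 0) :
    IsSocleGen X a ∧ ringKrullDim X = 0 := by
  obtain ⟨n, hn⟩ := hX.exists_hasInjectiveDimensionLT
  have hn' : HasInjectiveDimensionLT (ModuleCat.of X X) (n + 1) :=
    hasInjectiveDimensionLT_of_ge _ n _ (by omega)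
  obtain ⟨-, hdim, -⟩ := Groth.Agent.H2.GorensteinCM.isCM_of_socle a ha0 ha n hn'
  haveI := Groth.Agent.H2.GorensteinCM.injective_of_socle a ha0 ha n hn'
  refine ⟨⟨ha0, ha, fun c hc => ?_⟩, hdim⟩
  obtain ⟨h, hh⟩ := Module.Injective.extension_property X X (ResidueField X) X
    (Groth.Agent.H2.GorensteinCM.socleMap a ha)
    (Groth.Agent.H2.GorensteinCM.socleMap_injective a ha0 ha)
    (Groth.Agent.H2.GorensteinCM.socleMap c hc)
  refine ⟨h 1, ?_⟩
  have h1 := LinearMap.congr_fun hh (Submodule.Quotient.mk 1)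
  have h2 : Groth.Agent.H2.GorensteinCM.socleMap a ha (Submodule.Quotient.mk 1) = a := by
    show (LinearMap.toSpanSingleton X X a) 1 = a
    simp
  have h3 : Groth.Agent.H2.GorensteinCM.socleMap c hc (Submodule.Quotient.mk 1) = c := by
    show (LinearMap.toSpanSingleton X X c) 1 = c
    simp
  rw [LinearMap.comp_apply, h2, h3] at h1
  rw [← h1]
  have : a = a • (1 : X) := by rw [smul_eq_mul, mul_one]
  conv_lhs => rw [this]
  rw [map_smul, smul_eq_mul, mul_comm]

end Groth.Agent.H26.SocleGor
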