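import Mathlib
import Groth.Prelude.Def_CAlg
import Groth.Agent.H26.SocleGor
import Groth.Agent.H26.QuotBase
import Groth.Agent.H26.GorFlat
import Groth.Agent.H26.GorRegHom
import Groth.Agent.H26.GorDescent
import Groth.Agent.S0343

/-!
# Gorenstein property along a flat local homomorphism (S0344)

For `A → B` flat local with `A` Gorenstein: `B` is Gorenstein iff the closed fibre is.
-/

set_option autoImplicit false
set_option linter.style.haveILetI false
set_option linter.unusedSectionVars false
universe u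

open IsLocalRing

namespace Groth.Agent.H26.GorFibre

open Groth.Agent.H26.SocleFlat Groth.Agent.H26.SocleGor Groth.Agent.H26.GorFlat
  Groth.Agent.H26.GorRegHom

theorem exists_pow_maximalIdeal_eq_bot (X : Type u) [CommRing X] [IsLocalRing X]
    [IsNoetherianRing X] (h : ringKrullDim X = 0) : ∃ N : ℕ, maximalIdeal X ^ N = ⊥ := by
  haveI : Ring.KrullDimLE 0 X := (ringKrullDimZero_iff_ringKrullDim_eq_zero).mpr h
  haveI : IsArtinianRing X := isArtinianRing_iff_krullDimLE_zero.mpr inferInstance
  obtain ⟨N, hN⟩ := (isArtinianRing_iff_isNilpotent_maximalIdeal X).mp inferInstance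
  exact ⟨N, hN⟩

section Base

variable (A B : Type u) [CommRing A] [CommRing B] [Algebra A B]
  [IsNoetherianRing A] [IsLocalRing A] [IsNoetherianRing B] [IsLocalRing B]
  [IsLocalHom (algebraMap A B)] [Module.Flat A B]

/-- Base case: no regular elements in `𝔪_A` nor in the maximal ideal of the fibre. -/
theorem base_case (hA : LocCoh.IsGorensteinLocalRing A)
    (hA0 : ¬ ∃ x ∈ maximalIdeal A, IsSMulRegular A x)
    (hF0 : ¬ ∃ y ∈ maximalIdeal (B ⧸ mB A B), IsSMulRegular (B ⧸ mB A B) y) :
    LocCoh.IsGorensteinLocalRing (B ⧸ mB A B) ↔ LocCoh.IsGorensteinLocalRing B := by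
  obtain ⟨s, hs0, hs⟩ := Groth.Agent.H2.GorensteinCM.exists_socle_of_not_exists_regular hA0
  obtain ⟨hsA, hdimA⟩ := isSocleGen_of_isGorensteinLocalRing hA s hs0 hs
  obtain ⟨NA, hNA⟩ := exists_pow_maximalIdeal_eq_bot A hdimA
  obtain ⟨t', ht'0, ht'⟩ := Groth.Agent.H2.GorensteinCM.exists_socle_of_not_exists_regular hF0
  obtain ⟨t, rfl⟩ := Ideal.Quotient.mk_surjective t'
  -- `(𝔪_A B)^NA = 0`
  have hmB : (mB A B) ^ NA = ⊥ := by
    rw [← Ideal.map_pow, hNA, Ideal.map_bot]
  constructor
  · intro hF
    obtain ⟨hsF, hdimF⟩ := isSocleGen_of_isGorensteinLocalRing hF _ ht'0 ht'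
    obtain ⟨NF, hNF⟩ := exists_pow_maximalIdeal_eq_bot (B ⧸ mB A B) hdimF
    have hsB := isSocleGen_of_fibre hsA t hsF
    refine isGorensteinLocalRing_of_isSocleGen hsB ⟨NF * NA, ?_⟩
    have h1 : maximalIdeal B ^ NF ≤ mB A B := by
      have h2 : (maximalIdeal B ^ NF).map (Ideal.Quotient.mk (mB A B)) = ⊥ := by
        rw [Ideal.map_pow, map_maximalIdeal_of_surjective _ Ideal.Quotient.mk_surjective, hNF]
      intro z hz
      have : Ideal.Quotient.mk (mB A B) z ∈ (maximalIdeal B ^ NF).map
          (Ideal.Quotient.mk (mB A B)) := Ideal.mem_map_of_mem _ hz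
      rw [h2, Ideal.mem_bot] at this
      exact Ideal.Quotient.eq_zero_iff_mem.mp this
    rw [pow_mul, eq_bot_iff, ← hmB]
    exact Ideal.pow_right_mono h1 NA
  · intro hB
    -- `s t` is a socle element of `B`
    have hst0 : algebraMap A B s * t ≠ 0 := by
      intro h0
      exact ht'0 (Ideal.Quotient.eq_zero_iff_mem.mpr (mem_mB_of_mul_eq_zero hsA t h0))
    have hst : ∀ y ∈ maximalIdeal B, y * (algebraMap A B s * t) = 0 := by
      intro y hy
      have h1 := ht' _ ((mk_mem_maximalIdeal_iff y).mpr hy)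
      rw [← map_mul, Ideal.Quotient.eq_zero_iff_mem] at h1
      have h2 := mul_eq_zero_of_mem_mB hsA _ h1
      rw [← h2]
      ring
    obtain ⟨hsB, hdimB⟩ := isSocleGen_of_isGorensteinLocalRing hB _ hst0 hst
    obtain ⟨NB, hNB⟩ := exists_pow_maximalIdeal_eq_bot B hdimB
    obtain ⟨t₁, -, hsF⟩ := exists_isSocleGen_fibre hsA _ hsB
    refine isGorensteinLocalRing_of_isSocleGen hsF ⟨NB, ?_⟩
    rw [← map_maximalIdeal_of_surjective (Ideal.Quotient.mk (mB A B)) Ideal.Quotient.mk_surjective,
      ← Ideal.map_pow, hNB, Ideal.map_bot]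

end Base


theorem isGorensteinLocalRing_congr {X Y : Type u} [CommRing X] [CommRing Y] (e : X ≃+* Y) :
    LocCoh.IsGorensteinLocalRing X ↔ LocCoh.IsGorensteinLocalRing Y :=
  ⟨isGorensteinLocalRing_of_ringEquiv e, isGorensteinLocalRing_of_ringEquiv e.symm⟩

theorem exists_nat_dim (X : Type u) [CommRing X] [IsLocalRing X] [IsNoetherianRing X] :
    ∃ d : ℕ, ringKrullDim X = (d : WithBot ℕ∞) := by
  obtain ⟨d, hd, -⟩ := Groth.Agent.Lead.RLR.exists_ringKrullDim_eq X
  exact ⟨d, hd⟩

set_option backward.isDefEq.respectTransparency false in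
/-- For a flat local homomorphism with Gorenstein source, the target is Gorenstein iff the closed
fibre is. -/
theorem gor_fibre_iff_aux : ∀ (n : ℕ) (A B : Type u) [CommRing A] [CommRing B] [Algebra A B]
    [IsNoetherianRing A] [IsLocalRing A] [IsNoetherianRing B] [IsLocalRing B]
    [IsLocalHom (algebraMap A B)] [Module.Flat A B], ringKrullDim B = (n : WithBot ℕ∞) →
    LocCoh.IsGorensteinLocalRing A →
    (LocCoh.IsGorensteinLocalRing (B ⧸ mB A B) ↔ LocCoh.IsGorensteinLocalRing B) := by
  intro n
  induction n using Nat.strong_induction_on with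
  | _ n ih =>
    intro A B _ _ _ _ _ _ _ _ _ hdim hA
    by_cases hF : ∃ y ∈ maximalIdeal (B ⧸ mB A B), IsSMulRegular (B ⧸ mB A B) y
    · -- Case 1: cut the fibre
      obtain ⟨x, hxm, hxreg⟩ := hF
      obtain ⟨y, rfl⟩ := Ideal.Quotient.mk_surjective x
      obtain ⟨hyreg, hyflat⟩ := isSMulRegular_and_flat_of_fibre A B y hxreg
      have hym : y ∈ maximalIdeal B := (mk_mem_maximalIdeal_iff y).mp hxm
      have hne : Ideal.span {y} ≠ ⊤ := by
        intro h
        have h1 : (1 : B) ∈ maximalIdeal B := by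
          have : Ideal.span {y} ≤ maximalIdeal B := (Ideal.span_singleton_le_iff_mem _).mpr hym
          exact this (h ▸ Submodule.mem_top)
        exact (maximalIdeal.isMaximal B).ne_top ((Ideal.eq_top_iff_one _).mpr h1)
      haveI : IsLocalRing (B ⧸ Ideal.span {y}) :=
        Groth.Agent.Lead.RLR.isLocalRing_quotient B _ hne
      haveI : IsLocalHom (Ideal.Quotient.mk (Ideal.span {y})) :=
        IsLocalHom.of_surjective _ Ideal.Quotient.mk_surjective
      haveI : IsLocalHom (algebraMap A (B ⧸ Ideal.span {y})) := by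
        rw [IsScalarTower.algebraMap_eq A B (B ⧸ Ideal.span {y})]
        exact RingHom.isLocalHom_comp _ _
      have hmB : mB A (B ⧸ Ideal.span {y}) =
          (mB A B).map (Ideal.Quotient.mk (Ideal.span {y})) := by
        change (maximalIdeal A).map (algebraMap A (B ⧸ Ideal.span {y})) = _
        rw [IsScalarTower.algebraMap_eq A B (B ⧸ Ideal.span {y}), ← Ideal.map_map]
        rfl
      have hsp : (Ideal.span {y}).map (Ideal.Quotient.mk (mB A B)) =
          Ideal.span {Ideal.Quotient.mk (mB A B) y} := by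
        rw [Ideal.map_span, Set.image_singleton]
      let ε : ((B ⧸ Ideal.span {y}) ⧸ mB A (B ⧸ Ideal.span {y})) ≃+*
          ((B ⧸ mB A B) ⧸ Ideal.span {Ideal.Quotient.mk (mB A B) y}) :=
        (Ideal.quotEquivOfEq hmB).trans
          ((DoubleQuot.quotQuotEquivComm (Ideal.span {y}) (mB A B)).trans
            (Ideal.quotEquivOfEq hsp))
      have hdim' := ringKrullDim_quotient_span_singleton_succ_eq_ringKrullDim hyreg hym
      obtain ⟨m, hm⟩ := exists_nat_dim (B ⧸ Ideal.span {y})
      have hmn : m + 1 = n := by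
        rw [hm, hdim] at hdim'
        exact_mod_cast hdim'
      have hIH := ih m (by omega) A (B ⧸ Ideal.span {y}) hm hA
      rw [Groth.Agent.S0343.result (B ⧸ mB A B) _ hxm hxreg,
        Groth.Agent.S0343.result B y hym hyreg, ← hIH]
      exact (isGorensteinLocalRing_congr ε).symm
    · by_cases hA0 : ∃ x ∈ maximalIdeal A, IsSMulRegular A x
      · -- Case 2: cut the base
        obtain ⟨x, hxm, hxreg⟩ := hA0
        have hI : Ideal.span {x} ≤ maximalIdeal A := (Ideal.span_singleton_le_iff_mem _).mpr hxm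
        haveI := Groth.Agent.H26.QuotBase.isLocalRing_quotient_base A (Ideal.span {x}) hI
        haveI := Groth.Agent.H26.QuotBase.isLocalRing_quotient_top A B (Ideal.span {x}) hI
        haveI := Groth.Agent.H26.QuotBase.isLocalHom_quotient A B (Ideal.span {x})
        haveI := Groth.Agent.H26.QuotBase.flat_quotient A B (Ideal.span {x})
        have hA' : LocCoh.IsGorensteinLocalRing (A ⧸ Ideal.span {x}) :=
          (Groth.Agent.S0343.result A x hxm hxreg).mp hA
        have hx'm : algebraMap A B x ∈ maximalIdeal B :=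
          Groth.Agent.H26.QuotBase.map_le_maximalIdeal A B _ hI
            (Ideal.mem_map_of_mem _ (Ideal.mem_span_singleton_self x))
        have hx'reg : IsSMulRegular B (algebraMap A B x) := IsSMulRegular.of_flat hxreg
        have hmap : (Ideal.span {x}).map (algebraMap A B) = Ideal.span {algebraMap A B x} := by
          rw [Ideal.map_span, Set.image_singleton]
        let e1 : (B ⧸ (Ideal.span {x}).map (algebraMap A B)) ≃+*
            (B ⧸ Ideal.span {algebraMap A B x}) := Ideal.quotEquivOfEq hmap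
        have hne : Ideal.span {algebraMap A B x} ≠ ⊤ := by
          rw [← hmap]
          exact Groth.Agent.H26.QuotBase.map_ne_top A B _ hI
        haveI : IsLocalRing (B ⧸ Ideal.span {algebraMap A B x}) :=
          Groth.Agent.Lead.RLR.isLocalRing_quotient B _ hne
        have hdim' := ringKrullDim_quotient_span_singleton_succ_eq_ringKrullDim hx'reg hx'm
        obtain ⟨m, hm⟩ := exists_nat_dim (B ⧸ (Ideal.span {x}).map (algebraMap A B))
        have hmn : m + 1 = n := by
          rw [← ringKrullDim_eq_of_ringEquiv e1, hm, hdim] at hdim'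
          exact_mod_cast hdim'
        have hIH := ih m (by omega) (A ⧸ Ideal.span {x})
          (B ⧸ (Ideal.span {x}).map (algebraMap A B)) hm hA'
        obtain ⟨e2⟩ := Groth.Agent.H26.QuotBase.nonempty_fibre_equiv A B (Ideal.span {x}) hI
        rw [Groth.Agent.S0343.result B _ hx'm hx'reg, ← isGorensteinLocalRing_congr e1, ← hIH]
        exact (isGorensteinLocalRing_congr e2).symm
      · exact base_case A B hA hA0 hF

/-- **S0344**. -/
theorem isGorensteinLocalRing_iff_of_flat (A B : Type u) [CommRing A] [CommRing B] [Algebra A B]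
    [IsNoetherianRing A] [IsLocalRing A] [IsNoetherianRing B] [IsLocalRing B]
    [IsLocalHom (algebraMap A B)] [Module.Flat A B] :
    LocCoh.IsGorensteinLocalRing B ↔
      (LocCoh.IsGorensteinLocalRing A ∧ LocCoh.IsGorensteinLocalRing (B ⧸ mB A B)) := by
  obtain ⟨n, hn⟩ := exists_nat_dim B
  constructor
  · intro hB
    have hA := Groth.Agent.H26.GorDescent.isGorensteinLocalRing_of_flat_descent A B hB
    exact ⟨hA, (gor_fibre_iff_aux n A B hn hA).mpr hB⟩
  · rintro ⟨hA, hF⟩
    exact (gor_fibre_iff_aux n A B hn hA).mp hF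

end Groth.Agent.H26.GorFibre
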