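import Mathlib
import Groth.Prelude.Def_DDual2
import Groth.Prelude.Def_CAlg
import Groth.Agent.H26.FlatBCDual8
import Groth.Agent.H2.GorensteinCM
import Groth.Agent.H26.GorFibre

/-!
# Dualizing complexes and flat base change, part 9: flat maps with Gorenstein fibres  (helper26)

`isDualizing_LB_of_gorenstein_fibres`: `A → B` flat, both Noetherian, all local rings of all fibre
rings Gorenstein of dimension `≤ N`.  Then `ω ⊗_A B` is dualizing over `B` for every dualizing
complex `ω` of `A`.
-/

set_option autoImplicit false
set_option linter.unusedSectionVars false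
set_option linter.style.haveILetI false
set_option linter.overlappingInstances false

universe u

open CategoryTheory Limits Pretriangulated DerivedCategory TensorProduct

namespace Groth.Agent.H26.FlatBCDual

open Groth.Agent.H26.FlatBCHom

attribute [local instance] HasDerivedCategory.standard
attribute [local instance] homModuleA

section Bounds

variable {A B : Type u} [CommRing A] [CommRing B] [Algebra A B] [Module.Flat A B]
  [IsNoetherianRing A] [IsNoetherianRing B]

/-- explicit bounds persist when cyclic modules are extended -/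
theorem subsingleton_T_LB_of_extended (ω : Dual.D A) (a b : ℤ) (hGE : ω.IsGE a) (hLE : ω.IsLE b)
    (hab : ∀ (M : Type u) [AddCommGroup M] [Module A M] (i : ℤ),
      (i < a ∨ b < i) → Subsingleton (Dual.inD A M ⟶ ω⟦i⟧))
    (hJ : ∀ J : Ideal B, ∃ (M : ModuleCat.{u} A) (_ : Module.Finite A M),
      Nonempty ((F0 A B).obj M ≅ ModuleCat.of B (B ⧸ J)))
    (M' : Type u) [AddCommGroup M'] [Module B M'] (i : ℤ) (hi : i < a ∨ b < i) :
    Subsingleton (Dual.inD B M' ⟶ ((LB A B).obj ω)⟦i⟧) := by
  refine subsingleton_of_cyclic _ a b ?_ M' i hi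
  intro J i hi
  obtain ⟨M, hM, ⟨e⟩⟩ := hJ J
  have h1 : BC (B := B) ((S0 A).obj M) (ω⟦i⟧) := BC_single_of_bounded M ω a b hGE hLE i
  have h2 := subsingleton_LB_hom_shift (B := B) ((S0 A).obj M) ω i h1 (hab M i hi)
  exact subsingleton_hom_of_iso (eps M ≪≫ (S0 B).mapIso e) (Iso.refl _) h2

/-- injective dimension of a Gorenstein local ring of dimension `≤ N` -/
theorem hasInjectiveDimensionLT_of_gorenstein (F : Type u) [CommRing F]
    (hF : LocCoh.IsGorensteinLocalRing F) (N : ℕ) (hN : ringKrullDim F ≤ N) :
    HasInjectiveDimensionLT (ModuleCat.of F F) (N + 1) := by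
  haveI := hF.toIsLocalRing
  haveI : IsNoetherianRing F := hF.toIsNoetherian
  obtain ⟨d, hd⟩ := Groth.Agent.H26.GorFibre.exists_nat_dim F
  have hdN : d ≤ N := by
    rw [hd] at hN
    exact_mod_cast hN
  haveI := Groth.Agent.H2.GorensteinCM.hasInjectiveDimensionLT_of_ringKrullDim F d hd
  exact hasInjectiveDimensionLT_of_ge (ModuleCat.of F F) (d + 1) (N + 1) (by omega)

end Bounds


section Fibres

variable {A B : Type u} [CommRing A] [CommRing B] [Algebra A B] [Module.Flat A B]
  [IsNoetherianRing A] [IsNoetherianRing B]

open IsLocalRing in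
set_option backward.isDefEq.respectTransparency false in
/-- the residue field vanishing at the prime `r = q ∩ B` of `B` attached to a prime `q` of a
fibre ring whose local ring is Gorenstein of dimension `≤ N` -/
theorem residue_vanishing_comap (N : ℕ) (ω : Dual.D A) (hω : Dual.IsDualizing A ω) (a b : ℤ)
    (hGE : ω.IsGE a) (hLE : ω.IsLE b)
    (hab : ∀ (M : Type u) [AddCommGroup M] [Module A M] (i : ℤ),
      (i < a ∨ b < i) → Subsingleton (Dual.inD A M ⟶ ω⟦i⟧))
    (p : Ideal A) [p.IsPrime] (q : Ideal (p.Fiber B)) [q.IsPrime]
    (hq : LocCoh.IsGorensteinLocalRing (Localization.AtPrime q))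
    (hdim : ringKrullDim (Localization.AtPrime q) ≤ N) (j : ℤ) (hj : b + N < j) :
    Subsingleton (Dual.inD
      (Localization.AtPrime
        (q.comap (Algebra.TensorProduct.includeRight (R := A) (A := p.ResidueField) (B := B))))
      (Localization.AtPrime
        (q.comap (Algebra.TensorProduct.includeRight (R := A) (A := p.ResidueField) (B := B))) ⧸
        maximalIdeal (Localization.AtPrime
          (q.comap (Algebra.TensorProduct.includeRight (R := A) (A := p.ResidueField) (B := B))))) ⟶
      ((LB B (Localization.AtPrime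
        (q.comap (Algebra.TensorProduct.includeRight (R := A) (A := p.ResidueField)
          (B := B))))).obj ((LB A B).obj ω))⟦j⟧) := by
  set r := q.comap (Algebra.TensorProduct.includeRight (R := A) (A := p.ResidueField) (B := B))
    with hr
  have hrp : r.LiesOver p := inferInstance
  let _ := Localization.AtPrime.algebraOfLiesOver p r
  have hloc : IsLocalHom (algebraMap (Localization.AtPrime p) (Localization.AtPrime r)) :=
    Localization.isLocalHom_localRingHom p r (algebraMap A B) Ideal.LiesOver.over
  haveI hflatB : Module.Flat B (Localization.AtPrime r) := IsLocalization.flat _ r.primeCompl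
  haveI hflatA : Module.Flat A (Localization.AtPrime r) := Module.Flat.trans A B _
  haveI hflat' : Module.Flat (Localization.AtPrime p) (Localization.AtPrime r) :=
    (Module.flat_iff_of_isLocalization (Localization.AtPrime p) p.primeCompl _).mpr hflatA
  haveI : IsNoetherianRing (Localization.AtPrime p) :=
    IsLocalization.isNoetherianRing p.primeCompl _ inferInstance
  haveI : IsNoetherianRing (Localization.AtPrime r) :=
    IsLocalization.isNoetherianRing r.primeCompl _ inferInstance
  -- the closed fibre
  have hideal : (maximalIdeal (Localization.AtPrime p)).map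
      (algebraMap (Localization.AtPrime p) (Localization.AtPrime r)) =
      (p.map (algebraMap A B)).map (algebraMap B (Localization.AtPrime r)) := by
    rw [← Localization.AtPrime.map_eq_maximalIdeal, Ideal.map_map, Ideal.map_map,
      ← IsScalarTower.algebraMap_eq, ← IsScalarTower.algebraMap_eq]
  have hF : LocCoh.IsGorensteinLocalRing (Localization.AtPrime r ⧸
      (maximalIdeal (Localization.AtPrime p)).map
        (algebraMap (Localization.AtPrime p) (Localization.AtPrime r))) ∧
      ringKrullDim (Localization.AtPrime r ⧸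
      (maximalIdeal (Localization.AtPrime p)).map
        (algebraMap (Localization.AtPrime p) (Localization.AtPrime r))) ≤ N := by
    rw [hideal]
    exact ⟨Groth.Agent.H26.GorRegHom.isGorensteinLocalRing_of_ringEquiv
        (Ideal.Fiber.algEquivAux₂ p q).toRingEquiv hq,
      (ringKrullDim_eq_of_ringEquiv (Ideal.Fiber.algEquivAux₂ p q).toRingEquiv).symm.trans_le hdim⟩
  have h2 := hasInjectiveDimensionLT_of_gorenstein _ hF.1 N hF.2
  -- the dualizing complex of `A_p`
  have hωp : Dual.IsDualizing (Localization.AtPrime p) ((LB A (Localization.AtPrime p)).obj ω) :=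
    isDualizing_LB_localization p.primeCompl ω hω
  have hbp : ∀ (M : Type u) [AddCommGroup M] [Module (Localization.AtPrime p) M] (i : ℤ), b < i →
      Subsingleton (Dual.inD (Localization.AtPrime p) M ⟶
        ((LB A (Localization.AtPrime p)).obj ω)⟦i⟧) := fun M _ _ i hi =>
    subsingleton_T_LB_of_extended ω a b hGE hLE hab
      (fun J => extended_of_map_comap J (IsLocalization.map_under p.primeCompl _ J)) M i (Or.inr hi)
  -- the residue field is killed by `m_p C`
  have hM : Module.IsTorsionBySet (Localization.AtPrime r)
      (Localization.AtPrime r ⧸ maximalIdeal (Localization.AtPrime r))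
      ((maximalIdeal (Localization.AtPrime p)).map
        (algebraMap (Localization.AtPrime p) (Localization.AtPrime r)) : Set _) := by
    intro y x
    obtain ⟨c, rfl⟩ := Ideal.Quotient.mk_surjective y
    have hx : (x : Localization.AtPrime r) ∈ maximalIdeal (Localization.AtPrime r) :=
      ((local_hom_TFAE (algebraMap (Localization.AtPrime p) (Localization.AtPrime r))).out 0 2
        rfl rfl).mp hloc x.2
    change (x : Localization.AtPrime r) • (Ideal.Quotient.mk _ c) = 0
    rw [Algebra.smul_def, Ideal.Quotient.algebraMap_eq, ← map_mul, Ideal.Quotient.eq_zero_iff_mem]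
    exact Ideal.mul_mem_right _ _ hx
  have key := subsingleton_T_of_closedFibre (A := Localization.AtPrime p)
    (C := Localization.AtPrime r) ((LB A (Localization.AtPrime p)).obj ω) hωp b hbp N h2
    (Localization.AtPrime r ⧸ maximalIdeal (Localization.AtPrime r)) hM j hj
  exact subsingleton_hom_of_iso (Iso.refl _)
    ((shiftFunctor _ j).mapIso (LBcomp (Localization.AtPrime p) (Localization.AtPrime r) ω ≪≫
      (LBcomp B (Localization.AtPrime r) ω).symm)) key


open IsLocalRing in
/-- **Flat maps with Gorenstein fibres preserve dualizing complexes.** -/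
theorem isDualizing_LB_of_gorenstein_fibres (N : ℕ)
    (hfib : ∀ (p : Ideal A) [p.IsPrime] (q : Ideal (p.Fiber B)) [q.IsPrime],
      LocCoh.IsGorensteinLocalRing (Localization.AtPrime q) ∧
        ringKrullDim (Localization.AtPrime q) ≤ N)
    (ω : Dual.D A) (hω : Dual.IsDualizing A ω) : Dual.IsDualizing B ((LB A B).obj ω) := by
  obtain ⟨a, b, hGE, hLE, hab⟩ := exists_bounds ω hω
  refine isDualizing_LB_of_residue ω hω (b + N) ?_
  intro 𝔫 h𝔫 j hj
  haveI h𝔫p : 𝔫.IsPrime := h𝔫.isPrime
  set p : Ideal A := 𝔫.under A with hp
  have hpp : p.IsPrime := inferInstance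
  let q0 := PrimeSpectrum.preimageEquivFiber A B ⟨p, hpp⟩ ⟨⟨𝔫, h𝔫p⟩, rfl⟩
  have hq0 : q0.asIdeal.comap (Algebra.TensorProduct.includeRight (R := A) (A := p.ResidueField)
      (B := B)) = 𝔫 := by
    have := (PrimeSpectrum.preimageEquivFiber A B ⟨p, hpp⟩).left_inv ⟨⟨𝔫, h𝔫p⟩, rfl⟩
    exact congrArg (fun x => x.1.asIdeal) this
  have key := residue_vanishing_comap N ω hω a b hGE hLE hab p q0.asIdeal
    (hfib p q0.asIdeal).1 (hfib p q0.asIdeal).2 j hj
  have hgen : ∀ (r' : Ideal B) (hr' : r'.IsPrime),
      q0.asIdeal.comap (Algebra.TensorProduct.includeRight (R := A) (A := p.ResidueField)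
        (B := B)) = r' →
      Subsingleton (Dual.inD (Localization.AtPrime r')
        (Localization.AtPrime r' ⧸ maximalIdeal (Localization.AtPrime r')) ⟶
        ((LB B (Localization.AtPrime r')).obj ((LB A B).obj ω))⟦j⟧) := by
    intro r' hr' e
    subst e
    exact key
  exact hgen 𝔫 h𝔫p hq0

end Fibres

end Groth.Agent.H26.FlatBCDual
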