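import Mathlib
import Groth.Prelude.Def_DDual2
import Groth.Prelude.Def_CAlg
import Groth.Agent.H26.FlatBCDual9
import Groth.Agent.H28.DualShift

/-!
# Dualizing complexes and flat base change, part 12: the closed fibre is Gorenstein  (helper26)

`isGorensteinLocalRing_closedFibre`: `A → C` flat local homomorphism of Noetherian local rings,
`ω` dualizing over `A` with `ω ⊗_A C` dualizing over `C`.  Then `C / m_A C` is Gorenstein.
-/

set_option autoImplicit false
set_option linter.unusedSectionVars false
set_option linter.style.haveILetI false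
set_option linter.overlappingInstances false

universe u

open CategoryTheory Limits Pretriangulated DerivedCategory TensorProduct

namespace Groth.Agent.H26.FlatBCDual

open Groth.Agent.H26.FlatBCHom

attribute [local instance] HasDerivedCategory.standard
attribute [local instance] homModuleA

section Quotient

variable {C F : Type u} [CommRing C] [CommRing F] [Algebra C F]

/-- if `Hom(F[0], W[j])` vanishes for `j ≠ s` and is `≃ F` for `j = s`, then
`RHom_C(F, W) ≅ F[-s]` -/
theorem nonempty_RRc_iso_single (hsurj : Function.Surjective (algebraMap C F))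
    (W : Dual.D C) (s : ℤ)
    (h0 : ∀ j : ℤ, j ≠ s → Subsingleton (Dual.inD C F ⟶ W⟦j⟧))
    (h1 : Nonempty ((Dual.inD C F ⟶ W⟦s⟧) ≃ₗ[C] F)) :
    Nonempty ((Groth.Agent.H28.CoextModel.RRc (A := C) (B := F)).obj W ≅
      (DerivedCategory.singleFunctor (ModuleCat.{u} F) s).obj (ModuleCat.of F F)) := by
  obtain ⟨h1⟩ := h1
  set V := (Groth.Agent.H28.CoextModel.RRc (A := C) (B := F)).obj W with hVdef
  have hV : ∀ i : ℤ, i ≠ s → Subsingleton (Dual.HD F V i) := by
    intro i hi
    haveI := h0 i hi
    haveI : Subsingleton (Dual.inD F F ⟶ V⟦i⟧) := (adjT W F i).subsingleton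
    exact (homSelfEquivHD V i).symm.toEquiv.subsingleton
  haveI hGE : V.IsGE s := isGE_of_vanishing V s (fun i hi => hV i (by omega))
  haveI hLE : V.IsLE s := isLE_of_vanishing V s (fun i hi => hV i (by omega))
  obtain ⟨M₀, ⟨e⟩⟩ := DerivedCategory.exists_iso_singleFunctor_obj_of_isGE_of_isLE V s
  let i2 : Dual.HD F V s ≃ₗ[F] M₀ :=
    ((DerivedCategory.homologyFunctor (ModuleCat.{u} F) s).mapIso e ≪≫
      (DerivedCategory.singleFunctorCompHomologyFunctorIso (ModuleCat.{u} F) s).app M₀).toLinearEquiv
  let eM : M₀ ≃ₗ[F] F := i2.symm ≪≫ₗ (homSelfEquivHD V s).symm ≪≫ₗ homSelfEquivOfC hsurj W s h1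
  exact ⟨e ≪≫ (DerivedCategory.singleFunctor (ModuleCat.{u} F) s).mapIso
    (eM.toModuleIso : M₀ ≅ ModuleCat.of F F)⟩

end Quotient


section Local

variable {A C : Type u} [CommRing A] [CommRing C] [Algebra A C] [Module.Flat A C]
  [IsNoetherianRing A] [IsNoetherianRing C]

open IsLocalRing in
/-- `Hom((C/m_A C)[0], (ω ⊗ C)[j])` is zero except in one degree, where it is `C/m_A C` -/
theorem exists_T_closedFibre [IsLocalRing A] (ω : Dual.D A) (hω : Dual.IsDualizing A ω) :
    ∃ s : ℤ, (∀ i : ℤ, i ≠ s → Subsingleton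
      (Dual.inD C (C ⧸ (maximalIdeal A).map (algebraMap A C)) ⟶ ((LB A C).obj ω)⟦i⟧)) ∧
      Nonempty ((Dual.inD C (C ⧸ (maximalIdeal A).map (algebraMap A C)) ⟶
        ((LB A C).obj ω)⟦s⟧) ≃ₗ[C] (C ⧸ (maximalIdeal A).map (algebraMap A C))) := by
  obtain ⟨a, b₀, hGE, hLE, -⟩ := exists_bounds ω hω
  obtain ⟨s, hs0, ⟨hs1⟩⟩ := Groth.Agent.H2.DualCx.residue_ext A ω hω (maximalIdeal A)
  refine ⟨s, ?_, ⟨?_⟩⟩
  · intro i hi
    haveI := hs0 i hi
    exact (TQuotEquiv (C := C) ω a b₀ hGE hLE (maximalIdeal A) i).toEquiv.subsingleton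
  · exact TQuotEquiv (C := C) ω a b₀ hGE hLE (maximalIdeal A) s ≪≫ₗ
      (TensorProduct.AlgebraTensorModule.congr (LinearEquiv.refl C C) hs1) ≪≫ₗ
      (Algebra.TensorProduct.quotIdealMapEquivTensorQuot C (maximalIdeal A)).symm.toLinearEquiv

open IsLocalRing in
/-- **The closed fibre is Gorenstein** when a dualizing complex base changes to a dualizing
complex along a flat local homomorphism. -/
theorem isGorensteinLocalRing_closedFibre [IsLocalRing A] [IsLocalRing C]
    [IsLocalHom (algebraMap A C)] (ω : Dual.D A) (hω : Dual.IsDualizing A ω)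
    (hC : Dual.IsDualizing C ((LB A C).obj ω)) :
    LocCoh.IsGorensteinLocalRing (C ⧸ (maximalIdeal A).map (algebraMap A C)) := by
  obtain ⟨s, h0, h1⟩ := exists_T_closedFibre (C := C) ω hω
  set F := C ⧸ (maximalIdeal A).map (algebraMap A C) with hF
  have hle : (maximalIdeal A).map (algebraMap A C) ≤ maximalIdeal C :=
    ((local_hom_TFAE (algebraMap A C)).out 0 2 rfl rfl).mp inferInstance
  haveI : Nontrivial F := Ideal.Quotient.nontrivial_iff.mpr
    (fun h => (Ideal.IsPrime.ne_top inferInstance : maximalIdeal C ≠ ⊤)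
      (top_le_iff.mp (h ▸ hle)))
  haveI : IsLocalRing F := IsLocalRing.of_surjective' (Ideal.Quotient.mk _)
    Ideal.Quotient.mk_surjective
  obtain ⟨e⟩ := nonempty_RRc_iso_single (C := C) (F := F) Ideal.Quotient.mk_surjective
    ((LB A C).obj ω) s h0 h1
  have hV : Dual.IsDualizing F ((Groth.Agent.H28.CoextModel.RRc (A := C) (B := F)).obj
      ((LB A C).obj ω)) :=
    Groth.Agent.H28.DualFinite.isDualizing_rightAdjoint _
      (Groth.Agent.H28.CoextModel.adj' (A := C) (B := F)) _ hC
  have h2 : Dual.IsDualizing F ((Dual.inD F F)⟦-s⟧) :=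
    isDualizing_of_iso (e ≪≫ (singleIso (ModuleCat.of F F) s).symm) hV
  have h3 : Dual.IsDualizing F (Dual.inD F F) :=
    isDualizing_of_iso (shiftShiftIso (Dual.inD F F) (-s) s 0 (by omega) ≪≫
      (shiftFunctorZero (Dual.D F) ℤ).app _)
      (Groth.Agent.H28.DualShift.isDualizing_shift _ h2 s)
  exact { exists_hasInjectiveDimensionLT :=
    Groth.Agent.H28.DualSelf.exists_hasInjectiveDimensionLT F h3 }

end Local


section Fibres

variable {A B : Type u} [CommRing A] [CommRing B] [Algebra A B] [Module.Flat A B]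
  [IsNoetherianRing A] [IsNoetherianRing B]

open IsLocalRing in
set_option backward.isDefEq.respectTransparency false in
/-- **Converse**: if `ω` and `ω ⊗_A B` are dualizing (`A → B` flat), all local rings of all
fibre rings are Gorenstein. -/
theorem isGorensteinLocalRing_fibre_of_isDualizing (ω : Dual.D A) (hω : Dual.IsDualizing A ω)
    (hB : Dual.IsDualizing B ((LB A B).obj ω))
    (p : Ideal A) [p.IsPrime] (q : Ideal (p.Fiber B)) [q.IsPrime] :
    LocCoh.IsGorensteinLocalRing (Localization.AtPrime q) := by
  set r := q.comap (Algebra.TensorProduct.includeRight (R := A) (A := p.ResidueField) (B := B))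
    with hr
  have hrp : r.LiesOver p := inferInstance
  let _ := Localization.AtPrime.algebraOfLiesOver p r
  have hloc : IsLocalHom (algebraMap (Localization.AtPrime p) (Localization.AtPrime r)) :=
    Localization.isLocalHom_localRingHom p r (algebraMap A B) Ideal.LiesOver.over
  haveI hflatB : Module.Flat B (Localization.AtPrime r) := IsLocalization.flat _ r.primeCompl
  haveI hflatA : Module.Flat A (Localization.AtPrime r) := Module.Flat.trans A B _
  haveI hflat' : Module.Flat (Localization.AtPrime p) (Localization.AtPrime r) :=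
    (Module.flat_iff_of_isLocalization (Localization.AtPrime p) p.primeCompl _).mpr hflatA
  haveI : IsNoetherianRing (Localization.AtPrime p) :=
    IsLocalization.isNoetherianRing p.primeCompl _ inferInstance
  haveI : IsNoetherianRing (Localization.AtPrime r) :=
    IsLocalization.isNoetherianRing r.primeCompl _ inferInstance
  have hideal : (maximalIdeal (Localization.AtPrime p)).map
      (algebraMap (Localization.AtPrime p) (Localization.AtPrime r)) =
      (p.map (algebraMap A B)).map (algebraMap B (Localization.AtPrime r)) := by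
    rw [← Localization.AtPrime.map_eq_maximalIdeal, Ideal.map_map, Ideal.map_map,
      ← IsScalarTower.algebraMap_eq, ← IsScalarTower.algebraMap_eq]
  have hωp : Dual.IsDualizing (Localization.AtPrime p) ((LB A (Localization.AtPrime p)).obj ω) :=
    isDualizing_LB_localization p.primeCompl ω hω
  have hC' : Dual.IsDualizing (Localization.AtPrime r)
      ((LB B (Localization.AtPrime r)).obj ((LB A B).obj ω)) :=
    isDualizing_LB_localization r.primeCompl _ hB
  have hC : Dual.IsDualizing (Localization.AtPrime r)
      ((LB (Localization.AtPrime p) (Localization.AtPrime r)).obj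
        ((LB A (Localization.AtPrime p)).obj ω)) :=
    isDualizing_of_iso (LBcomp B (Localization.AtPrime r) ω ≪≫
      (LBcomp (Localization.AtPrime p) (Localization.AtPrime r) ω).symm) hC'
  have key := isGorensteinLocalRing_closedFibre (A := Localization.AtPrime p)
    (C := Localization.AtPrime r) _ hωp hC
  rw [hideal] at key
  exact Groth.Agent.H26.GorRegHom.isGorensteinLocalRing_of_ringEquiv
    (Ideal.Fiber.algEquivAux₂ p q).toRingEquiv.symm key

end Fibres

end Groth.Agent.H26.FlatBCDual
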