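import Mathlib
import Groth.Prelude.Def_DDual2
import Groth.Agent.H26.FlatBCDual3

/-!
# Dualizing complexes and flat base change, part 4: `A/I = B/IB`, `IB ⊆ rad B`  (helper26)
-/

set_option autoImplicit false
set_option linter.unusedSectionVars false
set_option linter.style.haveILetI false
set_option linter.overlappingInstances false

universe u

open CategoryTheory Limits Pretriangulated DerivedCategory TensorProduct

namespace Groth.Agent.H26.FlatBCDual

open Groth.Agent.H26.FlatBCHom

attribute [local instance] HasDerivedCategory.standard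
attribute [local instance] homModuleA

variable {A B : Type u} [CommRing A] [CommRing B] [Algebra A B] [Module.Flat A B]
  [IsNoetherianRing A] [IsNoetherianRing B]

/-- if `B = A + IB` and `IB ⊆ n`, then `n = (n ∩ A) B` -/
theorem map_comap_eq_of_surjective (I : Ideal A)
    (hs : ∀ x : B, ∃ a : A, x - algebraMap A B a ∈ I.map (algebraMap A B))
    (n : Ideal B) (hn : I.map (algebraMap A B) ≤ n) :
    (n.comap (algebraMap A B)).map (algebraMap A B) = n := by
  refine le_antisymm Ideal.map_comap_le ?_
  intro x hx
  obtain ⟨a, ha⟩ := hs x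
  have ha' : algebraMap A B a ∈ n := by
    have : algebraMap A B a = x - (x - algebraMap A B a) := by ring
    rw [this]
    exact n.sub_mem hx (hn ha)
  have hI : I.map (algebraMap A B) ≤ (n.comap (algebraMap A B)).map (algebraMap A B) :=
    Ideal.map_mono (Ideal.map_le_iff_le_comap.mp hn)
  have : x = algebraMap A B a + (x - algebraMap A B a) := by ring
  rw [this]
  exact Ideal.add_mem _ (Ideal.mem_map_of_mem _ ha') (hI ha)

/-- **Ascent along `A → B` flat with `B = A + IB` and `IB ⊆ rad(B)`** (e.g. `I`-adic
completion). -/
theorem isDualizing_LB_of_jacobson (I : Ideal A)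
    (hs : ∀ x : B, ∃ a : A, x - algebraMap A B a ∈ I.map (algebraMap A B))
    (hJ : I.map (algebraMap A B) ≤ (⊥ : Ideal B).jacobson)
    (ω : Dual.D A) (hω : Dual.IsDualizing A ω) : Dual.IsDualizing B ((LB A B).obj ω) := by
  refine isDualizing_LB_of_maximal ω hω ?_
  intro n hn
  have hIn : I.map (algebraMap A B) ≤ n := hJ.trans (sInf_le ⟨bot_le, hn⟩)
  exact extended_of_map_comap n (map_comap_eq_of_surjective I hs n hIn)

end Groth.Agent.H26.FlatBCDual
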