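import Mathlib.RingTheory.AdicCompletion.Basic
import Mathlib.Algebra.Module.Projective
import Mathlib.RingTheory.Finiteness.Projective
set_option autoImplicit false
universe u v

namespace Groth.Agent.H26

variable {A : Type u} [CommRing A] (I : Ideal A)

lemma pi_mem_smul_top_iff {ι : Type*} [Fintype ι] [DecidableEq ι] (J : Ideal A) (x : ι → A) :
    x ∈ (J • ⊤ : Submodule A (ι → A)) ↔ ∀ i, x i ∈ J := by
  constructor
  · intro hx i
    have : (J • ⊤ : Submodule A (ι → A)) ≤ Submodule.comap (LinearMap.proj i) (J : Submodule A A) := by
      rw [Submodule.smul_le]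
      intro r hr m _
      simp only [Submodule.mem_comap, LinearMap.coe_proj, Function.eval, Pi.smul_apply, smul_eq_mul]
      exact J.mul_mem_right _ hr
    exact this hx
  · intro hx
    have : x = ∑ i, x i • (Pi.single i (1 : A) : ι → A) := by
      ext j
      simp [Finset.sum_apply, Pi.single_apply]
    rw [this]
    exact Submodule.sum_mem _ (fun i _ => Submodule.smul_mem_smul (hx i) Submodule.mem_top)

lemma isAdicComplete_pi [IsAdicComplete I A] (n : ℕ) : IsAdicComplete I (Fin n → A) where
  haus' x hx := by
    ext i
    apply IsHausdorff.haus (inferInstance : IsHausdorff I A)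
    intro k
    have := hx k
    rw [SModEq.zero] at this ⊢
    rw [pi_mem_smul_top_iff] at this
    simpa using this i
  prec' f hf := by
    have hf' : ∀ i : Fin n, ∃ L : A, ∀ k, f k i ≡ L [SMOD (I ^ k • ⊤ : Submodule A A)] := by
      intro i
      apply IsPrecomplete.prec (inferInstance : IsPrecomplete I A)
      intro m k hmk
      have := hf hmk
      rw [SModEq.sub_mem, pi_mem_smul_top_iff] at this
      rw [SModEq.sub_mem]
      simpa using this i
    choose L hL using hf'
    refine ⟨L, fun k => ?_⟩
    rw [SModEq.sub_mem, pi_mem_smul_top_iff]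
    intro i
    have := hL i k
    rw [SModEq.sub_mem] at this
    simpa using this

lemma isAdicComplete_of_retract {M : Type v} {N : Type*} [AddCommGroup M] [Module A M]
    [AddCommGroup N] [Module A N] [IsAdicComplete I N] (g : M →ₗ[A] N) (f : N →ₗ[A] M)
    (hfg : f ∘ₗ g = .id) : IsAdicComplete I M where
  haus' x hx := by
    have h0 : g x = 0 := by
      apply IsHausdorff.haus (inferInstance : IsHausdorff I N)
      intro k
      have := hx k
      rw [SModEq.zero] at this ⊢
      exact Submodule.smul_top_le_comap_smul_top (I ^ k) g this
    have := congrArg f h0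
    rw [← LinearMap.comp_apply, hfg] at this
    simpa using this
  prec' a ha := by
    obtain ⟨L, hL⟩ := IsPrecomplete.prec (inferInstance : IsPrecomplete I N) (f := fun k => g (a k))
      (by
        intro m k hmk
        have := ha hmk
        rw [SModEq.sub_mem] at this ⊢
        rw [← map_sub]
        exact Submodule.smul_top_le_comap_smul_top (I ^ m) g this)
    refine ⟨f L, fun k => ?_⟩
    have := hL k
    rw [SModEq.sub_mem] at this ⊢
    have h2 := Submodule.smul_top_le_comap_smul_top (I ^ k) f this
    simp only [Submodule.mem_comap, map_sub] at h2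
    rw [← LinearMap.comp_apply, hfg] at h2
    simpa using h2

end Groth.Agent.H26
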