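import Groth.Prelude.Def_AlphaPn
import Groth.Prelude.Def_SekSuwa
import Mathlib.RingTheory.Bialgebra.GroupLike

/-!
# Characters of `α_{p^n}` extend to the additive group
-/

set_option autoImplicit false
universe u
open TensorProduct

namespace Groth.Agent.H26

section

variable (p : ℕ) [hp : Fact p.Prime] (A : Type u) [CommRing A] [CharP A p] (n : ℕ)

theorem comul_pow_alpha (i : ℕ) :
    Coalgebra.comul (R := A) (AlphaPn.x p n A ^ i) =
      ∑ m ∈ Finset.range (i + 1), (i.choose m : A) •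
        ((AlphaPn.x p n A ^ m) ⊗ₜ[A] (AlphaPn.x p n A ^ (i - m))) := by
  rw [Bialgebra.comul_pow, AlphaPn.comul_x, (Commute.all _ _).add_pow]
  apply Finset.sum_congr rfl
  intro m _
  rw [Algebra.TensorProduct.tmul_pow, Algebra.TensorProduct.tmul_pow, one_pow, one_pow,
    Algebra.TensorProduct.tmul_mul_tmul, mul_one, one_mul, mul_comm, Algebra.smul_def,
    map_natCast]

theorem comul_pow_ga (i : ℕ) :
    Coalgebra.comul (R := A) ((SekSuwa.A.t : SekSuwa.A A 0) ^ i) =
      ∑ m ∈ Finset.range (i + 1), (i.choose m : A) •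
        (((SekSuwa.A.t : SekSuwa.A A 0) ^ m) ⊗ₜ[A] ((SekSuwa.A.t : SekSuwa.A A 0) ^ (i - m))) := by
  rw [Bialgebra.comul_pow, SekSuwa.A.comul_t, zero_smul, add_zero, (Commute.all _ _).add_pow]
  apply Finset.sum_congr rfl
  intro m _
  rw [Algebra.TensorProduct.tmul_pow, Algebra.TensorProduct.tmul_pow, one_pow, one_pow,
    Algebra.TensorProduct.tmul_mul_tmul, mul_one, one_mul, mul_comm, Algebra.smul_def,
    map_natCast]

/-- S16478 -/
theorem exists_isGroupLikeElem_lift
    (φ : SekSuwa.A A 0 →ₐc[A] AlphaPn.A p n A) (hφ : φ SekSuwa.A.t = AlphaPn.x p n A)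
    (u : AlphaPn.A p n A) (hu : IsGroupLikeElem A u) :
    ∃ g : SekSuwa.A A 0, IsGroupLikeElem A g ∧ φ g = u := by
  have hnt : Nontrivial A := CharP.nontrivial_of_char_ne_one (R := A) (v := p) hp.out.ne_one
  let b := AlphaPn.basis p n A
  let σ : AlphaPn.A p n A →ₗ[A] SekSuwa.A A 0 :=
    b.constr A (fun i => (SekSuwa.A.t : SekSuwa.A A 0) ^ (i : ℕ))
  have hσ : ∀ i : ℕ, i < p ^ n → σ (AlphaPn.x p n A ^ i) = SekSuwa.A.t ^ i := by
    intro i hi
    have := b.constr_basis A (fun i => (SekSuwa.A.t : SekSuwa.A A 0) ^ (i : ℕ)) ⟨i, hi⟩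
    rwa [AlphaPn.basis_apply] at this
  have hcomul : Coalgebra.comul (R := A) ∘ₗ σ =
      (TensorProduct.map σ σ) ∘ₗ Coalgebra.comul (R := A) := by
    apply b.ext
    intro i
    rw [LinearMap.comp_apply, LinearMap.comp_apply, AlphaPn.basis_apply, hσ _ i.2, comul_pow_ga,
      comul_pow_alpha, map_sum]
    apply Finset.sum_congr rfl
    intro m hm
    have hm' : m < i + 1 := Finset.mem_range.mp hm
    have hi := i.2
    rw [map_smul, TensorProduct.map_tmul, hσ _ (by omega), hσ _ (by omega)]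
  have hcounit : Coalgebra.counit (R := A) ∘ₗ σ = Coalgebra.counit (R := A) := by
    apply b.ext
    intro i
    rw [LinearMap.comp_apply, AlphaPn.basis_apply, hσ _ i.2, Bialgebra.counit_pow,
      Bialgebra.counit_pow, SekSuwa.A.counit_t, AlphaPn.counit_x]
  have hφσ : ((φ : SekSuwa.A A 0 →ₐ[A] AlphaPn.A p n A).toLinearMap) ∘ₗ σ = LinearMap.id := by
    apply b.ext
    intro i
    rw [LinearMap.comp_apply, AlphaPn.basis_apply, hσ _ i.2, LinearMap.id_apply]
    change φ (SekSuwa.A.t ^ (i : ℕ)) = _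
    rw [map_pow, hφ]
  refine ⟨σ u, ⟨?_, ?_⟩, ?_⟩
  · have := LinearMap.congr_fun hcounit u
    rw [LinearMap.comp_apply] at this
    rw [this, hu.counit_eq_one]
  · have := LinearMap.congr_fun hcomul u
    rw [LinearMap.comp_apply, LinearMap.comp_apply, hu.comul_eq_tmul_self,
      TensorProduct.map_tmul] at this
    exact this
  · exact LinearMap.congr_fun hφσ u

end

end Groth.Agent.H26
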