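import Mathlib
import Groth.Prelude.Def_CAlg
import Groth.Agent.H26.SocleGor

/-!
# Socles at maximal ideals and Gorenstein Artinian rings

For a Noetherian ring `C` and a maximal ideal `m`, the socle of the local ring `C_m` is the
localization of `Ann_C(m)`.  An Artinian ring is Gorenstein iff `Ann_C(m)` is generated by one
nonzero element for every maximal ideal `m`.
-/

set_option autoImplicit false
set_option linter.style.haveILetI false
set_option linter.unusedSectionVars false
universe u

open IsLocalRing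

namespace Groth.Agent.H26.ArtSocle

open Groth.Agent.H26.SocleFlat

variable {C : Type u} [CommRing C]

/-- `s` is a nonzero generator of `Ann_C(m)` -/
def IsSocGenAt (m : Ideal C) (s : C) : Prop :=
  s ≠ 0 ∧ (∀ y ∈ m, y * s = 0) ∧ ∀ t : C, (∀ y ∈ m, y * t = 0) → ∃ u : C, t = u * s

theorem eq_zero_of_mul_eq_zero {m : Ideal C} [hm : m.IsMaximal] {w v : C}
    (hw : ∀ y ∈ m, y * w = 0) (hv : v ∉ m) (hvw : v * w = 0) : w = 0 := by
  obtain ⟨a, b, hb, hab⟩ := hm.exists_inv hv
  have : w = (a * v + b) * w := by rw [hab, one_mul]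
  rw [this, add_mul, mul_assoc, hvw, mul_zero, hw b hb, add_zero]

theorem algebraMap_ne_zero {m : Ideal C} [hm : m.IsMaximal] {s : C} (hs : s ≠ 0)
    (hms : ∀ y ∈ m, y * s = 0) : algebraMap C (Localization.AtPrime m) s ≠ 0 := by
  intro h0
  rw [IsLocalization.map_eq_zero_iff m.primeCompl] at h0
  obtain ⟨⟨v, hv⟩, hvs⟩ := h0
  exact hs (eq_zero_of_mul_eq_zero hms hv hvs)

/-- a unit modulo `m` can be inverted on elements killed by `m` -/
theorem exists_mul_eq_of_notMem {m : Ideal C} [hm : m.IsMaximal] {w v : C}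
    (hw : ∀ y ∈ m, y * w = 0) (hv : v ∉ m) : ∃ a : C, a * (v * w) = w := by
  obtain ⟨a, b, hb, hab⟩ := hm.exists_inv hv
  refine ⟨a, ?_⟩
  have : w = (a * v + b) * w := by rw [hab, one_mul]
  conv_rhs => rw [this]
  rw [add_mul, hw b hb, add_zero, mul_assoc]

theorem exists_notMem_forall_mul_eq_zero [IsNoetherianRing C] {m : Ideal C} [hm : m.IsMaximal]
    (c : C) (h : ∀ y ∈ m, ∃ v : C, v ∉ m ∧ v * (y * c) = 0) :
    ∃ v : C, v ∉ m ∧ ∀ y ∈ m, y * (v * c) = 0 := by
  classical
  obtain ⟨G, hG⟩ := (isNoetherianRing_iff_ideal_fg C).mp inferInstance m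
  have hGm : ∀ g ∈ G, g ∈ m := fun g hg => hG ▸ Ideal.subset_span hg
  choose! v hv1 hv2 using h
  refine ⟨∏ g ∈ G, v g, ?_, ?_⟩
  · have : (∏ g ∈ G, v g) ∈ m.primeCompl :=
      Submonoid.prod_mem _ fun g hg => hv1 g (hGm g hg)
    exact this
  · intro y hy
    rw [← hG] at hy
    refine Submodule.span_induction ?_ ?_ ?_ ?_ hy
    · intro g hg
      have hg' : g ∈ G := hg
      have := hv2 g (hGm g hg')
      rw [← Finset.mul_prod_erase G v hg']
      calc g * ((v g * ∏ x ∈ G.erase g, v x) * c)
          = (∏ x ∈ G.erase g, v x) * (v g * (g * c)) := by ring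
        _ = 0 := by rw [this, mul_zero]
    · simp
    · intro a b _ _ ha hb
      rw [add_mul, ha, hb, add_zero]
    · intro a b _ hb
      rw [smul_eq_mul, mul_assoc, hb, mul_zero]

theorem mul_algebraMap_eq_zero {m : Ideal C} [hm : m.IsMaximal] {s : C}
    (hms : ∀ y ∈ m, y * s = 0) (z : Localization.AtPrime m)
    (hz : z ∈ maximalIdeal (Localization.AtPrime m)) :
    z * algebraMap C (Localization.AtPrime m) s = 0 := by
  obtain ⟨y, w, rfl⟩ := IsLocalization.exists_mk'_eq m.primeCompl z
  rw [IsLocalization.AtPrime.mk'_mem_maximal_iff (Localization.AtPrime m) m] at hz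
  rw [← IsLocalization.mk'_one (M := m.primeCompl) (Localization.AtPrime m) s,
    ← IsLocalization.mk'_mul, hms y hz, IsLocalization.mk'_zero]

/-- The socle of `C_m` versus `Ann_C(m)`. -/
theorem isSocleGen_localization_iff [IsNoetherianRing C] {m : Ideal C} [hm : m.IsMaximal] {s : C}
    (hs : s ≠ 0) (hms : ∀ y ∈ m, y * s = 0) :
    IsSocleGen (Localization.AtPrime m) (algebraMap C (Localization.AtPrime m) s) ↔
      ∀ t : C, (∀ y ∈ m, y * t = 0) → ∃ u : C, t = u * s := by
  have hmax : ∀ z : Localization.AtPrime m, z ∈ maximalIdeal (Localization.AtPrime m) →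
      ∃ (y : C) (w : m.primeCompl), y ∈ m ∧ z = IsLocalization.mk' _ y w := by
    intro z hz
    obtain ⟨y, w, rfl⟩ := IsLocalization.exists_mk'_eq m.primeCompl z
    refine ⟨y, w, ?_, rfl⟩
    rwa [IsLocalization.AtPrime.mk'_mem_maximal_iff (Localization.AtPrime m) m] at hz
  constructor
  · intro hS t ht
    have ht' : ∀ z ∈ maximalIdeal (Localization.AtPrime m),
        z * algebraMap C (Localization.AtPrime m) t = 0 := by
      intro z hz
      obtain ⟨y, w, hy, rfl⟩ := hmax z hz
      rw [← IsLocalization.mk'_one (M := m.primeCompl) (Localization.AtPrime m) t,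
        ← IsLocalization.mk'_mul, ht y hy, IsLocalization.mk'_zero]
    obtain ⟨q, hq⟩ := hS.2.2 _ ht'
    obtain ⟨u, w, rfl⟩ := IsLocalization.exists_mk'_eq m.primeCompl q
    -- t/1 = (u/w) * (s/1), so ∃ v ∉ m, v * (w t - u s) = 0
    have h1 : algebraMap C (Localization.AtPrime m) ((w : C) * t) =
        algebraMap C (Localization.AtPrime m) (u * s) := by
      rw [map_mul, hq, map_mul, ← mul_assoc, IsLocalization.mk'_spec']
    obtain ⟨⟨v, hv⟩, hv2⟩ := (IsLocalization.eq_iff_exists m.primeCompl _).mp h1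
    have hk : ∀ y ∈ m, y * ((w : C) * t - u * s) = 0 := by
      intro y hy
      rw [mul_sub, mul_left_comm, ht y hy, mul_left_comm, hms y hy]; simp
    have h2 : (w : C) * t - u * s = 0 := by
      apply eq_zero_of_mul_eq_zero hk hv
      rw [mul_sub]; exact sub_eq_zero.mpr hv2
    obtain ⟨a, ha⟩ := exists_mul_eq_of_notMem ht w.2
    refine ⟨a * u, ?_⟩
    rw [← ha, sub_eq_zero.mp h2, mul_assoc]
  · intro hS
    refine ⟨algebraMap_ne_zero hs hms, ?_, ?_⟩
    · intro z hz
      obtain ⟨y, w, hy, rfl⟩ := hmax z hz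
      rw [← IsLocalization.mk'_one (M := m.primeCompl) (Localization.AtPrime m) s,
        ← IsLocalization.mk'_mul, hms y hy, IsLocalization.mk'_zero]
    · intro q hq
      obtain ⟨c, w, rfl⟩ := IsLocalization.exists_mk'_eq m.primeCompl q
      have h1 : ∀ y ∈ m, ∃ v : C, v ∉ m ∧ v * (y * c) = 0 := by
        intro y hy
        have hy' : algebraMap C (Localization.AtPrime m) y ∈
            maximalIdeal (Localization.AtPrime m) :=
          (IsLocalization.AtPrime.to_map_mem_maximal_iff _ m y).mpr hy
        have h2 := hq _ hy'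
        have h3 : algebraMap C (Localization.AtPrime m) (y * c) = 0 := by
          have : algebraMap C (Localization.AtPrime m) c =
              algebraMap C (Localization.AtPrime m) (w : C) * IsLocalization.mk' _ c w := by
            rw [IsLocalization.mk'_spec']
          rw [map_mul, this, mul_left_comm, h2, mul_zero]
        rw [IsLocalization.map_eq_zero_iff m.primeCompl] at h3
        obtain ⟨⟨v, hv⟩, hv2⟩ := h3
        exact ⟨v, hv, hv2⟩
      obtain ⟨v, hv, hv2⟩ := exists_notMem_forall_mul_eq_zero c h1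
      obtain ⟨u, hu⟩ := hS (v * c) hv2
      refine ⟨IsLocalization.mk' _ u (⟨v, hv⟩ * w : m.primeCompl), ?_⟩
      rw [← IsLocalization.mk'_one (M := m.primeCompl) (Localization.AtPrime m) s,
        ← IsLocalization.mk'_mul, IsLocalization.mk'_eq_iff_eq]
      congr 1
      simp only [Submonoid.coe_mul, mul_one]
      rw [← hu]; ring

/-- In an Artinian ring every maximal ideal kills a nonzero element. -/
theorem exists_ne_zero_forall_mul_eq_zero [IsArtinianRing C] (m : Ideal C) [hm : m.IsMaximal] :
    ∃ s : C, s ≠ 0 ∧ ∀ y ∈ m, y * s = 0 := by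
  haveI : IsNoetherianRing C := inferInstance
  haveI := hm.isPrime
  have h1 : m ∈ (Module.annihilator C C).minimalPrimes :=
    IsArtinianRing.mem_minimalPrimes (by
      rw [Module.annihilator_eq_bot.mpr inferInstance]; exact bot_le)
  have h2 := Module.associatedPrimes.minimalPrimes_annihilator_subset_associatedPrimes C C h1
  obtain ⟨-, x, hx⟩ := (isAssociatedPrime_iff (R := C) (M := C)).mp h2
  refine ⟨x, ?_, ?_⟩
  · rintro rfl
    apply hm.ne_top
    rw [hx]
    ext r
    simp [Submodule.mem_colon_singleton]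
  · intro y hy
    rw [hx, Submodule.mem_colon_singleton] at hy
    simpa using hy

/-- An Artinian ring is Gorenstein iff `Ann_C(m)` is generated by one nonzero element for every
maximal ideal `m`. -/
theorem isGorensteinRing_iff_of_isArtinianRing [IsArtinianRing C] :
    LocCoh.IsGorensteinRing C ↔ ∀ m : Ideal C, m.IsMaximal → ∃ s : C, IsSocGenAt m s := by
  haveI : IsNoetherianRing C := inferInstance
  constructor
  · intro hG m hm
    haveI := hm
    haveI := hm.isPrime
    obtain ⟨s, hs, hms⟩ := exists_ne_zero_forall_mul_eq_zero m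
    have hloc := hG.isGorensteinLocalRing_localization m
    have h1 := (Groth.Agent.H26.SocleGor.isSocleGen_of_isGorensteinLocalRing hloc
      (algebraMap C (Localization.AtPrime m) s) (algebraMap_ne_zero hs hms)
      (mul_algebraMap_eq_zero hms)).1
    exact ⟨s, hs, hms, (isSocleGen_localization_iff hs hms).mp h1⟩
  · intro h
    refine { isGorensteinLocalRing_localization := fun q hq => ?_ }
    haveI := hq
    haveI hm : q.IsMaximal := inferInstance
    obtain ⟨s, hs, hms, hgen⟩ := h q hm
    have h1 := (isSocleGen_localization_iff hs hms).mpr hgen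
    haveI : IsArtinianRing (Localization.AtPrime q) := inferInstance
    refine Groth.Agent.H26.SocleGor.isGorensteinLocalRing_of_isSocleGen h1 ?_
    have := IsArtinianRing.isNilpotent_jacobson_bot (R := Localization.AtPrime q)
    rw [IsLocalRing.jacobson_eq_maximalIdeal _ bot_ne_top] at this
    obtain ⟨N, hN⟩ := this
    exact ⟨N, hN⟩

end Groth.Agent.H26.ArtSocle
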