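import Mathlib.RingTheory.AdjoinRoot
import Mathlib.RingTheory.PowerBasis
import Mathlib.Algebra.BigOperators.Fin

set_option autoImplicit false
universe u
open Polynomial

namespace Groth.Agent.H26

variable (A : Type u) [CommRing A] (p : ℕ)

/-- the polynomial `T^p - T + Y` over `A[Y]` -/
noncomputable def asPoly : A[X][X] := X ^ p + (-(X : A[X][X]) + C (X : A[X]))

variable {A p}

lemma asPoly_degree_aux (hp : 2 ≤ p) :
    degree (-(X : A[X][X]) + C (X : A[X])) < (p : WithBot ℕ) := by
  have h1 : degree (-(X : A[X][X]) + C (X : A[X])) ≤ 1 := by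
    refine (degree_add_le _ _).trans ?_
    rw [degree_neg]
    exact max_le degree_X_le (degree_C_le.trans zero_le_one)
  refine h1.trans_lt ?_
  exact_mod_cast (show 1 < p by omega)

lemma asPoly_monic (hp : 2 ≤ p) : (asPoly A p).Monic :=
  monic_X_pow_add (asPoly_degree_aux hp)

lemma asPoly_natDegree (hp : 2 ≤ p) [Nontrivial A] : (asPoly A p).natDegree = p := by
  apply natDegree_eq_of_degree_eq_some
  rw [asPoly, degree_add_eq_left_of_degree_lt, degree_X_pow]
  rw [degree_X_pow]
  exact asPoly_degree_aux hp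


variable (A p) in
/-- the Artin–Schreier polynomial `X - X^p` -/
noncomputable def asG : A[X] := X - X ^ p

variable (A p) in
/-- `A[Y][T]/(T^p - T + Y) → A[X]`, `Y ↦ X - X^p`, `T ↦ X`. -/
noncomputable def asPhi : AdjoinRoot (asPoly A p) →+* A[X] :=
  AdjoinRoot.lift ((aeval (asG A p) : A[X] →ₐ[A] A[X]) : A[X] →+* A[X]) X (by
    simp only [asPoly, asG, eval₂_add, eval₂_pow, eval₂_neg, eval₂_X, eval₂_C, RingHom.coe_coe,
      aeval_X]
    ring)

variable (A p) in
/-- `A[X] → A[Y][T]/(T^p - T + Y)`, `X ↦ T`. -/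
noncomputable def asPsi : A[X] →ₐ[A] AdjoinRoot (asPoly A p) :=
  aeval (AdjoinRoot.root (asPoly A p))

lemma asPhi_asPsi (q : A[X]) : asPhi A p (asPsi A p q) = q := by
  have : (asPhi A p).comp ((asPsi A p : A[X] →ₐ[A] _) : A[X] →+* _) = RingHom.id _ := by
    apply Polynomial.ringHom_ext
    · intro a
      simp only [RingHom.comp_apply, RingHom.id_apply]
      change asPhi A p (asPsi A p (C a)) = C a
      rw [asPsi, aeval_C, IsScalarTower.algebraMap_apply A A[X] (AdjoinRoot (asPoly A p)),
        AdjoinRoot.algebraMap_eq, asPhi, AdjoinRoot.lift_of]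
      simp
    · simp only [RingHom.comp_apply, RingHom.id_apply]
      change asPhi A p (asPsi A p X) = X
      rw [asPsi, aeval_X, asPhi, AdjoinRoot.lift_root]
  exact congrArg (fun f => f q) this

lemma asPsi_aeval (c : A[X]) :
    asPsi A p (aeval (asG A p) c) = AdjoinRoot.of (asPoly A p) c := by
  have hroot : eval₂ (AdjoinRoot.of (asPoly A p)) (AdjoinRoot.root (asPoly A p))
      (X ^ p + (-(X : A[X][X]) + C (X : A[X]))) = 0 := AdjoinRoot.eval₂_root (asPoly A p)
  rw [eval₂_add, eval₂_pow, eval₂_X, eval₂_add, eval₂_neg, eval₂_X, eval₂_C] at hroot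
  have hg : asPsi A p (asG A p) = AdjoinRoot.of (asPoly A p) X := by
    simp only [asPsi, asG, map_sub, map_pow, aeval_X]
    linear_combination (-1 : AdjoinRoot (asPoly A p)) * hroot
  rw [← aeval_algHom_apply, hg, ← AdjoinRoot.algebraMap_eq, aeval_algebraMap_apply,
    aeval_X_left_apply]


theorem existsUnique_artinSchreier_decomp (hp : 2 ≤ p) (q : A[X]) :
    ∃! c : Fin p → A[X], q = ∑ i : Fin p, aeval (X - X ^ p : A[X]) (c i) * X ^ (i : ℕ) := by
  rcases subsingleton_or_nontrivial A with hA | hA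
  · refine ⟨fun _ => 0, Subsingleton.elim _ _, fun c _ => ?_⟩
    funext i
    exact Subsingleton.elim _ _
  let pb := AdjoinRoot.powerBasis' (asPoly_monic (A := A) hp)
  let b : Module.Basis (Fin p) A[X] (AdjoinRoot (asPoly A p)) :=
    pb.basis.reindex (finCongr (asPoly_natDegree hp))
  have hb : ∀ i : Fin p, b i = AdjoinRoot.root (asPoly A p) ^ (i : ℕ) := by
    intro i
    simp only [b, Module.Basis.reindex_apply, pb.basis_eq_pow]
    rfl
  have hsum : ∀ c : Fin p → A[X],
      asPsi A p (∑ i : Fin p, aeval (X - X ^ p : A[X]) (c i) * X ^ (i : ℕ)) =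
        ∑ i : Fin p, c i • b i := by
    intro c
    rw [map_sum]
    refine Finset.sum_congr rfl fun i _ => ?_
    rw [map_mul, map_pow, hb, Algebra.smul_def, AdjoinRoot.algebraMap_eq]
    congr 1
    · exact asPsi_aeval (c i)
    · simp [asPsi]
  refine ⟨fun i => b.repr (asPsi A p q) i, ?_, ?_⟩
  · have h1 := hsum (fun i => b.repr (asPsi A p q) i)
    rw [b.sum_repr] at h1
    have h2 := congrArg (asPhi A p) h1
    rw [asPhi_asPsi, asPhi_asPsi] at h2
    exact h2.symm
  · intro c hc
    have h1 := hsum c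
    rw [← hc] at h1
    funext i
    rw [h1, b.repr_sum_self]

end Groth.Agent.H26
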