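import Mathlib

/-! Avoidance of finitely many proper submodules over a local ring with infinite residue field. -/

namespace Groth.Agent.H26

open IsLocalRing

/-- Over a local ring with infinite residue field, a module is not a finite union of proper
submodules. -/
theorem exists_forall_notMem_of_infinite_residueField {B N : Type*} [CommRing B] [IsLocalRing B]
    [Infinite (ResidueField B)] [AddCommGroup N] [Module B N] {ι : Type*} [Finite ι]
    (P : ι → Submodule B N) (hP : ∀ i, P i ≠ ⊤) :
    ∃ y : N, ∀ i, y ∉ P i := by
  classical
  by_contra hcon
  push Not at hcon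
  have := Fintype.ofFinite ι
  have hcov : ⋃ i ∈ (Finset.univ : Finset ι), (P i : Set N) = Set.univ := by
    ext y
    simp only [Finset.mem_univ, Set.iUnion_true, Set.mem_iUnion, SetLike.mem_coe, Set.mem_univ,
      iff_true]
    exact hcon y
  obtain ⟨k, -, hfi⟩ := Submodule.exists_finiteIndex_of_cover hcov
  have hfin : Finite (N ⧸ P k) := AddSubgroup.finite_quotient_of_finiteIndex
  obtain ⟨y, hy⟩ : ∃ y, y ∉ P k := by
    by_contra h
    push Not at h
    exact hP k (eq_top_iff.mpr fun y _ => h y)
  let g : ResidueField B → N ⧸ P k := fun κ =>
    Submodule.Quotient.mk ((Function.surjInv (residue_surjective (R := B)) κ) • y)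
  have hg : Function.Injective g := by
    intro κ κ' h
    simp only [g] at h
    rw [Submodule.Quotient.eq, ← sub_smul] at h
    set β := Function.surjInv (residue_surjective (R := B)) κ -
      Function.surjInv (residue_surjective (R := B)) κ' with hβ
    by_cases hu : IsUnit β
    · obtain ⟨u, hu⟩ := hu
      exfalso
      apply hy
      have := (P k).smul_mem (↑u⁻¹ : B) h
      rwa [← hu, smul_smul, Units.inv_mul, one_smul] at this
    · have hmem : β ∈ maximalIdeal B := (mem_maximalIdeal _).mpr hu
      rw [← residue_eq_zero_iff, hβ, map_sub,
        Function.surjInv_eq (residue_surjective (R := B)) κ,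
        Function.surjInv_eq (residue_surjective (R := B)) κ', sub_eq_zero] at hmem
      exact hmem
  have : Infinite (N ⧸ P k) := Infinite.of_injective g hg
  exact not_finite (N ⧸ P k)

end Groth.Agent.H26
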