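import Mathlib
import Groth.Agent.H28.Bidual
import Groth.Agent.H28.DualSelf
import Groth.Agent.H35.FinProjClosure
import Groth.Agent.H35.PerfModRes

/-!
# Biduality for perfect modules (helper26)

`H28.Bidual.P I N` (biduality of the module `N` with respect to the complex `I`) for `N` a
perfect module over a Noetherian ring, `I` any complex of injectives with `A ≅ End(Q I)` and no
self-extensions — no boundedness of `I` needed.
-/

set_option autoImplicit false
universe u
open CategoryTheory Pretriangulated Limits DerivedCategory Opposite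

namespace Groth.Agent.H26.BidualPerf

open Groth.Agent.H28 Groth.Agent.H28.Bidual

attribute [local instance] HasDerivedCategory.standard

variable {A : Type u} [CommRing A] (I : DRing.Cx A)

lemma EcMap_comp {M N L : ModuleCat.{u} A} (f : M ⟶ N) (g : N ⟶ L) :
    EcMap I (f ≫ g) = EcMap I g ≫ EcMap I f := by
  ext p φ
  change (f ≫ g) ≫ (show L ⟶ I.X p from φ) = f ≫ g ≫ (show L ⟶ I.X p from φ)
  rw [Category.assoc]

lemma EcMap_id (M : ModuleCat.{u} A) : EcMap I (𝟙 M) = 𝟙 (Ec I M) := by
  ext p φ
  change 𝟙 M ≫ (show M ⟶ I.X p from φ) = φ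
  rw [Category.id_comp]

/-- `P` passes to retracts -/
lemma P_of_retract {M N : ModuleCat.{u} A} (i : M ⟶ N) (r : N ⟶ M) (h : i ≫ r = 𝟙 M)
    (hN : P I N) : P I M := by
  have hE : EcMap I r ≫ EcMap I i = 𝟙 (Ec I M) := by
    rw [← EcMap_comp, h, EcMap_id]
  have hQ : Q.map (EcMap I r) ≫ Q.map (EcMap I i) = 𝟙 (Q.obj (Ec I M)) := by
    rw [← Functor.map_comp, hE, CategoryTheory.Functor.map_id]
  have hr : ∀ x : M, r.hom (i.hom x) = x := fun x => congr($(h) x)
  refine ⟨fun m hm => ?_, ?_, ?_⟩
  · have hV := hN.1 m hm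
    refine ⟨fun x y => ?_⟩
    have hx : ∀ z : (Q.obj (Ec I M))⟦m⟧ ⟶ Q.obj I, z = 0 := by
      intro z
      have h1 : (Q.map (EcMap I i))⟦m⟧' ≫ z = 0 := hV.elim _ _
      have h2 : (Q.map (EcMap I r))⟦m⟧' ≫ (Q.map (EcMap I i))⟦m⟧' = 𝟙 _ := by
        rw [← Functor.map_comp, hQ, CategoryTheory.Functor.map_id]
      calc z = ((Q.map (EcMap I r))⟦m⟧' ≫ (Q.map (EcMap I i))⟦m⟧') ≫ z := by
            rw [h2, Category.id_comp]
        _ = 0 := by rw [Category.assoc, h1, comp_zero]
    rw [hx x, hx y]
  · rw [injective_iff_map_eq_zero]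
    intro x hx
    have h1 : eta I N (i.hom x) = 0 := by
      rw [← eta_natural I i x, hx, comp_zero]
    have h2 : i.hom x = 0 := hN.2.1 (h1.trans (map_zero _).symm)
    rw [← hr x, h2, map_zero]
  · intro y
    obtain ⟨n, hn⟩ := hN.2.2 (Q.map (EcMap I i) ≫ y)
    refine ⟨r.hom n, ?_⟩
    rw [← eta_natural I r n, hn, ← Category.assoc, hQ, Category.id_comp]

lemma P_of_iso {M N : ModuleCat.{u} A} (e : M ≅ N) (hM : P I M) : P I N :=
  P_of_retract I e.inv e.hom e.inv_hom_id hM

section Steps

variable (S : ShortComplex (ModuleCat.{u} A)) (hS : S.ShortExact)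
  (hinj : ∀ p : ℤ, Module.Injective A (I.X p))

include hS hinj in
/-- `P` passes to cokernels -/
lemma P_X₃ (h₁ : P I S.X₁) (h₂ : P I S.X₂) : P I S.X₃ := by
  refine ⟨fun m hm => ?_, ?_, ?_⟩
  · by_cases h1 : m = 1
    · subst h1
      exact V_one_X₃ I S hS hinj h₁.2.2 h₂.2.1 (h₂.1 1 one_ne_zero)
    · exact V_X₃ I S hS hinj m (m - 1) (by ring) (h₂.1 m hm) (h₁.1 (m - 1) (by omega))
  · exact eta_injective_X₃ I S hS hinj h₁.2.2 h₂.2.1
  · exact eta_surjective_X₃ I S hS hinj (h₁.1 (-1) (by omega)) h₂.2.2

end Steps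

section FinProj

variable (hinj : ∀ p : ℤ, Module.Injective A (I.X p))

/-- the split short exact sequence `0 → M → M × N → N → 0` -/
noncomputable def prodSC (M N : ModuleCat.{u} A) : ShortComplex (ModuleCat.{u} A) :=
  ShortComplex.mk
    (ModuleCat.ofHom (LinearMap.inl A M N) : M ⟶ ModuleCat.of A (M × N))
    (ModuleCat.ofHom (LinearMap.snd A M N) : ModuleCat.of A (M × N) ⟶ N)
    (by ext x; rfl)

lemma prodSC_shortExact (M N : ModuleCat.{u} A) : (prodSC M N).ShortExact := by
  refine ShortComplex.ShortExact.mk' ?_ ?_ ?_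
  · rw [ShortComplex.moduleCat_exact_iff]
    intro x hx
    refine ⟨(show M × N from x).1, ?_⟩
    have h2 : (show M × N from x).2 = 0 := hx
    change ((show M × N from x).1, (0 : N)) = x
    rw [← h2]
    rfl
  · exact (ModuleCat.mono_iff_injective
      (ModuleCat.ofHom (LinearMap.inl A M N) : M ⟶ ModuleCat.of A (M × N))).2
      LinearMap.inl_injective
  · exact (ModuleCat.epi_iff_surjective
      (ModuleCat.ofHom (LinearMap.snd A M N) : ModuleCat.of A (M × N) ⟶ N)).2
      LinearMap.snd_surjective

include hinj in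
theorem P_of_finite_projective (hA : P I (ModuleCat.of A A)) (M : ModuleCat.{u} A)
    [Module.Finite A M] [Module.Projective A M] : P I M := by
  refine Groth.Agent.H35.finite_projective_closure (P I) (fun M N e h => P_of_iso I e h) hA
    (fun M hM => P_of_subsingleton I M) ?_ ?_ M
  · intro M N hM hN
    exact P_X₂ I (prodSC M N) (prodSC_shortExact M N) hinj hM hN
  · intro M N h
    exact P_of_retract I (ModuleCat.ofHom (LinearMap.inl A M N) : M ⟶ ModuleCat.of A (M × N))
      (ModuleCat.ofHom (LinearMap.fst A M N)) (by ext x; rfl) h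

end FinProj

section Pd

variable [IsNoetherianRing A] (hinj : ∀ p : ℤ, Module.Injective A (I.X p))

include hinj in
/-- biduality for finite modules of finite projective dimension -/
theorem P_of_hasProjectiveDimensionLT (hA : P I (ModuleCat.of A A)) :
    ∀ (d : ℕ) (N : ModuleCat.{u} A) [Module.Finite A N], HasProjectiveDimensionLT N (d + 1) →
      P I N := by
  intro d
  induction d with
  | zero =>
    intro N _ h
    have : Projective N := (projective_iff_hasProjectiveDimensionLT_one (X := N)).2 h
    have : Module.Projective A N := (IsProjective.iff_projective (R := A) (P := N)).2 this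
    exact P_of_finite_projective I hinj hA N
  | succ d ih =>
    intro N _ h
    obtain ⟨k, K, f, g, w, hK, hS⟩ := exists_pres N
    have hF : P I (ModuleCat.of A (Fin k → A)) := P_free I hinj hA k
    have h2 : HasProjectiveDimensionLT (ModuleCat.of A (Fin k → A)) (d + 1) := by
      have : Module.Projective A (Fin k → A) := inferInstance
      have : Projective (ModuleCat.of A (Fin k → A)) :=
        (IsProjective.iff_projective (R := A) (P := (Fin k → A))).1 this
      exact hasProjectiveDimensionLT_of_ge _ 1 (d + 1) (by omega)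
    have h1 : HasProjectiveDimensionLT K (d + 1) :=
      hS.hasProjectiveDimensionLT_X₁ (d + 1) h2 h
    exact P_X₃ I (ShortComplex.mk f g w) hS hinj (ih K h1) hF

end Pd

end Groth.Agent.H26.BidualPerf
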