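import Mathlib
import Groth.Agent.H26.BidualPerf
import Groth.Agent.H28.CoextModel
import Groth.Agent.H28.DualFinite
import Groth.Agent.H35.InjAmp

/-!
# `End(RHom_S(B, S)) = B` for `B` a perfect `S`-module (helper26)
-/

set_option autoImplicit false
universe u
open CategoryTheory Pretriangulated Limits DerivedCategory Opposite

namespace Groth.Agent.H26.BidualPerf

open Groth.Agent.H28 Groth.Agent.H28.Bidual

attribute [local instance] HasDerivedCategory.standard

section Pd

variable {R : Type u} [CommRing R]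

/-- perfect modules have finite projective dimension -/
theorem exists_hasProjectiveDimensionLT_of_isPerfectModule (M : Type u) [AddCommGroup M]
    [Module R M] (h : DRing.IsPerfectModule R M) :
    ∃ d : ℕ, HasProjectiveDimensionLT (ModuleCat.of R M) (d + 1) := by
  obtain ⟨Pr, d, hz, -⟩ := Groth.Agent.H35.KF.exists_resolution_of_isPerfectModule M h
  refine ⟨d, HasProjectiveDimensionLT.mk (fun i hi Y e => ?_)⟩
  obtain ⟨f, hf, rfl⟩ := Pr.extMk_surjective e (i + 1) rfl
  have hf0 : f = 0 := (hz i (by omega)).eq_of_src _ _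
  subst hf0
  exact Pr.extMk_zero (i + 1) rfl

end Pd

section Main

variable {S B : Type u} [CommRing S] [CommRing B] [Algebra S B] [IsNoetherianRing S]
  [Module.Finite S B]

/-- **`B → End(RHom_S(B, S))` is bijective and `RHom_S(B, S)` has no self-extensions**, for `B`
a perfect module over the Noetherian ring `S`; here `RHom_S(B, -)` is any right adjoint of
restriction of scalars and `S` may be replaced by any object isomorphic to `S[0]`. -/
theorem toEnd_bijective_and_ext_self_subsingleton (hB : DRing.IsPerfectModule S B)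
    (Rψ : Dual.D S ⥤ Dual.D B) (adj : DRing.restrictD (algebraMap S B) ⊣ Rψ)
    (K : Dual.D S) (eK : K ≅ Dual.inD S S) :
    Function.Bijective (fun b : B => b • 𝟙 (Rψ.obj K)) ∧
      ∀ i : ℤ, i ≠ 0 → Subsingleton (Rψ.obj K ⟶ (Rψ.obj K)⟦i⟧) := by
  have hGE : (Dual.inD S S).IsGE 0 := by
    change ((DerivedCategory.singleFunctor (ModuleCat.{u} S) 0).obj (ModuleCat.of S S)).IsGE 0
    infer_instance
  obtain ⟨I, hI, hinj, ⟨e⟩⟩ := Groth.Agent.H35.exists_injective_rep (Dual.inD S S) 0 hGE
  have hKI : I.IsKInjective :=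
    Groth.Agent.H35.isKInjective_of_vanishesBelow S I 0
      (fun j hj => CochainComplex.isZero_of_isStrictlyGE I 0 j hj) hinj
  have htoEnd : Function.Bijective (fun x : S => x • 𝟙 (Q.obj I)) :=
    CoextModel.toEnd_bijective_of_iso e.symm (DualSelf.toEnd_bijective (A := S))
  have hext : ∀ n : ℤ, n ≠ 0 → Subsingleton ((Q.obj I)⟦n⟧ ⟶ Q.obj I) := by
    intro n hn
    have h1 := DualSelf.ext_self_subsingleton (A := S) (-n) (by omega)
    have h2 := DualFinite.subsingleton_shift_left n (-n) (by omega) h1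
    exact CoextModel.subsingleton_hom_of_iso ((shiftFunctor (Dual.D S) n).mapIso e.symm) e.symm h2
  have hS : P I (ModuleCat.of S S) := P_self I htoEnd hext
  obtain ⟨d, hd⟩ := exists_hasProjectiveDimensionLT_of_isPerfectModule B hB
  have hP : P I (ModuleCat.of S B) :=
    P_of_hasProjectiveDimensionLT I hinj hS d (ModuleCat.of S B) hd
  let eR : Rψ.obj (Q.obj I) ≅ Rψ.obj K := Rψ.mapIso (e ≪≫ eK.symm)
  refine ⟨?_, ?_⟩
  · exact CoextModel.toEnd_bijective_of_iso eR (CoextModel.toEnd_bijective_R I Rψ adj hP.2)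
  · intro i hi
    have h1 := CoextModel.subsingleton_R I Rψ adj (-i) (hP.1 (-i) (by omega))
    have h2 := DualFinite.subsingleton_shift_right (-i) i (by omega) h1
    exact CoextModel.subsingleton_hom_of_iso eR ((shiftFunctor (Dual.D B) i).mapIso eR) h2

end Main

section Shift

variable {A : Type u} [CommRing A]

/-- the endomorphism conditions pass to shifts -/
theorem toEnd_bijective_and_ext_self_subsingleton_shift (ω : Dual.D A) (n : ℤ)
    (h : Function.Bijective (fun a : A => a • 𝟙 ω) ∧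
      ∀ i : ℤ, i ≠ 0 → Subsingleton (ω ⟶ ω⟦i⟧)) :
    Function.Bijective (fun a : A => a • 𝟙 (ω⟦n⟧)) ∧
      ∀ i : ℤ, i ≠ 0 → Subsingleton (ω⟦n⟧ ⟶ (ω⟦n⟧)⟦i⟧) := by
  refine ⟨?_, ?_⟩
  · have h1 : (fun c : A => c • 𝟙 (ω⟦n⟧)) =
        (fun f : ω ⟶ ω => (shiftFunctor (Dual.D A) n).map f) ∘ (fun c : A => c • 𝟙 ω) := by
      funext c
      simp [Functor.map_smul]
    rw [h1]
    refine Function.Bijective.comp ?_ h.1
    exact ⟨(shiftFunctor (Dual.D A) n).map_injective, (shiftFunctor (Dual.D A) n).map_surjective⟩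
  · intro i hi
    have h0 := h.2 i hi
    refine ⟨fun x y => ?_⟩
    let e : (ω⟦n⟧)⟦i⟧ ≅ (ω⟦i⟧)⟦n⟧ := (shiftFunctorComm (Dual.D A) n i).app ω
    obtain ⟨x', hx'⟩ := (shiftFunctor (Dual.D A) n).map_surjective (x ≫ e.hom)
    obtain ⟨y', hy'⟩ := (shiftFunctor (Dual.D A) n).map_surjective (y ≫ e.hom)
    have : x ≫ e.hom = y ≫ e.hom := by rw [← hx', ← hy', h0.elim x' y']
    exact (cancel_mono e.hom).1 this

end Shift

end Groth.Agent.H26.BidualPerf
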