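import Mathlib.Algebra.Category.ModuleCat.ChangeOfRings
import Mathlib.Algebra.Category.ModuleCat.Injective
import Mathlib.CategoryTheory.Preadditive.Injective.Basic
import Mathlib.RingTheory.LocalRing.ResidueField.Basic

/-!
# Elements of the coextension of scalars `Hom_R(S, M)`
-/

set_option autoImplicit false
universe u
open IsLocalRing CategoryTheory

namespace Groth.Agent.H26

section D

variable {R S : Type u} [CommRing R] [CommRing S] [Algebra R S]
  (M : Type u) [AddCommGroup M] [Module R M]

/-- `Hom_R(S, M)` as an `S`-module -/
noncomputable abbrev coObj : ModuleCat.{u} S :=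
  (ModuleCat.coextendScalars (algebraMap R S)).obj (ModuleCat.of R M)

set_option backward.isDefEq.respectTransparency false in
/-- an element of `coObj` from a linear map -/
noncomputable def coObjMk (φ : S →ₗ[R] M) : coObj (R := R) (S := S) M :=
  (ModuleCat.CoextendScalars.equiv (algebraMap R S) (ModuleCat.of R M)).symm
    { toFun := fun a => φ a
      map_add' := fun a b => map_add φ a b
      map_smul' := fun r a => by
        have h : ∀ b : S, φ (algebraMap R S r * b) = r • φ b := by
          intro b
          rw [← Algebra.smul_def, map_smul]
        exact h a }

set_option backward.isDefEq.respectTransparency false in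
/-- the linear map of an element of `coObj` -/
noncomputable def coObjEval (g : coObj (R := R) (S := S) M) : S →ₗ[R] M where
  toFun := fun a => g a
  map_add' := fun a b =>
    LinearMap.map_add (ModuleCat.CoextendScalars.equiv (algebraMap R S) _ g) a b
  map_smul' := fun r a => by
    have := LinearMap.map_smul
      (ModuleCat.CoextendScalars.equiv (algebraMap R S) (ModuleCat.of R M) g) r a
    rw [Algebra.smul_def]
    exact this

variable {M}

theorem coObjMk_apply (φ : S →ₗ[R] M) (a : S) : (coObjMk M φ) a = φ a := rfl

theorem coObjEval_apply (g : coObj (R := R) (S := S) M) (a : S) : coObjEval M g a = g a := rfl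

theorem coObj_ext {g g' : coObj (R := R) (S := S) M} (h : ∀ a : S, g a = g' a) : g = g' := by
  apply ModuleCat.CoextendScalars.ext
  ext a
  exact h a

theorem coObj_smul_apply (g : coObj (R := R) (S := S) M) (s a : S) : (s • g) a = g (a * s) := rfl

theorem coObj_zero_apply (a : S) : (0 : coObj (R := R) (S := S) M) a = 0 := rfl

end D

section factor

variable {A B : Type u} [CommRing A] [CommRing B] [IsLocalRing B] [Algebra A B]
  {E : Type u} [AddCommGroup E] [Module A E]

/-- a linear map killing the maximal ideal factors through the residue field -/
theorem exists_factor_residue (φ : B →ₗ[A] E) (hφ : ∀ c ∈ maximalIdeal B, φ c = 0) :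
    ∃ ψ : ResidueField B →ₗ[A] E, ∀ b, ψ (residue B b) = φ b := by
  have key : ∀ b, φ (Function.surjInv (residue_surjective (R := B)) (residue B b)) = φ b := by
    intro b
    have h1 : Function.surjInv (residue_surjective (R := B)) (residue B b) - b ∈
        maximalIdeal B := by
      rw [← residue_eq_zero_iff, map_sub, sub_eq_zero]
      exact Function.surjInv_eq residue_surjective _
    have h2 := hφ _ h1
    rwa [map_sub, sub_eq_zero] at h2
  have hsmul : ∀ (a : A) (b : B), a • residue B b = residue B (a • b) := by
    intro a b
    exact (map_smul (IsScalarTower.toAlgHom A B (ResidueField B)) a b).symm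
  refine ⟨{ toFun := fun x => φ (Function.surjInv (residue_surjective (R := B)) x)
            map_add' := ?_
            map_smul' := ?_ }, key⟩
  · intro x y
    obtain ⟨b, rfl⟩ := residue_surjective x
    obtain ⟨b', rfl⟩ := residue_surjective y
    rw [← map_add, key, key, key, map_add]
  · intro a x
    obtain ⟨b, rfl⟩ := residue_surjective x
    rw [hsmul, key, key, map_smul, RingHom.id_apply]

end factor

end Groth.Agent.H26
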