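import Mathlib
import Groth.Prelude.Def_DDual2
import Groth.Agent.H12.Bridge
import Groth.Agent.H33.Glue.MapDComp
import Groth.Agent.H26.FlatBCHom

/-!
# Flat base change for coextension of scalars, part 1: restriction commutes with base change
(helper26)

For a pushout square of rings `S → S'`, `S → B`, `B' = S' ⊗_S B` the functors
`N ↦ S' ⊗_S N_S` and `N ↦ (B' ⊗_B N)_{S'}` from `B`-modules to `S'`-modules are isomorphic
(`gam0`), hence so are the induced functors on derived categories (`gam`).
-/

set_option autoImplicit false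
set_option linter.unusedSectionVars false
set_option linter.style.haveILetI false
set_option linter.overlappingInstances false

universe u

open CategoryTheory Limits TensorProduct ChangeOfRings

namespace Groth.Agent.H26.CoextBC

open Groth.Agent.H26.FlatBCHom

variable (S S' B B' : Type u) [CommRing S] [CommRing S'] [CommRing B] [CommRing B']
  [Algebra S S'] [Algebra S B] [Algebra S' B'] [Algebra B B'] [Algebra S B']
  [IsScalarTower S S' B'] [IsScalarTower S B B'] [Algebra.IsPushout S S' B B']

section ModuleLevel

/-- the underlying additive equivalence `S' ⊗_S N ≃ B' ⊗_B N` -/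
noncomputable def gam0AddEquiv (N : ModuleCat.{u} B) :
    ((ModuleCat.extendScalars.{u, u, u} (algebraMap S S')).obj
      ((ModuleCat.restrictScalars.{u} (algebraMap S B)).obj N)) ≃+
    ((ModuleCat.extendScalars.{u, u, u} (algebraMap B B')).obj N) :=
  letI : Module S N := Module.compHom N (algebraMap S B)
  haveI : IsScalarTower S B N := IsScalarTower.of_algebraMap_smul fun _ _ => rfl
  (Groth.Agent.H12.BC.bridge (B := S')
    ((ModuleCat.restrictScalars.{u} (algebraMap S B)).obj N)).toAddEquiv.trans
    ((Algebra.IsPushout.cancelBaseChange S S' B B' N).symm.toAddEquiv.trans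
      (Groth.Agent.H12.BC.bridge (B := B') N).symm.toAddEquiv)

theorem gam0AddEquiv_tmul (N : ModuleCat.{u} B) (s' : S') (n : N) :
    gam0AddEquiv S S' B B' N ((s' : S') ⊗ₜ[S, algebraMap S S'] n) =
      (algebraMap S' B' s') ⊗ₜ[B, algebraMap B B'] n := by
  letI : Module S N := Module.compHom N (algebraMap S B)
  haveI : IsScalarTower S B N := IsScalarTower.of_algebraMap_smul fun _ _ => rfl
  change (Groth.Agent.H12.BC.bridge (B := B') N).symm
    ((Algebra.IsPushout.cancelBaseChange S S' B B' N).symm (s' ⊗ₜ[S] n)) = _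
  rw [Algebra.IsPushout.cancelBaseChange_symm_tmul, LinearEquiv.symm_apply_eq]
  rfl

theorem gam0AddEquiv_smul (N : ModuleCat.{u} B) (s' : S')
    (x : (ModuleCat.extendScalars.{u, u, u} (algebraMap S S')).obj
      ((ModuleCat.restrictScalars.{u} (algebraMap S B)).obj N)) :
    gam0AddEquiv S S' B B' N (s' • x) = algebraMap S' B' s' • gam0AddEquiv S S' B B' N x := by
  letI : Module S N := Module.compHom N (algebraMap S B)
  haveI : IsScalarTower S B N := IsScalarTower.of_algebraMap_smul fun _ _ => rfl
  have e1 : Groth.Agent.H12.BC.bridge (B := S')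
      ((ModuleCat.restrictScalars.{u} (algebraMap S B)).obj N) (s' • x) =
      s' • Groth.Agent.H12.BC.bridge (B := S')
      ((ModuleCat.restrictScalars.{u} (algebraMap S B)).obj N) x := map_smul _ _ _
  have e2 : ∀ y : S' ⊗[S] N, (Algebra.IsPushout.cancelBaseChange S S' B B' N).symm (s' • y) =
      s' • (Algebra.IsPushout.cancelBaseChange S S' B B' N).symm y := fun y => map_smul _ _ _
  have e3 : ∀ z : B' ⊗[B] N, s' • z = algebraMap S' B' s' • z := fun z =>
    (algebraMap_smul B' s' z).symm
  have e4 : ∀ z : B' ⊗[B] N, (Groth.Agent.H12.BC.bridge (B := B') N).symm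
      (algebraMap S' B' s' • z) =
      algebraMap S' B' s' • (Groth.Agent.H12.BC.bridge (B := B') N).symm z :=
    fun z => map_smul _ _ _
  change (Groth.Agent.H12.BC.bridge (B := B') N).symm
    ((Algebra.IsPushout.cancelBaseChange S S' B B' N).symm
      (Groth.Agent.H12.BC.bridge (B := S') _ (s' • x))) =
    algebraMap S' B' s' • (Groth.Agent.H12.BC.bridge (B := B') N).symm
    ((Algebra.IsPushout.cancelBaseChange S S' B B' N).symm
      (Groth.Agent.H12.BC.bridge (B := S') _ x))
  refine (congrArg (fun t => (Groth.Agent.H12.BC.bridge (B := B') N).symm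
    ((Algebra.IsPushout.cancelBaseChange S S' B B' N).symm t)) e1).trans ?_
  refine (congrArg (fun t => (Groth.Agent.H12.BC.bridge (B := B') N).symm t) (e2 _)).trans ?_
  refine (congrArg (fun t => (Groth.Agent.H12.BC.bridge (B := B') N).symm t) (e3 _)).trans ?_
  exact e4 _

/-- the `S'`-linear equivalence `S' ⊗_S N_S ≃ (B' ⊗_B N)_{S'}` -/
noncomputable def gam0LinearEquiv (N : ModuleCat.{u} B) :
    ((F0 S S').obj ((ModuleCat.restrictScalars.{u} (algebraMap S B)).obj N)) ≃ₗ[S']
      ((ModuleCat.restrictScalars.{u} (algebraMap S' B')).obj ((F0 B B').obj N)) where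
  toFun x := gam0AddEquiv S S' B B' N x
  invFun y := (gam0AddEquiv S S' B B' N).symm y
  left_inv x := (gam0AddEquiv S S' B B' N).symm_apply_apply x
  right_inv y := (gam0AddEquiv S S' B B' N).apply_symm_apply y
  map_add' x y := map_add (gam0AddEquiv S S' B B' N) x y
  map_smul' s' x := gam0AddEquiv_smul S S' B B' N s' x

/-- the `S'`-linear isomorphism `S' ⊗_S N_S ≅ (B' ⊗_B N)_{S'}` -/
noncomputable def gam0App (N : ModuleCat.{u} B) :
    (F0 S S').obj ((ModuleCat.restrictScalars.{u} (algebraMap S B)).obj N) ≅
      (ModuleCat.restrictScalars.{u} (algebraMap S' B')).obj ((F0 B B').obj N) :=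
  (gam0LinearEquiv S S' B B' N).toModuleIso

theorem gam0App_hom_tmul (N : ModuleCat.{u} B) (n : N) :
    (gam0App S S' B B' N).hom ((1 : S') ⊗ₜ[S, algebraMap S S'] n) =
      (1 : B') ⊗ₜ[B, algebraMap B B'] n := by
  have := gam0AddEquiv_tmul S S' B B' N 1 n
  rw [map_one] at this
  exact this

/-- restriction of scalars commutes with base change in a pushout square (module level) -/
noncomputable def gam0 :
    ModuleCat.restrictScalars.{u} (algebraMap S B) ⋙ F0 S S' ≅
      F0 B B' ⋙ ModuleCat.restrictScalars.{u} (algebraMap S' B') :=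
  NatIso.ofComponents (fun N => gam0App S S' B B' N) (fun {N N'} h => by
    apply ModuleCat.ExtendScalars.hom_ext
    intro n
    have h1 := gam0App_hom_tmul S S' B B' N n
    have h2 := gam0App_hom_tmul S S' B B' N' (h n)
    change (gam0App S S' B B' N').hom ((F0 S S').map
        ((ModuleCat.restrictScalars.{u} (algebraMap S B)).map h) ((1 : S') ⊗ₜ[S, algebraMap S S'] n)) =
      (F0 B B').map h ((gam0App S S' B B' N).hom ((1 : S') ⊗ₜ[S, algebraMap S S'] n))
    rw [h1]
    exact h2)

end ModuleLevel

section DerivedLevel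

attribute [local instance] HasDerivedCategory.standard

variable [Module.Flat S S'] [Module.Flat B B']

/-- restriction of scalars commutes with flat base change in a pushout square (derived level) -/
noncomputable def gam :
    DRing.restrictD (algebraMap S B) ⋙ LB S S' ≅ LB B B' ⋙ DRing.restrictD (algebraMap S' B') :=
  Groth.Agent.H33.Glue.mapDerivedCategoryCompIso (ModuleCat.restrictScalars.{u} (algebraMap S B))
    (F0 S S') (F0 B B' ⋙ ModuleCat.restrictScalars.{u} (algebraMap S' B')) (gam0 S S' B B') ≪≫
  (Groth.Agent.H33.Glue.mapDerivedCategoryCompIso (F0 B B')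
    (ModuleCat.restrictScalars.{u} (algebraMap S' B'))
    (F0 B B' ⋙ ModuleCat.restrictScalars.{u} (algebraMap S' B')) (Iso.refl _)).symm

end DerivedLevel

end Groth.Agent.H26.CoextBC
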