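import Mathlib
import Groth.Prelude.Def_DDual2
import Groth.Prelude.Def_CAlg
import Groth.Agent.H26.FlatBCDual9

/-!
# Dualizing complexes and flat base change, part 10: finite type maps with Gorenstein fibres
(helper26)
-/

set_option autoImplicit false
set_option linter.unusedSectionVars false
set_option linter.style.haveILetI false
set_option linter.overlappingInstances false

universe u

open CategoryTheory Limits Pretriangulated DerivedCategory TensorProduct

namespace Groth.Agent.H26.FlatBCDual

open Groth.Agent.H26.FlatBCHom

attribute [local instance] HasDerivedCategory.standard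

section Dim

/-- the dimension of a fibre of a finite type algebra is bounded by the number of generators -/
theorem ringKrullDim_fiber_le {A B : Type u} [CommRing A] [CommRing B] [Algebra A B] (n : ℕ)
    (f : MvPolynomial (Fin n) A →ₐ[A] B) (hf : Function.Surjective f)
    (p : Ideal A) [p.IsPrime] : ringKrullDim (p.Fiber B) ≤ n := by
  let g : p.ResidueField ⊗[A] MvPolynomial (Fin n) A →ₐ[p.ResidueField] p.ResidueField ⊗[A] B :=
    Algebra.TensorProduct.map (AlgHom.id p.ResidueField p.ResidueField) f
  have hg : Function.Surjective g := by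
    intro x
    induction x using TensorProduct.induction_on with
    | zero => exact ⟨0, map_zero _⟩
    | tmul k b =>
      obtain ⟨y, rfl⟩ := hf b
      exact ⟨k ⊗ₜ y, by simp [g]⟩
    | add x y hx hy =>
      obtain ⟨x', rfl⟩ := hx
      obtain ⟨y', rfl⟩ := hy
      exact ⟨x' + y', map_add _ _ _⟩
  have h1 := ringKrullDim_le_of_surjective g.toRingHom hg
  have h2 : ringKrullDim (p.ResidueField ⊗[A] MvPolynomial (Fin n) A) = n := by
    rw [ringKrullDim_eq_of_ringEquiv
      (MvPolynomial.algebraTensorAlgEquiv A p.ResidueField (σ := Fin n)).toRingEquiv,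
      MvPolynomial.ringKrullDim_of_isNoetherianRing, ringKrullDim_eq_zero_of_field]
    simp
  rw [h2] at h1
  exact h1

theorem ringKrullDim_atPrime_le {R : Type u} [CommRing R] (q : Ideal R) [q.IsPrime] :
    ringKrullDim (Localization.AtPrime q) ≤ ringKrullDim R := by
  rw [IsLocalization.AtPrime.ringKrullDim_eq_height q (Localization.AtPrime q)]
  exact Ideal.height_le_ringKrullDim_of_ne_top Ideal.IsPrime.ne_top'

end Dim


section FiniteType

variable {A B : Type u} [CommRing A] [CommRing B] [Algebra A B] [Module.Flat A B]
  [IsNoetherianRing A] [IsNoetherianRing B]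

/-- **Flat finite type maps with Gorenstein fibres preserve dualizing complexes.** -/
theorem isDualizing_LB_of_finiteType_gorenstein [Algebra.FiniteType A B]
    (hG : ∀ p : PrimeSpectrum A, LocCoh.IsGorensteinRing (B ⊗[A] p.asIdeal.ResidueField))
    (ω : Dual.D A) (hω : Dual.IsDualizing A ω) : Dual.IsDualizing B ((LB A B).obj ω) := by
  obtain ⟨n, f, hf⟩ := Algebra.FiniteType.iff_quotient_mvPolynomial''.mp
    (inferInstance : Algebra.FiniteType A B)
  refine isDualizing_LB_of_gorenstein_fibres n ?_ ω hω
  intro p hp q hq
  have hGp : LocCoh.IsGorensteinRing (p.Fiber B) :=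
    Groth.Agent.H26.GorRegHom.isGorensteinRing_of_ringEquiv
      (Algebra.TensorProduct.comm A B p.ResidueField).toRingEquiv (hG ⟨p, hp⟩)
  exact ⟨hGp.isGorensteinLocalRing_localization q,
    (ringKrullDim_atPrime_le q).trans (ringKrullDim_fiber_le n f hf p)⟩

end FiniteType

end Groth.Agent.H26.FlatBCDual
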