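import Mathlib
import Groth.Prelude.Def_CAlg
import Groth.Agent.H26.GorRegHom
import Groth.Agent.S0343

/-!
# Gorenstein rings: localizations and quotients by a regular element
-/

set_option autoImplicit false
set_option linter.style.haveILetI false
set_option linter.unusedSectionVars false
universe u

open TensorProduct IsLocalRing

namespace Groth.Agent.H26.GorQuot

open Groth.Agent.H26.GorRegHom

/-- A localization of a Gorenstein ring is Gorenstein. -/
theorem isGorensteinRing_of_isLocalization {S S' : Type u} [CommRing S] [CommRing S']
    [Algebra S S'] (M : Submonoid S) [IsLocalization M S'] (h : LocCoh.IsGorensteinRing S) :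
    LocCoh.IsGorensteinRing S' := by
  haveI : IsNoetherianRing S := h.toIsNoetherian
  haveI : IsNoetherianRing S' := IsLocalization.isNoetherianRing M S' inferInstance
  refine ⟨fun q _ => ?_⟩
  exact Groth.Agent.H26.FormalFibreFinite.forall_prime_of_isLocalization
    (fun X _ => LocCoh.IsGorensteinLocalRing X)
    (fun X Y _ _ e h => isGorensteinLocalRing_of_ringEquiv e h) M
    (fun q _ _ => h.isGorensteinLocalRing_localization q) q

set_option backward.isDefEq.respectTransparency false in
/-- local version -/
theorem isGorensteinLocalRing_atPrime_quotient {S : Type u} [CommRing S]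
    (hS : LocCoh.IsGorensteinRing S) (x : S) (hx : IsSMulRegular S x) (I : Ideal S)
    (hI : I = Ideal.span {x}) (Q : Ideal (S ⧸ I)) [Q.IsPrime] :
    LocCoh.IsGorensteinLocalRing (Localization.AtPrime Q) := by
  haveI : IsNoetherianRing S := hS.toIsNoetherian
  set P : Ideal S := Q.comap (Ideal.Quotient.mk I) with hP
  haveI : P.IsPrime := Ideal.comap_isPrime _ Q
  have hloc : IsLocalization (Algebra.algebraMapSubmonoid (S ⧸ I) P.primeCompl)
      (Localization.AtPrime P ⧸ I.map (algebraMap S (Localization.AtPrime P))) := inferInstance
  have hsub : Algebra.algebraMapSubmonoid (S ⧸ I) P.primeCompl = Q.primeCompl := by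
    ext y
    obtain ⟨y, rfl⟩ := Ideal.Quotient.mk_surjective y
    constructor
    · rintro ⟨z, hz, hzy⟩
      rw [← hzy]
      exact hz
    · intro hy
      exact ⟨y, hy, rfl⟩
  haveI : IsLocalization.AtPrime
      (Localization.AtPrime P ⧸ I.map (algebraMap S (Localization.AtPrime P))) Q := by
    show IsLocalization Q.primeCompl _
    rw [← hsub]
    exact hloc
  let e : Localization.AtPrime Q ≃+*
      (Localization.AtPrime P ⧸ I.map (algebraMap S (Localization.AtPrime P))) :=
    (IsLocalization.algEquiv Q.primeCompl (Localization.AtPrime Q)
      (Localization.AtPrime P ⧸ I.map (algebraMap S (Localization.AtPrime P)))).toRingEquiv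
  have hmap : I.map (algebraMap S (Localization.AtPrime P)) =
      Ideal.span {algebraMap S (Localization.AtPrime P) x} := by
    rw [hI, Ideal.map_span, Set.image_singleton]
  have hGP := hS.isGorensteinLocalRing_localization P
  haveI : IsNoetherianRing (Localization.AtPrime P) := hGP.toIsNoetherian
  have hxP : x ∈ P := by
    rw [hP, Ideal.mem_comap]
    have : Ideal.Quotient.mk I x = 0 := by
      rw [Ideal.Quotient.eq_zero_iff_mem, hI]
      exact Ideal.mem_span_singleton_self x
    rw [this]
    exact Q.zero_mem
  have hxm : algebraMap S (Localization.AtPrime P) x ∈ maximalIdeal (Localization.AtPrime P) := by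
    rw [← Localization.AtPrime.map_eq_maximalIdeal]
    exact Ideal.mem_map_of_mem _ hxP
  have hreg : IsSMulRegular (Localization.AtPrime P) (algebraMap S (Localization.AtPrime P) x) :=
    IsSMulRegular.of_flat hx
  have h1 := (Groth.Agent.S0343.result (Localization.AtPrime P) _ hxm hreg).mp hGP
  exact isGorensteinLocalRing_of_ringEquiv ((Ideal.quotEquivOfEq hmap.symm).trans e.symm) h1

/-- The quotient of a Gorenstein ring by a regular element is Gorenstein. -/
theorem isGorensteinRing_quotient_span_singleton {S : Type u} [CommRing S]
    (hS : LocCoh.IsGorensteinRing S) (x : S) (hx : IsSMulRegular S x) :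
    LocCoh.IsGorensteinRing (S ⧸ Ideal.span {x}) := by
  haveI : IsNoetherianRing S := hS.toIsNoetherian
  exact ⟨fun Q _ => isGorensteinLocalRing_atPrime_quotient hS x hx _ rfl Q⟩

/-- The quotient of a Gorenstein ring by a principal ideal generated by a regular element or by
zero is Gorenstein. -/
theorem isGorensteinRing_quotient_span_singleton' {S : Type u} [CommRing S]
    (hS : LocCoh.IsGorensteinRing S) (x : S) (hx : x = 0 ∨ IsSMulRegular S x) :
    LocCoh.IsGorensteinRing (S ⧸ Ideal.span {x}) := by
  rcases hx with rfl | hx
  · have h0 : Ideal.span {(0 : S)} = ⊥ := by simp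
    exact isGorensteinRing_of_ringEquiv
      ((RingEquiv.quotientBot S).symm.trans (Ideal.quotEquivOfEq h0.symm)) hS
  · exact isGorensteinRing_quotient_span_singleton hS x hx

end Groth.Agent.H26.GorQuot
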