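import Mathlib
import Groth.Prelude.Def_CAlg
import Groth.Agent.H26.GorRegHom
import Groth.Agent.H26.GorQuot
import Groth.Agent.H26.RegHomDescent

/-!
# Gorenstein rings and finitely generated field extensions (S8948)
-/

set_option autoImplicit false
set_option linter.style.haveILetI false
set_option linter.unusedSectionVars false
universe u

open TensorProduct IsLocalRing Polynomial

namespace Groth.Agent.H26.GorFieldExt

open Groth.Agent.H26.GorRegHom Groth.Agent.H26.GorQuot

set_option backward.isDefEq.respectTransparency false in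
/-- If all base changes of the `k`-algebra `F` to fields are regular rings, then `R ⊗_k F` is
Gorenstein for every Gorenstein `k`-algebra `R` (if Noetherian). -/
theorem isGorensteinRing_tensor_of_regular (k F R : Type u) [Field k] [CommRing F] [Algebra k F]
    [CommRing R] [Algebra k R] [IsNoetherianRing (R ⊗[k] F)]
    (hF : ∀ (κ : Type u) [Field κ] [Algebra k κ], IsRegularRing (κ ⊗[k] F))
    (hR : LocCoh.IsGorensteinRing R) : LocCoh.IsGorensteinRing (R ⊗[k] F) := by
  refine isGorensteinRing_of_flat_of_regular_fibres R (R ⊗[k] F) hR (fun p _ => ?_)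
  have h1 := hF p.ResidueField
  exact @IsRegularRing.of_ringEquiv _ _ _ _
    (Algebra.TensorProduct.cancelBaseChange k R p.ResidueField p.ResidueField F).symm.toRingEquiv h1

set_option backward.isDefEq.respectTransparency false in
/-- `k[X] ⊗_k R` is Gorenstein. -/
theorem isGorensteinRing_polynomial_tensor (k R : Type u) [Field k] [CommRing R] [Algebra k R]
    (hR : LocCoh.IsGorensteinRing R) : LocCoh.IsGorensteinRing (k[X] ⊗[k] R) := by
  haveI : IsNoetherianRing R := hR.toIsNoetherian
  haveI : IsNoetherianRing (R ⊗[k] k[X]) := Algebra.FiniteType.isNoetherianRing R _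
  have h1 : LocCoh.IsGorensteinRing (R ⊗[k] k[X]) := by
    refine isGorensteinRing_tensor_of_regular k k[X] R (fun κ _ _ => ?_) hR
    exact @IsRegularRing.of_ringEquiv _ _ _ _ (polyEquivTensor k κ).toRingEquiv inferInstance
  exact isGorensteinRing_of_ringEquiv (Algebra.TensorProduct.comm k R k[X]).toRingEquiv h1


set_option backward.isDefEq.respectTransparency false in
/-- `(P/(g)) ⊗_k R` is Gorenstein if `P ⊗_k R` is and `g` is zero or regular. -/
theorem isGorensteinRing_quotient_tensor' (k P R : Type u) [Field k] [CommRing P] [Algebra k P]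
    [CommRing R] [Algebra k R]
    (hT : LocCoh.IsGorensteinRing (P ⊗[k] R)) (g : P) (hg : g = 0 ∨ IsSMulRegular P g) :
    LocCoh.IsGorensteinRing ((P ⧸ Ideal.span {g}) ⊗[k] R) := by
  have hreg : algebraMap P (P ⊗[k] R) g = 0 ∨
      IsSMulRegular (P ⊗[k] R) (algebraMap P (P ⊗[k] R) g) := by
    rcases hg with hg | hg
    · left
      rw [hg, map_zero]
    · right
      exact IsSMulRegular.of_flat hg
  have h1 := isGorensteinRing_quotient_span_singleton' hT _ hreg
  have hmap : (Ideal.span {g}).map (algebraMap P (P ⊗[k] R)) =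
      Ideal.span {algebraMap P (P ⊗[k] R) g} := by
    rw [Ideal.map_span, Set.image_singleton]
  let e1 : ((P ⊗[k] R) ⧸ Ideal.span {algebraMap P (P ⊗[k] R) g}) ≃+*
      ((P ⊗[k] R) ⧸ (Ideal.span {g}).map (algebraMap P (P ⊗[k] R))) :=
    Ideal.quotEquivOfEq hmap.symm
  let e2 : ((P ⊗[k] R) ⧸ (Ideal.span {g}).map (algebraMap P (P ⊗[k] R))) ≃+*
      (P ⊗[k] R) ⊗[P] (P ⧸ Ideal.span {g}) :=
    (Algebra.TensorProduct.quotIdealMapEquivTensorQuot (P ⊗[k] R) (Ideal.span {g})).toRingEquiv
  let e3 : (P ⊗[k] R) ⊗[P] (P ⧸ Ideal.span {g}) ≃+* R ⊗[k] (P ⧸ Ideal.span {g}) :=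
    Groth.Agent.H26.RegHomDescent.tensorTensorEquiv k P (P ⧸ Ideal.span {g}) R
  let e4 : R ⊗[k] (P ⧸ Ideal.span {g}) ≃+* (P ⧸ Ideal.span {g}) ⊗[k] R :=
    (Algebra.TensorProduct.comm k R (P ⧸ Ideal.span {g})).toRingEquiv
  exact isGorensteinRing_of_ringEquiv (e1.trans (e2.trans (e3.trans e4))) h1

/-- `(k[X]/(g)) ⊗_k R` is Gorenstein. -/
theorem isGorensteinRing_quotient_tensor (k R : Type u) [Field k] [CommRing R] [Algebra k R]
    (hR : LocCoh.IsGorensteinRing R) (g : k[X]) :
    LocCoh.IsGorensteinRing ((k[X] ⧸ Ideal.span {g}) ⊗[k] R) := by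
  refine isGorensteinRing_quotient_tensor' k k[X] R (isGorensteinRing_polynomial_tensor k R hR) g ?_
  by_cases hg : g = 0
  · exact Or.inl hg
  · exact Or.inr (IsSMulRegular.of_ne_zero hg)

set_option backward.isDefEq.respectTransparency false in
/-- `B ⊗_k R` is Gorenstein for a monogenic `k`-algebra `B`. -/
theorem isGorensteinRing_tensor_of_surjective (k B R : Type u) [Field k] [CommRing B]
    [Algebra k B] [CommRing R] [Algebra k R] (hR : LocCoh.IsGorensteinRing R)
    (φ : k[X] →ₐ[k] B) (hφ : Function.Surjective φ) : LocCoh.IsGorensteinRing (B ⊗[k] R) := by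
  have hg : RingHom.ker φ = Ideal.span {Submodule.IsPrincipal.generator (RingHom.ker φ)} :=
    (Ideal.span_singleton_generator _).symm
  have h1 := isGorensteinRing_quotient_tensor k R hR
    (Submodule.IsPrincipal.generator (RingHom.ker φ))
  rw [← hg] at h1
  exact isGorensteinRing_of_ringEquiv (Algebra.TensorProduct.congr
    (Ideal.quotientKerAlgEquivOfSurjective hφ) AlgEquiv.refl).toRingEquiv h1

set_option backward.isDefEq.respectTransparency false in
/-- Gorenstein passes from `B ⊗_k R` to `L ⊗_k R` for a localization `L` of `B`. -/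
theorem isGorensteinRing_tensor_of_isLocalization (k B L R : Type u) [Field k] [CommRing B]
    [Algebra k B] [CommRing L] [Algebra k L] [Algebra B L] [IsScalarTower k B L]
    [CommRing R] [Algebra k R] (M : Submonoid B) [IsLocalization M L]
    (h : LocCoh.IsGorensteinRing (B ⊗[k] R)) : LocCoh.IsGorensteinRing (L ⊗[k] R) := by
  letI : Algebra (B ⊗[k] R) (L ⊗[k] R) :=
    (Algebra.TensorProduct.map (IsScalarTower.toAlgHom k B L) (AlgHom.id k R)).toRingHom.toAlgebra
  haveI : IsScalarTower B (B ⊗[k] R) (L ⊗[k] R) := by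
    refine IsScalarTower.of_algebraMap_eq (fun b => ?_)
    change _ = (Algebra.TensorProduct.map (IsScalarTower.toAlgHom k B L) (AlgHom.id k R))
      (b ⊗ₜ 1)
    rw [Algebra.TensorProduct.map_tmul]
    rfl
  haveI := IsLocalization.tensorProduct_tensorProduct k R M L (by
    ext r
    change (Algebra.TensorProduct.map (IsScalarTower.toAlgHom k B L) (AlgHom.id k R))
      (1 ⊗ₜ r) = 1 ⊗ₜ r
    rw [Algebra.TensorProduct.map_tmul, map_one]
    rfl)
  exact isGorensteinRing_of_isLocalization (Algebra.algebraMapSubmonoid (B ⊗[k] R) M) h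


section Simple

open scoped IntermediateField.algebraAdjoinAdjoin

set_option backward.isDefEq.respectTransparency false in
/-- `k(a) ⊗_k R` is Gorenstein. -/
theorem isGorensteinRing_adjoin_simple_tensor (k K R : Type u) [Field k] [Field K] [Algebra k K]
    [CommRing R] [Algebra k R] (hR : LocCoh.IsGorensteinRing R) (a : K) :
    LocCoh.IsGorensteinRing ((IntermediateField.adjoin k {a}) ⊗[k] R) := by
  let a' : Algebra.adjoin k {a} := ⟨a, Algebra.self_mem_adjoin_singleton k a⟩
  have hsurj : Function.Surjective (Polynomial.aeval (R := k) a') := by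
    rintro ⟨b, hb⟩
    rw [Algebra.adjoin_singleton_eq_range_aeval] at hb
    obtain ⟨p, hp⟩ := hb
    refine ⟨p, Subtype.ext ?_⟩
    rw [Polynomial.aeval_subalgebra_coe]
    exact hp
  have h1 := isGorensteinRing_tensor_of_surjective k (Algebra.adjoin k {a}) R hR _ hsurj
  exact isGorensteinRing_tensor_of_isLocalization k (Algebra.adjoin k {a})
    (IntermediateField.adjoin k {a}) R (nonZeroDivisors (Algebra.adjoin k {a})) h1

end Simple

set_option backward.isDefEq.respectTransparency false in
/-- S8948, by induction on the number of generators. -/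
theorem isGorensteinRing_tensor_of_fg_aux : ∀ (n : ℕ) (k K R : Type u) [Field k] [Field K]
    [Algebra k K] [CommRing R] [Algebra k R] (s : Finset K), s.card = n →
    IntermediateField.adjoin k (s : Set K) = ⊤ → LocCoh.IsGorensteinRing R →
    LocCoh.IsGorensteinRing (K ⊗[k] R) := by
  intro n
  induction n with
  | zero =>
    intro k K R _ _ _ _ _ s hs htop hR
    rw [Finset.card_eq_zero] at hs
    rw [hs, Finset.coe_empty, IntermediateField.adjoin_empty] at htop
    refine isGorensteinRing_tensor_of_surjective k K R hR (Polynomial.aeval (0 : K)) ?_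
    intro x
    have hx : x ∈ (⊥ : IntermediateField k K) := htop ▸ IntermediateField.mem_top
    obtain ⟨y, rfl⟩ := IntermediateField.mem_bot.mp hx
    exact ⟨Polynomial.C y, Polynomial.aeval_C _ _⟩
  | succ n ih =>
    intro k K R _ _ _ _ _ s hs htop hR
    classical
    obtain ⟨a, t, hat, rfl, ht⟩ := Finset.card_eq_succ.mp hs
    have h1 := isGorensteinRing_adjoin_simple_tensor k K R hR a
    have h2 : IntermediateField.adjoin (IntermediateField.adjoin k {a}) (t : Set K) = ⊤ := by
      rw [← IntermediateField.restrictScalars_eq_top_iff (K := k),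
        IntermediateField.adjoin_adjoin_left, ← htop]
      congr 1
      rw [Finset.coe_insert, Set.singleton_union]
    have h3 := ih (IntermediateField.adjoin k {a}) K ((IntermediateField.adjoin k {a}) ⊗[k] R)
      t ht h2 h1
    exact isGorensteinRing_of_ringEquiv (Algebra.TensorProduct.cancelBaseChange k
      (IntermediateField.adjoin k {a}) K K R).toRingEquiv h3

/-- S8948. -/
theorem isGorensteinRing_tensor_of_fg (k K R : Type u) [Field k] [Field K] [Algebra k K]
    (hK : ∃ s : Finset K, IntermediateField.adjoin k (s : Set K) = ⊤) [CommRing R] [Algebra k R]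
    [hR : LocCoh.IsGorensteinRing R] : LocCoh.IsGorensteinRing (K ⊗[k] R) := by
  obtain ⟨s, hs⟩ := hK
  exact isGorensteinRing_tensor_of_fg_aux s.card k K R s rfl hs hR

end Groth.Agent.H26.GorFieldExt
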