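import Mathlib
import Groth.Prelude.Def_CAlg
import Groth.Agent.H26.GorFibre
import Groth.Agent.H26.GorFieldExt
import Groth.Agent.H26.SkFieldExt
import Groth.Agent.S0342

/-!
# Gorenstein local rings of finite type algebras under arbitrary field extensions (S1803)
-/

set_option autoImplicit false
set_option linter.style.haveILetI false
set_option linter.unusedSectionVars false
universe u

open TensorProduct IsLocalRing

namespace Groth.Agent.H26.GorFieldAny

open Groth.Agent.H26.GorRegHom Groth.Agent.H26.GorFieldExt

/-- A regular ring is Gorenstein. -/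
theorem isGorensteinRing_of_isRegularRing (R : Type u) [CommRing R]
    [IsRegularRing R] : LocCoh.IsGorensteinRing R :=
  ⟨fun p _ => Groth.Agent.S0342.result (Localization.AtPrime p)⟩

/-- Residue fields of finite type algebras over a field are finitely generated field
extensions. -/
theorem exists_finset_adjoin_residueField (k C : Type u) [Field k] [CommRing C] [Algebra k C]
    [Algebra.FiniteType k C] (p : Ideal C) [p.IsPrime] :
    ∃ s : Finset p.ResidueField, IntermediateField.adjoin k (s : Set p.ResidueField) = ⊤ := by
  classical
  obtain ⟨t, ht⟩ := (Algebra.FiniteType.out : (⊤ : Subalgebra k C).FG)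
  refine ⟨t.image (algebraMap C p.ResidueField), ?_⟩
  have key : ∀ c : C, algebraMap C p.ResidueField c ∈
      IntermediateField.adjoin k ((t.image (algebraMap C p.ResidueField) : Finset _) :
        Set p.ResidueField) := by
    intro c
    have hc : c ∈ Algebra.adjoin k (t : Set C) := by
      rw [ht]
      trivial
    induction hc using Algebra.adjoin_induction with
    | mem x hx =>
      refine IntermediateField.subset_adjoin _ _ ?_
      rw [Finset.coe_image]
      exact ⟨x, hx, rfl⟩
    | algebraMap r =>
      rw [← IsScalarTower.algebraMap_apply]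
      exact IntermediateField.algebraMap_mem _ r
    | add x y _ _ hx hy =>
      rw [map_add]
      exact add_mem hx hy
    | mul x y _ _ hx hy =>
      rw [map_mul]
      exact mul_mem hx hy
  rw [eq_top_iff]
  intro z _
  obtain ⟨a, b, -, rfl⟩ := IsFractionRing.div_surjective (A := C ⧸ p) z
  obtain ⟨a, rfl⟩ := Ideal.Quotient.mk_surjective a
  obtain ⟨b, rfl⟩ := Ideal.Quotient.mk_surjective b
  exact div_mem (key a) (key b)

set_option backward.isDefEq.respectTransparency false in
/-- The fibres of `C → C ⊗_k k'` are Gorenstein rings, for `C` of finite type over `k`. -/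
theorem isGorensteinRing_fiber_tensor (k k' C : Type u) [Field k] [Field k'] [Algebra k k']
    [CommRing C] [Algebra k C] [Algebra.FiniteType k C] (p : Ideal C) [p.IsPrime] :
    LocCoh.IsGorensteinRing (p.Fiber (C ⊗[k] k')) := by
  haveI : LocCoh.IsGorensteinRing k' := isGorensteinRing_of_isRegularRing k'
  have h1 : LocCoh.IsGorensteinRing (p.ResidueField ⊗[k] k') :=
    isGorensteinRing_tensor_of_fg k p.ResidueField k' (exists_finset_adjoin_residueField k C p)
  exact isGorensteinRing_of_ringEquiv
    (Algebra.TensorProduct.cancelBaseChange k C p.ResidueField p.ResidueField k').symm.toRingEquiv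
    h1

set_option backward.isDefEq.respectTransparency false in
/-- S1803 -/
theorem isGorensteinLocalRing_localization_tensor_iff (k k' C : Type u) [Field k] [Field k']
    [Algebra k k'] [CommRing C] [Algebra k C] [Algebra.FiniteType k C]
    (q : Ideal (C ⊗[k] k')) [hq : q.IsPrime] :
    LocCoh.IsGorensteinLocalRing (Localization.AtPrime (q.comap (algebraMap C (C ⊗[k] k')))) ↔
      LocCoh.IsGorensteinLocalRing (Localization.AtPrime q) := by
  haveI : IsNoetherianRing C := Algebra.FiniteType.isNoetherianRing k C
  haveI : IsNoetherianRing (k' ⊗[k] C) := Algebra.FiniteType.isNoetherianRing k' (k' ⊗[k] C)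
  haveI : IsNoetherianRing (C ⊗[k] k') :=
    isNoetherianRing_of_ringEquiv _ (Algebra.TensorProduct.comm k k' C).toRingEquiv
  constructor
  · intro hp
    refine Groth.Agent.H26.SkFieldExt.localization_of_flat_of_fibres₂
      (fun X _ => LocCoh.IsGorensteinLocalRing X) (fun X _ => LocCoh.IsGorensteinLocalRing X)
      (fun X Y _ _ e h => isGorensteinLocalRing_of_ringEquiv e h)
      (fun A B _ _ _ _ _ _ _ _ _ hA hF =>
        (Groth.Agent.H26.GorFibre.isGorensteinLocalRing_iff_of_flat A B).mpr ⟨hA, hF⟩)
      C (C ⊗[k] k') q hp ?_
    intro Q _
    exact (isGorensteinRing_fiber_tensor k k' C (q.under C)).isGorensteinLocalRing_localization Q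
  · intro hq'
    let _ := Localization.AtPrime.algebraOfLiesOver (q.under C) q
    haveI hloc : IsLocalHom (algebraMap (Localization.AtPrime (q.under C))
        (Localization.AtPrime q)) :=
      Localization.isLocalHom_localRingHom (q.under C) q (algebraMap C (C ⊗[k] k'))
        Ideal.LiesOver.over
    haveI hflatS : Module.Flat (C ⊗[k] k') (Localization.AtPrime q) :=
      IsLocalization.flat _ q.primeCompl
    haveI hflatR : Module.Flat C (Localization.AtPrime q) := Module.Flat.trans C (C ⊗[k] k') _
    haveI hflat' : Module.Flat (Localization.AtPrime (q.under C)) (Localization.AtPrime q) :=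
      (Module.flat_iff_of_isLocalization (Localization.AtPrime (q.under C))
        (q.under C).primeCompl _).mpr hflatR
    exact Groth.Agent.H26.GorDescent.isGorensteinLocalRing_of_flat_descent
      (Localization.AtPrime (q.under C)) (Localization.AtPrime q) hq'

end Groth.Agent.H26.GorFieldAny
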