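import Mathlib
import Groth.Prelude.Def_DDual2
import Groth.Prelude.Def_CAlg
import Groth.Agent.H26.FlatBCDual10
import Groth.Agent.H26.GorFieldAny

/-!
# Dualizing complexes and flat base change, part 11: polynomial rings  (helper26)
-/

set_option autoImplicit false
set_option linter.unusedSectionVars false
set_option linter.style.haveILetI false
set_option linter.overlappingInstances false

universe u

open CategoryTheory Limits Pretriangulated DerivedCategory TensorProduct

namespace Groth.Agent.H26.FlatBCDual

open Groth.Agent.H26.FlatBCHom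

attribute [local instance] HasDerivedCategory.standard

section Poly

variable {A : Type u} [CommRing A] [IsNoetherianRing A]

/-- the fibres of `A → A[x₁, …, xₙ]` are Gorenstein -/
theorem isGorensteinRing_mvPolynomial_tensor (n : ℕ) (p : PrimeSpectrum A) :
    LocCoh.IsGorensteinRing (MvPolynomial (Fin n) A ⊗[A] p.asIdeal.ResidueField) := by
  haveI : IsRegularRing (p.asIdeal.ResidueField ⊗[A] MvPolynomial (Fin n) A) :=
    @IsRegularRing.of_ringEquiv _ _ _ _
      (MvPolynomial.algebraTensorAlgEquiv A p.asIdeal.ResidueField (σ := Fin n)).symm.toRingEquiv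
      inferInstance
  exact Groth.Agent.H26.GorRegHom.isGorensteinRing_of_ringEquiv
    (Algebra.TensorProduct.comm A p.asIdeal.ResidueField (MvPolynomial (Fin n) A)).toRingEquiv
    (Groth.Agent.H26.GorFieldAny.isGorensteinRing_of_isRegularRing _)

/-- **Polynomial rings**: `ω ⊗_A A[x₁, …, xₙ]` is dualizing. -/
theorem isDualizing_LB_mvPolynomial (n : ℕ) (ω : Dual.D A) (hω : Dual.IsDualizing A ω) :
    Dual.IsDualizing (MvPolynomial (Fin n) A) ((LB A (MvPolynomial (Fin n) A)).obj ω) :=
  isDualizing_LB_of_finiteType_gorenstein (isGorensteinRing_mvPolynomial_tensor n) ω hω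

end Poly

end Groth.Agent.H26.FlatBCDual
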