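import Mathlib
import Groth.Prelude.Def_DDual2
import Groth.Prelude.Def_CAlg
import Groth.Agent.H26.FlatBCDual12
import Groth.Agent.H2.DualCx.LocalCM
import Groth.Agent.H2.DualCx.ModuleDualizing
import Groth.Agent.H14.DimTrdeg
import Groth.Agent.H26.FlatBCDual11

/-!
# Dualizing complexes and flat base change, part 13: the degree of `Ext(κ, A)` (helper26)

`subsingleton_T_residue_self`: over a Noetherian local ring `B` of dimension `d` for which `B[0]` is
a dualizing complex, `Hom(κ[0], B[0][j]) = 0` for `j ≠ d`.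
`subsingleton_T_quot_self`: global version at a maximal ideal.
-/

set_option autoImplicit false
set_option linter.unusedSectionVars false
set_option linter.style.haveILetI false
set_option linter.overlappingInstances false

universe u

open CategoryTheory Limits Pretriangulated DerivedCategory TensorProduct

namespace Groth.Agent.H26.FlatBCDual

open Groth.Agent.H26.FlatBCHom

attribute [local instance] HasDerivedCategory.standard
attribute [local instance] homModuleA

section LocalSelf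

variable {B : Type u} [CommRing B] [IsNoetherianRing B] [IsLocalRing B]

open Groth.Agent.H2.DualCx in
/-- over a Noetherian local ring `B` of dimension `d` with `B[0]` dualizing,
`Hom(κ[0], B[0][j]) = 0` for `j ≠ d` -/
theorem subsingleton_T_residue_self (d : ℕ) (hd : ringKrullDim B = d)
    (h : Dual.IsDualizing B (Dual.inD B B)) (j : ℤ) (hj : j ≠ d) :
    Subsingleton (Dual.inD B (B ⧸ IsLocalRing.maximalIdeal B) ⟶ (Dual.inD B B)⟦j⟧) := by
  obtain ⟨n, hN, -⟩ := exists_norm_shift h
  have hd' : Module.supportDim B B = d := by rw [Module.supportDim_self_eq_ringKrullDim, hd]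
  have h1 := nontrivial_T_top hN B d hd'
  have h2 : Nontrivial (T (Dual.inD B B) (n + -(d : ℤ)) B) :=
    (TShiftEquiv (Dual.inD B B) n (-(d : ℤ)) B).symm.toEquiv.nontrivial
  have h3 : n + -(d : ℤ) = 0 := by
    by_contra hne
    haveI := subsingleton_HD_single (A := B) B (n + -(d : ℤ)) hne
    have := (subsingleton_T_self_iff (Dual.inD B B) (n + -(d : ℤ))).mpr inferInstance
    exact not_subsingleton _ this
  have hn : n = d := by omega
  haveI := hN.kappa (j - d) (by omega)
  have e := TShiftEquiv (Dual.inD B B) n (j - d) (B ⧸ IsLocalRing.maximalIdeal B)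
  have h4 : n + (j - d) = j := by omega
  rw [h4] at e
  exact e.symm.toEquiv.subsingleton

end LocalSelf

section Maximal

variable {S : Type u} [CommRing S] [IsNoetherianRing S]

/-- `B ⊗_S S ≅ B` in `ModuleCat B` -/
noncomputable def F0SelfIso (B : Type u) [CommRing B] [Algebra S B] [Module.Flat S B] :
    (F0 S B).obj (ModuleCat.of S S) ≅ ModuleCat.of B B :=
  (Groth.Agent.H12.BC.bridge (B := B) (ModuleCat.of S S) ≪≫ₗ
    TensorProduct.AlgebraTensorModule.rid S B B).toModuleIso

/-- `LB (S[0]) ≅ B[0]` -/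
noncomputable def LBSelfIso (B : Type u) [CommRing B] [Algebra S B] [Module.Flat S B] :
    (LB S B).obj (Dual.inD S S) ≅ Dual.inD B B :=
  eps (ModuleCat.of S S) ≪≫ (S0 B).mapIso (F0SelfIso B)

/-- if `S[0]` is dualizing, `q` is a maximal ideal and `dim S_q = d`, then
`Hom((S/q)[0], S[0][j]) = 0` for `j ≠ d` -/
theorem subsingleton_T_quot_self (h : Dual.IsDualizing S (Dual.inD S S)) (q : Ideal S)
    [q.IsMaximal] (d : ℕ) (hd : ringKrullDim (Localization.AtPrime q) = d) (j : ℤ) (hj : j ≠ d) :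
    Subsingleton (Dual.inD S (S ⧸ q) ⟶ (Dual.inD S S)⟦j⟧) := by
  obtain ⟨s, hs0, ⟨hs1⟩⟩ := Groth.Agent.H2.DualCx.residue_ext S (Dual.inD S S) h q
  suffices hsd : s = d from hs0 j (by rw [hsd]; exact hj)
  by_contra hne
  set B := Localization.AtPrime q with hBdef
  have hB : Dual.IsDualizing B ((LB S B).obj (Dual.inD S S)) :=
    isDualizing_LB_localization q.primeCompl _ h
  have hB' : Dual.IsDualizing B (Dual.inD B B) := isDualizing_of_iso (LBSelfIso B) hB
  have hA := subsingleton_T_residue_self d hd hB' s hne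
  have hmap : q.map (algebraMap S B) = IsLocalRing.maximalIdeal B :=
    Localization.AtPrime.map_eq_maximalIdeal
  have e := TQuotEquiv (C := B) (Dual.inD S S) 0 0 inferInstance inferInstance q s
  have e2 : B ⊗[S] (Dual.inD S (S ⧸ q) ⟶ (Dual.inD S S)⟦s⟧) ≃ₗ[B] (B ⧸ q.map (algebraMap S B)) :=
    (TensorProduct.AlgebraTensorModule.congr (LinearEquiv.refl B B) hs1) ≪≫ₗ
      (Algebra.TensorProduct.quotIdealMapEquivTensorQuot B q).symm.toLinearEquiv
  haveI : Nontrivial (B ⧸ q.map (algebraMap S B)) := by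
    rw [hmap]
    exact Ideal.Quotient.nontrivial_iff.mpr (Ideal.IsPrime.ne_top inferInstance)
  haveI : Subsingleton (Dual.inD B (B ⧸ q.map (algebraMap S B)) ⟶
      ((LB S B).obj (Dual.inD S S))⟦s⟧) :=
    subsingleton_hom_of_iso
      ((S0 B).mapIso (Submodule.quotEquivOfEq _ _ hmap).toModuleIso).symm
      ((shiftFunctor (Dual.D B) s).mapIso (LBSelfIso (S := S) B)).symm hA
  exact not_subsingleton _ ((e ≪≫ₗ e2).symm.toEquiv.subsingleton)

end Maximal

section Poly

open IsLocalRing in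
/-- every maximal ideal of the closed fibre `κ[x₁,…,xₙ]` of `R → R[x₁,…,xₙ]` has local dimension `n` -/
theorem ringKrullDim_atPrime_closedFibre_mvPolynomial (R : Type u) [CommRing R] [IsLocalRing R]
    (n : ℕ)
    (q : Ideal (MvPolynomial (Fin n) R ⧸
      (maximalIdeal R).map (algebraMap R (MvPolynomial (Fin n) R)))) [q.IsMaximal] :
    ringKrullDim (Localization.AtPrime q) = n := by
  letI : Field (R ⧸ maximalIdeal R) := Ideal.Quotient.field _
  set S := MvPolynomial (Fin n) R ⧸ (maximalIdeal R).map (algebraMap R (MvPolynomial (Fin n) R))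
    with hS
  let e : MvPolynomial (Fin n) (R ⧸ maximalIdeal R) ≃+* S :=
    (MvPolynomial.quotientEquivQuotientMvPolynomial (σ := Fin n) (maximalIdeal R)).toRingEquiv
  letI : Algebra (R ⧸ maximalIdeal R) S := (e.toRingHom.comp MvPolynomial.C).toAlgebra
  haveI : IsDomain S := e.symm.toMulEquiv.isDomain
  let e' : MvPolynomial (Fin n) (R ⧸ maximalIdeal R) ≃ₐ[R ⧸ maximalIdeal R] S :=
    { e with commutes' := fun c => rfl }
  haveI : Algebra.FiniteType (R ⧸ maximalIdeal R) S := Algebra.FiniteType.equiv inferInstance e'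
  obtain ⟨n', -, h1, h2⟩ :=
    Groth.Agent.H14.ringKrullDim_eq_trdeg_of_finiteType_domain (R ⧸ maximalIdeal R) S
  have h3 : ringKrullDim S = n := by
    rw [← ringKrullDim_eq_of_ringEquiv e, MvPolynomial.ringKrullDim_of_isNoetherianRing]
    simp
  rw [h2 q]
  rw [h1] at h3
  exact h3


variable {R : Type u} [CommRing R] [IsNoetherianRing R] [IsLocalRing R]

open IsLocalRing in
/-- **The degree of `Ext(κ(q), ω ⊗ R[x₁,…,xₙ])`** for a normalized dualizing complex `ω` over a
local ring and a maximal ideal `q` of the polynomial ring over the closed point: it is `n`. -/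
theorem subsingleton_T_LB_mvPolynomial_of_normalized (n : ℕ) (ω : Dual.D R)
    (hω : Dual.IsDualizing R ω) (hn : Dual.IsNormalized R ω)
    (q : Ideal (MvPolynomial (Fin n) R)) [q.IsMaximal]
    (hq : (maximalIdeal R).map (algebraMap R (MvPolynomial (Fin n) R)) ≤ q) (j : ℤ)
    (hj : j ≠ n) :
    Subsingleton (Dual.inD (MvPolynomial (Fin n) R) (MvPolynomial (Fin n) R ⧸ q) ⟶
      ((LB R (MvPolynomial (Fin n) R)).obj ω)⟦j⟧) := by
  set P := MvPolynomial (Fin n) R with hP
  set I₀ := (maximalIdeal R).map (algebraMap R P) with hI₀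
  set F := P ⧸ I₀ with hF
  set W := (LB R P).obj ω with hW
  have hWd : Dual.IsDualizing P W := isDualizing_LB_mvPolynomial n ω hω
  obtain ⟨a, b₀, hGE, hLE, -⟩ := exists_bounds ω hω
  haveI : Nontrivial F := Ideal.Quotient.nontrivial_iff.mpr
    (fun h => (Ideal.IsPrime.ne_top inferInstance : q ≠ ⊤) (top_le_iff.mp (h ▸ hq)))
  obtain ⟨s, h0, h1⟩ := exists_T_closedFibre (C := P) ω hω
  have hs : s = 0 := by
    by_contra hne
    haveI := hn s hne
    haveI : Subsingleton (Dual.inD R (R ⧸ maximalIdeal R) ⟶ ω⟦s⟧) := ‹_›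
    obtain ⟨h1⟩ := h1
    have e := TQuotEquiv (C := P) ω a b₀ hGE hLE (maximalIdeal R) s
    exact not_subsingleton F (h1.symm ≪≫ₗ e).toEquiv.subsingleton
  subst hs
  obtain ⟨e⟩ := nonempty_RRc_iso_single (C := P) (F := F) Ideal.Quotient.mk_surjective W 0 h0 h1
  have hV : Dual.IsDualizing F ((Groth.Agent.H28.CoextModel.RRc (A := P) (B := F)).obj W) :=
    Groth.Agent.H28.DualFinite.isDualizing_rightAdjoint _
      (Groth.Agent.H28.CoextModel.adj' (A := P) (B := F)) _ hWd
  have h3 : Dual.IsDualizing F (Dual.inD F F) := isDualizing_of_iso e hV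
  -- the maximal ideal of the closed fibre
  set q' := q.map (Ideal.Quotient.mk I₀) with hq'
  haveI hq'max : q'.IsMaximal := by
    rcases Ideal.map_eq_top_or_isMaximal_of_surjective (Ideal.Quotient.mk I₀)
      Ideal.Quotient.mk_surjective (inferInstance : q.IsMaximal) with h | h
    · exfalso
      have h2 : q = ⊤ := by
        have := congrArg (Ideal.comap (Ideal.Quotient.mk I₀)) h
        rwa [Ideal.comap_map_of_surjective _ Ideal.Quotient.mk_surjective, Ideal.comap_top,
          ← RingHom.ker_eq_comap_bot, Ideal.mk_ker, sup_eq_left.mpr hq] at this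
      exact (Ideal.IsPrime.ne_top inferInstance : q ≠ ⊤) h2
    · exact h
  have hdim : ringKrullDim (Localization.AtPrime q') = n :=
    ringKrullDim_atPrime_closedFibre_mvPolynomial R n q'
  haveI := subsingleton_T_quot_self h3 q' n hdim j hj
  -- transfer
  haveI : Subsingleton (Dual.inD F (F ⧸ q') ⟶
      ((Groth.Agent.H28.CoextModel.RRc (A := P) (B := F)).obj W)⟦j⟧) :=
    subsingleton_hom_of_iso (Iso.refl _) ((shiftFunctor (Dual.D F) j).mapIso e).symm ‹_›
  haveI : Subsingleton (Dual.inD P (F ⧸ q') ⟶ W⟦j⟧) := (adjT (C := P) (F := F) W (F ⧸ q') j).symm.subsingleton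
  let eM : (F ⧸ q') ≃ₗ[P] (P ⧸ q) := (DoubleQuot.quotQuotEquivQuotOfLEₐ P hq).toLinearEquiv
  exact (Groth.Agent.H2.DualCx.congr W j eM).toEquiv.subsingleton

end Poly

section Shriek

variable {R A : Type u} [CommRing R] [CommRing A] [IsNoetherianRing R] [IsNoetherianRing A]
  [Algebra R A] [IsLocalRing R]

open IsLocalRing in
/-- the `A`-side: `Hom((A/m)[0], (Rψ (ω ⊗ P))[n][i]) = 0` for `i ≠ 0`, `ω` normalized dualizing and
`m` a maximal ideal over the closed point -/
theorem subsingleton_T_shriek_of_normalized (n : ℕ) (ψ : MvPolynomial (Fin n) R →ₐ[R] A)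
    (hψ : Function.Surjective ψ) (Rψ : Dual.D (MvPolynomial (Fin n) R) ⥤ Dual.D A)
    (adj : DRing.restrictD ψ.toRingHom ⊣ Rψ) (m : Ideal A) [m.IsMaximal]
    (hm : m.comap (algebraMap R A) = maximalIdeal R) (ω : Dual.D R)
    (hω : Dual.IsDualizing R ω) (hn : Dual.IsNormalized R ω)
    (W₀ : Dual.D (MvPolynomial (Fin n) R))
    (eW : W₀ ≅ (LB R (MvPolynomial (Fin n) R)).obj ω) (i : ℤ) (hi : i ≠ 0) :
    Subsingleton (Dual.inD A (A ⧸ m) ⟶ ((Rψ.obj W₀)⟦(n : ℤ)⟧)⟦i⟧) := by
  set P := MvPolynomial (Fin n) R with hP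
  letI : Algebra P A := ψ.toRingHom.toAlgebra
  set q : Ideal P := m.comap ψ.toRingHom with hq
  haveI : q.IsMaximal := Ideal.comap_isMaximal_of_surjective ψ.toRingHom hψ
  have hq0 : (maximalIdeal R).map (algebraMap R P) ≤ q := by
    rw [Ideal.map_le_iff_le_comap]
    intro r hr
    rw [← hm] at hr
    change ψ.toRingHom (algebraMap R P r) ∈ m
    have : ψ.toRingHom (algebraMap R P r) = algebraMap R A r := ψ.commutes r
    rw [this]
    exact hr
  -- `P/q ≃ A/m` as `P`-modules
  let f : P →ₗ[P] (A ⧸ m) := (m.mkQ.restrictScalars P).comp (Algebra.linearMap P A)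
  have hf : Function.Surjective f := fun y => by
    obtain ⟨a, rfl⟩ := Ideal.Quotient.mk_surjective y
    obtain ⟨p, rfl⟩ := hψ a
    exact ⟨p, rfl⟩
  have hker : LinearMap.ker f = q := by
    ext p
    rw [LinearMap.mem_ker]
    change (Ideal.Quotient.mk m (ψ.toRingHom p) = 0) ↔ ψ.toRingHom p ∈ m
    exact Ideal.Quotient.eq_zero_iff_mem
  let eM : (P ⧸ q) ≃ₗ[P] (A ⧸ m) :=
    (Submodule.quotEquivOfEq _ _ hker).symm ≪≫ₗ f.quotKerEquivOfSurjective hf
  haveI h1 := subsingleton_T_LB_mvPolynomial_of_normalized n ω hω hn q hq0 ((n : ℤ) + i)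
    (by omega)
  haveI h2 : Subsingleton (Dual.inD P (A ⧸ m) ⟶ ((LB R P).obj ω)⟦(n : ℤ) + i⟧) :=
    (Groth.Agent.H2.DualCx.congr ((LB R P).obj ω) ((n : ℤ) + i) eM).toEquiv.subsingleton
  haveI h3 : Subsingleton ((DRing.restrictD (algebraMap P A)).obj (Dual.inD A (A ⧸ m)) ⟶
      W₀⟦(n : ℤ) + i⟧) :=
    subsingleton_hom_of_iso (Groth.Agent.H28.DualFinLen.e1 (A := P) (B := A) (A ⧸ m)).symm
      ((shiftFunctor (Dual.D P) ((n : ℤ) + i)).mapIso eW).symm h2
  haveI h4 : Subsingleton (Dual.inD A (A ⧸ m) ⟶ (Rψ.obj W₀)⟦(n : ℤ) + i⟧) :=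
    (Groth.Agent.H2.DualCx.thetaEquiv Rψ adj (Dual.inD A (A ⧸ m)) W₀ ((n : ℤ) + i)).subsingleton
  exact (Groth.Agent.H2.DualCx.TShiftEquiv (Rψ.obj W₀) (n : ℤ) i (A ⧸ m)).toEquiv.subsingleton

end Shriek

section LocNorm

variable {A : Type u} [CommRing A] [IsNoetherianRing A]

/-- localizing at a maximal ideal `m`: if `Hom((A/m)[0], X[i]) = 0` for `i ≠ 0` then `X_m` is
normalized -/
theorem isNormalized_LB_atPrime_of_quot (m : Ideal A) [m.IsMaximal] (X : Dual.D A)
    (hX : Dual.IsDualizing A X)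
    (hkey : ∀ i : ℤ, i ≠ 0 → Subsingleton (Dual.inD A (A ⧸ m) ⟶ X⟦i⟧)) :
    Dual.IsNormalized (Localization.AtPrime m) ((LB A (Localization.AtPrime m)).obj X) := by
  obtain ⟨a, b, hGE, hLE, -⟩ := exists_bounds X hX
  intro i hi
  have h1 : BC (B := Localization.AtPrime m) ((S0 A).obj (ModuleCat.of A (A ⧸ m))) (X⟦i⟧) :=
    BC_single_of_bounded (ModuleCat.of A (A ⧸ m)) X a b hGE hLE i
  have h2 := subsingleton_LB_hom_shift (B := Localization.AtPrime m) _ X i h1 (hkey i hi)
  have hmap : m.map (algebraMap A (Localization.AtPrime m)) =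
      IsLocalRing.maximalIdeal (Localization.AtPrime m) :=
    Localization.AtPrime.map_eq_maximalIdeal
  exact subsingleton_hom_of_iso (eps _ ≪≫ (S0 (Localization.AtPrime m)).mapIso
    (F0QuotIso (B := Localization.AtPrime m) m ≪≫
      (Submodule.quotEquivOfEq _ _ hmap).toModuleIso ≪≫
      (LinearEquiv.refl (Localization.AtPrime m) _ :
        ((Localization.AtPrime m) ⧸ IsLocalRing.maximalIdeal (Localization.AtPrime m))
          ≃ₗ[Localization.AtPrime m]
          IsLocalRing.ResidueField (Localization.AtPrime m)).toModuleIso)) (Iso.refl _) h2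

end LocNorm

end Groth.Agent.H26.FlatBCDual
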