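import Mathlib
import Groth.Prelude.Def_DDual2
import Groth.Agent.H26.FlatBCDual13
import Groth.Agent.H2.DualCx.AdjTransfer

/-!
# Flat base change for coextension of scalars, part 2: an isomorphism criterion and base change for
the free module against bounded below objects (helper26)

* `isIso_of_bijective_comp`: `f : X ⟶ Y` in `D(R)` is an isomorphism if `Hom(R[0]⟦k⟧, f)` is bijective
  for all `k`.
* `PY_self_of_isGE`: base change for `Hom(A[0], Y⟦n⟧)`, `Y` bounded below.
-/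

set_option autoImplicit false
set_option linter.unusedSectionVars false
set_option linter.style.haveILetI false
set_option linter.overlappingInstances false

universe u

open CategoryTheory Limits Pretriangulated DerivedCategory TensorProduct

namespace Groth.Agent.H26.CoextBC

open Groth.Agent.H26.FlatBCHom Groth.Agent.H26.FlatBCDual Groth.Agent.H2.DualCx

attribute [local instance] HasDerivedCategory.standard

section IsoCrit

variable {R : Type u} [CommRing R]

/-- an object of `D(R)` receiving no nonzero maps from the shifts of `R[0]` is zero -/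
theorem isZero_of_subsingleton_hom (C : Dual.D R)
    (hC : ∀ k : ℤ, Subsingleton ((Dual.inD R R)⟦k⟧ ⟶ C)) : IsZero C := by
  have hH : ∀ i : ℤ, Subsingleton (Dual.HD R C i) := by
    intro i
    haveI := hC (-i)
    haveI : Subsingleton (Dual.inD R R ⟶ C⟦i⟧) :=
      ((shAdj (Dual.D R) i).homEquiv (Dual.inD R R) C).symm.subsingleton
    exact (subsingleton_T_self_iff C i).mp inferInstance
  haveI : C.IsGE 1 := isGE_of_vanishing C 1 (fun i _ => hH i)
  haveI : C.IsLE 0 := isLE_of_vanishing C 0 (fun i _ => hH i)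
  exact DerivedCategory.TStructure.t.isZero C 0 1

/-- **isomorphism criterion**: `f` is an isomorphism if `Hom(R[0]⟦k⟧, f)` is bijective for all `k` -/
theorem isIso_of_bijective_comp {X Y : Dual.D R} (f : X ⟶ Y)
    (h : ∀ k : ℤ, Function.Bijective (fun g : (Dual.inD R R)⟦k⟧ ⟶ X => g ≫ f)) : IsIso f := by
  obtain ⟨C, g, w, hT⟩ := distinguished_cocone_triangle f
  have hC : ∀ k : ℤ, Subsingleton ((Dual.inD R R)⟦k⟧ ⟶ C) := by
    intro k
    suffices H : ∀ c : (Dual.inD R R)⟦k⟧ ⟶ C, c = 0 from ⟨fun c c' => by rw [H c, H c']⟩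
    intro c
    have h1 : c ≫ w = 0 := by
      let e : ((Dual.inD R R)⟦k - 1⟧)⟦(1 : ℤ)⟧ ≅ (Dual.inD R R)⟦k⟧ :=
        shiftShiftIso _ (k - 1) 1 k (by omega)
      obtain ⟨c', hc'⟩ := (shiftFunctor (Dual.D R) (1 : ℤ)).map_surjective (e.hom ≫ c ≫ w)
      have h2 : c' ≫ f = 0 := by
        apply (shiftFunctor (Dual.D R) (1 : ℤ)).map_injective
        rw [Functor.map_comp, hc', Functor.map_zero, Category.assoc, Category.assoc]
        have h3 : w ≫ f⟦(1 : ℤ)⟧' = 0 := comp_distTriang_mor_zero₃₁ _ hT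
        rw [h3, comp_zero, comp_zero]
      have h3 : c' = 0 := (h (k - 1)).1 (by
        change c' ≫ f = 0 ≫ f
        rw [h2, zero_comp])
      rw [h3, Functor.map_zero] at hc'
      have h4 : e.inv ≫ e.hom ≫ c ≫ w = 0 := by rw [← hc', comp_zero]
      rwa [Iso.inv_hom_id_assoc] at h4
    obtain ⟨c'', hc''⟩ := Triangle.coyoneda_exact₃ _ hT c h1
    obtain ⟨x, hx⟩ := (h k).2 c''
    have h5 : f ≫ g = 0 := comp_distTriang_mor_zero₁₂ _ hT
    rw [hc'', ← hx]
    change (x ≫ f) ≫ g = 0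
    rw [Category.assoc, h5, comp_zero]
  have hZ : IsZero C := isZero_of_subsingleton_hom C hC
  exact (Triangle.isZero₃_iff_isIso₁ _ hT).mp hZ

end IsoCrit

section Bounded

variable {A B : Type u} [CommRing A] [CommRing B] [Algebra A B] [Module.Flat A B]

/-- both sides vanish by the t-structure -/
theorem BC_of_isLE_of_isGE (X Y : Dual.D A) (p q : ℤ) (hpq : p < q) [hX : X.IsLE p]
    [hY : Y.IsGE q] : BC (B := B) X Y := by
  apply bijective_of_subsingleton
  · exact Groth.Agent.H28.ExtFinite.subsingleton_hom_of_isLE_of_isGE X Y p q hpq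
  · haveI := isLE_LB (B := B) X p hX
    haveI := isGE_LB (B := B) Y q hY
    exact Groth.Agent.H28.ExtFinite.subsingleton_hom_of_isLE_of_isGE _ _ p q hpq

/-- base change for `A[0]` against every bounded below object -/
theorem PY_self_of_isGE (Y : Dual.D A) (a : ℤ) [hY : Y.IsGE a] :
    PY (B := B) ((S0 A).obj (ModuleCat.of A A)) Y := by
  intro n
  obtain ⟨Y₁, Y₂, hLE, hGE, f, g, h, hT⟩ :=
    DerivedCategory.TStructure.t.exists_triangle Y (n + 1) (n + 2) (by ring)
  haveI hLE' : Y₁.IsLE (n + 1) := ⟨hLE⟩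
  haveI hGE' : Y₂.IsGE (n + 2) := ⟨hGE⟩
  have h1 : Y₁.IsGE (min a (n + 3)) := by
    have hT' := inv_rot_of_distTriang _ hT
    refine TStructure.t.isGE₂ _ hT' (min a (n + 3)) ?_ ?_
    · change (Y₂⟦(-1 : ℤ)⟧).IsGE (min a (n + 3))
      haveI : (Y₂⟦(-1 : ℤ)⟧).IsGE (n + 3) :=
        TStructure.t.isGE_shift Y₂ (n + 2) (-1) (n + 3) (by ring)
      exact TStructure.t.isGE_of_ge _ (min a (n + 3)) (n + 3) (min_le_right _ _)
    · change Y.IsGE (min a (n + 3))
      exact TStructure.t.isGE_of_ge _ (min a (n + 3)) a (min_le_left _ _)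
  have hP1 : PY (B := B) ((S0 A).obj (ModuleCat.of A A)) Y₁ :=
    PY_self_of_bounded Y₁ (min a (n + 3)) (n + 1) h1 hLE'
  haveI : ((S0 A).obj (ModuleCat.of A A)).IsLE 0 := inferInstance
  let T' := (Triangle.shiftFunctor (Dual.D A) n).obj (Triangle.mk f g h)
  have hT' : T' ∈ distTriang (Dual.D A) := Triangle.shift_distinguished _ hT n
  refine BC_of_cofive (B := B) T'.invRotate.mor₁ T'.mor₁ T'.mor₂ T'.mor₃
    ((S0 A).obj (ModuleCat.of A A))
    (cons_invRot T' hT') (cons_of_distTriang T' hT') (cons_rot T' hT') ?_ (hP1 n) ?_ ?_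
  · change BC (B := B) _ ((Y₂⟦n⟧)⟦(-1 : ℤ)⟧)
    haveI : (Y₂⟦n⟧).IsGE 2 := TStructure.t.isGE_shift Y₂ (n + 2) n 2 (by ring)
    haveI : ((Y₂⟦n⟧)⟦(-1 : ℤ)⟧).IsGE 3 := TStructure.t.isGE_shift (Y₂⟦n⟧) 2 (-1) 3 (by ring)
    exact BC_of_isLE_of_isGE _ _ 0 3 (by omega)
  · change BC (B := B) _ (Y₂⟦n⟧)
    haveI : (Y₂⟦n⟧).IsGE 2 := TStructure.t.isGE_shift Y₂ (n + 2) n 2 (by ring)
    exact BC_of_isLE_of_isGE _ _ 0 2 (by omega)
  · change BC (B := B) _ ((Y₁⟦n⟧)⟦(1 : ℤ)⟧)
    exact (tr_iso_right _ (shiftShiftIso Y₁ n 1 (n + 1) rfl).symm).bc (hP1 (n + 1))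

end Bounded

end Groth.Agent.H26.CoextBC
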