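import Mathlib
import Groth.Prelude.Def_DDual2
import Groth.Agent.H26.CoextBC1
import Groth.Agent.H26.CoextBC2

/-!
# Flat base change for coextension of scalars, part 3: the comparison map is an isomorphism
(helper26)

For a pushout square `S → S'` (flat), `S → B` (finite, `S` Noetherian), `B' = S' ⊗_S B`, and `M` in
`D(S)` bounded below, `RHom_S(B, M) ⊗_B B' ≅ RHom_{S'}(B', M ⊗_S S')` in `D(B')`.
-/

set_option autoImplicit false
set_option linter.unusedSectionVars false
set_option linter.style.haveILetI false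
set_option linter.overlappingInstances false

universe u

open CategoryTheory Limits Pretriangulated DerivedCategory TensorProduct

namespace Groth.Agent.H26.CoextBC

open Groth.Agent.H26.FlatBCHom Groth.Agent.H26.FlatBCDual Groth.Agent.H2.DualCx

attribute [local instance] HasDerivedCategory.standard
attribute [local instance] homModuleA

variable (S S' B B' : Type u) [CommRing S] [CommRing S'] [CommRing B] [CommRing B']
  [Algebra S S'] [Algebra S B] [Algebra S' B'] [Algebra B B'] [Algebra S B']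
  [IsScalarTower S S' B'] [IsScalarTower S B B'] [Algebra.IsPushout S S' B B']
  [Module.Flat S S'] [Module.Flat B B']

/-- `RHom_S(B, -)` -/
noncomputable abbrev RR : Dual.D S ⥤ Dual.D B := Groth.Agent.H28.CoextModel.RRc (A := S) (B := B)

/-- the adjunction `restrictD ⊣ RHom_S(B, -)` -/
noncomputable abbrev adjRR : DRing.restrictD (algebraMap S B) ⊣ RR S B :=
  Groth.Agent.H28.CoextModel.adj' (A := S) (B := B)

/-- the map `(RHom_S(B, M) ⊗_B B')_{S'} → M ⊗_S S'` -/
noncomputable def betaBC (M : Dual.D S) :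
    (DRing.restrictD (algebraMap S' B')).obj ((LB B B').obj ((RR S B).obj M)) ⟶ (LB S S').obj M :=
  (gam S S' B B').inv.app ((RR S B).obj M) ≫ (LB S S').map ((adjRR S B).counit.app M)

/-- the base change map `RHom_S(B, M) ⊗_B B' → RHom_{S'}(B', M ⊗_S S')` -/
noncomputable def alphaBC (M : Dual.D S) :
    (LB B B').obj ((RR S B).obj M) ⟶ (RR S' B').obj ((LB S S').obj M) :=
  (adjRR S' B').homEquiv _ _ (betaBC S S' B B' M)

section ThetaLin

variable {S B}

/-- the adjunction bijection, as an `S`-linear equivalence -/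
noncomputable def thetaLin (G₀ : Dual.D B) (M : Dual.D S) :
    (G₀ ⟶ (RR S B).obj M) ≃ₗ[S] ((DRing.restrictD (algebraMap S B)).obj G₀ ⟶ M) where
  toFun g := ((adjRR S B).homEquiv G₀ M).symm g
  invFun h := (adjRR S B).homEquiv G₀ M h
  left_inv g := Equiv.apply_symm_apply _ g
  right_inv h := Equiv.symm_apply_apply _ h
  map_add' g g' := by
    simp only [Adjunction.homEquiv_counit, Functor.map_add, Preadditive.add_comp]
  map_smul' s g := by
    simp only [Adjunction.homEquiv_counit, RingHom.id_apply]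
    change (DRing.restrictD (algebraMap S B)).map (algebraMap S B s • g) ≫ _ = _
    rw [Groth.Agent.H28.RestrAdj.restrictD_map_smul, Linear.smul_comp]

theorem thetaLin_apply (G₀ : Dual.D B) (M : Dual.D S) (g : G₀ ⟶ (RR S B).obj M) :
    thetaLin G₀ M g = (DRing.restrictD (algebraMap S B)).map g ≫ (adjRR S B).counit.app M := by
  simp only [thetaLin, LinearEquiv.coe_mk, LinearMap.coe_mk, AddHom.coe_mk,
    Adjunction.homEquiv_counit]

end ThetaLin

section Key

variable {S S' B B'}

/-- `Ψ : S' ⊗_S Hom(G₀, V) → Hom(LB G₀, LB V)`, `s' ⊗ g ↦ s' • LB g` -/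
noncomputable def PsiBC (G₀ V : Dual.D B) (t : S' ⊗[S] (G₀ ⟶ V)) :
    ((LB B B').obj G₀ ⟶ (LB B B').obj V) :=
  theta (B := B') G₀ V ((Algebra.IsPushout.cancelBaseChange S S' B B' (G₀ ⟶ V)).symm t)

theorem PsiBC_bijective (G₀ V : Dual.D B) (h : BC (B := B') G₀ V) :
    Function.Bijective (PsiBC (S := S) (S' := S') (B' := B') G₀ V) :=
  h.comp (Algebra.IsPushout.cancelBaseChange S S' B B' (G₀ ⟶ V)).symm.bijective

theorem PsiBC_tmul (G₀ V : Dual.D B) (s' : S') (g : G₀ ⟶ V) :
    PsiBC (S := S) (S' := S') (B' := B') G₀ V (s' ⊗ₜ g) =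
      algebraMap S' B' s' • (LB B B').map g := by
  simp only [PsiBC, Algebra.IsPushout.cancelBaseChange_symm_tmul, theta_tmul]

theorem PsiBC_add (G₀ V : Dual.D B) (t t' : S' ⊗[S] (G₀ ⟶ V)) :
    PsiBC (B' := B') G₀ V (t + t') = PsiBC G₀ V t + PsiBC G₀ V t' := by
  simp only [PsiBC, map_add]

/-- `Λ : S' ⊗_S Hom(G₀, RHom(B, M)) → Hom(LB (G₀|_S), LB M)`, `s' ⊗ g ↦ s' • LB (adjunct of g)` -/
noncomputable def LamBC (G₀ : Dual.D B) (M : Dual.D S) (t : S' ⊗[S] (G₀ ⟶ (RR S B).obj M)) :
    ((LB S S').obj ((DRing.restrictD (algebraMap S B)).obj G₀) ⟶ (LB S S').obj M) :=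
  theta (B := S') _ M ((LinearEquiv.lTensor S' (thetaLin G₀ M)) t)

theorem LamBC_bijective (G₀ : Dual.D B) (M : Dual.D S)
    (h : BC (B := S') ((DRing.restrictD (algebraMap S B)).obj G₀) M) :
    Function.Bijective (LamBC (S' := S') G₀ M) :=
  h.comp (LinearEquiv.lTensor S' (thetaLin G₀ M)).bijective

theorem LamBC_tmul (G₀ : Dual.D B) (M : Dual.D S) (s' : S') (g : G₀ ⟶ (RR S B).obj M) :
    LamBC (S' := S') G₀ M (s' ⊗ₜ g) = s' • (LB S S').map (thetaLin G₀ M g) := by
  simp only [LamBC, LinearEquiv.lTensor_tmul, theta_tmul]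

theorem LamBC_add (G₀ : Dual.D B) (M : Dual.D S) (t t' : S' ⊗[S] (G₀ ⟶ (RR S B).obj M)) :
    LamBC (S' := S') G₀ M (t + t') = LamBC G₀ M t + LamBC G₀ M t' := by
  simp only [LamBC, map_add]

/-- the key compatibility -/
theorem restrict_PsiBC_comp_betaBC (G₀ : Dual.D B) (M : Dual.D S)
    (t : S' ⊗[S] (G₀ ⟶ (RR S B).obj M)) :
    (DRing.restrictD (algebraMap S' B')).map (PsiBC (B' := B') G₀ ((RR S B).obj M) t) ≫
      betaBC S S' B B' M = (gam S S' B B').inv.app G₀ ≫ LamBC G₀ M t := by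
  induction t using TensorProduct.induction_on with
  | zero =>
    have h1 : PsiBC (B' := B') G₀ ((RR S B).obj M) (0 : S' ⊗[S] (G₀ ⟶ (RR S B).obj M)) = 0 := by
      simp only [PsiBC, map_zero]
    have h2 : LamBC (S' := S') G₀ M (0 : S' ⊗[S] (G₀ ⟶ (RR S B).obj M)) = 0 := by
      simp only [LamBC, map_zero]
    rw [h1, h2, Functor.map_zero, zero_comp, comp_zero]
  | add t t' ht ht' =>
    rw [PsiBC_add, LamBC_add, Functor.map_add, Preadditive.add_comp, Preadditive.comp_add, ht, ht']
  | tmul s' g =>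
    rw [PsiBC_tmul, LamBC_tmul, Groth.Agent.H28.RestrAdj.restrictD_map_smul, Linear.smul_comp,
      Linear.comp_smul, thetaLin_apply, Functor.map_comp]
    congr 1
    have hnat := (gam S S' B B').inv.naturality g
    simp only [Functor.comp_map] at hnat
    rw [betaBC, reassoc_of% hnat]

theorem bijective_comp_left_of_isIso {C : Type*} [Category C] {X Y Z : C} (f : X ⟶ Y) [IsIso f] :
    Function.Bijective (fun y : Y ⟶ Z => f ≫ y) :=
  ⟨fun _ _ h => (cancel_epi f).mp h, fun x => ⟨inv f ≫ x, by simp⟩⟩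

/-- postcomposition with the base change map is bijective on maps from `LB G₀`, if `G₀` satisfies
base change for `Hom` on both sides -/
theorem bijective_comp_alphaBC (M : Dual.D S) (G₀ : Dual.D B)
    (h1 : BC (B := B') G₀ ((RR S B).obj M))
    (h2 : BC (B := S') ((DRing.restrictD (algebraMap S B)).obj G₀) M) :
    Function.Bijective (fun g : (LB B B').obj G₀ ⟶ (LB B B').obj ((RR S B).obj M) =>
      g ≫ alphaBC S S' B B' M) := by
  let Φ : ((LB B B').obj G₀ ⟶ (LB B B').obj ((RR S B).obj M)) →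
      ((DRing.restrictD (algebraMap S' B')).obj ((LB B B').obj G₀) ⟶ (LB S S').obj M) :=
    fun g => (DRing.restrictD (algebraMap S' B')).map g ≫ betaBC S S' B B' M
  have hΦ : ∀ g, g ≫ alphaBC S S' B B' M = (adjRR S' B').homEquiv _ _ (Φ g) := by
    intro g
    rw [← Equiv.symm_apply_eq, Adjunction.homEquiv_naturality_left_symm, alphaBC,
      Equiv.symm_apply_apply]
  have hΦbij : Function.Bijective Φ := by
    have hΨ := PsiBC_bijective (S := S) (S' := S') (B' := B') G₀ _ h1
    have hΛ := LamBC_bijective (S' := S') G₀ M h2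
    have hcomp : Φ ∘ PsiBC (S := S) (S' := S') (B' := B') G₀ ((RR S B).obj M) =
        (fun y => (gam S S' B B').inv.app G₀ ≫ y) ∘ LamBC (S' := S') G₀ M := by
      funext t
      exact restrict_PsiBC_comp_betaBC G₀ M t
    have h3 : Function.Bijective
        (Φ ∘ PsiBC (S := S) (S' := S') (B' := B') G₀ ((RR S B).obj M)) := by
      rw [hcomp]
      exact (bijective_comp_left_of_isIso _).comp hΛ
    exact (Function.Bijective.of_comp_iff Φ hΨ).mp h3
  have : (fun g : (LB B B').obj G₀ ⟶ (LB B B').obj ((RR S B).obj M) =>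
      g ≫ alphaBC S S' B B' M) = ((adjRR S' B').homEquiv _ _) ∘ Φ := by
    funext g
    exact hΦ g
  rw [this]
  exact (Equiv.bijective _).comp hΦbij

end Key

section Main

variable {S S' B B'}

/-- `RHom_S(B, M)` is bounded below if `M` is -/
theorem isGE_RR (M : Dual.D S) (a : ℤ) [hM : M.IsGE a] : ((RR S B).obj M).IsGE a := by
  apply isGE_of_vanishing
  intro i hi
  haveI : (M⟦i⟧).IsGE (a - i) := Groth.Agent.H28.ExtFinite.isGE_shift' M a i
  haveI : Subsingleton (Dual.inD S B ⟶ M⟦i⟧) :=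
    Groth.Agent.H28.ExtFinite.subsingleton_hom_of_isLE_of_isGE _ _ 0 (a - i) (by omega)
  haveI : Subsingleton (Dual.inD B B ⟶ ((RR S B).obj M)⟦i⟧) :=
    (adjT (C := S) (F := B) M B i).subsingleton
  exact (homSelfEquivHD ((RR S B).obj M) i).symm.toEquiv.subsingleton

variable [IsNoetherianRing S] [Module.Finite S B]

/-- **Flat base change for `RHom_S(B, -)`**: the base change map is an isomorphism on bounded below
objects. -/
theorem isIso_alphaBC (M : Dual.D S) (a : ℤ) [hM : M.IsGE a] : IsIso (alphaBC S S' B B' M) := by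
  apply isIso_of_bijective_comp
  intro k
  let G₀ : Dual.D B := (Dual.inD B B)⟦k⟧
  let eG : (LB B B').obj G₀ ≅ (Dual.inD B' B')⟦k⟧ :=
    ((LB B B').commShiftIso k).app (Dual.inD B B) ≪≫
      (shiftFunctor (Dual.D B') k).mapIso (LBSelfIso (S := B) B')
  haveI := isGE_RR (B := B) M a
  have h1 : BC (B := B') G₀ ((RR S B).obj M) := by
    have h0 := PY_self_of_isGE (B := B') ((RR S B).obj M) a (-k)
    exact (tr_shift' (Dual.inD B B) (((RR S B).obj M)⟦-k⟧) k
      (shiftShiftIso ((RR S B).obj M) (-k) k 0 (by omega) ≪≫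
        (shiftFunctorZero (Dual.D B) ℤ).app _)).bc h0
  have h2 : BC (B := S') ((DRing.restrictD (algebraMap S B)).obj G₀) M := by
    have e : (DRing.restrictD (algebraMap S B)).obj G₀ ≅ (Dual.inD S B)⟦k⟧ :=
      ((DRing.restrictD (algebraMap S B)).commShiftIso k).app _ ≪≫
        (shiftFunctor (Dual.D S) k).mapIso (Groth.Agent.H28.DualFinLen.e1 (A := S) (B := B) B)
    have h0 : BC (B := S') (Dual.inD S B) (M⟦-k⟧) :=
      BC_module M a (PY_self_of_isGE (B := S') M a) (ModuleCat.of S B) (-k)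
    have h3 : BC (B := S') ((Dual.inD S B)⟦k⟧) M :=
      (tr_shift' (Dual.inD S B) (M⟦-k⟧) k
        (shiftShiftIso M (-k) k 0 (by omega) ≪≫ (shiftFunctorZero (Dual.D S) ℤ).app _)).bc h0
    exact (tr_iso_left e.symm M).bc h3
  have hb := bijective_comp_alphaBC (S' := S') (B' := B') M G₀ h1 h2
  have : (fun g : (Dual.inD B' B')⟦k⟧ ⟶ (LB B B').obj ((RR S B).obj M) =>
      g ≫ alphaBC S S' B B' M) =
      (fun g => eG.inv ≫ g) ∘ (fun g : (LB B B').obj G₀ ⟶ (LB B B').obj ((RR S B).obj M) =>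
        g ≫ alphaBC S S' B B' M) ∘ (fun g => eG.hom ≫ g) := by
    funext g
    simp only [Function.comp, Category.assoc, Iso.inv_hom_id_assoc]
  rw [this]
  exact (bijective_comp_left_of_isIso eG.inv).comp
    (hb.comp (bijective_comp_left_of_isIso eG.hom))

/-- **Flat base change for `RHom_S(B, -)`**, as an isomorphism -/
noncomputable def RRBaseChangeIso (M : Dual.D S) (a : ℤ) [hM : M.IsGE a] :
    (LB B B').obj ((RR S B).obj M) ≅ (RR S' B').obj ((LB S S').obj M) :=
  @asIso _ _ _ _ (alphaBC S S' B B' M) (isIso_alphaBC (S' := S') (B' := B') M a)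

end Main

end Groth.Agent.H26.CoextBC
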