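import Mathlib
import Groth.Prelude.Def_DDual2
import Groth.Prelude.Def_DualSh
import Groth.Agent.H26.CoextBC3
import Groth.Agent.H26.FlatBCDual6
import Groth.Agent.H28.ShriekMain

/-!
# Flat base change for coextension of scalars, part 4: flat base change for the algebraic upper
shriek (helper26)
-/

set_option autoImplicit false
set_option linter.unusedSectionVars false
set_option linter.style.haveILetI false
set_option linter.overlappingInstances false

universe u

open CategoryTheory Limits Pretriangulated DerivedCategory TensorProduct

namespace Groth.Agent.H26.CoextBC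

open Groth.Agent.H26.FlatBCHom Groth.Agent.H26.FlatBCDual Groth.Agent.H2.DualCx

attribute [local instance] HasDerivedCategory.standard

section Exists

variable {A B : Type u} [CommRing A] [CommRing B] [Algebra A B] [Module.Flat A B]

/-- derived base change exists along a flat ring map -/
theorem hasLBaseChange_of_flat : DRing.HasLBaseChange (algebraMap A B) := by
  haveI : (LB A B).IsLeftDerivedFunctor
      (F0 A B).mapDerivedCategoryFactorsh.hom
      (HomotopyCategory.quasiIso (ModuleCat.{u} A) (ComplexShape.up ℤ)) :=
    Functor.isLeftDerivedFunctor_of_inverts _ _ (F0 A B).mapDerivedCategoryFactorsh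
  exact Functor.HasLeftDerivedFunctor.mk' (LB A B) (F0 A B).mapDerivedCategoryFactorsh.hom

end Exists

section Abstract

variable {R R' P P' A A' : Type u} [CommRing R] [CommRing R'] [CommRing P] [CommRing P']
  [CommRing A] [CommRing A']
  [Algebra R R'] [Algebra R P] [Algebra R P'] [Algebra R' P'] [Algebra P P']
  [IsScalarTower R R' P'] [IsScalarTower R P P']
  [Algebra P A] [Algebra P' A'] [Algebra A A'] [Algebra P A']
  [IsScalarTower P P' A'] [IsScalarTower P A A'] [Algebra.IsPushout P P' A A']
  [Module.Flat R R'] [Module.Flat R P] [Module.Flat R' P'] [Module.Flat R P'] [Module.Flat P P']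
  [Module.Flat A A'] [IsNoetherianRing P] [Module.Finite P A]

/-- flat base change for `RHom_P(A, K ⊗_R P)` along `R → R'` -/
noncomputable def shriekBaseChangeIso (K : Dual.D R) (c : ℤ) [hK : K.IsGE c] :
    (LB A A').obj ((RR P A).obj ((LB R P).obj K)) ≅
      (RR P' A').obj ((LB R' P').obj ((LB R R').obj K)) :=
  haveI : ((LB R P).obj K).IsGE c := isGE_LB K c hK
  RRBaseChangeIso (S := P) (S' := P') (B := A) (B' := A') ((LB R P).obj K) c ≪≫
    (RR P' A').mapIso (LBcomp P P' K ≪≫ (LBcomp R' P' K).symm)

end Abstract

end Groth.Agent.H26.CoextBC
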