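import Mathlib
import Groth.Prelude.Def_DDual2
import Groth.Agent.H26.CoextBC3

/-!
# Flat base change for coextension of scalars, part 8: the finite free case, without boundedness
(helper26)
-/

set_option autoImplicit false
set_option linter.unusedSectionVars false
set_option linter.style.haveILetI false
set_option linter.overlappingInstances false

universe u

open CategoryTheory Limits Pretriangulated DerivedCategory TensorProduct

namespace Groth.Agent.H26.CoextBC

open Groth.Agent.H26.FlatBCHom Groth.Agent.H26.FlatBCDual Groth.Agent.H2.DualCx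

attribute [local instance] HasDerivedCategory.standard

section SelfAll

/-- `Hom(R[0], Z) = 0` if `Z` is concentrated in negative degrees -/
theorem subsingleton_hom_self_of_isLE {R : Type u} [CommRing R] (Z : Dual.D R) (n : ℤ) (hn : n < 0)
    [hZ : Z.IsLE n] : Subsingleton (Dual.inD R R ⟶ Z) := by
  haveI : Subsingleton (Dual.HD R Z 0) :=
    ModuleCat.subsingleton_of_isZero (DerivedCategory.isZero_of_isLE Z n 0 hn)
  haveI : Subsingleton (Dual.inD R R ⟶ Z⟦(0 : ℤ)⟧) := (subsingleton_T_self_iff Z 0).mpr inferInstance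
  exact subsingleton_hom_of_iso (Iso.refl _) ((shiftFunctorZero (Dual.D R) ℤ).app Z) inferInstance

variable {A B : Type u} [CommRing A] [CommRing B] [Algebra A B] [Module.Flat A B]

/-- both sides vanish -/
theorem BC_self_of_isLE (Z : Dual.D A) (n : ℤ) (hn : n < 0) [hZ : Z.IsLE n] :
    BC (B := B) ((S0 A).obj (ModuleCat.of A A)) Z := by
  apply bijective_of_subsingleton
  · exact subsingleton_hom_self_of_isLE Z n hn
  · haveI := isLE_LB (B := B) Z n hZ
    exact subsingleton_hom_of_iso (LBSelfIso (S := A) B).symm (Iso.refl _)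
      (subsingleton_hom_self_of_isLE ((LB A B).obj Z) n hn)

/-- base change for `A[0]` against every object -/
theorem PY_self (Y : Dual.D A) : PY (B := B) ((S0 A).obj (ModuleCat.of A A)) Y := by
  intro n
  obtain ⟨Y₁, Y₂, hLE, hGE, f, g, h, hT⟩ :=
    DerivedCategory.TStructure.t.exists_triangle Y (n - 2) (n - 1) (by ring)
  haveI hLE' : Y₁.IsLE (n - 2) := ⟨hLE⟩
  haveI hGE' : Y₂.IsGE (n - 1) := ⟨hGE⟩
  have hP2 : PY (B := B) ((S0 A).obj (ModuleCat.of A A)) Y₂ := PY_self_of_isGE Y₂ (n - 1)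
  let T' := (Triangle.shiftFunctor (Dual.D A) n).obj (Triangle.mk f g h)
  have hT' : T' ∈ distTriang (Dual.D A) := Triangle.shift_distinguished _ hT n
  refine BC_of_cofive (B := B) T'.invRotate.mor₁ T'.mor₁ T'.mor₂ T'.mor₃
    ((S0 A).obj (ModuleCat.of A A))
    (cons_invRot T' hT') (cons_of_distTriang T' hT') (cons_rot T' hT') ?_ ?_ (hP2 n) ?_
  · change BC (B := B) _ ((Y₂⟦n⟧)⟦(-1 : ℤ)⟧)
    exact (tr_iso_right _ (shiftShiftIso Y₂ n (-1) (n - 1) (by ring)).symm).bc (hP2 (n - 1))
  · change BC (B := B) _ (Y₁⟦n⟧)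
    haveI : (Y₁⟦n⟧).IsLE (-2) := TStructure.t.isLE_shift Y₁ (n - 2) n (-2) (by ring)
    exact BC_self_of_isLE _ (-2) (by omega)
  · change BC (B := B) _ ((Y₁⟦n⟧)⟦(1 : ℤ)⟧)
    haveI : (Y₁⟦n⟧).IsLE (-2) := TStructure.t.isLE_shift Y₁ (n - 2) n (-2) (by ring)
    haveI : ((Y₁⟦n⟧)⟦(1 : ℤ)⟧).IsLE (-3) := TStructure.t.isLE_shift (Y₁⟦n⟧) (-2) 1 (-3) (by ring)
    exact BC_self_of_isLE _ (-3) (by omega)

end SelfAll

end Groth.Agent.H26.CoextBC
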