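import Mathlib
import Groth.Prelude.Def_DDual2
import Groth.Agent.H26.CoextBC8
import Groth.Agent.H35.BoundedInduction

/-!
# Flat base change for coextension of scalars, part 9: flat base change for `Hom(X, Y)` with `X`
perfect and `Y` arbitrary (helper26)
-/

set_option autoImplicit false
set_option linter.unusedSectionVars false
set_option linter.style.haveILetI false
set_option linter.overlappingInstances false

universe u

open CategoryTheory Limits Pretriangulated DerivedCategory TensorProduct

namespace Groth.Agent.H26.CoextBC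

open Groth.Agent.H26.FlatBCHom Groth.Agent.H26.FlatBCDual Groth.Agent.H2.DualCx

attribute [local instance] HasDerivedCategory.standard

section Retract

variable {A B : Type u} [CommRing A] [CommRing B] [Algebra A B] [Module.Flat A B]

/-- the base change property passes to retracts in the first variable -/
theorem BC_of_retract {X X' : Dual.D A} (i : X ⟶ X') (r : X' ⟶ X) (hir : i ≫ r = 𝟙 X)
    (Z : Dual.D A) (h : BC (B := B) X' Z) : BC (B := B) X Z := by
  have h1 := theta_pre (B := B) r Z
  have h2 := theta_pre (B := B) i Z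
  have hpi : ∀ f : X ⟶ Z, pre i Z (pre r Z f) = f := by
    intro f
    simp only [pre_apply]
    rw [← Category.assoc, hir, Category.id_comp]
  have hps : ∀ t : B ⊗[A] (X ⟶ Z),
      (pre i Z).baseChange B ((pre r Z).baseChange B t) = t := by
    intro t
    induction t using TensorProduct.induction_on with
    | zero => simp
    | tmul b f => rw [LinearMap.baseChange_tmul, LinearMap.baseChange_tmul, hpi]
    | add x y hx hy => rw [map_add, map_add, hx, hy]
  have hp's : ∀ y : (LB A B).obj X ⟶ (LB A B).obj Z,
      pre ((LB A B).map i) ((LB A B).obj Z) (pre ((LB A B).map r) ((LB A B).obj Z) y) = y := by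
    intro y
    simp only [pre_apply]
    rw [← Category.assoc, ← Functor.map_comp, hir, CategoryTheory.Functor.map_id, Category.id_comp]
  constructor
  · intro x y hxy
    have e1 : theta (B := B) X' Z ((pre r Z).baseChange B x) =
        theta (B := B) X' Z ((pre r Z).baseChange B y) := by
      have hx := LinearMap.congr_fun h1 x
      have hy := LinearMap.congr_fun h1 y
      simp only [LinearMap.comp_apply] at hx hy
      rw [hx, hy, hxy]
    have e2 := h.1 e1
    rw [← hps x, ← hps y, e2]
  · intro y
    obtain ⟨z, hz⟩ := h.2 (pre ((LB A B).map r) ((LB A B).obj Z) y)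
    refine ⟨(pre i Z).baseChange B z, ?_⟩
    have hz' := LinearMap.congr_fun h2 z
    simp only [LinearMap.comp_apply] at hz'
    rw [hz', hz, hp's]

theorem PX_retract (Y : Dual.D A) {X X' : Dual.D A} (i : X ⟶ X') (r : X' ⟶ X)
    (hir : i ≫ r = 𝟙 X) (h : PX (B := B) Y X') : PX (B := B) Y X :=
  fun n => BC_of_retract i r hir _ (h n)

/-- finite projective modules -/
theorem PX_finite_projective (Y : Dual.D A) (M : ModuleCat.{u} A) [Module.Finite A M]
    [Module.Projective A M] :
    PX (B := B) Y ((DerivedCategory.singleFunctor (ModuleCat.{u} A) 0).obj M) := by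
  obtain ⟨n, f, g, -, -, hfg⟩ := Module.Finite.exists_comp_eq_id_of_projective A M
  have h0 : PX (B := B) Y
      ((DerivedCategory.singleFunctor (ModuleCat.{u} A) 0).obj (ModuleCat.of A A)) :=
    fun k => PY_self (B := B) Y k
  have h1 := PX_free (B := B) Y h0 n
  refine PX_retract Y
    ((DerivedCategory.singleFunctor (ModuleCat.{u} A) 0).map
      (ModuleCat.ofHom g : M ⟶ ModuleCat.of A (Fin n → A)))
    ((DerivedCategory.singleFunctor (ModuleCat.{u} A) 0).map
      (ModuleCat.ofHom f : ModuleCat.of A (Fin n → A) ⟶ M)) ?_ h1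
  rw [← Functor.map_comp, ← ModuleCat.ofHom_comp, hfg]
  exact (DerivedCategory.singleFunctor (ModuleCat.{u} A) 0).map_id M

/-- **flat base change for `Hom(X, Y⟦n⟧)`, `X` perfect, `Y` arbitrary** -/
theorem PX_of_isPerfect (Y : Dual.D A) (X : Dual.D A) (hX : DRing.IsPerfect A X) :
    PX (B := B) Y X := by
  obtain ⟨E, a, b, hE, hfp, ⟨e⟩⟩ := hX
  refine (PX (B := B) Y).prop_of_iso e ?_
  refine Groth.Agent.H35.induction_bounded (PX (B := B) Y)
    (fun M => Module.Finite A M ∧ Module.Projective A M) ?_ ?_ ?_ ?_ E a b hE
    (fun i _ _ => hfp i)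
  · rintro M N e ⟨h1, h2⟩
    exact ⟨Module.Finite.equiv e.toLinearEquiv, Module.Projective.of_equiv e.toLinearEquiv⟩
  · intro X hX
    exact PX_zero Y hX
  · intro T hT h1 h3
    exact PX_tri Y T hT h1 h3
  · rintro M i ⟨h1, h2⟩
    have h := PX_shift (B := B) Y (PX_finite_projective (B := B) Y M) (-i)
    exact (PX (B := B) Y).prop_of_iso (singleIso M i) h

end Retract

end Groth.Agent.H26.CoextBC
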