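import Mathlib
import Groth.Prelude.Def_DDual2
import Groth.Prelude.Def_DualSh
import Groth.Agent.H26.CoextBC4
import Groth.Agent.H26.CoextBC9

/-!
# Flat base change for coextension of scalars, part 10: `B` perfect over `S`, no boundedness
(helper26)

For a pushout square `S → S'` (flat), `S → B` with `B` a perfect `S`-module, `B' = S' ⊗_S B`, and
every `M` in `D(S)`, `RHom_S(B, M) ⊗_B B' ≅ RHom_{S'}(B', M ⊗_S S')` in `D(B')`.
-/

set_option autoImplicit false
set_option linter.unusedSectionVars false
set_option linter.style.haveILetI false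
set_option linter.overlappingInstances false

universe u

open CategoryTheory Limits Pretriangulated DerivedCategory TensorProduct

namespace Groth.Agent.H26.CoextBC

open Groth.Agent.H26.FlatBCHom Groth.Agent.H26.FlatBCDual Groth.Agent.H2.DualCx

attribute [local instance] HasDerivedCategory.standard

section Main

variable {S S' B B' : Type u} [CommRing S] [CommRing S'] [CommRing B] [CommRing B']
  [Algebra S S'] [Algebra S B] [Algebra S' B'] [Algebra B B'] [Algebra S B']
  [IsScalarTower S S' B'] [IsScalarTower S B B'] [Algebra.IsPushout S S' B B']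
  [Module.Flat S S'] [Module.Flat B B']

/-- the base change map is an isomorphism as soon as `B[0]` satisfies base change for `Hom` into
all shifts of `M` -/
theorem isIso_alphaBC_of_PX (M : Dual.D S) (hB : PX (B := S') M (Dual.inD S B)) :
    IsIso (alphaBC S S' B B' M) := by
  apply isIso_of_bijective_comp
  intro k
  let G₀ : Dual.D B := (Dual.inD B B)⟦k⟧
  let eG : (LB B B').obj G₀ ≅ (Dual.inD B' B')⟦k⟧ :=
    ((LB B B').commShiftIso k).app (Dual.inD B B) ≪≫
      (shiftFunctor (Dual.D B') k).mapIso (LBSelfIso (S := B) B')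
  have h1 : BC (B := B') G₀ ((RR S B).obj M) := by
    have h0 := PY_self (B := B') ((RR S B).obj M) (-k)
    exact (tr_shift' (Dual.inD B B) (((RR S B).obj M)⟦-k⟧) k
      (shiftShiftIso ((RR S B).obj M) (-k) k 0 (by omega) ≪≫
        (shiftFunctorZero (Dual.D B) ℤ).app _)).bc h0
  have h2 : BC (B := S') ((DRing.restrictD (algebraMap S B)).obj G₀) M := by
    have e : (DRing.restrictD (algebraMap S B)).obj G₀ ≅ (Dual.inD S B)⟦k⟧ :=
      ((DRing.restrictD (algebraMap S B)).commShiftIso k).app _ ≪≫
        (shiftFunctor (Dual.D S) k).mapIso (Groth.Agent.H28.DualFinLen.e1 (A := S) (B := B) B)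
    have h0 : BC (B := S') (Dual.inD S B) (M⟦-k⟧) := hB (-k)
    have h3 : BC (B := S') ((Dual.inD S B)⟦k⟧) M :=
      (tr_shift' (Dual.inD S B) (M⟦-k⟧) k
        (shiftShiftIso M (-k) k 0 (by omega) ≪≫ (shiftFunctorZero (Dual.D S) ℤ).app _)).bc h0
    exact (tr_iso_left e.symm M).bc h3
  have hb := bijective_comp_alphaBC (S' := S') (B' := B') M G₀ h1 h2
  have : (fun g : (Dual.inD B' B')⟦k⟧ ⟶ (LB B B').obj ((RR S B).obj M) =>
      g ≫ alphaBC S S' B B' M) =
      (fun g => eG.inv ≫ g) ∘ (fun g : (LB B B').obj G₀ ⟶ (LB B B').obj ((RR S B).obj M) =>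
        g ≫ alphaBC S S' B B' M) ∘ (fun g => eG.hom ≫ g) := by
    funext g
    simp only [Function.comp, Category.assoc, Iso.inv_hom_id_assoc]
  rw [this]
  exact (bijective_comp_left_of_isIso eG.inv).comp
    (hb.comp (bijective_comp_left_of_isIso eG.hom))

/-- **Flat base change for `RHom_S(B, -)`, `B` a perfect `S`-module**: no boundedness -/
theorem isIso_alphaBC_of_isPerfect (hperf : DRing.IsPerfectModule S B) (M : Dual.D S) :
    IsIso (alphaBC S S' B B' M) :=
  isIso_alphaBC_of_PX M (PX_of_isPerfect (B := S') M (Dual.inD S B) hperf)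

/-- **Flat base change for `RHom_S(B, -)`, `B` a perfect `S`-module**, as an isomorphism -/
noncomputable def RRBaseChangeIsoOfPerfect (hperf : DRing.IsPerfectModule S B) (M : Dual.D S) :
    (LB B B').obj ((RR S B).obj M) ≅ (RR S' B').obj ((LB S S').obj M) :=
  @asIso _ _ _ _ (alphaBC S S' B B' M) (isIso_alphaBC_of_isPerfect (S' := S') (B' := B') hperf M)

end Main

section Abstract

variable {R R' P P' A A' : Type u} [CommRing R] [CommRing R'] [CommRing P] [CommRing P']
  [CommRing A] [CommRing A']
  [Algebra R R'] [Algebra R P] [Algebra R P'] [Algebra R' P'] [Algebra P P']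
  [IsScalarTower R R' P'] [IsScalarTower R P P']
  [Algebra P A] [Algebra P' A'] [Algebra A A'] [Algebra P A']
  [IsScalarTower P P' A'] [IsScalarTower P A A'] [Algebra.IsPushout P P' A A']
  [Module.Flat R R'] [Module.Flat R P] [Module.Flat R' P'] [Module.Flat R P'] [Module.Flat P P']
  [Module.Flat A A']

/-- flat base change for `RHom_P(A, K ⊗_R P)` along `R → R'`, `A` perfect over `P`, all `K` -/
noncomputable def shriekBaseChangeIsoOfPerfect (hperf : DRing.IsPerfectModule P A)
    (K : Dual.D R) :
    (LB A A').obj ((RR P A).obj ((LB R P).obj K)) ≅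
      (RR P' A').obj ((LB R' P').obj ((LB R R').obj K)) :=
  RRBaseChangeIsoOfPerfect (S := P) (S' := P') (B := A) (B' := A') hperf ((LB R P).obj K) ≪≫
    (RR P' A').mapIso (LBcomp P P' K ≪≫ (LBcomp R' P' K).symm)

end Abstract

end Groth.Agent.H26.CoextBC
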