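import Mathlib
import Groth.Prelude.Def_DDual2
import Groth.Prelude.Def_DualSh
import Groth.Agent.H35.PerfectHomPres
import Groth.Agent.H28.PCohRing

/-!
# A flat algebra of finite type over a Noetherian ring is a perfect module over any presenting
polynomial ring (helper26, after helper35's `isPerfectHom_iff`)
-/

set_option autoImplicit false
set_option linter.unusedSectionVars false
set_option linter.style.haveILetI false
set_option linter.overlappingInstances false

universe u

open CategoryTheory Limits

namespace Groth.Agent.H26.CoextBC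

open Groth.Agent.H35.PolyTor Groth.Agent.H35.KF Groth.Agent.H35.RelPC

attribute [local instance] HasDerivedCategory.standard

/-- `A` flat over `R` Noetherian, `ψ : R[x_1..x_n] → A` surjective: `A` is a perfect module over the
polynomial ring -/
theorem isPerfectModule_of_flat (R A : Type u) [CommRing R] [CommRing A] [Algebra R A]
    [IsNoetherianRing R] [Module.Flat R A] (n : ℕ) (ψ : MvPolynomial (Fin n) R →ₐ[R] A)
    (hψ : Function.Surjective ψ) :
    letI : Algebra (MvPolynomial (Fin n) R) A := ψ.toRingHom.toAlgebra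
    DRing.IsPerfectModule (MvPolynomial (Fin n) R) A := by
  letI : Algebra (MvPolynomial (Fin n) R) A := ψ.toRingHom.toAlgebra
  have hfin : Module.Finite (MvPolynomial (Fin n) R) A :=
    Module.Finite.of_surjective (Algebra.linearMap (MvPolynomial (Fin n) R) A) hψ
  have hpc : DRing.IsPseudoCoherent' (MvPolynomial (Fin n) R)
      (Dual.inD (MvPolynomial (Fin n) R) A) := by
    rw [Groth.Agent.H28.PCohRing.isPseudoCoherent'_iff]
    intro m
    exact Groth.Agent.H28.PCohRing.isPC_single_of_finite_of_noetherian _
      (ModuleCat.of (MvPolynomial (Fin n) R) A) hfin m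
  change DRing.IsPerfect _ _
  rw [isPerfect_iff_isPseudoCoherent'_and_hasFiniteTorDimCx]
  refine ⟨hpc, -((0 : ℕ) : ℤ) - n, 0, ?_⟩
  have hd : DRing.HasTorDimLE R 0 A := (hasTorDimLE_zero_iff_flat A).2 inferInstance
  rw [hasTorDimLE_iff_hasTorAmplitudeIn] at hd
  have h1 : TAvia (algebraMap R A) (-((0 : ℕ) : ℤ)) 0 (Dual.inD A A) :=
    hasTorAmplitudeIn_of_iso (restrictInDIso R A).symm _ _ hd
  have h2 : (ψ.toRingHom).comp MvPolynomial.C = algebraMap R A := by
    ext a
    change ψ (MvPolynomial.C a) = _
    rw [← MvPolynomial.algebraMap_eq, AlgHom.commutes]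
  have h3 : TAvia ψ.toRingHom (-((0 : ℕ) : ℤ) - n) 0 (Dual.inD A A) :=
    tavia_mvPolynomial n ψ.toRingHom _ _ _ (by rw [h2]; exact h1)
  exact hasTorAmplitudeIn_of_iso (restrictInDIso (MvPolynomial (Fin n) R) A) _ _ h3

end Groth.Agent.H26.CoextBC
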