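import Mathlib
import Groth.Prelude.Def_DDual2
import Groth.Prelude.Def_DualSh
import Groth.Agent.H26.CoextBC4

/-!
# Flat base change for the algebraic upper shriek (helper26)
-/

set_option autoImplicit false
set_option linter.unusedSectionVars false
set_option linter.style.haveILetI false
set_option linter.overlappingInstances false

universe u

open CategoryTheory Limits Pretriangulated DerivedCategory TensorProduct

namespace Groth.Agent.H26.CoextBC

open Groth.Agent.H26.FlatBCHom Groth.Agent.H26.FlatBCDual Groth.Agent.H2.DualCx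

attribute [local instance] HasDerivedCategory.standard
attribute [local instance] MvPolynomial.algebraMvPolynomial
attribute [local instance] Algebra.TensorProduct.rightAlgebra

section Concrete

variable (R R' A : Type u) [CommRing R] [CommRing R'] [CommRing A] [Algebra R R'] [Algebra R A]

/-- the base change of a presentation -/
noncomputable def psiBC (n : ℕ) (ψ : MvPolynomial (Fin n) R →ₐ[R] A) :
    MvPolynomial (Fin n) R' →ₐ[R'] (R' ⊗[R] A) :=
  MvPolynomial.aeval (fun i => (1 : R') ⊗ₜ[R] ψ (MvPolynomial.X i))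

theorem psiBC_map (n : ℕ) (ψ : MvPolynomial (Fin n) R →ₐ[R] A) (p : MvPolynomial (Fin n) R) :
    psiBC R R' A n ψ (MvPolynomial.map (algebraMap R R') p) = (1 : R') ⊗ₜ[R] ψ p := by
  induction p using MvPolynomial.induction_on with
  | C r =>
    rw [MvPolynomial.map_C, psiBC, MvPolynomial.aeval_C, Algebra.TensorProduct.algebraMap_apply]
    have : ψ (MvPolynomial.C r) = algebraMap R A r := ψ.commutes r
    rw [this, Algebra.algebraMap_eq_smul_one r, Algebra.algebraMap_self, RingHom.id_apply,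
      TensorProduct.smul_tmul, ← Algebra.algebraMap_eq_smul_one]
  | add p q hp hq => rw [map_add, map_add, hp, hq, map_add, TensorProduct.tmul_add]
  | mul_X p i hp =>
    rw [map_mul, map_mul, hp, MvPolynomial.map_X, map_mul]
    have : psiBC R R' A n ψ (MvPolynomial.X i) = (1 : R') ⊗ₜ[R] ψ (MvPolynomial.X i) := by
      rw [psiBC, MvPolynomial.aeval_X]
    rw [this, Algebra.TensorProduct.tmul_mul_tmul, mul_one]

theorem psiBC_surjective (n : ℕ) (ψ : MvPolynomial (Fin n) R →ₐ[R] A)
    (hψ : Function.Surjective ψ) : Function.Surjective (psiBC R R' A n ψ) := by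
  intro t
  induction t using TensorProduct.induction_on with
  | zero => exact ⟨0, map_zero _⟩
  | tmul s a =>
    obtain ⟨p, rfl⟩ := hψ a
    refine ⟨MvPolynomial.C s * MvPolynomial.map (algebraMap R R') p, ?_⟩
    rw [map_mul, psiBC_map]
    have : psiBC R R' A n ψ (MvPolynomial.C s) = s ⊗ₜ[R] (1 : A) := by
      rw [psiBC, MvPolynomial.aeval_C, Algebra.TensorProduct.algebraMap_apply]
      rfl
    rw [this, Algebra.TensorProduct.tmul_mul_tmul, mul_one, one_mul]
  | add x y hx hy =>
    obtain ⟨p, rfl⟩ := hx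
    obtain ⟨q, rfl⟩ := hy
    exact ⟨p + q, map_add _ _ _⟩

variable [IsNoetherianRing R] [Module.Flat R R']

set_option maxHeartbeats 1600000 in
/-- **Flat base change for the algebraic upper shriek** (bounded below objects) -/
theorem nonempty_shriekVia_flat_baseChange (n : ℕ) (ψ : MvPolynomial (Fin n) R →ₐ[R] A)
    (hψ : Function.Surjective ψ) [DRing.HasLBaseChange (algebraMap R (MvPolynomial (Fin n) R))]
    (Rψ : Dual.D (MvPolynomial (Fin n) R) ⥤ Dual.D A) (adj : DRing.restrictD ψ.toRingHom ⊣ Rψ)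
    (m : ℕ) (ψ' : MvPolynomial (Fin m) R' →ₐ[R'] (R' ⊗[R] A)) (hψ' : Function.Surjective ψ')
    [DRing.HasLBaseChange (algebraMap R' (MvPolynomial (Fin m) R'))]
    (Rψ' : Dual.D (MvPolynomial (Fin m) R') ⥤ Dual.D (R' ⊗[R] A))
    (adj' : DRing.restrictD ψ'.toRingHom ⊣ Rψ')
    [DRing.HasLBaseChange (Algebra.TensorProduct.includeRight : A →ₐ[R] R' ⊗[R] A).toRingHom]
    [DRing.HasLBaseChange (algebraMap R R')] (K : Dual.D R) (c : ℤ)
    (hK : ∀ i : ℤ, i < c → Subsingleton (Dual.HD R K i)) :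
    Nonempty ((DRing.LBaseChange
      (Algebra.TensorProduct.includeRight : A →ₐ[R] R' ⊗[R] A).toRingHom).obj
        (Dual2.shriekVia n Rψ K) ≅
      Dual2.shriekVia m Rψ' ((DRing.LBaseChange (algebraMap R R')).obj K)) := by
  letI algPA : Algebra (MvPolynomial (Fin n) R) A := ψ.toRingHom.toAlgebra
  letI algP'A' : Algebra (MvPolynomial (Fin n) R') (R' ⊗[R] A) :=
    (psiBC R R' A n ψ).toRingHom.toAlgebra
  letI algPA' : Algebra (MvPolynomial (Fin n) R) (R' ⊗[R] A) :=
    ((algebraMap A (R' ⊗[R] A)).comp (algebraMap (MvPolynomial (Fin n) R) A)).toAlgebra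
  haveI t1 : IsScalarTower (MvPolynomial (Fin n) R) A (R' ⊗[R] A) :=
    IsScalarTower.of_algebraMap_eq (fun _ => rfl)
  haveI t2 : IsScalarTower (MvPolynomial (Fin n) R) (MvPolynomial (Fin n) R') (R' ⊗[R] A) :=
    IsScalarTower.of_algebraMap_eq (fun p => (psiBC_map R R' A n ψ p).symm)
  haveI t3 : IsScalarTower R (MvPolynomial (Fin n) R) A :=
    IsScalarTower.of_algebraMap_eq (fun r => (ψ.commutes r).symm)
  haveI t4 : IsScalarTower R' (MvPolynomial (Fin n) R') (R' ⊗[R] A) :=
    IsScalarTower.of_algebraMap_eq (fun r => ((psiBC R R' A n ψ).commutes r).symm)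
  haveI t5 : IsScalarTower R (MvPolynomial (Fin n) R') (R' ⊗[R] A) :=
    IsScalarTower.of_algebraMap_eq (fun r => by
      rw [IsScalarTower.algebraMap_apply R R' (R' ⊗[R] A),
        IsScalarTower.algebraMap_apply R R' (MvPolynomial (Fin n) R'),
        ← IsScalarTower.algebraMap_apply R' (MvPolynomial (Fin n) R') (R' ⊗[R] A)])
  haveI po1 : Algebra.IsPushout R A R' (R' ⊗[R] A) := inferInstance
  haveI po2 : Algebra.IsPushout (MvPolynomial (Fin n) R) A (MvPolynomial (Fin n) R')
      (R' ⊗[R] A) :=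
    (Algebra.IsPushout.comp_iff R (MvPolynomial (Fin n) R) R'
      (S' := MvPolynomial (Fin n) R') (T := A) (T' := R' ⊗[R] A)).mp po1
  haveI po3 : Algebra.IsPushout (MvPolynomial (Fin n) R) (MvPolynomial (Fin n) R') A
      (R' ⊗[R] A) := Algebra.IsPushout.symm po2
  haveI f1 : Module.Flat R (MvPolynomial (Fin n) R') :=
    Module.Flat.trans R R' (MvPolynomial (Fin n) R')
  haveI f2 : Module.Flat (MvPolynomial (Fin n) R) (MvPolynomial (Fin n) R') :=
    Module.Flat.isBaseChange R (MvPolynomial (Fin n) R) R' (MvPolynomial (Fin n) R')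
      (Algebra.IsPushout.out (R := R) (S := MvPolynomial (Fin n) R) (R' := R')
        (S' := MvPolynomial (Fin n) R'))
  haveI f3 : Module.Flat A (R' ⊗[R] A) :=
    Module.Flat.isBaseChange R A R' (R' ⊗[R] A)
      (Algebra.IsPushout.out (R := R) (S := A) (R' := R') (S' := R' ⊗[R] A))
  haveI fin : Module.Finite (MvPolynomial (Fin n) R) A :=
    Module.Finite.of_surjective (Algebra.linearMap (MvPolynomial (Fin n) R) A) hψ
  haveI hKc : K.IsGE c := isGE_of_vanishing K c hK
  have e0 := shriekBaseChangeIso (R := R) (R' := R') (P := MvPolynomial (Fin n) R)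
    (P' := MvPolynomial (Fin n) R') (A := A) (A' := R' ⊗[R] A) K c
  -- the left hand side
  have eR : Rψ ≅ RR (MvPolynomial (Fin n) R) A :=
    adj.rightAdjointUniq (adjRR (MvPolynomial (Fin n) R) A)
  have eL : (DRing.LBaseChange
      (Algebra.TensorProduct.includeRight : A →ₐ[R] R' ⊗[R] A).toRingHom).obj
        (Dual2.shriekVia n Rψ K) ≅
      ((RR (MvPolynomial (Fin n) R') (R' ⊗[R] A)).obj
        ((LB R' (MvPolynomial (Fin n) R')).obj ((LB R R').obj K)))⟦(n : ℤ)⟧ :=
    (lbcIso (A := A) (B := R' ⊗[R] A)).app _ ≪≫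
      ((LB A (R' ⊗[R] A)).commShiftIso (n : ℤ)).app _ ≪≫
      (shiftFunctor (Dual.D (R' ⊗[R] A)) (n : ℤ)).mapIso
        ((LB A (R' ⊗[R] A)).mapIso (eR.app _ ≪≫
          (RR (MvPolynomial (Fin n) R) A).mapIso
            ((lbcIso (A := R) (B := MvPolynomial (Fin n) R)).app K)) ≪≫ e0)
  -- the right hand side
  haveI hLB' : DRing.HasLBaseChange (algebraMap R' (MvPolynomial (Fin n) R')) :=
    hasLBaseChange_of_flat
  obtain ⟨eI⟩ := Groth.Agent.H28.ShriekMain.nonempty_shriekVia_iso m ψ' hψ' Rψ' adj' n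
    (psiBC R R' A n ψ) (psiBC_surjective R R' A n ψ hψ)
    (RR (MvPolynomial (Fin n) R') (R' ⊗[R] A)) (adjRR (MvPolynomial (Fin n) R') (R' ⊗[R] A))
    ((DRing.LBaseChange (algebraMap R R')).obj K)
  have eRt : Dual2.shriekVia n (RR (MvPolynomial (Fin n) R') (R' ⊗[R] A))
      ((DRing.LBaseChange (algebraMap R R')).obj K) ≅
      ((RR (MvPolynomial (Fin n) R') (R' ⊗[R] A)).obj
        ((LB R' (MvPolynomial (Fin n) R')).obj ((LB R R').obj K)))⟦(n : ℤ)⟧ :=
    (shiftFunctor (Dual.D (R' ⊗[R] A)) (n : ℤ)).mapIso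
      ((RR (MvPolynomial (Fin n) R') (R' ⊗[R] A)).mapIso
        ((lbcIso (A := R') (B := MvPolynomial (Fin n) R')).app _ ≪≫
          (LB R' (MvPolynomial (Fin n) R')).mapIso ((lbcIso (A := R) (B := R')).app K)))
  exact ⟨eL ≪≫ eRt.symm ≪≫ eI.symm⟩

end Concrete

end Groth.Agent.H26.CoextBC
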