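import Mathlib
import Groth.Prelude.Def_DDual2
import Groth.Prelude.Def_DualSh
import Groth.Agent.H26.CoextBC5
import Groth.Agent.H26.CoextBC10
import Groth.Agent.H26.CoextBC11
import Groth.Agent.H28.ShriekIndep
import Groth.Agent.H97.OpenImmFactor

/-!
# The algebraic upper shriek of a flat epimorphism of finite type is derived base change
(helper26)
-/

set_option autoImplicit false
set_option linter.unusedSectionVars false
set_option linter.style.haveILetI false
set_option linter.overlappingInstances false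

universe u

open CategoryTheory Limits Pretriangulated DerivedCategory TensorProduct

namespace Groth.Agent.H26.CoextBC

open Groth.Agent.H26.FlatBCHom Groth.Agent.H26.FlatBCDual Groth.Agent.H2.DualCx
open Groth.Agent.H28.ShriekTools

attribute [local instance] HasDerivedCategory.standard
attribute [local instance] MvPolynomial.algebraMvPolynomial

section Id

variable (A : Type u) [CommRing A]

/-- base change along the identity is the identity -/
noncomputable def LBIdIso : LB A A ≅ 𝟭 (Dual.D A) :=
  (Groth.Agent.H9.ExtBC.dAdj A A).leftAdjointUniq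
    (Adjunction.id.ofNatIsoRight (restrictDId' (algebraMap A A) rfl).symm)

end Id

section Epi

variable (R R' : Type u) [CommRing R] [CommRing R'] [Algebra R R']

/-- the extension of a presentation `R[x] → R'` to `R'[x] → R'` -/
noncomputable def psiEpi (n : ℕ) (ψ : MvPolynomial (Fin n) R →ₐ[R] R') :
    MvPolynomial (Fin n) R' →ₐ[R'] R' :=
  MvPolynomial.aeval (fun i => ψ (MvPolynomial.X i))

theorem psiEpi_map (n : ℕ) (ψ : MvPolynomial (Fin n) R →ₐ[R] R') (p : MvPolynomial (Fin n) R) :
    psiEpi R R' n ψ (MvPolynomial.map (algebraMap R R') p) = ψ p := by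
  induction p using MvPolynomial.induction_on with
  | C r =>
    rw [MvPolynomial.map_C, psiEpi, MvPolynomial.aeval_C]
    exact (ψ.commutes r).symm
  | add p q hp hq => rw [map_add, map_add, hp, hq, map_add]
  | mul_X p i hp =>
    rw [map_mul, map_mul, hp, MvPolynomial.map_X, map_mul]
    congr 1
    rw [psiEpi, MvPolynomial.aeval_X]

variable [IsNoetherianRing R] [Module.Flat R R']

set_option maxHeartbeats 1600000 in
/-- **`φ^!(K) ≅ K ⊗^L_R R'` for `R → R'` flat of finite type with `R' ⊗_R R' = R'`** -/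
theorem nonempty_shriekVia_iso_LBaseChange_of_epi (n : ℕ)
    (ψ : MvPolynomial (Fin n) R →ₐ[R] R') (hψ : Function.Surjective ψ)
    [DRing.HasLBaseChange (algebraMap R (MvPolynomial (Fin n) R))]
    (Rψ : Dual.D (MvPolynomial (Fin n) R) ⥤ Dual.D R') (adj : DRing.restrictD ψ.toRingHom ⊣ Rψ)
    [DRing.HasLBaseChange (algebraMap R R')] (po1 : Algebra.IsPushout R R' R' R') (K : Dual.D R) :
    Nonempty (Dual2.shriekVia n Rψ K ≅ (DRing.LBaseChange (algebraMap R R')).obj K) := by
  haveI f1 : Module.Flat R (MvPolynomial (Fin n) R') :=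
    Module.Flat.trans R R' (MvPolynomial (Fin n) R')
  haveI f2 : Module.Flat (MvPolynomial (Fin n) R) (MvPolynomial (Fin n) R') :=
    Module.Flat.isBaseChange R (MvPolynomial (Fin n) R) R' (MvPolynomial (Fin n) R')
      (Algebra.IsPushout.out (R := R) (S := MvPolynomial (Fin n) R) (R' := R')
        (S' := MvPolynomial (Fin n) R'))
  haveI po0 : Algebra.IsPushout R (MvPolynomial (Fin n) R) R' (MvPolynomial (Fin n) R') :=
    inferInstance
  letI algPA : Algebra (MvPolynomial (Fin n) R) R' := ψ.toRingHom.toAlgebra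
  letI algP'A' : Algebra (MvPolynomial (Fin n) R') R' := (psiEpi R R' n ψ).toRingHom.toAlgebra
  haveI t1 : IsScalarTower (MvPolynomial (Fin n) R) R' R' :=
    IsScalarTower.of_algebraMap_eq (fun _ => rfl)
  haveI t2 : IsScalarTower (MvPolynomial (Fin n) R) (MvPolynomial (Fin n) R') R' :=
    IsScalarTower.of_algebraMap_eq (fun p => (psiEpi_map R R' n ψ p).symm)
  haveI t3 : IsScalarTower R (MvPolynomial (Fin n) R) R' :=
    IsScalarTower.of_algebraMap_eq (fun r => (ψ.commutes r).symm)
  haveI t4 : IsScalarTower R' (MvPolynomial (Fin n) R') R' :=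
    IsScalarTower.of_algebraMap_eq (fun r => ((psiEpi R R' n ψ).commutes r).symm)
  haveI t5 : IsScalarTower R (MvPolynomial (Fin n) R') R' :=
    IsScalarTower.of_algebraMap_eq (fun r => by
      rw [IsScalarTower.algebraMap_apply R R' R',
        IsScalarTower.algebraMap_apply R R' (MvPolynomial (Fin n) R'),
        ← IsScalarTower.algebraMap_apply R' (MvPolynomial (Fin n) R') R'])
  haveI po2 : Algebra.IsPushout (MvPolynomial (Fin n) R) R' (MvPolynomial (Fin n) R') R' :=
    (Algebra.IsPushout.comp_iff R (MvPolynomial (Fin n) R) R'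
      (S' := MvPolynomial (Fin n) R') (T := R') (T' := R')).mp po1
  haveI po3 : Algebra.IsPushout (MvPolynomial (Fin n) R) (MvPolynomial (Fin n) R') R' R' :=
    Algebra.IsPushout.symm po2
  have hperf : DRing.IsPerfectModule (MvPolynomial (Fin n) R) R' :=
    isPerfectModule_of_flat R R' n ψ hψ
  have e0 := shriekBaseChangeIsoOfPerfect (R := R) (R' := R') (P := MvPolynomial (Fin n) R)
    (P' := MvPolynomial (Fin n) R') (A := R') (A' := R') hperf K
  -- the left hand side
  have eR : Rψ ≅ RR (MvPolynomial (Fin n) R) R' :=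
    adj.rightAdjointUniq (adjRR (MvPolynomial (Fin n) R) R')
  have eL : Dual2.shriekVia n Rψ K ≅
      ((RR (MvPolynomial (Fin n) R') R').obj
        ((LB R' (MvPolynomial (Fin n) R')).obj ((LB R R').obj K)))⟦(n : ℤ)⟧ :=
    (shiftFunctor (Dual.D R') (n : ℤ)).mapIso
      ((eR.app _ ≪≫ (RR (MvPolynomial (Fin n) R) R').mapIso
          ((lbcIso (A := R) (B := MvPolynomial (Fin n) R)).app K)) ≪≫
        ((LBIdIso R').app _).symm ≪≫ e0)
  -- the right hand side
  have hC : (psiEpi R R' n ψ).toRingHom.comp
      (MvPolynomial.C : R' →+* MvPolynomial (Fin n) R') = RingHom.id R' :=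
    RingHom.ext fun r => by
      change psiEpi R R' n ψ (MvPolynomial.C r) = r
      rw [psiEpi, MvPolynomial.aeval_C]
      rfl
  obtain ⟨eI⟩ := Groth.Agent.H28.ShriekIndep.nonempty_iso_mvPolynomial (R := R') (A := R') n R'
    (RingHom.id R') (psiEpi R R' n ψ).toRingHom hC (fun j => ⟨_, rfl⟩)
    (𝟭 (Dual.D R')) (Adjunction.id.ofNatIsoRight (restrictDId' (algebraMap R' R') rfl).symm)
    (𝟭 (Dual.D R')) (Adjunction.id.ofNatIsoLeft (restrictDId' (RingHom.id R') rfl).symm)
    (LB R' (MvPolynomial (Fin n) R')) (Groth.Agent.H9.ExtBC.dAdj R' (MvPolynomial (Fin n) R'))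
    (RR (MvPolynomial (Fin n) R') R') (adjRR (MvPolynomial (Fin n) R') R')
    ((LB R R').obj K)
  exact ⟨eL ≪≫ eI ≪≫ ((lbcIso (A := R) (B := R')).app K).symm⟩

end Epi

end Groth.Agent.H26.CoextBC
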