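import Mathlib
import Groth.Prelude.Def_DDual2
import Groth.Prelude.Def_DualSh
import Groth.Agent.H26.CoextBC3
import Groth.Agent.H28.CoextModel
import Groth.Agent.H84.RHomDual
import Groth.Agent.H84.RHomLoc
import Groth.Agent.H9.RH.Exists

/-!
# `RHom_S(B, S)` is a perfect complex of `S`-modules when `B` is a perfect `S`-module (helper26)
-/

set_option backward.isDefEq.respectTransparency false
set_option backward.isDefEq.respectTransparency.types false
set_option autoImplicit false
set_option linter.unusedSectionVars false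
set_option linter.style.haveILetI false
set_option linter.overlappingInstances false

universe u

open CategoryTheory Limits Pretriangulated DerivedCategory CochainComplex HomComplex

namespace Groth.Agent.H26.CoextBC

open Groth.Agent.H84.RHom Groth.Agent.H28

attribute [local instance] HasDerivedCategory.standard

section

variable {S : Type u} [CommRing S]

/-- `Hom•(M[0], I)` is the complex `Hom_S(M, I^•)` -/
noncomputable def homSingleEcIso (M : ModuleCat.{u} S) (I : DRing.Cx S) :
    DRing.homCx (sgl M) I ≅ Bidual.Ec I M :=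
  HomologicalComplex.Hom.isoOfComponents (fun n => (eS M I n).toModuleIso) (by
    intro i j hij
    ext (α : Cochain (sgl M) I i)
    obtain ⟨f, rfl⟩ := (eS M I i).symm.surjective α
    change (eS M I i ((eS M I i).symm f)) ≫ I.d i j = eS M I j (δ i j ((eS M I i).symm f))
    rw [LinearEquiv.apply_symm_apply, eS_symm_apply, Cochain.δ_fromSingleMk f (zero_add i) j j
      (zero_add j), ← eS_symm_apply, LinearEquiv.apply_symm_apply])

variable (B : Type u) [CommRing B] [Algebra S B]

/-- `RHom_S(B, S)`, restricted to `S`, is `RHom(B[0], S[0])` -/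
theorem nonempty_restrict_RR_self_iso [DRing.HasRHomCx (sgl (ModuleCat.of S B))] :
    Nonempty ((DRing.restrictD (algebraMap S B)).obj ((RR S B).obj (Dual.inD S S)) ≅
      (DRing.RHomCx (sgl (ModuleCat.of S B))).obj (Dual.inD S S)) := by
  obtain ⟨I, j, hI, hj⟩ := hKinj (S0 S)
  haveI := hI
  let e0 : Dual.inD S S ≅ DerivedCategory.Q.obj (S0 S) :=
    (DerivedCategory.singleFunctorIsoCompQ (ModuleCat.{u} S) 0).app (ModuleCat.of S S)
  let e1 : Dual.inD S S ≅ DerivedCategory.Q.obj I := e0 ≪≫ asIso (DerivedCategory.Q.map j)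
  let e2 : (RR S B).obj (Dual.inD S S) ≅ CoextModel.Zh (B := B) I :=
    (RR S B).mapIso (e1 ≪≫ (CoextModel.qc S I).symm)
  exact ⟨(DRing.restrictD (algebraMap S B)).mapIso e2 ≪≫ CoextModel.restrZhIso (B := B) I ≪≫
    DerivedCategory.Q.mapIso (homSingleEcIso (ModuleCat.of S B) I).symm ≪≫
    (RHomCxIso (sgl (ModuleCat.of S B)) I hI).symm ≪≫
    (DRing.RHomCx (sgl (ModuleCat.of S B))).mapIso e1.symm⟩

/-- **`RHom_S(B, S)` is perfect over `S` if `B` is a perfect `S`-module** -/
theorem isPerfect_restrict_RR_self (hperf : DRing.IsPerfectModule S B) :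
    DRing.IsPerfect S ((DRing.restrictD (algebraMap S B)).obj ((RR S B).obj (Dual.inD S S))) := by
  haveI : DRing.HasRHomCx (sgl (ModuleCat.of S B)) := Groth.Agent.H9.RH.hasRHomCx _
  obtain ⟨e⟩ := nonempty_restrict_RR_self_iso (S := S) B
  let eK : DRing.toD (sgl (ModuleCat.of S B)) ≅ Dual.inD S B :=
    ((DerivedCategory.singleFunctorIsoCompQ (ModuleCat.{u} S) 0).app (ModuleCat.of S B)).symm
  have h := (dual_perfect (Dual.inD S B) hperf (sgl (ModuleCat.of S B)) eK).1
  obtain ⟨E, a, b, hE, hfp, ⟨e'⟩⟩ := h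
  exact ⟨E, a, b, hE, hfp, ⟨e' ≪≫ e.symm⟩⟩

end

end Groth.Agent.H26.CoextBC
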