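import Mathlib
import Groth.Prelude.Def_DDual2
import Groth.Prelude.Def_DualSh
import Groth.Agent.H26.CoextBC5
import Groth.Agent.H26.CoextBC11
import Groth.Agent.H26.CoextBC13
import Groth.Agent.H28.PCohDescent
import Groth.Agent.H28.PCohRing2
import Groth.Agent.H28.RestrAdj
import Groth.Agent.H28.DualSelf
import Groth.Agent.H35.RelPerfectTri
import Groth.Agent.H35.PerfectBounded

/-!
# `ω_{A/R} = φ^!(R)` is `R`-perfect for `φ : R → A` flat of finite type, `R` Noetherian (helper26)
-/

set_option autoImplicit false
set_option linter.unusedSectionVars false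
set_option linter.style.haveILetI false
set_option linter.overlappingInstances false

universe u

open CategoryTheory Limits Pretriangulated DerivedCategory

namespace Groth.Agent.H26.CoextBC

open Groth.Agent.H26.FlatBCHom Groth.Agent.H26.FlatBCDual Groth.Agent.H2.DualCx
open Groth.Agent.H28.ShriekTools Groth.Agent.H35.PolyTor Groth.Agent.H35.KF Groth.Agent.H35.RelPC

attribute [local instance] HasDerivedCategory.standard

section

variable {S B : Type u} [CommRing S] [CommRing B] [Algebra S B]

/-- vanishing of cohomology is detected after restriction of scalars -/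
theorem isZero_HD_of_isZero_HD_restrict (Y : Dual.D B) (i : ℤ)
    (h : IsZero ((DerivedCategory.homologyFunctor (ModuleCat.{u} S) i).obj
      ((DRing.restrictD (algebraMap S B)).obj Y))) :
    IsZero ((DerivedCategory.homologyFunctor (ModuleCat.{u} B) i).obj Y) := by
  have e := Groth.Agent.H28.PCohDescent.homologyMapDerivedIso
    (ModuleCat.restrictScalars.{u} (algebraMap S B)) Y i
  have h1 : IsZero ((ModuleCat.restrictScalars.{u} (algebraMap S B)).obj
      ((DerivedCategory.homologyFunctor (ModuleCat.{u} B) i).obj Y)) := IsZero.of_iso h e.symm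
  have h2 : Subsingleton ((ModuleCat.restrictScalars.{u} (algebraMap S B)).obj
      ((DerivedCategory.homologyFunctor (ModuleCat.{u} B) i).obj Y)) :=
    ModuleCat.subsingleton_of_isZero h1
  have h3 : Subsingleton ((DerivedCategory.homologyFunctor (ModuleCat.{u} B) i).obj Y) := h2
  exact ModuleCat.isZero_of_subsingleton _

end

section Main

variable (R A : Type u) [CommRing R] [CommRing A] [IsNoetherianRing R] [IsNoetherianRing A]
  [Algebra R A] [Module.Flat R A]

set_option maxHeartbeats 1600000 in
/-- **`φ^!(R)` is `R`-perfect** for `R → A` flat of finite type between Noetherian rings -/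
theorem isRelPerfect_shriekVia_self (n : ℕ) (ψ : MvPolynomial (Fin n) R →ₐ[R] A)
    (hψ : Function.Surjective ψ) [DRing.HasLBaseChange (algebraMap R (MvPolynomial (Fin n) R))]
    (Rψ : Dual.D (MvPolynomial (Fin n) R) ⥤ Dual.D A) (adj : DRing.restrictD ψ.toRingHom ⊣ Rψ) :
    Dual2.IsRelPerfect R A (Dual2.shriekVia n Rψ (Dual.inD R R)) := by
  letI algPA : Algebra (MvPolynomial (Fin n) R) A := ψ.toRingHom.toAlgebra
  haveI t3 : IsScalarTower R (MvPolynomial (Fin n) R) A :=
    IsScalarTower.of_algebraMap_eq (fun r => (ψ.commutes r).symm)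
  haveI fin : Module.Finite (MvPolynomial (Fin n) R) A :=
    Module.Finite.of_surjective (Algebra.linearMap (MvPolynomial (Fin n) R) A) hψ
  have hperf : DRing.IsPerfectModule (MvPolynomial (Fin n) R) A :=
    isPerfectModule_of_flat R A n ψ hψ
  -- the object `K = R ⊗ P ≅ P[0]`
  let K : Dual.D (MvPolynomial (Fin n) R) :=
    (DRing.LBaseChange (algebraMap R (MvPolynomial (Fin n) R))).obj (Dual.inD R R)
  let eK : K ≅ Dual.inD (MvPolynomial (Fin n) R) (MvPolynomial (Fin n) R) :=
    (lbcIso (A := R) (B := MvPolynomial (Fin n) R)).app _ ≪≫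
      LBSelfIso (S := R) (MvPolynomial (Fin n) R)
  have eR : Rψ ≅ RR (MvPolynomial (Fin n) R) A :=
    adj.rightAdjointUniq (adjRR (MvPolynomial (Fin n) R) A)
  let Y : Dual.D A := Rψ.obj K
  let Y₀ : Dual.D A := (RR (MvPolynomial (Fin n) R) A).obj
    (Dual.inD (MvPolynomial (Fin n) R) (MvPolynomial (Fin n) R))
  let eY : Y ≅ Y₀ := eR.app K ≪≫ (RR (MvPolynomial (Fin n) R) A).mapIso eK
  let X : Dual.D (MvPolynomial (Fin n) R) :=
    (DRing.restrictD (algebraMap (MvPolynomial (Fin n) R) A)).obj Y₀
  have hX : DRing.IsPerfect (MvPolynomial (Fin n) R) X := isPerfect_restrict_RR_self A hperf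
  constructor
  · -- pseudo-coherence over `A`
    have hY : DRing.IsPseudoCoherent' A Y := by
      rw [Groth.Agent.H28.PCohRing.isPseudoCoherent'_iff]
      intro m
      rw [Groth.Agent.H28.PCohRing.isNPC_iff_of_noetherian]
      constructor
      · obtain ⟨E, a, b, hE, -, ⟨e⟩⟩ := hX
        refine ⟨b, fun i hi => ?_⟩
        have h1 : IsZero ((DerivedCategory.homologyFunctor
            (ModuleCat.{u} (MvPolynomial (Fin n) R)) i).obj X) :=
          IsZero.of_iso (Groth.Agent.H28.PCohCore.isZero_homology_of_isZero_X E i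
              (hE i (Or.inr hi)))
            ((DerivedCategory.homologyFunctor _ i).mapIso e.symm ≪≫
              Groth.Agent.H28.PCohDer.homologyQIso E i)
        have h2 := isZero_HD_of_isZero_HD_restrict (S := MvPolynomial (Fin n) R) Y₀ i h1
        exact IsZero.of_iso h2 ((DerivedCategory.homologyFunctor _ i).mapIso eY)
      · intro i _
        haveI : K.IsGE 0 := TStructure.t.isGE_of_iso eK.symm 0
        have hKfin : ∀ j : ℤ, Module.Finite (MvPolynomial (Fin n) R)
            (Dual.HD (MvPolynomial (Fin n) R) K j) := by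
          intro j
          have := Groth.Agent.H28.DualSelf.finite_HD_inD (A := MvPolynomial (Fin n) R)
            (MvPolynomial (Fin n) R) j
          exact Module.Finite.equiv
            ((DerivedCategory.homologyFunctor _ j).mapIso eK).toLinearEquiv.symm
        exact Groth.Agent.H28.RestrAdj.finite_HD_rightAdjoint Rψ adj K 0 hKfin i
    exact Groth.Agent.H35.KF.isPseudoCoherent'_shift A Y (n : ℤ) hY
  · -- finite tor dimension over `R`
    have hXn : DRing.IsPerfect (MvPolynomial (Fin n) R) (X⟦(n : ℤ)⟧) :=
      Groth.Agent.H35.isPerfect_shift _ X (n : ℤ) hX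
    obtain ⟨-, a, b, hab⟩ :=
      (isPerfect_iff_isPseudoCoherent'_and_hasFiniteTorDimCx _).1 hXn
    have hflat : (algebraMap R (MvPolynomial (Fin n) R)).Flat :=
      (RingHom.flat_algebraMap_iff).2 inferInstance
    have h1 := hasTorAmplitudeIn_restrictD_of_flat' (algebraMap R (MvPolynomial (Fin n) R)) hflat
      (X⟦(n : ℤ)⟧) a b hab
    refine ⟨a, b, hasTorAmplitudeIn_of_iso ?_ a b h1⟩
    have ecomp : DRing.restrictD (algebraMap R A) ≅
        DRing.restrictD (algebraMap (MvPolynomial (Fin n) R) A) ⋙
          DRing.restrictD (algebraMap R (MvPolynomial (Fin n) R)) :=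
      restrictDComp' (algebraMap R (MvPolynomial (Fin n) R))
        (algebraMap (MvPolynomial (Fin n) R) A) (algebraMap R A)
        (IsScalarTower.algebraMap_eq R (MvPolynomial (Fin n) R) A)
    exact (DRing.restrictD (algebraMap R (MvPolynomial (Fin n) R))).mapIso
        ((shiftFunctor _ (n : ℤ)).mapIso
          ((DRing.restrictD (algebraMap (MvPolynomial (Fin n) R) A)).mapIso eY.symm) ≪≫
        (((DRing.restrictD (algebraMap (MvPolynomial (Fin n) R) A)).commShiftIso (n : ℤ)).app
          Y).symm) ≪≫ (ecomp.app (Y⟦(n : ℤ)⟧)).symm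

end Main

end Groth.Agent.H26.CoextBC
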