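import Mathlib
import Groth.Prelude.Def_DDual2
import Groth.Prelude.Def_DualSh
import Groth.Agent.H26.CoextBC5
import Groth.Agent.H28.ShriekIndep
import Groth.Agent.H5.LBaseChangeAdj

/-!
# `RHom_{A ⊗_R A}(A, ω_{A/R} ⊗_A (A ⊗_R A)) ≅ A` for `R → A` flat of finite type (helper26)
-/

set_option autoImplicit false
set_option linter.unusedSectionVars false
set_option linter.style.haveILetI false
set_option linter.overlappingInstances false

universe u

open CategoryTheory Limits Pretriangulated DerivedCategory TensorProduct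

namespace Groth.Agent.H26.CoextBC

open Groth.Agent.H26.FlatBCHom Groth.Agent.H26.FlatBCDual Groth.Agent.H2.DualCx
open Groth.Agent.H28.ShriekTools

attribute [local instance] HasDerivedCategory.standard

section Twist

variable {X Y Z : Type u} [CommRing X] [CommRing Y] [CommRing Z]

/-- derived base change along `τ ∘ f`, `τ` an automorphism -/
noncomputable def LBaseChangeTwistIso (f g : X →+* Y) (τ : Y ≃+* Y)
    (h : g = τ.toRingHom.comp f) [DRing.HasLBaseChange f] [DRing.HasLBaseChange g] :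
    DRing.LBaseChange g ≅ DRing.LBaseChange f ⋙ DRing.restrictD τ.symm.toRingHom :=
  (Groth.Agent.H5.LBaseChangeAdj.adj g).leftAdjointUniq
    (((Groth.Agent.H5.LBaseChangeAdj.adj f).comp (restrictDEquivAdj' τ)).ofNatIsoRight
      (restrictDComp' f τ.toRingHom g h).symm)

/-- a right adjoint of restriction along `μ` absorbs restriction along an automorphism `τ` with
`μ ∘ τ = μ` -/
noncomputable def rightAdjointTwistIso (μ : Y →+* Z) (τ : Y ≃+* Y) (h : μ = μ.comp τ.toRingHom)
    (Rμ : Dual.D Y ⥤ Dual.D Z) (adjμ : DRing.restrictD μ ⊣ Rμ) :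
    DRing.restrictD τ.symm.toRingHom ⋙ Rμ ≅ Rμ :=
  ((adjμ.comp (restrictDEquivAdj τ)).ofNatIsoLeft
    (restrictDComp' τ.toRingHom μ μ h).symm).rightAdjointUniq adjμ

end Twist


section Main

attribute [local instance] MvPolynomial.algebraMvPolynomial

variable (R A : Type u) [CommRing R] [CommRing A] [IsNoetherianRing R] [IsNoetherianRing A]
  [Algebra R A] [Module.Flat R A] [Algebra.FiniteType R A]

/-- the swap automorphism of `A ⊗_R A` -/
noncomputable abbrev swapEquiv : (A ⊗[R] A) ≃+* (A ⊗[R] A) :=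
  (Algebra.TensorProduct.comm R A A).toRingEquiv

theorem includeLeft_eq_swap_comp_includeRight :
    (Algebra.TensorProduct.includeLeftRingHom : A →+* A ⊗[R] A) =
      (swapEquiv R A).toRingHom.comp
        (Algebra.TensorProduct.includeRight : A →ₐ[R] A ⊗[R] A).toRingHom := by
  refine RingHom.ext fun a => ?_
  change a ⊗ₜ[R] (1 : A) = Algebra.TensorProduct.comm R A A ((1 : A) ⊗ₜ[R] a)
  rw [Algebra.TensorProduct.comm_tmul]

theorem lmul'_eq_lmul'_comp_swap :
    (Algebra.TensorProduct.lmul' R (S := A)).toRingHom =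
      (Algebra.TensorProduct.lmul' R (S := A)).toRingHom.comp (swapEquiv R A).toRingHom := by
  have h : ∀ t : A ⊗[R] A, Algebra.TensorProduct.lmul' R (S := A) t =
      Algebra.TensorProduct.lmul' R (S := A) (Algebra.TensorProduct.comm R A A t) := by
    intro t
    induction t using TensorProduct.induction_on with
    | zero => simp
    | tmul a b =>
      rw [Algebra.TensorProduct.comm_tmul, Algebra.TensorProduct.lmul'_apply_tmul,
        Algebra.TensorProduct.lmul'_apply_tmul, mul_comm]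
    | add x y hx hy => rw [map_add, map_add, map_add, hx, hy]
  exact RingHom.ext fun t => h t

set_option maxHeartbeats 1600000 in
/-- **`RHom_{A ⊗_R A}(A, ω_{A/R} ⊗^L_A (A ⊗_R A)) ≅ A`** -/
theorem nonempty_Rmu_LBaseChange_shriekVia_self (n : ℕ) (ψ : MvPolynomial (Fin n) R →ₐ[R] A)
    (hψ : Function.Surjective ψ) [DRing.HasLBaseChange (algebraMap R (MvPolynomial (Fin n) R))]
    (Rψ : Dual.D (MvPolynomial (Fin n) R) ⥤ Dual.D A) (adj : DRing.restrictD ψ.toRingHom ⊣ Rψ)
    [DRing.HasLBaseChange (Algebra.TensorProduct.includeLeftRingHom : A →+* A ⊗[R] A)]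
    (Rμ : Dual.D (A ⊗[R] A) ⥤ Dual.D A)
    (adjμ : DRing.restrictD (Algebra.TensorProduct.lmul' R (S := A)).toRingHom ⊣ Rμ) :
    Nonempty (Rμ.obj ((DRing.LBaseChange
      (Algebra.TensorProduct.includeLeftRingHom : A →+* A ⊗[R] A)).obj
        (Dual2.shriekVia n Rψ (Dual.inD R R))) ≅ Dual.inD A A) := by
  haveI hN : IsNoetherianRing (A ⊗[R] A) := Algebra.FiniteType.isNoetherianRing A (A ⊗[R] A)
  haveI h1 : DRing.HasLBaseChange (algebraMap A (MvPolynomial (Fin n) A)) :=
    Groth.Agent.H35.LT.hasLBaseChange _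
  haveI h2 : DRing.HasLBaseChange
      (Algebra.TensorProduct.includeRight : A →ₐ[R] A ⊗[R] A).toRingHom :=
    Groth.Agent.H35.LT.hasLBaseChange _
  haveI h3 : DRing.HasLBaseChange (algebraMap R A) := Groth.Agent.H35.LT.hasLBaseChange _
  -- the presentation of `A ⊗_R A` over `A`
  let ψ' : MvPolynomial (Fin n) A →ₐ[A] (A ⊗[R] A) := psiBC R A A n ψ
  have hψ' : Function.Surjective ψ' := psiBC_surjective R A A n ψ hψ
  obtain ⟨Rψ', ⟨adj'⟩⟩ := Groth.Agent.H28.ShriekIndep.exists_rightAdjoint ψ'.toRingHom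
  have hK : ∀ i : ℤ, i < 0 → Subsingleton (Dual.HD R (Dual.inD R R) i) := by
    intro i hi
    exact ModuleCat.subsingleton_of_isZero
      (DerivedCategory.isZero_of_isGE (Dual.inD R R) 0 i hi)
  obtain ⟨e1⟩ := nonempty_shriekVia_flat_baseChange R A A n ψ hψ Rψ adj n ψ' hψ' Rψ' adj'
    (Dual.inD R R) 0 hK
  let ω : Dual.D A := Dual2.shriekVia n Rψ (Dual.inD R R)
  let N : Dual.D A := (DRing.LBaseChange (algebraMap R A)).obj (Dual.inD R R)
  -- the swap
  let τ := swapEquiv R A
  have eT := LBaseChangeTwistIso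
    (Algebra.TensorProduct.includeRight : A →ₐ[R] A ⊗[R] A).toRingHom
    (Algebra.TensorProduct.includeLeftRingHom : A →+* A ⊗[R] A) τ
    (includeLeft_eq_swap_comp_includeRight R A)
  have eM := rightAdjointTwistIso (Algebra.TensorProduct.lmul' R (S := A)).toRingHom τ
    (lmul'_eq_lmul'_comp_swap R A) Rμ adjμ
  -- composition with the multiplication map
  let θQ : MvPolynomial (Fin n) A →+* A :=
    (Algebra.TensorProduct.lmul' R (S := A)).toRingHom.comp ψ'.toRingHom
  have adjθQ : DRing.restrictD θQ ⊣ Rψ' ⋙ Rμ :=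
    (adjμ.comp adj').ofNatIsoLeft
      (restrictDComp' ψ'.toRingHom (Algebra.TensorProduct.lmul' R (S := A)).toRingHom θQ
        rfl).symm
  have hC : θQ.comp (MvPolynomial.C : A →+* MvPolynomial (Fin n) A) = RingHom.id A := by
    ext a
    change Algebra.TensorProduct.lmul' R (S := A) (ψ' (MvPolynomial.C a)) = a
    have : ψ' (MvPolynomial.C a) = a ⊗ₜ[R] (1 : A) := by
      change psiBC R A A n ψ (MvPolynomial.C a) = _
      rw [psiBC, MvPolynomial.aeval_C, Algebra.TensorProduct.algebraMap_apply]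
      rfl
    rw [this, Algebra.TensorProduct.lmul'_apply_tmul, mul_one]
  obtain ⟨eI⟩ := Groth.Agent.H28.ShriekIndep.nonempty_iso_mvPolynomial (R := A) (A := A) n A
    (RingHom.id A) θQ hC (fun j => ⟨_, rfl⟩)
    (𝟭 (Dual.D A)) (Adjunction.id.ofNatIsoRight (restrictDId' (algebraMap A A) rfl).symm)
    (𝟭 (Dual.D A)) (Adjunction.id.ofNatIsoLeft (restrictDId' (RingHom.id A) rfl).symm)
    (DRing.LBaseChange (algebraMap A (MvPolynomial (Fin n) A)))
    (Groth.Agent.H5.LBaseChangeAdj.adj _)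
    (Rψ' ⋙ Rμ) adjθQ N
  letI := adjμ.rightAdjointCommShift ℤ
  have eN : N ≅ Dual.inD A A :=
    (lbcIso (A := R) (B := A)).app _ ≪≫ LBSelfIso (S := R) A
  exact ⟨Rμ.mapIso (eT.app ω) ≪≫ eM.app _ ≪≫ Rμ.mapIso e1 ≪≫
    (Rμ.commShiftIso (n : ℤ)).app _ ≪≫ eI ≪≫ eN⟩

end Main

end Groth.Agent.H26.CoextBC
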