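import Mathlib
import Groth.Prelude.Def_DDual2
import Groth.Prelude.Def_DualSh
import Groth.Agent.H28.ShriekMain

/-!
# Independence of the algebraic upper shriek of the presentation over a general base (helper26)

Generalizations of `Groth.Agent.H28.ShriekMain.nonempty_shriekVia_iso` (helper28) to presentation data
over a base ring `T` which is an `R`-algebra.
-/

set_option autoImplicit false
set_option linter.unusedSectionVars false
set_option linter.style.haveILetI false
set_option linter.overlappingInstances false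

universe u

open CategoryTheory Limits Pretriangulated DerivedCategory

namespace Groth.Agent.H26.CoextBC

open Groth.Agent.H26.FlatBCHom Groth.Agent.H28.ShriekTools Groth.Agent.H28.ShriekIndep

attribute [local instance] HasDerivedCategory.standard

section TwoExtensions

variable {R T C : Type u} [CommRing R] [CommRing T] [CommRing C] [Algebra R T]

/-- two polynomial extensions of the same base `T`, both surjecting onto `C` and agreeing on `T`,
have the same upper shriek up to the expected shifts -/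
theorem nonempty_iso_two_extensions (θT : T →+* C)
    (a : ℕ) (θx : MvPolynomial (Fin a) T →+* C)
    (hx : θx.comp (MvPolynomial.C : T →+* MvPolynomial (Fin a) T) = θT)
    (hxs : Function.Surjective θx)
    (b : ℕ) (θy : MvPolynomial (Fin b) T →+* C)
    (hy : θy.comp (MvPolynomial.C : T →+* MvPolynomial (Fin b) T) = θT)
    (hys : Function.Surjective θy)
    (Lx : Dual.D R ⥤ Dual.D (MvPolynomial (Fin a) T))
    (adjLx : Lx ⊣ DRing.restrictD (algebraMap R (MvPolynomial (Fin a) T)))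
    (Rx : Dual.D (MvPolynomial (Fin a) T) ⥤ Dual.D C) (adjx : DRing.restrictD θx ⊣ Rx)
    (Ly : Dual.D R ⥤ Dual.D (MvPolynomial (Fin b) T))
    (adjLy : Ly ⊣ DRing.restrictD (algebraMap R (MvPolynomial (Fin b) T)))
    (Ry : Dual.D (MvPolynomial (Fin b) T) ⥤ Dual.D C) (adjy : DRing.restrictD θy ⊣ Ry)
    (K : Dual.D R) :
    Nonempty ((Rx.obj (Lx.obj K))⟦(a : ℤ)⟧ ≅ (Ry.obj (Ly.obj K))⟦(b : ℤ)⟧) := by
  let Px := MvPolynomial (Fin a) T
  let Py := MvPolynomial (Fin b) T
  let Q := MvPolynomial (Fin b) Px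
  let Q' := MvPolynomial (Fin a) Py
  let θQ : Q →+* C := MvPolynomial.eval₂Hom θx (fun j => θy (MvPolynomial.X j))
  let θQ' : Q' →+* C := MvPolynomial.eval₂Hom θy (fun i => θx (MvPolynomial.X i))
  have hC : θQ.comp (MvPolynomial.C : Px →+* Q) = θx :=
    RingHom.ext fun p => MvPolynomial.eval₂Hom_C _ _ p
  have hC' : θQ'.comp (MvPolynomial.C : Py →+* Q') = θy :=
    RingHom.ext fun p => MvPolynomial.eval₂Hom_C _ _ p
  have hX : ∀ j, ∃ g : Px, θQ (MvPolynomial.X j) = θx g := fun j => by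
    obtain ⟨g, hg⟩ := hxs (θy (MvPolynomial.X j))
    exact ⟨g, (MvPolynomial.eval₂Hom_X' _ _ j).trans hg.symm⟩
  have hX' : ∀ i, ∃ g : Py, θQ' (MvPolynomial.X i) = θy g := fun i => by
    obtain ⟨g, hg⟩ := hys (θx (MvPolynomial.X i))
    exact ⟨g, (MvPolynomial.eval₂Hom_X' _ _ i).trans hg.symm⟩
  have adjLQ : Lx ⋙ LB Px Q ⊣ DRing.restrictD (algebraMap R Q) :=
    (adjLx.comp (Groth.Agent.H9.ExtBC.dAdj Px Q)).ofNatIsoRight
      (restrictDComp' (algebraMap R Px) (algebraMap Px Q) (algebraMap R Q)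
        (IsScalarTower.algebraMap_eq R Px Q)).symm
  have adjLQ' : Ly ⋙ LB Py Q' ⊣ DRing.restrictD (algebraMap R Q') :=
    (adjLy.comp (Groth.Agent.H9.ExtBC.dAdj Py Q')).ofNatIsoRight
      (restrictDComp' (algebraMap R Py) (algebraMap Py Q') (algebraMap R Q')
        (IsScalarTower.algebraMap_eq R Py Q')).symm
  obtain ⟨RθQ, ⟨adjθQ⟩⟩ := exists_rightAdjoint θQ
  obtain ⟨RθQ', ⟨adjθQ'⟩⟩ := exists_rightAdjoint θQ'
  obtain ⟨i1⟩ := nonempty_iso_mvPolynomial b Px θx θQ hC hX _ adjLx Rx adjx _ adjLQ RθQ adjθQ K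
  obtain ⟨i2⟩ := nonempty_iso_mvPolynomial a Py θy θQ' hC' hX' _ adjLy Ry adjy _ adjLQ' RθQ'
    adjθQ' K
  let e : Q ≃ₐ[T] Q' := MvPolynomial.commAlgEquiv T (Fin b) (Fin a)
  have he : e.toRingEquiv.toRingHom.comp (algebraMap R Q) = algebraMap R Q' :=
    RingHom.ext fun r => (e.restrictScalars R).commutes r
  have hθ : θQ'.comp e.toRingEquiv.toRingHom = θQ := by
    refine MvPolynomial.ringHom_ext (fun p => ?_) (fun j => ?_)
    · change θQ' (e (MvPolynomial.C p)) = θQ (MvPolynomial.C p)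
      rw [MvPolynomial.eval₂Hom_C]
      have h1 : e (MvPolynomial.C p) = MvPolynomial.map MvPolynomial.C p :=
        MvPolynomial.commAlgEquiv_C p
      rw [h1]
      have h2 : (θQ'.comp (MvPolynomial.map (MvPolynomial.C : T →+* Py))) = θx := by
        refine MvPolynomial.ringHom_ext (fun t => ?_) (fun i => ?_)
        · change θQ' (MvPolynomial.map MvPolynomial.C (MvPolynomial.C t)) = θx (MvPolynomial.C t)
          rw [MvPolynomial.map_C, MvPolynomial.eval₂Hom_C]
          have e1 : θy (MvPolynomial.C t) = θT t := congrArg (fun φ => φ t) hy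
          have e2 : θx (MvPolynomial.C t) = θT t := congrArg (fun φ => φ t) hx
          rw [e1, e2]
        · change θQ' (MvPolynomial.map MvPolynomial.C (MvPolynomial.X i)) = θx (MvPolynomial.X i)
          rw [MvPolynomial.map_X, MvPolynomial.eval₂Hom_X']
      exact congrArg (fun φ => φ p) h2
    · change θQ' (e (MvPolynomial.X j)) = θQ (MvPolynomial.X j)
      have h1 : e (MvPolynomial.X j) = MvPolynomial.C (MvPolynomial.X j) :=
        MvPolynomial.commAlgEquiv_X j
      rw [h1, MvPolynomial.eval₂Hom_C, MvPolynomial.eval₂Hom_X']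
  obtain ⟨i3⟩ := nonempty_iso_of_ringEquiv e.toRingEquiv he θQ θQ' hθ _ adjLQ RθQ adjθQ _ adjLQ'
    RθQ' adjθQ' K
  exact ⟨(shiftFunctor (Dual.D C) (a : ℤ)).mapIso
      (i1.symm ≪≫ (shiftFunctor (Dual.D C) (b : ℤ)).mapIso i3) ≪≫
    shiftComm _ (b : ℤ) (a : ℤ) ≪≫ (shiftFunctor (Dual.D C) (b : ℤ)).mapIso i2⟩

end TwoExtensions

section Swap

variable {R C : Type u} [CommRing R] [CommRing C]

/-- adjoining the variables of `T = R[x_1..x_n]` to a presentation `R[z_1..z_k] → C` and swapping -/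
theorem nonempty_iso_swap (n k : ℕ) (θT : MvPolynomial (Fin n) R →+* C)
    (θ : MvPolynomial (Fin k) R →+* C) (hθs : Function.Surjective θ)
    (hcompat : θ.comp (MvPolynomial.C : R →+* MvPolynomial (Fin k) R) =
      θT.comp (MvPolynomial.C : R →+* MvPolynomial (Fin n) R))
    (θb : MvPolynomial (Fin k) (MvPolynomial (Fin n) R) →+* C)
    (hbC : θb.comp (MvPolynomial.C :
      MvPolynomial (Fin n) R →+* MvPolynomial (Fin k) (MvPolynomial (Fin n) R)) = θT)
    (hbX : ∀ j, θb (MvPolynomial.X j) = θ (MvPolynomial.X j))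
    (L : Dual.D R ⥤ Dual.D (MvPolynomial (Fin k) R))
    (adjL : L ⊣ DRing.restrictD (algebraMap R (MvPolynomial (Fin k) R)))
    (Rθ : Dual.D (MvPolynomial (Fin k) R) ⥤ Dual.D C) (adjθ : DRing.restrictD θ ⊣ Rθ)
    (Lb : Dual.D R ⥤ Dual.D (MvPolynomial (Fin k) (MvPolynomial (Fin n) R)))
    (adjLb : Lb ⊣ DRing.restrictD (algebraMap R (MvPolynomial (Fin k) (MvPolynomial (Fin n) R))))
    (Rb : Dual.D (MvPolynomial (Fin k) (MvPolynomial (Fin n) R)) ⥤ Dual.D C)
    (adjb : DRing.restrictD θb ⊣ Rb) (K : Dual.D R) :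
    Nonempty ((Rb.obj (Lb.obj K))⟦(n : ℤ)⟧ ≅ Rθ.obj (L.obj K)) := by
  let Z := MvPolynomial (Fin k) R
  let Zx := MvPolynomial (Fin n) Z
  let θa : Zx →+* C := MvPolynomial.eval₂Hom θ (fun i => θT (MvPolynomial.X i))
  have hC : θa.comp (MvPolynomial.C : Z →+* Zx) = θ :=
    RingHom.ext fun p => MvPolynomial.eval₂Hom_C _ _ p
  have hX : ∀ i, ∃ g : Z, θa (MvPolynomial.X i) = θ g := fun i => by
    obtain ⟨g, hg⟩ := hθs (θT (MvPolynomial.X i))
    exact ⟨g, (MvPolynomial.eval₂Hom_X' _ _ i).trans hg.symm⟩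
  have adjLa : L ⋙ LB Z Zx ⊣ DRing.restrictD (algebraMap R Zx) :=
    (adjL.comp (Groth.Agent.H9.ExtBC.dAdj Z Zx)).ofNatIsoRight
      (restrictDComp' (algebraMap R Z) (algebraMap Z Zx) (algebraMap R Zx)
        (IsScalarTower.algebraMap_eq R Z Zx)).symm
  obtain ⟨Ra, ⟨adja⟩⟩ := exists_rightAdjoint θa
  obtain ⟨i1⟩ := nonempty_iso_mvPolynomial n Z θ θa hC hX _ adjL Rθ adjθ _ adjLa Ra adja K
  let e : Zx ≃ₐ[R] MvPolynomial (Fin k) (MvPolynomial (Fin n) R) :=
    MvPolynomial.commAlgEquiv R (Fin n) (Fin k)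
  have he : e.toRingEquiv.toRingHom.comp (algebraMap R Zx) =
      algebraMap R (MvPolynomial (Fin k) (MvPolynomial (Fin n) R)) :=
    RingHom.ext fun r => e.commutes r
  have hθ : θb.comp e.toRingEquiv.toRingHom = θa := by
    refine MvPolynomial.ringHom_ext (fun p => ?_) (fun i => ?_)
    · change θb (e (MvPolynomial.C p)) = θa (MvPolynomial.C p)
      rw [MvPolynomial.eval₂Hom_C]
      have h1 : e (MvPolynomial.C p) = MvPolynomial.map MvPolynomial.C p :=
        MvPolynomial.commAlgEquiv_C p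
      rw [h1]
      have h2 : (θb.comp (MvPolynomial.map
          (MvPolynomial.C : R →+* MvPolynomial (Fin n) R))) = θ := by
        refine MvPolynomial.ringHom_ext (fun r => ?_) (fun j => ?_)
        · change θb (MvPolynomial.map MvPolynomial.C (MvPolynomial.C r)) = θ (MvPolynomial.C r)
          rw [MvPolynomial.map_C]
          have e1 : θb (MvPolynomial.C (MvPolynomial.C r)) = θT (MvPolynomial.C r) :=
            congrArg (fun φ => φ (MvPolynomial.C r)) hbC
          have e2 : θ (MvPolynomial.C r) = θT (MvPolynomial.C r) :=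
            congrArg (fun φ => φ r) hcompat
          rw [e1, e2]
        · change θb (MvPolynomial.map MvPolynomial.C (MvPolynomial.X j)) = θ (MvPolynomial.X j)
          rw [MvPolynomial.map_X, hbX]
      exact congrArg (fun φ => φ p) h2
    · change θb (e (MvPolynomial.X i)) = θa (MvPolynomial.X i)
      have h1 : e (MvPolynomial.X i) = MvPolynomial.C (MvPolynomial.X i) :=
        MvPolynomial.commAlgEquiv_X i
      rw [h1, MvPolynomial.eval₂Hom_X']
      exact congrArg (fun φ => φ (MvPolynomial.X i)) hbC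
  obtain ⟨i3⟩ := nonempty_iso_of_ringEquiv e.toRingEquiv he θa θb hθ _ adjLa Ra adja Lb adjLb
    Rb adjb K
  exact ⟨(shiftFunctor (Dual.D C) (n : ℤ)).mapIso i3.symm ≪≫ i1⟩

end Swap

end Groth.Agent.H26.CoextBC
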