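import Mathlib
import Groth.Prelude.Def_DDual2
import Groth.Prelude.Def_DualSh
import Groth.Agent.H26.CoextBC4
import Groth.Agent.H26.CoextBC6

/-!
# The algebraic upper shriek of a composition (helper26)
-/

set_option autoImplicit false
set_option linter.unusedSectionVars false
set_option linter.style.haveILetI false
set_option linter.overlappingInstances false

universe u

open CategoryTheory Limits Pretriangulated DerivedCategory TensorProduct

namespace Groth.Agent.H26.CoextBC

open Groth.Agent.H26.FlatBCHom Groth.Agent.H26.FlatBCDual Groth.Agent.H2.DualCx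
  Groth.Agent.H28.ShriekTools Groth.Agent.H28.ShriekIndep

attribute [local instance] HasDerivedCategory.standard
attribute [local instance] MvPolynomial.algebraMvPolynomial

section Comp

variable (A B C : Type u) [CommRing A] [CommRing B] [CommRing C] [IsNoetherianRing A]
  [Algebra A B] [Algebra B C] [Algebra A C] [IsScalarTower A B C]

set_option maxHeartbeats 1600000 in
/-- **The algebraic upper shriek of a composition** (bounded below objects) -/
theorem nonempty_shriekVia_comp (n : ℕ) (ψ : MvPolynomial (Fin n) A →ₐ[A] B)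
    (hψ : Function.Surjective ψ) [DRing.HasLBaseChange (algebraMap A (MvPolynomial (Fin n) A))]
    (Rψ : Dual.D (MvPolynomial (Fin n) A) ⥤ Dual.D B) (adj : DRing.restrictD ψ.toRingHom ⊣ Rψ)
    (m : ℕ) (χ : MvPolynomial (Fin m) B →ₐ[B] C) (hχ : Function.Surjective χ)
    [DRing.HasLBaseChange (algebraMap B (MvPolynomial (Fin m) B))]
    (Rχ : Dual.D (MvPolynomial (Fin m) B) ⥤ Dual.D C) (adjχ : DRing.restrictD χ.toRingHom ⊣ Rχ)
    (k : ℕ) (θ : MvPolynomial (Fin k) A →ₐ[A] C) (hθ : Function.Surjective θ)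
    [DRing.HasLBaseChange (algebraMap A (MvPolynomial (Fin k) A))]
    (Rθ : Dual.D (MvPolynomial (Fin k) A) ⥤ Dual.D C) (adjθ : DRing.restrictD θ.toRingHom ⊣ Rθ)
    (K : Dual.D A) (c : ℤ) (hK : ∀ i : ℤ, i < c → Subsingleton (Dual.HD A K i)) :
    Nonempty (Dual2.shriekVia k Rθ K ≅ Dual2.shriekVia m Rχ (Dual2.shriekVia n Rψ K)) := by
  letI algPB : Algebra (MvPolynomial (Fin n) A) B := ψ.toRingHom.toAlgebra
  haveI t1 : IsScalarTower A (MvPolynomial (Fin n) A) B :=
    IsScalarTower.of_algebraMap_eq (fun r => (ψ.commutes r).symm)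
  haveI fin : Module.Finite (MvPolynomial (Fin n) A) B :=
    Module.Finite.of_surjective (Algebra.linearMap (MvPolynomial (Fin n) A) B) hψ
  haveI hKc : K.IsGE c := isGE_of_vanishing K c hK
  haveI hMc : ((LB A (MvPolynomial (Fin n) A)).obj K).IsGE c := isGE_LB K c hKc
  have e0 := RRBaseChangeIso (S := MvPolynomial (Fin n) A)
    (S' := MvPolynomial (Fin m) (MvPolynomial (Fin n) A)) (B := B)
    (B' := MvPolynomial (Fin m) B) ((LB A (MvPolynomial (Fin n) A)).obj K) c
  -- the presentation datum `Q = A[x][y] → C`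
  let θ₂ : MvPolynomial (Fin m) (MvPolynomial (Fin n) A) →+* C :=
    χ.toRingHom.comp (algebraMap (MvPolynomial (Fin m) (MvPolynomial (Fin n) A))
      (MvPolynomial (Fin m) B))
  have adj₂ : DRing.restrictD θ₂ ⊣
      RR (MvPolynomial (Fin m) (MvPolynomial (Fin n) A)) (MvPolynomial (Fin m) B) ⋙ Rχ :=
    (adjχ.comp (adjRR (MvPolynomial (Fin m) (MvPolynomial (Fin n) A))
      (MvPolynomial (Fin m) B))).ofNatIsoLeft
      (restrictDComp' (algebraMap (MvPolynomial (Fin m) (MvPolynomial (Fin n) A))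
        (MvPolynomial (Fin m) B)) χ.toRingHom θ₂ rfl).symm
  -- the right hand side
  have eR : Rψ ≅ RR (MvPolynomial (Fin n) A) B :=
    adj.rightAdjointUniq (adjRR (MvPolynomial (Fin n) A) B)
  letI := adjχ.rightAdjointCommShift ℤ
  have eRHS : Dual2.shriekVia m Rχ (Dual2.shriekVia n Rψ K) ≅
      (((RR (MvPolynomial (Fin m) (MvPolynomial (Fin n) A)) (MvPolynomial (Fin m) B) ⋙ Rχ).obj
        ((LB A (MvPolynomial (Fin m) (MvPolynomial (Fin n) A))).obj K))⟦(n : ℤ)⟧)⟦(m : ℤ)⟧ :=
    (shiftFunctor (Dual.D C) (m : ℤ)).mapIso (Rχ.mapIso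
      ((lbcIso (A := B) (B := MvPolynomial (Fin m) B)).app _ ≪≫
        ((LB B (MvPolynomial (Fin m) B)).commShiftIso (n : ℤ)).app _ ≪≫
        (shiftFunctor (Dual.D (MvPolynomial (Fin m) B)) (n : ℤ)).mapIso
          ((LB B (MvPolynomial (Fin m) B)).mapIso (eR.app _ ≪≫
            (RR (MvPolynomial (Fin n) A) B).mapIso
              ((lbcIso (A := A) (B := MvPolynomial (Fin n) A)).app K)) ≪≫ e0 ≪≫
            (RR (MvPolynomial (Fin m) (MvPolynomial (Fin n) A)) (MvPolynomial (Fin m) B)).mapIso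
              (LBcomp (MvPolynomial (Fin n) A) (MvPolynomial (Fin m) (MvPolynomial (Fin n) A))
                K))) ≪≫
      (Rχ.commShiftIso (n : ℤ)).app _)
  -- the comparison of presentations
  let θT : MvPolynomial (Fin n) A →+* C := θ₂.comp MvPolynomial.C
  have hθT : ∀ p : MvPolynomial (Fin n) A, θT p = algebraMap B C (ψ p) := fun p => by
    change χ (MvPolynomial.map (algebraMap (MvPolynomial (Fin n) A) B) (MvPolynomial.C p)) = _
    rw [MvPolynomial.map_C]
    exact χ.commutes _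
  have hxs : Function.Surjective θ₂ := by
    refine hχ.comp ?_
    exact MvPolynomial.map_surjective _ hψ
  let θb : MvPolynomial (Fin k) (MvPolynomial (Fin n) A) →+* C :=
    MvPolynomial.eval₂Hom θT (fun j => θ (MvPolynomial.X j))
  have hy : θb.comp (MvPolynomial.C :
      MvPolynomial (Fin n) A →+* MvPolynomial (Fin k) (MvPolynomial (Fin n) A)) = θT :=
    RingHom.ext fun p => MvPolynomial.eval₂Hom_C _ _ p
  have hbX : ∀ j, θb (MvPolynomial.X j) = θ.toRingHom (MvPolynomial.X j) :=
    fun j => MvPolynomial.eval₂Hom_X' _ _ j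
  have hcompat : θ.toRingHom.comp (MvPolynomial.C : A →+* MvPolynomial (Fin k) A) =
      θT.comp (MvPolynomial.C : A →+* MvPolynomial (Fin n) A) := by
    refine RingHom.ext fun r => ?_
    change θ (MvPolynomial.C r) = θT (MvPolynomial.C r)
    rw [hθT]
    have e1 : θ (MvPolynomial.C r) = algebraMap A C r := θ.commutes r
    have e2 : ψ (MvPolynomial.C r) = algebraMap A B r := ψ.commutes r
    rw [e1, e2, ← IsScalarTower.algebraMap_apply]
  have hθb : θb.comp (MvPolynomial.map (MvPolynomial.C : A →+* MvPolynomial (Fin n) A)) =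
      θ.toRingHom := by
    refine MvPolynomial.ringHom_ext (fun r => ?_) (fun j => ?_)
    · change θb (MvPolynomial.map MvPolynomial.C (MvPolynomial.C r)) = θ (MvPolynomial.C r)
      rw [MvPolynomial.map_C, MvPolynomial.eval₂Hom_C]
      exact (congrArg (fun φ => φ r) hcompat).symm
    · change θb (MvPolynomial.map MvPolynomial.C (MvPolynomial.X j)) = θ (MvPolynomial.X j)
      rw [MvPolynomial.map_X]
      exact hbX j
  have hys : Function.Surjective θb := fun y => by
    obtain ⟨p, hp⟩ := hθ y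
    exact ⟨MvPolynomial.map MvPolynomial.C p, (congrArg (fun φ => φ p) hθb).trans hp⟩
  obtain ⟨Rb, ⟨adjb⟩⟩ := exists_rightAdjoint θb
  obtain ⟨iG⟩ := nonempty_iso_two_extensions (R := A) θT m θ₂ rfl hxs k θb hy hys
    (LB A (MvPolynomial (Fin m) (MvPolynomial (Fin n) A)))
    (Groth.Agent.H9.ExtBC.dAdj A (MvPolynomial (Fin m) (MvPolynomial (Fin n) A)))
    _ adj₂
    (LB A (MvPolynomial (Fin k) (MvPolynomial (Fin n) A)))
    (Groth.Agent.H9.ExtBC.dAdj A (MvPolynomial (Fin k) (MvPolynomial (Fin n) A)))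
    Rb adjb K
  obtain ⟨iH⟩ := nonempty_iso_swap n k θT θ.toRingHom hθ hcompat θb hy hbX
    (DRing.LBaseChange (algebraMap A (MvPolynomial (Fin k) A)))
    (Groth.Agent.H28.ShriekMain.lbcAdj (A := A) (B := MvPolynomial (Fin k) A)) Rθ adjθ
    (LB A (MvPolynomial (Fin k) (MvPolynomial (Fin n) A)))
    (Groth.Agent.H9.ExtBC.dAdj A (MvPolynomial (Fin k) (MvPolynomial (Fin n) A)))
    Rb adjb K
  exact ⟨(shiftFunctor (Dual.D C) (k : ℤ)).mapIso iH.symm ≪≫ shiftComm _ (n : ℤ) (k : ℤ) ≪≫
    (shiftFunctor (Dual.D C) (n : ℤ)).mapIso iG.symm ≪≫ shiftComm _ (m : ℤ) (n : ℤ) ≪≫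
    eRHS.symm⟩

end Comp

end Groth.Agent.H26.CoextBC
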