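import Mathlib.RingTheory.Ideal.KrullsHeightTheorem
import Mathlib.RingTheory.Ideal.MinimalPrime.Noetherian
import Mathlib.RingTheory.LocalRing.Quotient

set_option autoImplicit false
universe u

open IsLocalRing

namespace Groth.Agent.H26

/-- In a Noetherian domain in which every nonzero prime contains a fixed nonzero element,
every prime has height at most one. -/
lemma height_le_one_of_forall_mem {D : Type u} [CommRing D] [IsDomain D] [IsNoetherianRing D]
    (a : D) (ha : a ≠ 0) (hall : ∀ Q : Ideal D, Q.IsPrime → Q ≠ ⊥ → a ∈ Q)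
    (Q : Ideal D) [hQp : Q.IsPrime] : Q.height ≤ 1 := by
  by_cases hQ : Q = ⊥
  · rw [hQ, Ideal.height_bot]; exact zero_le_one
  have haQ : a ∈ Q := hall Q hQp hQ
  have hspanQ : Ideal.span {a} ≤ Q := by
    rwa [Ideal.span_le, Set.singleton_subset_iff]
  suffices hmem : Q ∈ (Ideal.span {a}).minimalPrimes from
    Ideal.height_le_one_of_isPrincipal_of_mem_minimalPrimes (Ideal.span {a}) Q hmem
  by_contra hnot
  have hF : (Ideal.span {a}).minimalPrimes.Finite :=
    Ideal.finite_minimalPrimes_of_isNoetherianRing D (Ideal.span {a})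
  have hav : ¬ ((Q : Set D) ⊆ ⋃ K ∈ hF.toFinset, (K : Set D)) := by
    refine (Ideal.subset_union_prime ⊥ ⊥ ?_).not.mpr ?_
    · rintro K hK - -
      rw [Set.Finite.mem_toFinset] at hK
      exact hK.isPrime
    · push Not
      intro K hK e
      rw [Set.Finite.mem_toFinset] at hK
      have hKQ : K ≤ Q := hK.2 ⟨hQp, hspanQ⟩ e
      have : Q = K := le_antisymm e hKQ
      exact hnot (this ▸ hK)
  simp_rw [Set.not_subset, Set.mem_iUnion, not_exists, Set.Finite.mem_toFinset] at hav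
  obtain ⟨x, hxQ, hxK⟩ := hav
  -- x ≠ 0
  obtain ⟨Q0, hQ0, -⟩ := Ideal.exists_minimalPrimes_le hspanQ
  have hx0 : x ≠ 0 := by
    rintro rfl
    exact hxK Q0 hQ0 (zero_mem (Q0 : Ideal D))
  have hspanx : Ideal.span {x} ≤ Q := by
    rwa [Ideal.span_le, Set.singleton_subset_iff]
  obtain ⟨Q', hQ', hQ'Q⟩ := Ideal.exists_minimalPrimes_le hspanx
  have hQ'p : Q'.IsPrime := hQ'.isPrime
  have hxQ' : x ∈ Q' := hQ'.1.2 (Ideal.mem_span_singleton_self x)
  have hQ'0 : Q' ≠ ⊥ := by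
    rintro rfl
    exact hx0 (by simpa using hxQ')
  have haQ' : a ∈ Q' := hall Q' hQ'p hQ'0
  have hspanQ' : Ideal.span {a} ≤ Q' := by
    rwa [Ideal.span_le, Set.singleton_subset_iff]
  obtain ⟨Qi, hQi, hQiQ'⟩ := Ideal.exists_minimalPrimes_le hspanQ'
  have hQip : Qi.IsPrime := hQi.isPrime
  have haQi : a ∈ Qi := hQi.1.2 (Ideal.mem_span_singleton_self a)
  have hh' : Q'.height ≤ 1 :=
    Ideal.height_le_one_of_isPrincipal_of_mem_minimalPrimes (Ideal.span {x}) Q' hQ'
  rcases eq_or_lt_of_le hQiQ' with heq | hlt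
  · exact hxK Qi hQi (heq ▸ hxQ')
  · have h1 : (⊥ : Ideal D) < Qi := by
      rw [bot_lt_iff_ne_bot]
      rintro rfl
      exact ha (by simpa using haQi)
    have h2 := Ideal.height_add_one_le_of_lt_of_isPrime h1
    have h3 := Ideal.height_add_one_le_of_lt_of_isPrime hlt
    rw [Ideal.height_bot, zero_add] at h2
    have h4 : (1 : ℕ∞) + 1 ≤ 1 := (add_le_add_left h2 1).trans (h3.trans hh')
    exact absurd h4 (by decide)

/-- Noetherian local ring, `I ≠ ⊤` in no minimal prime: some prime `p ⊉ I` has `dim A/p = 1`. -/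
theorem exists_prime_coheight_one_not_containing (A : Type u) [CommRing A] [IsLocalRing A]
    [IsNoetherianRing A] (I : Ideal A) (hI : I ≠ ⊤) (hdense : ∀ q ∈ minimalPrimes A, ¬ I ≤ q) :
    ∃ p : PrimeSpectrum A, ¬ I ≤ p.asIdeal ∧ ringKrullDim (A ⧸ p.asIdeal) = 1 := by
  let S : Set (Ideal A) := {p | p.IsPrime ∧ ¬ I ≤ p}
  have hSne : S.Nonempty := by
    obtain ⟨⟨q, hq⟩⟩ := Ideal.nonempty_minimalPrimes (I := (⊥ : Ideal A)) bot_ne_top
    exact ⟨q, hq.isPrime, hdense q hq⟩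
  obtain ⟨p, ⟨hpp, hIp⟩, hmax⟩ := (wellFounded_gt (α := Ideal A)).has_min S hSne
  refine ⟨⟨p, hpp⟩, hIp, ?_⟩
  show ringKrullDim (A ⧸ p) = 1
  have : IsDomain (A ⧸ p) := Ideal.Quotient.isDomain p
  have : IsLocalRing (A ⧸ p) :=
    IsLocalRing.of_surjective' (Ideal.Quotient.mk p) Ideal.Quotient.mk_surjective
  obtain ⟨a, haI, hap⟩ := Set.not_subset.mp hIp
  have ha0 : Ideal.Quotient.mk p a ≠ 0 := by
    rwa [Ne, Ideal.Quotient.eq_zero_iff_mem]
  have hall : ∀ Q : Ideal (A ⧸ p), Q.IsPrime → Q ≠ ⊥ → Ideal.Quotient.mk p a ∈ Q := by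
    intro Q hQp hQ0
    have hq : (Q.comap (Ideal.Quotient.mk p)).IsPrime := Ideal.comap_isPrime _ Q
    have hle : p ≤ Q.comap (Ideal.Quotient.mk p) := by
      intro x hx
      rw [Ideal.mem_comap, Ideal.Quotient.eq_zero_iff_mem.mpr hx]
      exact zero_mem Q
    have hne : p ≠ Q.comap (Ideal.Quotient.mk p) := by
      intro h
      apply hQ0
      rw [← Ideal.map_comap_of_surjective (Ideal.Quotient.mk p) Ideal.Quotient.mk_surjective Q,
        ← h, Ideal.map_quotient_self]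
    have hlt : p < Q.comap (Ideal.Quotient.mk p) := lt_of_le_of_ne hle hne
    have hIq : I ≤ Q.comap (Ideal.Quotient.mk p) := by
      by_contra hcon
      exact hmax _ ⟨hq, hcon⟩ hlt
    exact hIq haI
  have hle1 : (maximalIdeal (A ⧸ p)).height ≤ 1 :=
    height_le_one_of_forall_mem _ ha0 hall (maximalIdeal (A ⧸ p))
  have hm0 : maximalIdeal (A ⧸ p) ≠ ⊥ := by
    intro h0
    have hmaxI : ((maximalIdeal (A ⧸ p)).comap (Ideal.Quotient.mk p)).IsMaximal :=
      Ideal.comap_isMaximal_of_surjective _ Ideal.Quotient.mk_surjective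
    rw [h0, ← RingHom.ker_eq_comap_bot, Ideal.mk_ker] at hmaxI
    have : p = maximalIdeal A := IsLocalRing.eq_maximalIdeal hmaxI
    exact hIp (this ▸ IsLocalRing.le_maximalIdeal hI)
  have hge1 : 1 ≤ (maximalIdeal (A ⧸ p)).height := by
    have h2 := Ideal.height_add_one_le_of_lt_of_isPrime (bot_lt_iff_ne_bot.mpr hm0)
    rwa [Ideal.height_bot, zero_add] at h2
  rw [← IsLocalRing.maximalIdeal_height_eq_ringKrullDim, le_antisymm hle1 hge1]
  rfl

end Groth.Agent.H26
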