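import Mathlib
import Groth.Agent.H26.ComplTorsion
import Groth.Agent.H20.ComplBij

/-!
# The completion of `B` and of the local rings of `B ⊗_A Â` over the closed point
-/

set_option autoImplicit false
set_option linter.style.haveILetI false
set_option linter.unusedSectionVars false
universe u

open IsLocalRing TensorProduct

namespace Groth.Agent.H26.ComplTensorLoc

variable (A B : Type u) [CommRing A] [CommRing B] [IsNoetherianRing A] [IsLocalRing A]
  [IsLocalRing B] [Algebra A B] [IsLocalHom (algebraMap A B)]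

local notation "Â" => AdicCompletion (maximalIdeal A) A
local notation "B'" => B ⊗[A] AdicCompletion (maximalIdeal A) A

theorem map_pow_le (k : ℕ) :
    ((maximalIdeal A) ^ k).map (algebraMap A B) ≤ (maximalIdeal B) ^ k := by
  rw [Ideal.map_pow]
  exact Ideal.pow_right_mono (IsLocalRing.map_maximalIdeal_le (algebraMap A B)) k

theorem tmul_mem (k : ℕ) (b : B) (w : Â)
    (hw : w ∈ ((maximalIdeal A) ^ k • ⊤ : Submodule A Â)) :
    b ⊗ₜ[A] w ∈ ((maximalIdeal B) ^ k).map (algebraMap B B') := by
  refine Submodule.smul_induction_on hw ?_ ?_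
  · intro r hr w' _
    have h1 : b ⊗ₜ[A] (r • w') = algebraMap B B' (algebraMap A B r * b) * ((1 : B) ⊗ₜ[A] w') := by
      rw [Algebra.TensorProduct.algebraMap_apply, Algebra.TensorProduct.tmul_mul_tmul, mul_one,
        one_mul, ← TensorProduct.smul_tmul, Algebra.smul_def, Algebra.algebraMap_self,
        RingHom.id_apply]
    rw [h1]
    refine Ideal.mul_mem_right _ _ (Ideal.mem_map_of_mem _ ?_)
    exact Ideal.mul_mem_right _ _ (map_pow_le A B k (Ideal.mem_map_of_mem _ hr))
  · intro x y hx hy
    rw [TensorProduct.tmul_add]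
    exact Ideal.add_mem _ hx hy

/-- `B' = B + 𝔪_B^k B'`. -/
theorem exists_sub_mem (k : ℕ) (x : B') :
    ∃ b : B, x - algebraMap B B' b ∈ ((maximalIdeal B) ^ k).map (algebraMap B B') := by
  induction x using TensorProduct.induction_on with
  | zero => exact ⟨0, by simp⟩
  | tmul b z =>
    obtain ⟨a, ha⟩ := Groth.Agent.H26.exists_sub_mem_pow_smul_top (maximalIdeal A)
      ((isNoetherianRing_iff_ideal_fg A).mp inferInstance _) k z
    refine ⟨a • b, ?_⟩
    have h1 : b ⊗ₜ[A] z - algebraMap B B' (a • b) = b ⊗ₜ[A] (z - AdicCompletion.of _ A a) := by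
      have hof : AdicCompletion.of (maximalIdeal A) A a = a • (1 : Â) := by
        rw [← Algebra.algebraMap_eq_smul_one, AdicCompletion.algebraMap_apply,
          Algebra.algebraMap_self, RingHom.id_apply]
      rw [Algebra.TensorProduct.algebraMap_apply, Algebra.algebraMap_self, RingHom.id_apply,
        TensorProduct.smul_tmul, TensorProduct.tmul_sub, hof]
    rw [h1]
    exact tmul_mem A B k b _ ha
  | add x y hx hy =>
    obtain ⟨b1, h1⟩ := hx
    obtain ⟨b2, h2⟩ := hy
    refine ⟨b1 + b2, ?_⟩
    have : x + y - algebraMap B B' (b1 + b2) =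
        (x - algebraMap B B' b1) + (y - algebraMap B B' b2) := by rw [map_add]; ring
    rw [this]
    exact Ideal.add_mem _ h1 h2

instance : Module.FaithfullyFlat A Â := Module.FaithfullyFlat.of_flat_of_isLocalHom

/-- `𝔪_B^k B' ∩ B = 𝔪_B^k`. -/
theorem mem_of_algebraMap_mem (J : Ideal B) (b : B)
    (h : algebraMap B B' b ∈ J.map (algebraMap B B')) : b ∈ J := by
  have h1 := Ideal.comap_map_eq_self_of_faithfullyFlat (A := B) (B := B') J
  rw [← h1]
  exact h

variable (n' : Ideal (B ⊗[A] AdicCompletion (maximalIdeal A) A)) [hn' : n'.IsPrime]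
  (h1 : n'.comap (algebraMap B (B ⊗[A] AdicCompletion (maximalIdeal A) A)) = maximalIdeal B)

include h1 in
theorem map_le (k : ℕ) (hk : 1 ≤ k) : ((maximalIdeal B) ^ k).map (algebraMap B B') ≤ n' := by
  refine (Ideal.map_mono (Ideal.pow_le_self (Nat.one_le_iff_ne_zero.mp hk))).trans ?_
  rw [Ideal.map_le_iff_le_comap, h1]

include h1 in
/-- Elements outside `n'` are congruent to units of `B`. -/
theorem exists_isUnit_sub_mem (k : ℕ) (hk : 1 ≤ k) (s : B') (hs : s ∉ n') :
    ∃ u : B, IsUnit u ∧ s - algebraMap B B' u ∈ ((maximalIdeal B) ^ k).map (algebraMap B B') := by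
  obtain ⟨b, hb⟩ := exists_sub_mem A B k s
  refine ⟨b, ?_, hb⟩
  by_contra hu
  have hbm : b ∈ maximalIdeal B := (IsLocalRing.mem_maximalIdeal b).mpr hu
  have h2 : algebraMap B B' b ∈ n' := by
    have : b ∈ n'.comap (algebraMap B B') := by rw [h1]; exact hbm
    exact this
  have h3 : s - algebraMap B B' b ∈ n' := map_le A B n' h1 k hk hb
  apply hs
  have : s = (s - algebraMap B B' b) + algebraMap B B' b := by ring
  rw [this]
  exact Ideal.add_mem _ h3 h2

include h1 in
theorem eq_map : n' = (maximalIdeal B).map (algebraMap B B') := by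
  refine le_antisymm ?_ ?_
  · intro x hx
    obtain ⟨b, hb⟩ := exists_sub_mem A B 1 x
    rw [pow_one] at hb
    have hle : (maximalIdeal B).map (algebraMap B B') ≤ n' := by
      rw [Ideal.map_le_iff_le_comap, h1]
    have h2 : algebraMap B B' b ∈ n' := by
      have : algebraMap B B' b = x - (x - algebraMap B B' b) := by ring
      rw [this]
      exact Ideal.sub_mem _ hx (hle hb)
    have h3 : b ∈ maximalIdeal B := by rw [← h1]; exact h2
    have : x = (x - algebraMap B B' b) + algebraMap B B' b := by ring
    rw [this]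
    exact Ideal.add_mem _ hb (Ideal.mem_map_of_mem _ h3)
  · rw [Ideal.map_le_iff_le_comap, h1]

variable (C : Type u) [CommRing C] [Algebra (B ⊗[A] AdicCompletion (maximalIdeal A) A) C]
  [IsLocalization.AtPrime C n'] [IsLocalRing C]

/-- The ring map `B → (B')_{n'}`. -/
noncomputable def toLoc : B →+* C :=
  (algebraMap B' C).comp (algebraMap B B')

include h1 in
theorem maximalIdeal_eq_map :
    maximalIdeal C = (maximalIdeal B).map (toLoc A B C) := by
  rw [toLoc, ← Ideal.map_map, ← eq_map A B n' h1,
    IsLocalization.AtPrime.map_eq_maximalIdeal n' C]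

include h1 in
theorem maximalIdeal_pow_eq_map (k : ℕ) :
    (maximalIdeal C) ^ k =
      (((maximalIdeal B) ^ k).map (algebraMap B B')).map (algebraMap B' C) := by
  rw [maximalIdeal_eq_map A B n' h1 C, ← Ideal.map_pow, toLoc, Ideal.map_map]

include h1 in
theorem map_toLoc_le : (maximalIdeal B).map (toLoc A B C) ≤ maximalIdeal C :=
  (maximalIdeal_eq_map A B n' h1 C).ge

include h1 in
theorem quotientMap_bijective (k : ℕ) :
    Function.Bijective (Ideal.quotientMap ((maximalIdeal C) ^ k) (toLoc A B C)
      (FSch.pow_le_comap_pow_of_map_le (maximalIdeal B) (maximalIdeal C)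
        (toLoc A B C) (map_toLoc_le A B n' h1 C) k)) := by
  rcases Nat.eq_zero_or_pos k with hk0 | hk
  · subst hk0
    have hsub1 : Subsingleton (B ⧸ (maximalIdeal B) ^ 0) := by
      rw [pow_zero]
      exact Ideal.Quotient.subsingleton_iff.mpr Ideal.one_eq_top
    have hsub2 : Subsingleton (C ⧸ (maximalIdeal C) ^ 0) := by
      rw [pow_zero]
      exact Ideal.Quotient.subsingleton_iff.mpr Ideal.one_eq_top
    exact ⟨fun x y _ => Subsingleton.elim x y, fun y => ⟨0, Subsingleton.elim _ _⟩⟩
  constructor
  · rw [injective_iff_map_eq_zero]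
    intro x hx
    obtain ⟨b, rfl⟩ := Ideal.Quotient.mk_surjective x
    rw [Ideal.quotientMap_mk, Ideal.Quotient.eq_zero_iff_mem, maximalIdeal_pow_eq_map A B n' h1 C k,
      IsLocalization.mem_map_algebraMap_iff n'.primeCompl] at hx
    obtain ⟨⟨a, s⟩, has⟩ := hx
    simp only [toLoc, RingHom.comp_apply] at has
    rw [← map_mul, IsLocalization.eq_iff_exists n'.primeCompl] at has
    obtain ⟨t, ht⟩ := has
    -- `alg b * (s t) ∈ 𝔪^k B'`
    have hmem : algebraMap B B' b * ((s : B') * (t : B')) ∈
        ((maximalIdeal B) ^ k).map (algebraMap B B') := by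
      have : algebraMap B B' b * ((s : B') * (t : B')) = (t : B') * (a : B') := by
        rw [← ht]; ring
      rw [this]
      exact Ideal.mul_mem_left _ _ a.2
    have hst : (s : B') * (t : B') ∉ n' := by
      intro hmem'
      rcases hn'.mem_or_mem hmem' with h | h
      · exact s.2 h
      · exact t.2 h
    obtain ⟨u, hu, hsu⟩ := exists_isUnit_sub_mem A B n' h1 k hk _ hst
    have h2 : algebraMap B B' (b * u) ∈ ((maximalIdeal B) ^ k).map (algebraMap B B') := by
      have : algebraMap B B' (b * u) = algebraMap B B' b * ((s : B') * (t : B')) -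
          algebraMap B B' b * ((s : B') * (t : B') - algebraMap B B' u) := by
        rw [map_mul]; ring
      rw [this]
      exact Ideal.sub_mem _ hmem (Ideal.mul_mem_left _ _ hsu)
    have h3 : b * u ∈ (maximalIdeal B) ^ k := mem_of_algebraMap_mem A B _ _ h2
    rw [Ideal.Quotient.eq_zero_iff_mem]
    obtain ⟨v, hv⟩ := hu.exists_right_inv
    have : b = b * u * v := by rw [mul_assoc, hv, mul_one]
    rw [this]
    exact Ideal.mul_mem_right _ _ h3
  · intro y
    obtain ⟨c, rfl⟩ := Ideal.Quotient.mk_surjective y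
    obtain ⟨x, s, rfl⟩ := IsLocalization.exists_mk'_eq n'.primeCompl c
    obtain ⟨u, hu, hsu⟩ := exists_isUnit_sub_mem A B n' h1 k hk (s : B') s.2
    obtain ⟨b, hb⟩ := exists_sub_mem A B k x
    obtain ⟨v, hv⟩ := hu.exists_right_inv
    refine ⟨Ideal.Quotient.mk _ (b * v), ?_⟩
    rw [Ideal.quotientMap_mk, Ideal.Quotient.eq, maximalIdeal_pow_eq_map A B n' h1 C k]
    -- multiply by the unit `alg s`
    have hunit : IsUnit (algebraMap B' C (s : B')) := IsLocalization.map_units _ s
    have hmem : x - algebraMap B B' (b * v) * (s : B') ∈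
        ((maximalIdeal B) ^ k).map (algebraMap B B') := by
      have huv : algebraMap B B' u * algebraMap B B' v = 1 := by rw [← map_mul, hv, map_one]
      have : x - algebraMap B B' (b * v) * (s : B') = (x - algebraMap B B' b) -
          algebraMap B B' (b * v) * ((s : B') - algebraMap B B' u) := by
        rw [map_mul]
        linear_combination (-(algebraMap B B' b)) * huv
      rw [this]
      exact Ideal.sub_mem _ hb (Ideal.mul_mem_left _ _ hsu)
    have h2 : (IsLocalization.mk' C x s - toLoc A B C (b * v)) * algebraMap B' C (s : B') ∈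
        (((maximalIdeal B) ^ k).map (algebraMap B B')).map (algebraMap B' C) := by
      have : (IsLocalization.mk' C x s - toLoc A B C (b * v)) * algebraMap B' C (s : B') =
          algebraMap B' C (x - algebraMap B B' (b * v) * (s : B')) := by
        rw [sub_mul, IsLocalization.mk'_spec, toLoc, RingHom.comp_apply, map_sub,
          map_mul (algebraMap B' C)]
      rw [this]
      exact Ideal.mem_map_of_mem _ hmem
    obtain ⟨w, hw⟩ := hunit.exists_right_inv
    have : IsLocalization.mk' C x s - toLoc A B C (b * v) =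
        (IsLocalization.mk' C x s - toLoc A B C (b * v)) * algebraMap B' C (s : B') * w := by
      rw [mul_assoc, hw, mul_one]
    rw [← Ideal.neg_mem_iff, neg_sub, this]
    exact Ideal.mul_mem_right _ _ h2

include h1 in
/-- The completion of `B` is the completion of `(B ⊗_A Â)_{n'}`. -/
theorem complMap_bijective :
    Function.Bijective (FSch.complMap (maximalIdeal B) (maximalIdeal C) (toLoc A B C)
      (map_toLoc_le A B n' h1 C)) :=
  Groth.Agent.H20.complMap_bijective (maximalIdeal B) (maximalIdeal C) (toLoc A B C)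
    (map_toLoc_le A B n' h1 C) (quotientMap_bijective A B n' h1 C)

include h1 in
theorem nonempty_ringEquiv :
    Nonempty (AdicCompletion (maximalIdeal B) B ≃+* AdicCompletion (maximalIdeal C) C) :=
  ⟨RingEquiv.ofBijective _ (complMap_bijective A B n' h1 C)⟩

end Groth.Agent.H26.ComplTensorLoc
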