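import Mathlib
import Groth.Prelude.Def_Coh
import Groth.Prelude.Def_CAlg
import Groth.Agent.H18.HH0Sections
import Groth.Agent.H22.DimOneFib
import Groth.Agent.H72.FlatCM
import Groth.Agent.H14.D34
import Groth.Agent.H24.LiftChains

/-!
# Proper one-dimensional schemes with `H^0(X, O_X) = k` (helper26)

Global functions form a field, hence: connectedness, Cohen–Macaulay local rings, equidimensionality.
-/

set_option autoImplicit false
set_option linter.style.haveILetI false
universe u
open CategoryTheory CategoryTheory.Limits AlgebraicGeometry TopologicalSpace Opposite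

namespace Groth.Agent.H26.CurveH0

section Field

variable (k : Type u) [Field k] (X : Scheme.{u}) [X.Over (Spec (CommRingCat.of k))]

/-- If `H^0(X, O_X)` is one-dimensional over `k`, every global function is zero or a unit. -/
theorem eq_zero_or_isUnit_of_finrank
    (h0 : Module.finrank k (Coh.HH X (Coh.structureModule X) 0) = 1) (g : Γ(X, ⊤)) :
    g = 0 ∨ IsUnit g := by
  let e : Coh.HH X (Coh.structureModule X) 0 ≃+ Γ(X, ⊤) :=
    Groth.Agent.H18.HH0.equiv (Coh.structureModule X)
  obtain ⟨v, hv, hspan⟩ := finrank_eq_one_iff'.mp h0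
  let φ : k →+* Γ(X, ⊤) := Coh.toGlobal (X ↘ Spec (CommRingCat.of k))
  have hsm : ∀ (c : k) (w : Coh.HH X (Coh.structureModule X) 0),
      e (c • w) = φ c * e w := by
    intro c w
    rw [Groth.Agent.H18.HH0.smul_def']
    exact Groth.Agent.H18.HH0.equiv_smul (Coh.structureModule X) _ w
  obtain ⟨c1, hc1⟩ := hspan (e.symm (1 : Γ(X, ⊤)))
  obtain ⟨c, hc⟩ := hspan (e.symm g)
  have h1 : φ c1 * e v = 1 := by
    rw [← hsm, hc1]
    exact e.apply_symm_apply _
  have hg : φ c * e v = g := by
    rw [← hsm, hc]
    exact e.apply_symm_apply _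
  by_cases hc0 : c = 0
  · left
    rw [← hg, hc0, map_zero, zero_mul]
  · right
    rw [← hg]
    refine IsUnit.mul ((IsUnit.mk0 c hc0).map φ) ?_
    exact IsUnit.of_mul_eq_one_right _ h1

end Field

section Glue

variable (X : Scheme.{u})

/-- Gluing two sections of the structure sheaf agreeing on the intersection. -/
theorem exists_glue (U V : X.Opens) (s : Γ(X, U)) (t : Γ(X, V))
    (h : X.presheaf.map (homOfLE (inf_le_left : U ⊓ V ≤ U)).op s =
      X.presheaf.map (homOfLE (inf_le_right : U ⊓ V ≤ V)).op t) :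
    ∃ g : Γ(X, U ⊔ V), X.presheaf.map (homOfLE (le_sup_left : U ≤ U ⊔ V)).op g = s ∧
      X.presheaf.map (homOfLE (le_sup_right : V ≤ U ⊔ V)).op g = t := by
  refine ⟨(X.sheaf.objSupIsoProdEqLocus U V).inv ⟨⟨s, t⟩, h⟩, ?_, ?_⟩
  · exact X.sheaf.objSupIsoProdEqLocus_inv_fst U V _
  · exact X.sheaf.objSupIsoProdEqLocus_inv_snd U V _

/-- Gluing to a global section when the two opens cover. -/
theorem exists_glue_top (U V : X.Opens) (hUV : U ⊔ V = ⊤) (s : Γ(X, U)) (t : Γ(X, V))
    (h : X.presheaf.map (homOfLE (inf_le_left : U ⊓ V ≤ U)).op s =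
      X.presheaf.map (homOfLE (inf_le_right : U ⊓ V ≤ V)).op t) :
    ∃ g : Γ(X, ⊤), X.presheaf.map (homOfLE (le_top : U ≤ ⊤)).op g = s ∧
      X.presheaf.map (homOfLE (le_top : V ≤ ⊤)).op g = t := by
  obtain ⟨g', hg1, hg2⟩ := exists_glue X U V s t h
  have hle : (⊤ : X.Opens) ≤ U ⊔ V := le_of_eq hUV.symm
  refine ⟨X.presheaf.map (homOfLE hle).op g', ?_, ?_⟩
  · rw [← hg1, ← CommRingCat.comp_apply, ← Functor.map_comp]
    rfl
  · rw [← hg2, ← CommRingCat.comp_apply, ← Functor.map_comp]
    rfl

end Glue

section Connected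

variable (X : Scheme.{u})

/-- If every global function is zero or a unit, a nonempty scheme is connected. -/
theorem connectedSpace_of_field [Nonempty X] (hF : ∀ g : Γ(X, ⊤), g = 0 ∨ IsUnit g) :
    ConnectedSpace X := by
  haveI : PreconnectedSpace X := by
    rw [preconnectedSpace_iff_clopen]
    intro S hS
    by_contra hcon
    push Not at hcon
    obtain ⟨hne, hnu⟩ := hcon
    let U : X.Opens := ⟨S, hS.isOpen⟩
    let V : X.Opens := ⟨Sᶜ, hS.compl.isOpen⟩
    have hinf : U ⊓ V = ⊥ := by
      ext x
      simp [U, V]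
    have hsup : U ⊔ V = ⊤ := by
      ext x
      simp [U, V]
    haveI : Subsingleton Γ(X, U ⊓ V) := by
      rw [hinf]
      infer_instance
    obtain ⟨g, hg1, hg2⟩ := exists_glue_top X U V hsup 1 0 (Subsingleton.elim _ _)
    haveI : Nonempty U := by
      obtain ⟨x, hx⟩ := hne
      exact ⟨⟨x, hx⟩⟩
    haveI : Nonempty V := by
      have : (Sᶜ).Nonempty := Set.nonempty_compl.mpr hnu
      obtain ⟨x, hx⟩ := this
      exact ⟨⟨x, hx⟩⟩
    rcases hF g with h0 | hu
    · rw [h0, map_zero] at hg1
      exact zero_ne_one hg1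
    · have := hu.map (X.presheaf.map (homOfLE (le_top : V ≤ ⊤)).op).hom
      rw [show (X.presheaf.map (homOfLE (le_top : V ≤ ⊤)).op).hom g = 0 from hg2] at this
      exact not_isUnit_zero this
  exact ConnectedSpace.mk ‹_›

end Connected

section Algebra

/-- In a Noetherian local ring whose maximal ideal consists of zero divisors, the maximal ideal is
an associated prime. -/
theorem maximalIdeal_mem_associatedPrimes (S : Type u) [CommRing S] [IsNoetherianRing S]
    [IsLocalRing S] (h : ∀ r ∈ IsLocalRing.maximalIdeal S, ¬ IsSMulRegular S r) :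
    IsLocalRing.maximalIdeal S ∈ associatedPrimes S S := by
  have hfin : (associatedPrimes S S).Finite := associatedPrimes.finite _ _
  rcases associatedPrimes.nonempty S S with ⟨Ia, hIa⟩
  have hexist : ∃ q ∈ associatedPrimes S S, IsLocalRing.maximalIdeal S ≤ q := by
    apply (Ideal.subset_union_prime_finite hfin Ia Ia _).mp
    · rw [biUnion_associatedPrimes_eq_compl_regular]
      exact fun r hr ↦ h r hr
    · exact fun I hin _ _ ↦ IsAssociatedPrime.isPrime hin
  obtain ⟨q, hq, hle⟩ := hexist
  have hqprime : q.IsPrime := IsAssociatedPrime.isPrime hq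
  have : IsLocalRing.maximalIdeal S = q :=
    (IsLocalRing.maximalIdeal.isMaximal _).eq_of_le hqprime.ne_top hle
  exact this ▸ hq

/-- Descending an embedded maximal ideal to the ring being localized. -/
theorem exists_ann_eq (R S : Type u) [CommRing R] [IsNoetherianRing R] [CommRing S] [Algebra R S]
    (p : Ideal R) [p.IsPrime] [IsLocalization.AtPrime S p] [IsLocalRing S]
    (h : IsLocalRing.maximalIdeal S ∈ associatedPrimes S S) :
    ∃ a : R, ∀ r : R, r ∈ p ↔ r * a = 0 := by
  have hcomap : (IsLocalRing.maximalIdeal S).comap (algebraMap R S) = p :=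
    IsLocalization.AtPrime.under_maximalIdeal S p
  have h1 := Module.associatedPrimes.comap_mem_associatedPrimes_of_mem_associatedPrimes_of_isLocalizedModule_of_fg
    p.primeCompl (Algebra.linearMap R S) (IsLocalRing.maximalIdeal S) h
    (by rw [hcomap]; exact (isNoetherianRing_iff_ideal_fg R).mp inferInstance p)
  rw [hcomap] at h1
  obtain ⟨-, a, ha⟩ := (isAssociatedPrime_iff (R := R) (M := R)).mp h1
  refine ⟨a, fun r => ?_⟩
  rw [ha, Submodule.mem_colon_singleton]
  simp

end Algebra

section CM

variable (X : Scheme.{u}) [IsLocallyNoetherian X]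

/-- If every global function is zero or a unit, the local ring at a closed point of positive
dimension contains a nonzerodivisor in its maximal ideal. -/
theorem exists_regular_of_field (hF : ∀ g : Γ(X, ⊤), g = 0 ∨ IsUnit g) (x : X)
    (hx : IsClosed ({x} : Set X)) (hdim : ringKrullDim (X.presheaf.stalk x) ≠ 0) :
    ∃ r ∈ IsLocalRing.maximalIdeal (X.presheaf.stalk x),
      IsSMulRegular (X.presheaf.stalk x) r := by
  by_contra hcon
  push Not at hcon
  have hass := maximalIdeal_mem_associatedPrimes (X.presheaf.stalk x) hcon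
  obtain ⟨_, ⟨U, hU : IsAffineOpen U, rfl⟩, hxU, -⟩ :=
    X.isBasis_affineOpens.exists_subset_of_mem_open (Set.mem_univ x) isOpen_univ
  haveI : IsNoetherianRing Γ(X, U) := IsLocallyNoetherian.component_noetherian ⟨U, hU⟩
  letI : Algebra Γ(X, U) (X.presheaf.stalk x) :=
    TopCat.Presheaf.algebra_section_stalk X.presheaf ⟨x, hxU⟩
  haveI hloc : IsLocalization.AtPrime (X.presheaf.stalk x) (hU.primeIdealOf ⟨x, hxU⟩).asIdeal :=
    hU.isLocalization_stalk ⟨x, hxU⟩
  set p : Ideal Γ(X, U) := (hU.primeIdealOf ⟨x, hxU⟩).asIdeal with hp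
  obtain ⟨a, ha⟩ := exists_ann_eq Γ(X, U) (X.presheaf.stalk x) p hass
  have hcomap : (IsLocalRing.maximalIdeal (X.presheaf.stalk x)).comap
      (algebraMap Γ(X, U) (X.presheaf.stalk x)) = p :=
    IsLocalization.AtPrime.under_maximalIdeal (X.presheaf.stalk x) p
  have hmem : ∀ r : Γ(X, U), x ∉ X.basicOpen r → r ∈ p := by
    intro r hr
    rw [← hcomap, Ideal.mem_comap, IsLocalRing.mem_maximalIdeal, mem_nonunits_iff]
    intro hunit
    exact hr ((X.mem_basicOpen r x hxU).mpr hunit)
  let V : X.Opens := ⟨({x} : Set X)ᶜ, hx.isOpen_compl⟩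
  have hxV : x ∉ V := fun h => h rfl
  have hzero : X.presheaf.map (homOfLE (inf_le_left : U ⊓ V ≤ U)).op a = 0 := by
    apply TopCat.Presheaf.section_ext X.sheaf (U ⊓ V)
    intro y hy
    change X.presheaf.germ (U ⊓ V) y hy
      (X.presheaf.map (homOfLE (inf_le_left : U ⊓ V ≤ U)).op a) =
      X.presheaf.germ (U ⊓ V) y hy 0
    rw [map_zero]
    have hyU : y ∈ U := hy.1
    have hyV : y ∈ V := hy.2
    obtain ⟨r, hrV, hyr⟩ := hU.exists_basicOpen_le (V := V) ⟨y, hyV⟩ hyU
    have hrp : r ∈ p := hmem r (fun h => hxV (hrV h))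
    have hra : r * a = 0 := (ha r).mp hrp
    have hunit : IsUnit (X.presheaf.germ U y hyU r) := (X.mem_basicOpen r y hyU).mp hyr
    have h1 : X.presheaf.germ U y hyU r * X.presheaf.germ U y hyU a = 0 := by
      rw [← map_mul, hra, map_zero]
    have h2 : X.presheaf.germ U y hyU a = 0 := by
      have := hunit.mul_right_eq_zero.mp h1
      exact this
    have h3 : X.presheaf.germ (U ⊓ V) y hy
        (X.presheaf.map (homOfLE (inf_le_left : U ⊓ V ≤ U)).op a) =
        X.presheaf.germ U y hyU a :=
      TopCat.Presheaf.germ_res_apply X.presheaf (homOfLE (inf_le_left : U ⊓ V ≤ U)) y hy a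
    exact h3.trans h2
  have hsup : U ⊔ V = ⊤ := by
    ext y
    simp only [Opens.coe_sup, Set.mem_union, SetLike.mem_coe, Opens.coe_top, Set.mem_univ,
      iff_true]
    by_cases hyx : y = x
    · left
      rw [hyx]
      exact hxU
    · right
      exact hyx
  obtain ⟨g, hg1, hg2⟩ := exists_glue_top X U V hsup a 0 (by rw [hzero, map_zero])
  rcases hF g with h0 | hu
  · rw [h0, map_zero] at hg1
    have : (1 : Γ(X, U)) ∈ p := by
      rw [ha, ← hg1, mul_zero]
    exact (hU.primeIdealOf ⟨x, hxU⟩).isPrime.ne_top ((Ideal.eq_top_iff_one _).mpr this)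
  · have hua : IsUnit a := by
      rw [← hg1]
      exact hu.map (X.presheaf.map (homOfLE (le_top : U ≤ ⊤)).op).hom
    have hpbot : p = ⊥ := by
      rw [eq_bot_iff]
      intro r hr
      have := (ha r).mp hr
      rw [Ideal.mem_bot]
      exact hua.mul_left_eq_zero.mp this
    apply hdim
    haveI : Nontrivial Γ(X, U) := ⟨⟨0, 1, fun h01 =>
      (hU.primeIdealOf ⟨x, hxU⟩).isPrime.ne_top ((Ideal.eq_top_iff_one _).mpr
        (h01 ▸ Ideal.zero_mem _))⟩⟩
    rw [IsLocalization.AtPrime.ringKrullDim_eq_height p (X.presheaf.stalk x), hpbot,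
      Ideal.height_bot]
    rfl

end CM

section Main

variable (X : Scheme.{u}) [IsLocallyNoetherian X] [CompactSpace X]

/-- Cohen–Macaulayness of all local rings of a Noetherian scheme of dimension at most one whose
global functions form a field. -/
theorem isCM_stalk (hdim : topologicalKrullDim X ≤ 1) (hF : ∀ g : Γ(X, ⊤), g = 0 ∨ IsUnit g)
    (x : X) : LocCoh.IsCohenMacaulayLocalRing (X.presheaf.stalk x) := by
  haveI : IsNoetherian X := {}
  by_cases h0 : ringKrullDim (X.presheaf.stalk x) = 0
  · exact Groth.Agent.H72.FlatCM.isCohenMacaulayLocalRing_of_ringKrullDim_eq_zero _ h0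
  -- `x` is a closed point
  have hco : Order.coheight x ≠ 0 := by
    intro h
    apply h0
    rw [ringKrullDim_stalk_eq_coheight, h]
    rfl
  have hnmax : ¬ IsMax x := fun h => hco (Order.coheight_eq_zero.mpr h)
  obtain ⟨η, hη⟩ := not_isMax_iff.mp hnmax
  have hηx : η ⤳ x := Scheme.le_iff_specializes.mp hη.le
  have hne : η ≠ x := fun h => by
    rw [h] at hη
    exact lt_irrefl _ hη
  have hclosed : IsClosed ({x} : Set X) := by
    rw [← closure_eq_iff_isClosed]
    refine Set.Subset.antisymm ?_ subset_closure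
    intro x' hx'
    rcases Groth.Agent.H22.DimOneFib.eq_or_eq_of_specializes hdim
      (specializes_iff_mem_closure.mp hηx) hx' with h | h
    · exact absurd h hne
    · exact h.symm
  obtain ⟨r, hr, hreg⟩ := exists_regular_of_field X hF x hclosed h0
  have h1 : (1 : ℕ∞) ≤ LocCoh.depth (X.presheaf.stalk x) (X.presheaf.stalk x) :=
    Groth.Agent.H14.D34.one_le_idealDepth_of_regular _ _ r hr hreg
  have h2 := Groth.Agent.H72.FlatCM.depth_le_ringKrullDim (X.presheaf.stalk x)
  have h3 : ringKrullDim (X.presheaf.stalk x) ≤ 1 := by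
    rw [ringKrullDim_stalk_eq_coheight]
    have h4 : (Order.coheight x : WithBot ℕ∞) ≤ Order.krullDim X := Order.coheight_le_krullDim x
    refine h4.trans ?_
    rw [← Groth.Agent.H24.topologicalKrullDim_eq_krullDim_specializationOrder]
    exact hdim
  rw [Groth.Agent.H72.FlatCM.isCohenMacaulayLocalRing_iff]
  apply le_antisymm
  · refine h3.trans ?_
    exact_mod_cast h1
  · exact h2

/-- In a connected Noetherian scheme of dimension one, every irreducible component has dimension
one. -/
theorem dim_component [ConnectedSpace X] (hdim : topologicalKrullDim X = 1) (Z : Set X)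
    (hZ : Z ∈ irreducibleComponents X) : topologicalKrullDim Z = 1 := by
  haveI : IsNoetherian X := {}
  have hZcl : IsClosed Z := isClosed_of_mem_irreducibleComponents Z hZ
  obtain ⟨η, hη⟩ := QuasiSober.sober hZ.1 hZcl
  have hdef : closure {η} = Z := hη.def
  by_cases hcl : IsClosed ({η} : Set X)
  · exfalso
    have hZη : Z = {η} := by rw [← hdef, hcl.closure_eq]
    -- `{η}` is open
    let 𝒞 : Set (Set X) := irreducibleComponents X \ {Z}
    have h𝒞fin : 𝒞.Finite :=
      (TopologicalSpace.NoetherianSpace.finite_irreducibleComponents (α := X)).subset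
        Set.sdiff_subset
    have hTcl : IsClosed (⋃₀ 𝒞) := by
      rw [Set.sUnion_eq_biUnion]
      exact h𝒞fin.isClosed_biUnion (fun W hW => isClosed_of_mem_irreducibleComponents W hW.1)
    have hcompl : (⋃₀ 𝒞)ᶜ = {η} := by
      ext y
      simp only [Set.mem_compl_iff, Set.mem_sUnion, not_exists, not_and, Set.mem_singleton_iff]
      constructor
      · intro hy
        have h1 : irreducibleComponent y ∈ irreducibleComponents X :=
          irreducibleComponent_mem_irreducibleComponents y
        have h2 : irreducibleComponent y = Z := by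
          by_contra hne
          exact hy (irreducibleComponent y) ⟨h1, hne⟩ mem_irreducibleComponent
        have : y ∈ Z := h2 ▸ mem_irreducibleComponent
        rw [hZη] at this
        exact this
      · rintro rfl W ⟨hW, hWZ⟩ hyW
        apply hWZ
        have hWcl : IsClosed W := isClosed_of_mem_irreducibleComponents W hW
        have hsub : Z ⊆ W := by
          rw [← hdef]
          exact closure_minimal (Set.singleton_subset_iff.mpr hyW) hWcl
        exact Set.Subset.antisymm (hZ.2 hW.1 hsub) hsub
    have hopen : IsOpen ({η} : Set X) := hcompl ▸ hTcl.isOpen_compl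
    have huniv : ({η} : Set X) = Set.univ :=
      IsClopen.eq_univ ⟨hcl, hopen⟩ (Set.singleton_nonempty η)
    haveI : Subsingleton X := by
      constructor
      intro a b
      have ha : a ∈ ({η} : Set X) := huniv ▸ Set.mem_univ a
      have hb : b ∈ ({η} : Set X) := huniv ▸ Set.mem_univ b
      rw [Set.mem_singleton_iff] at ha hb
      rw [ha, hb]
    haveI : DiscreteTopology X := Subsingleton.discreteTopology
    have h0 := topologicalKrullDim_zero_of_discreteTopology X
    rw [hdim] at h0
    exact absurd h0 (by decide)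
  · have := Groth.Agent.H22.DimOneFib.topologicalKrullDim_closure_eq_one hdim.le hcl
    rw [hdef] at this
    exact this

end Main

end Groth.Agent.H26.CurveH0
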