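import Groth.Agent.H40.Comod
import Mathlib.RingTheory.Bialgebra.MonoidAlgebra
import Mathlib.LinearAlgebra.DirectSum.Finsupp
import Mathlib.LinearAlgebra.Projection

/-! Weight decomposition of comodules over a monoid algebra `k[M]` and complements of
subcomodules. -/

set_option autoImplicit false
universe u v w

open TensorProduct HopfRep Groth.Agent.H40

namespace Groth.Agent.H26.DiagComod

variable {k : Type u} [CommRing k] {M : Type v}

/-- coefficient functional -/
noncomputable def ev (m : M) : MonoidAlgebra k M →ₗ[k] k :=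
  Finsupp.lapply m ∘ₗ (MonoidAlgebra.coeffLinearEquiv k).toLinearMap

lemma ev_apply (m : M) (a : MonoidAlgebra k M) : ev m a = a.coeff m := rfl

lemma ev_single [DecidableEq M] (m m' : M) (c : k) :
    ev m (MonoidAlgebra.single m' c) = if m' = m then c else 0 := by
  rw [ev_apply, MonoidAlgebra.coeff_single, Finsupp.single_apply]

lemma conv_ev_left (m : M) (ψ : MonoidAlgebra k M →ₗ[k] k) :
    conv k (MonoidAlgebra k M) (ev m) ψ = ψ (MonoidAlgebra.single m 1) • ev m := by
  classical
  apply MonoidAlgebra.lhom_ext'
  intro x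
  apply LinearMap.ext_ring
  simp only [LinearMap.comp_apply, MonoidAlgebra.lsingle_apply, conv, LinearMap.smul_apply,
    MonoidAlgebra.comul_single, CommSemiring.comul_apply, TensorProduct.map_tmul,
    LinearMap.mul'_apply, ev_single, smul_eq_mul]
  split_ifs with h
  · subst h; ring
  · ring

variable {V : Type w} [AddCommGroup V] [Module k V] [Comod k (MonoidAlgebra k M) V]

/-- weight projection -/
noncomputable def wproj (k : Type u) [CommRing k] {M : Type v} {V : Type w} [AddCommGroup V]
    [Module k V] [Comod k (MonoidAlgebra k M) V] (m : M) : V →ₗ[k] V :=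
  slice V (ev m) ∘ₗ rho k (MonoidAlgebra k M) V

lemma wproj_apply (m : M) (v : V) :
    wproj k m v = slice V (ev (k := k) m) (rho k (MonoidAlgebra k M) V v) := rfl

lemma wproj_slice (m : M) (ψ : MonoidAlgebra k M →ₗ[k] k) (v : V) :
    wproj k m (slice V ψ (rho k (MonoidAlgebra k M) V v)) =
      ψ (MonoidAlgebra.single m 1) • wproj k m v := by
  rw [wproj_apply, slice_rho_slice_rho, conv_ev_left, wproj_apply]
  simp [slice]

lemma wproj_wproj [DecidableEq M] (m m' : M) (v : V) :
    wproj k m (wproj k m' v) = if m = m' then wproj k m v else 0 := by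
  rw [wproj_apply (k := k) (m := m'), wproj_slice, ev_single]
  split_ifs <;> simp

lemma wproj_mem (W : Submodule k V) (hW : IsSubcomod (k := k) (A := MonoidAlgebra k M) W)
    (m : M) {w : V} (hw : w ∈ W) : wproj k m w ∈ W :=
  (isSubcomod_iff_slice W).mp hW w hw _

open Classical in
/-- the comparison with finitely supported functions -/
noncomputable def theta : V ⊗[k] MonoidAlgebra k M →ₗ[k] (M →₀ V) :=
  (TensorProduct.finsuppScalarRight k k V M).toLinearMap ∘ₗ
    (MonoidAlgebra.coeffLinearEquiv k).toLinearMap.lTensor V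

lemma theta_apply (t : V ⊗[k] MonoidAlgebra k M) (m : M) :
    theta t m = slice V (ev (k := k) m) t := by
  induction t using TensorProduct.induction_on with
  | zero => simp
  | tmul v a => simp [theta, ev_apply]
  | add x y hx hy => simp only [map_add, Finsupp.add_apply, hx, hy]

lemma slice_counit_eq (t : V ⊗[k] MonoidAlgebra k M) :
    slice V (Coalgebra.counit (R := k) (A := MonoidAlgebra k M)) t =
      (theta t).sum fun _ u => u := by
  have h : slice V (Coalgebra.counit (R := k) (A := MonoidAlgebra k M)) =
      (Finsupp.lsum ℕ fun _ : M => (LinearMap.id : V →ₗ[k] V)) ∘ₗ theta := by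
    apply TensorProduct.ext
    apply LinearMap.ext
    intro v
    apply MonoidAlgebra.lhom_ext'
    intro x
    apply LinearMap.ext_ring
    simp [theta, TensorProduct.finsuppScalarRight_apply_tmul]
  rw [h, LinearMap.comp_apply, Finsupp.lsum_apply]
  rfl

lemma exists_eq_sum_wproj (v : V) :
    ∃ S : Finset M, v = ∑ m ∈ S, wproj k m v := by
  refine ⟨(theta (rho k (MonoidAlgebra k M) V v)).support, ?_⟩
  conv_lhs => rw [← slice_counit_rho (k := k) (C := MonoidAlgebra k M) v, slice_counit_eq]
  rw [Finsupp.sum]
  apply Finset.sum_congr rfl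
  intro m _
  rw [theta_apply, wproj_apply]

theorem exists_isCompl_subcomod (W : Submodule k V)
    (hW : IsSubcomod (k := k) (A := MonoidAlgebra k M) W) (W' : Submodule k V)
    (h : IsCompl W W') :
    ∃ W'' : Submodule k V, IsSubcomod (k := k) (A := MonoidAlgebra k M) W'' ∧ IsCompl W W'' := by
  classical
  let p : V →ₗ[k] V := W.subtype ∘ₗ W.projectionOnto W' h
  have hpW : ∀ v, p v ∈ W := fun v => (W.projectionOnto W' h v).2
  have hpw : ∀ w ∈ W, p w = w := by
    intro w hw
    simp only [p, LinearMap.comp_apply, Submodule.subtype_apply]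
    rw [Submodule.projectionOnto_apply_of_mem_left h hw]
  let W'' : Submodule k V := ⨅ m : M, LinearMap.ker (wproj k m ∘ₗ p ∘ₗ wproj k m)
  have hmem : ∀ v, v ∈ W'' ↔ ∀ m : M, wproj k m (p (wproj k m v)) = 0 := by
    intro v
    simp [W'', Submodule.mem_iInf]
  refine ⟨W'', ?_, ?_⟩
  · rw [isSubcomod_iff_slice]
    intro v hv ψ
    rw [hmem] at hv ⊢
    intro m
    rw [wproj_slice, map_smul, map_smul, hv m, smul_zero]
  · constructor
    · rw [disjoint_iff, eq_bot_iff]
      rintro v ⟨hvW, hvW''⟩
      rw [SetLike.mem_coe, hmem] at hvW''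
      obtain ⟨S, hS⟩ := exists_eq_sum_wproj (k := k) (M := M) v
      rw [Submodule.mem_bot, hS]
      apply Finset.sum_eq_zero
      intro m _
      have := hvW'' m
      rwa [hpw _ (wproj_mem W hW m hvW), wproj_wproj, if_pos rfl] at this
    · rw [codisjoint_iff, eq_top_iff]
      intro v _
      obtain ⟨S, hS⟩ := exists_eq_sum_wproj (k := k) (M := M) v
      rw [hS]
      apply Submodule.sum_mem
      intro m _
      have hsplit : wproj k m v =
          wproj k m (p (wproj k m v)) + (wproj k m v - wproj k m (p (wproj k m v))) :=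
        (add_sub_cancel _ _).symm
      rw [hsplit]
      apply Submodule.add_mem
      · exact Submodule.mem_sup_left (wproj_mem W hW m (hpW _))
      · apply Submodule.mem_sup_right
        rw [hmem]
        intro m'
        rw [map_sub, wproj_wproj, wproj_wproj]
        split_ifs with hmm
        · subst hmm
          rw [map_sub, map_sub, hpw _ (wproj_mem W hW m' (hpW _)), wproj_wproj, if_pos rfl,
            sub_self]
        · simp

end Groth.Agent.H26.DiagComod
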