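import Groth.Agent.H26.UEE3
import Mathlib.CategoryTheory.EquivalenceRelation
import Mathlib.CategoryTheory.Limits.FunctorCategory.Basic
import Mathlib.CategoryTheory.Limits.FunctorCategory.EpiMono
import Mathlib.CategoryTheory.Limits.Types.Coequalizers
import Mathlib.CategoryTheory.Limits.Types.Pullbacks
import Mathlib.CategoryTheory.Functor.RegularEpi
import Mathlib.CategoryTheory.Limits.Shapes.RegularMono

set_option autoImplicit false
open CategoryTheory CategoryTheory.Limits Opposite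
universe w v₁ u₁

namespace Groth.Agent.H26

section General

variable {C : Type u₁} [Category.{v₁} C]

/-- An equivalence relation which is the kernel pair of a universal effective epi is
universally effective. -/
lemma isUEER_of_isKernelPair {R X B : C} {p₁ p₂ : R ⟶ X}
    (e : EquivalenceRelation p₁ p₂) (π : X ⟶ B) (hk : IsKernelPair π p₁ p₂) (hπ : UEE π) :
    IsUniversallyEffectiveEquivalenceRelation p₁ p₂ := by
  have := hπ.effectiveEpi
  have hab : ∀ {T : C} (a b : X ⟶ T), p₁ ≫ a = p₂ ≫ b → a = b := by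
    intro T a b h
    have := congrArg (e.r ≫ ·) h
    simpa using this
  have hdesc : ∀ {T : C} (a : X ⟶ T), p₁ ≫ a = p₂ ≫ a →
      ∀ {Z : C} (g₁ g₂ : Z ⟶ X), g₁ ≫ π = g₂ ≫ π → g₁ ≫ a = g₂ ≫ a := by
    intro T a ha Z g₁ g₂ hg
    have h1 : hk.lift g₁ g₂ hg ≫ p₁ = g₁ := hk.lift_fst _ _ _
    have h2 : hk.lift g₁ g₂ hg ≫ p₂ = g₂ := hk.lift_snd _ _ _
    calc g₁ ≫ a = (hk.lift g₁ g₂ hg ≫ p₁) ≫ a := by rw [h1]
      _ = (hk.lift g₁ g₂ hg ≫ p₂) ≫ a := by rw [Category.assoc, ha, ← Category.assoc]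
      _ = g₂ ≫ a := by rw [h2]
  have hpo : IsPushout p₁ p₂ π π := by
    refine ⟨⟨hk.w⟩, ⟨PushoutCocone.IsColimit.mk hk.w
      (fun s => EffectiveEpi.desc π s.inl
        (hdesc s.inl (by rw [s.condition, hab _ _ s.condition]))) ?_ ?_ ?_⟩⟩
    · intro s
      exact EffectiveEpi.fac _ _ _
    · intro s
      rw [EffectiveEpi.fac]
      exact hab _ _ s.condition
    · intro s m h₁ _
      exact EffectiveEpi.uniq _ _ _ _ h₁
  exact ⟨⟨{
    toEffectiveEquivalenceRelation :=
      { toEquivalenceRelation := e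
        B := B
        π := π
        isKernelPair := hk
        isPushout := hpo }
    universally_effectiveEpi_π := hπ }⟩⟩

end General

section Types

variable {R X B : Type w} (p₁ p₂ : R ⟶ X)

lemma types_rel_of_coeq_eq (hrel : Equivalence (TypeCat.Rel.ofPair p₁ p₂)) (π : X ⟶ B)
    (w : p₁ ≫ π = p₂ ≫ π) (hπ : IsColimit (Cofork.ofπ π w)) (x y : X) (h : π x = π y) :
    TypeCat.Rel.ofPair p₁ p₂ x y := by
  let c := Types.coequalizerColimit p₁ p₂
  let i := hπ.coconePointUniqueUpToIso c.isColimit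
  have hi : π ≫ i.hom = ↾(Function.Coequalizer.mk p₁ p₂) :=
    hπ.comp_coconePointUniqueUpToIso_hom c.isColimit WalkingParallelPair.one
  have h2 : Function.Coequalizer.mk p₁ p₂ x = Function.Coequalizer.mk p₁ p₂ y := by
    have hx := ConcreteCategory.congr_hom hi x
    have hy := ConcreteCategory.congr_hom hi y
    simp only [ConcreteCategory.comp_apply] at hx hy
    rw [h] at hx
    exact (hx.symm.trans hy)
  have h3 := Quot.eqvGen_exact h2
  have h4 : ∀ a b, Function.Coequalizer.Rel p₁ p₂ a b → TypeCat.Rel.ofPair p₁ p₂ a b := by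
    rintro _ _ ⟨r⟩
    exact ⟨r, rfl, rfl⟩
  exact hrel.eqvGen_iff.1 (Relation.EqvGen.mono h4 _ _ h3)

end Types

end Groth.Agent.H26
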