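import Groth.Agent.H26.EqRel
import Mathlib.CategoryTheory.Limits.Preserves.Shapes.Equalizers
import Mathlib.CategoryTheory.Limits.Preserves.Shapes.Pullbacks

set_option autoImplicit false
open CategoryTheory CategoryTheory.Limits Opposite
universe w v₁ u₁

namespace Groth.Agent.H26

section FunctorCat

variable {K : Type u₁} [Category.{v₁} K] {R X : K ⥤ Type w} (p₁ p₂ : R ⟶ X)

/-- The functor of pairs of elements of `R` with the same images under `p₁` and `p₂`. -/
def jointKer : K ⥤ Type w where
  obj k := {q : R.obj k × R.obj k // p₁.app k q.1 = p₁.app k q.2 ∧ p₂.app k q.1 = p₂.app k q.2}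
  map {k k'} f := ↾(fun q => ⟨(R.map f q.1.1, R.map f q.1.2), by
    rw [NatTrans.naturality_apply, NatTrans.naturality_apply, q.2.1], by
    rw [NatTrans.naturality_apply, NatTrans.naturality_apply, q.2.2]⟩)
  map_id k := by
    ext q <;> simp
  map_comp f g := by
    ext q <;> simp

/-- first projection -/
def jointKerFst : jointKer p₁ p₂ ⟶ R where
  app k := ↾(fun q => q.1.1)
  naturality k k' f := by
    ext q
    rfl

/-- second projection -/
def jointKerSnd : jointKer p₁ p₂ ⟶ R where
  app k := ↾(fun q => q.1.2)
  naturality k k' f := by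
    ext q
    rfl

variable {p₁ p₂}

lemma jointlyInjective_app [JointlyMono₂ p₁ p₂] (k : K) (r r' : R.obj k)
    (h₁ : p₁.app k r = p₁.app k r') (h₂ : p₂.app k r = p₂.app k r') : r = r' := by
  have h : jointKerFst p₁ p₂ = jointKerSnd p₁ p₂ := by
    apply JointlyMono₂.right_cancellation (p₁ := p₁) (p₂ := p₂)
    · ext k q
      exact q.2.1
    · ext k q
      exact q.2.2
  have := ConcreteCategory.congr_hom (congrArg (fun t => t.app k) h) ⟨(r, r'), h₁, h₂⟩
  exact this

lemma jointlyMono₂_app [JointlyMono₂ p₁ p₂] (k : K) : JointlyMono₂ (p₁.app k) (p₂.app k) where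
  right_cancellation Y f g h₁ h₂ := by
    ext y
    exact jointlyInjective_app k _ _ (ConcreteCategory.congr_hom h₁ y)
      (ConcreteCategory.congr_hom h₂ y)

/-- An equivalence relation in a functor category to types is one pointwise. -/
noncomputable def equivalenceRelationApp (e : EquivalenceRelation p₁ p₂) (k : K) :
    EquivalenceRelation (p₁.app k) (p₂.app k) :=
  have : JointlyMono₂ p₁ p₂ := e.toJointlyMono₂
  have : JointlyMono₂ (((evaluation K (Type w)).obj k).map p₁)
      (((evaluation K (Type w)).obj k).map p₂) := jointlyMono₂_app k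
  { toReflexiveRelation := e.toReflexiveRelation.map ((evaluation K (Type w)).obj k)
    s := (e.toSymmetricRelation.map ((evaluation K (Type w)).obj k)).s
    symmetry₁ := (e.toSymmetricRelation.map ((evaluation K (Type w)).obj k)).symmetry₁
    symmetry₂ := (e.toSymmetricRelation.map ((evaluation K (Type w)).obj k)).symmetry₂
    c := (e.toTransitiveRelation.map ((evaluation K (Type w)).obj k)).c
    isLimit := (e.toTransitiveRelation.map ((evaluation K (Type w)).obj k)).isLimit
    t := (e.toTransitiveRelation.map ((evaluation K (Type w)).obj k)).t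
    transitivity₁ := (e.toTransitiveRelation.map ((evaluation K (Type w)).obj k)).transitivity₁
    transitivity₂ := (e.toTransitiveRelation.map ((evaluation K (Type w)).obj k)).transitivity₂ }


/-- A square of functors to types which is pointwise a pullback is a pullback. -/
lemma isPullback_of_app {P A B D : K ⥤ Type w} {fst : P ⟶ A} {snd : P ⟶ B} {f : A ⟶ D}
    {g : B ⟶ D} (h : ∀ k, IsPullback (fst.app k) (snd.app k) (f.app k) (g.app k)) :
    IsPullback fst snd f g := by
  have w : fst ≫ f = snd ≫ g := by
    ext k x
    exact ConcreteCategory.congr_hom (h k).w x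
  refine ⟨⟨w⟩, ⟨evaluationJointlyReflectsLimits _ (fun k => ?_)⟩⟩
  exact (isLimitMapConePullbackConeEquiv ((evaluation K (Type w)).obj k) w).symm (h k).isLimit

lemma isKernelPair_of_isColimit (e : EquivalenceRelation p₁ p₂) {B : K ⥤ Type w} (π : X ⟶ B)
    (w : p₁ ≫ π = p₂ ≫ π) (hπ : IsColimit (Cofork.ofπ π w)) : IsKernelPair π p₁ p₂ := by
  have : JointlyMono₂ p₁ p₂ := e.toJointlyMono₂
  apply isPullback_of_app
  intro k
  rw [Types.isPullback_iff]
  refine ⟨congrArg (fun t => t.app k) w, ?_, ?_⟩
  · rintro r r' ⟨h₁, h₂⟩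
    exact jointlyInjective_app k r r' h₁ h₂
  · intro x y hxy
    have hk : IsColimit (Cofork.ofπ (((evaluation K (Type w)).obj k).map π) _) :=
      isColimitCoforkMapOfIsColimit ((evaluation K (Type w)).obj k) w hπ
    exact types_rel_of_coeq_eq (p₁.app k) (p₂.app k)
      (TypeCat.equivalence_of_equivalenceRelation (equivalenceRelationApp e k)) (π.app k) _ hk x y hxy

/-- Epimorphisms of functors to types are universal effective epimorphisms. -/
lemma functor_UEE_of_epi {A B : K ⥤ Type w} (f : A ⟶ B) [Epi f] : UEE f := by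
  intro A' B' i₁ i₂ f' h
  have hsurj : ∀ k, Function.Surjective (f'.app k) := by
    intro k y
    have hk : IsPullback (f'.app k) (i₁.app k) (i₂.app k) (f.app k) :=
      h.map ((evaluation K (Type w)).obj k)
    have : Epi (f.app k) := inferInstance
    obtain ⟨x, hx⟩ := (epi_iff_surjective (f.app k)).1 this (i₂.app k y)
    obtain ⟨x', h1, -⟩ := Types.exists_of_isPullback hk y x hx.symm
    exact ⟨x', h1⟩
  have : Epi f' := by
    rw [NatTrans.epi_iff_epi_app]
    intro k
    exact (epi_iff_surjective _).2 (hsurj k)
  have : IsRegularEpi f' := IsRegularEpiCategory.regularEpiOfEpi f'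
  infer_instance

/-- Every equivalence relation on a functor to types is universally effective. -/
theorem functor_isUEER (p₁ p₂ : R ⟶ X) [he : IsEquivalenceRelation p₁ p₂] :
    IsUniversallyEffectiveEquivalenceRelation p₁ p₂ := by
  obtain ⟨e⟩ := he.nonempty_equivalenceRelation
  have hk := isKernelPair_of_isColimit e (coequalizer.π p₁ p₂) (coequalizer.condition p₁ p₂)
    (coequalizerIsCoequalizer p₁ p₂)
  exact isUEER_of_isKernelPair e _ hk (functor_UEE_of_epi _)

end FunctorCat

end Groth.Agent.H26
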