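import Groth.Agent.H32.EquivOver

set_option autoImplicit false
open CategoryTheory
universe v₃ u₃ v₂ u₂ v u

namespace Groth.Agent.H26

open Groth.Agent.H32

variable {C : Type u} [Category.{v} C] {𝒳 : BasedCategory.{v₂, u₂} C} {𝒴 : BasedCategory.{v₃, u₃} C}

/-- a fully faithful functor over the base reflects cartesian morphisms -/
theorem isCartesian_of_map_isCartesian (F : 𝒳 ⥤ᵇ 𝒴) [F.toFunctor.Full] [F.toFunctor.Faithful]
    {R S : C} (f : R ⟶ S) {a b : 𝒳.obj} (φ : a ⟶ b) [h : 𝒴.p.IsCartesian f (F.toFunctor.map φ)] :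
    𝒳.p.IsCartesian f φ := by
  have hφ : 𝒳.p.IsHomLift f φ := BasedFunctor.isHomLift_map F f φ
  refine { universal_property := ?_ }
  intro a' φ' hφ'
  have h1 : 𝒴.p.IsHomLift f (F.toFunctor.map φ') := BasedFunctor.preserves_isHomLift F f φ'
  obtain ⟨χ, ⟨hχ, hχ'⟩, huniq⟩ :=
    Functor.IsCartesian.universal_property (p := 𝒴.p) (f := f) (φ := F.toFunctor.map φ)
      (F.toFunctor.map φ')
  refine ⟨F.toFunctor.preimage χ, ⟨?_, ?_⟩, ?_⟩
  · have : 𝒴.p.IsHomLift (𝟙 R) (F.toFunctor.map (F.toFunctor.preimage χ)) := by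
      rw [Functor.map_preimage]; exact hχ
    exact BasedFunctor.isHomLift_map F (𝟙 R) _
  · apply F.toFunctor.map_injective
    rw [Functor.map_comp, Functor.map_preimage, hχ']
  · rintro χ' ⟨h2, h3⟩
    apply F.toFunctor.map_injective
    rw [Functor.map_preimage]
    apply huniq
    refine ⟨BasedFunctor.preserves_isHomLift F (𝟙 R) χ', ?_⟩
    rw [← Functor.map_comp, h3]

/-- an equivalence over the base preserves cartesian morphisms -/
theorem map_isCartesian_of_equivOverData {F : 𝒳 ⥤ᵇ 𝒴} (d : EquivOverData F)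
    {R S : C} (f : R ⟶ S) {a b : 𝒳.obj} (φ : a ⟶ b) [𝒳.p.IsCartesian f φ] :
    𝒴.p.IsCartesian f (F.toFunctor.map φ) := by
  have hE : F.toFunctor.IsEquivalence := d.isEquivalence
  have hFφ : 𝒴.p.IsHomLift f (F.toFunctor.map φ) := BasedFunctor.preserves_isHomLift F f φ
  refine { universal_property := ?_ }
  intro a' φ' hφ'
  have hRa' : 𝒴.p.obj a' = R := IsHomLift.domain_eq 𝒴.p f φ'
  let ε : F.toFunctor.obj (d.inv.toFunctor.obj a') ⟶ a' := d.counitIso.hom.app a'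
  let εi : a' ⟶ F.toFunctor.obj (d.inv.toFunctor.obj a') := d.counitIso.inv.app a'
  have hεεi : ε ≫ εi = 𝟙 _ := d.counitIso.hom_inv_id_app a'
  have hεiε : εi ≫ ε = 𝟙 _ := d.counitIso.inv_hom_id_app a'
  have hε : 𝒴.p.IsHomLift (𝟙 R) ε := by
    have := d.counit_isHomLift a'
    rw [← hRa']; exact this
  have hεi : 𝒴.p.IsHomLift (𝟙 R) εi := by
    have := d.counit_inv_isHomLift a'
    rw [← hRa']; exact this
  let ψ : d.inv.toFunctor.obj a' ⟶ b := F.toFunctor.preimage (ε ≫ φ')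
  have hψ : F.toFunctor.map ψ = ε ≫ φ' := F.toFunctor.map_preimage _
  have hl : 𝒴.p.IsHomLift f (ε ≫ φ') := IsHomLift.comp_lift_id_left 𝒴.p f φ' ε
  have hψl : 𝒳.p.IsHomLift f ψ := by
    have : 𝒴.p.IsHomLift f (F.toFunctor.map ψ) := by rw [hψ]; exact hl
    exact BasedFunctor.isHomLift_map F f ψ
  obtain ⟨χ₀, ⟨hχ₀, hχ₀'⟩, huniq⟩ :=
    Functor.IsCartesian.universal_property (p := 𝒳.p) (f := f) (φ := φ) ψ
  have hFχ₀ : 𝒴.p.IsHomLift (𝟙 R) (F.toFunctor.map χ₀) :=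
    BasedFunctor.preserves_isHomLift F (𝟙 R) χ₀
  refine ⟨εi ≫ F.toFunctor.map χ₀, ⟨?_, ?_⟩, ?_⟩
  · exact IsHomLift.comp_of_lift_id 𝒴.p R εi (F.toFunctor.map χ₀)
  · rw [Category.assoc, ← F.toFunctor.map_comp, hχ₀', hψ, ← Category.assoc, hεiε, Category.id_comp]
  · rintro χ' ⟨h1, h2⟩
    let χ₀' : d.inv.toFunctor.obj a' ⟶ a := F.toFunctor.preimage (ε ≫ χ')
    have hχ₀' : F.toFunctor.map χ₀' = ε ≫ χ' := F.toFunctor.map_preimage _
    have hl' : 𝒴.p.IsHomLift (𝟙 R) (ε ≫ χ') := IsHomLift.comp_of_lift_id 𝒴.p R ε χ'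
    have h3 : 𝒳.p.IsHomLift (𝟙 R) χ₀' := by
      have : 𝒴.p.IsHomLift (𝟙 R) (F.toFunctor.map χ₀') := by rw [hχ₀']; exact hl'
      exact BasedFunctor.isHomLift_map F (𝟙 R) χ₀'
    have h4 : χ₀' ≫ φ = ψ := by
      apply F.toFunctor.map_injective
      rw [Functor.map_comp, hχ₀', hψ, Category.assoc, h2]
    have h5 : χ₀' = χ₀ := huniq χ₀' ⟨h3, h4⟩
    rw [← h5, hχ₀', ← Category.assoc, hεiε, Category.id_comp]

theorem isCartesian_map_iff_of_isEquivOver (F : 𝒳 ⥤ᵇ 𝒴) (hF : FibCat.IsEquivOver F)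
    {R S : C} (f : R ⟶ S) {a b : 𝒳.obj} (φ : a ⟶ b) :
    𝒴.p.IsCartesian f (F.toFunctor.map φ) ↔ 𝒳.p.IsCartesian f φ := by
  obtain ⟨d⟩ := IsEquivOver.nonempty_data hF
  have hE : F.toFunctor.IsEquivalence := d.isEquivalence
  constructor
  · intro h
    exact isCartesian_of_map_isCartesian F f φ
  · intro h
    exact map_isCartesian_of_equivOverData d f φ

end Groth.Agent.H26
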