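import Groth.Agent.H32.EquivOver

set_option autoImplicit false
open CategoryTheory
universe v₃ u₃ v₂ u₂ v u

namespace Groth.Agent.H26

open Groth.Agent.H32

variable {C : Type u} [Category.{v} C] {𝒳 : BasedCategory.{v₂, u₂} C} {𝒴 : BasedCategory.{v₃, u₃} C}

section

variable (F : 𝒳 ⥤ᵇ 𝒴) [F.toFunctor.Full] [F.toFunctor.Faithful]
  (ξ : 𝒴.obj → 𝒳.obj) (e : ∀ η, F.toFunctor.obj (ξ η) ≅ η)
  (he : ∀ η, 𝒴.p.IsHomLift (𝟙 (𝒴.p.obj η)) (e η).hom)

/-- the quasi-inverse functor built from chosen preimages -/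
noncomputable def invFunctor : 𝒴.obj ⥤ 𝒳.obj where
  obj := ξ
  map {η η'} f := F.toFunctor.preimage ((e η).hom ≫ f ≫ (e η').inv)
  map_id η := by
    apply F.toFunctor.map_injective
    simp
  map_comp {η η' η''} f g := by
    apply F.toFunctor.map_injective
    simp

lemma map_invFunctor_map {η η' : 𝒴.obj} (f : η ⟶ η') :
    F.toFunctor.map ((invFunctor F ξ e).map f) = (e η).hom ≫ f ≫ (e η').inv :=
  F.toFunctor.map_preimage _

include he in
lemma invFunctor_obj_w (η : 𝒴.obj) : 𝒳.p.obj (ξ η) = 𝒴.p.obj η :=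
  have := he η
  (F.w_obj (ξ η)).symm.trans (IsHomLift.domain_eq 𝒴.p (𝟙 (𝒴.p.obj η)) (e η).hom)

include he in
lemma invFunctor_map_isHomLift {η η' : 𝒴.obj} (f : η ⟶ η') :
    𝒳.p.IsHomLift (𝒴.p.map f) ((invFunctor F ξ e).map f) := by
  have h1 := he η
  have h2 := he η'
  have h3 : 𝒴.p.IsHomLift (𝟙 (𝒴.p.obj η')) (e η').inv := inferInstance
  have : 𝒴.p.IsHomLift (𝒴.p.map f) (F.map ((invFunctor F ξ e).map f)) := by
    change 𝒴.p.IsHomLift (𝒴.p.map f) (F.toFunctor.map ((invFunctor F ξ e).map f))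
    rw [map_invFunctor_map]
    have h4 : 𝒴.p.IsHomLift (𝒴.p.map f) (f ≫ (e η').inv) :=
      IsHomLift.comp_lift_id_right 𝒴.p (𝒴.p.map f) f (e η').inv
    exact IsHomLift.comp_lift_id_left 𝒴.p (𝒴.p.map f) (f ≫ (e η').inv) (e η).hom
  exact BasedFunctor.isHomLift_map F (𝒴.p.map f) ((invFunctor F ξ e).map f)

/-- the quasi-inverse as a functor over the base -/
noncomputable def invBased : 𝒴 ⥤ᵇ 𝒳 where
  toFunctor := invFunctor F ξ e
  w := Functor.ext (fun η => invFunctor_obj_w F ξ e he η)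
    (fun η η' f =>
      have := invFunctor_map_isHomLift F ξ e he f
      IsHomLift.fac' 𝒳.p (𝒴.p.map f) ((invFunctor F ξ e).map f))

/-- the counit `G ⋙ F ≅ 𝟭` -/
noncomputable def counitNatIso : invFunctor F ξ e ⋙ F.toFunctor ≅ 𝟭 𝒴.obj :=
  NatIso.ofComponents (fun η => e η) (fun {η η'} f => by
    change F.toFunctor.map ((invFunctor F ξ e).map f) ≫ (e η').hom = (e η).hom ≫ f
    rw [map_invFunctor_map]
    change ((e η).hom ≫ f ≫ (e η').inv) ≫ (e η').hom = (e η).hom ≫ f
    rw [Category.assoc, Category.assoc, Iso.inv_hom_id, Category.comp_id])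

/-- the unit `F ⋙ G ≅ 𝟭` -/
noncomputable def unitNatIso : F.toFunctor ⋙ invFunctor F ξ e ≅ 𝟭 𝒳.obj :=
  NatIso.ofComponents (fun x => F.toFunctor.preimageIso (e (F.toFunctor.obj x))) (fun {x x'} f => by
    apply F.toFunctor.map_injective
    change F.toFunctor.map ((invFunctor F ξ e).map (F.toFunctor.map f) ≫
      (F.toFunctor.preimageIso (e (F.toFunctor.obj x'))).hom) =
      F.toFunctor.map ((F.toFunctor.preimageIso (e (F.toFunctor.obj x))).hom ≫ f)
    have h1 : F.toFunctor.map ((invFunctor F ξ e).map (F.toFunctor.map f)) =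
        (e (F.toFunctor.obj x)).hom ≫ F.toFunctor.map f ≫ (e (F.toFunctor.obj x')).inv :=
      map_invFunctor_map F ξ e _
    have h2 : ∀ y : 𝒳.obj, F.toFunctor.map (F.toFunctor.preimageIso (e (F.toFunctor.obj y))).hom =
        (e (F.toFunctor.obj y)).hom := fun y => by
      rw [Functor.preimageIso_hom, Functor.map_preimage]
    calc F.toFunctor.map ((invFunctor F ξ e).map (F.toFunctor.map f) ≫
          (F.toFunctor.preimageIso (e (F.toFunctor.obj x'))).hom)
        = F.toFunctor.map ((invFunctor F ξ e).map (F.toFunctor.map f)) ≫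
          F.toFunctor.map (F.toFunctor.preimageIso (e (F.toFunctor.obj x'))).hom :=
            Functor.map_comp _ _ _
      _ = ((e (F.toFunctor.obj x)).hom ≫ F.toFunctor.map f ≫ (e (F.toFunctor.obj x')).inv) ≫
          (e (F.toFunctor.obj x')).hom := congrArg₂ _ h1 (h2 x')
      _ = (e (F.toFunctor.obj x)).hom ≫ F.toFunctor.map f := by
        rw [Category.assoc, Category.assoc, Iso.inv_hom_id, Category.comp_id]
      _ = F.toFunctor.map (F.toFunctor.preimageIso (e (F.toFunctor.obj x))).hom ≫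
          F.toFunctor.map f := by rw [h2 x]
      _ = F.toFunctor.map ((F.toFunctor.preimageIso (e (F.toFunctor.obj x))).hom ≫ f) :=
          (Functor.map_comp _ _ _).symm)

include he in
theorem isEquivOver_of_fullyFaithful : FibCat.IsEquivOver F := by
  refine ⟨invBased F ξ e he, ⟨?_⟩, ⟨?_⟩⟩
  · refine BasedNatIso.mkNatIso (unitNatIso F ξ e) ?_
    intro x
    have h1 := he (F.toFunctor.obj x)
    have : 𝒴.p.IsHomLift (𝟙 (𝒳.p.obj x)) (F.map ((unitNatIso F ξ e).hom.app x)) := by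
      change 𝒴.p.IsHomLift (𝟙 (𝒳.p.obj x))
        (F.toFunctor.map (F.toFunctor.preimageIso (e (F.toFunctor.obj x))).hom)
      rw [Functor.preimageIso_hom, Functor.map_preimage]
      have h2 : 𝒴.p.obj (F.toFunctor.obj x) = 𝒳.p.obj x := F.w_obj x
      rw [← h2]
      exact h1
    exact BasedFunctor.isHomLift_map F (𝟙 (𝒳.p.obj x)) ((unitNatIso F ξ e).hom.app x)
  · refine BasedNatIso.mkNatIso (counitNatIso F ξ e) ?_
    intro η
    exact he η

end

end Groth.Agent.H26
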