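import Mathlib
import Groth.Prelude.Def_DDual2
import Groth.Agent.H2.DualCx.Finite
import Groth.Agent.H9.LD.HomToInjShift

/-!
# Eventual vanishing of `Hom_{D(A)}(X, W[i])`: generalities (helper26)

`EV W X`: `Hom(X, W[i]) = 0` for `i ≫ 0`.  `Tors W f X i`: `Hom(X, W[i])` is killed by a power of `f`.
Both are stable under isomorphisms and extensions (distinguished triangles).
-/

set_option autoImplicit false
set_option linter.unusedSectionVars false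
set_option linter.style.haveILetI false

universe u

open CategoryTheory Limits Pretriangulated DerivedCategory

namespace Groth.Agent.H26.ExtEvVan

attribute [local instance] HasDerivedCategory.standard

variable {A : Type u} [CommRing A] (W : Dual.D A)

/-- `Hom(X, W[i]) = 0` for all large `i` -/
def EV (X : Dual.D A) : Prop := ∃ N : ℤ, ∀ i : ℤ, N < i → Subsingleton (X ⟶ W⟦i⟧)

/-- `Hom(X, W[i])` is killed by a power of `f` -/
def Tors (f : A) (X : Dual.D A) (i : ℤ) : Prop := ∃ k : ℕ, ∀ g : X ⟶ W⟦i⟧, f ^ k • g = 0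

variable {W}

theorem Tors.of_subsingleton (f : A) {X : Dual.D A} {i : ℤ} (h : Subsingleton (X ⟶ W⟦i⟧)) :
    Tors W f X i := ⟨0, fun g => by rw [Subsingleton.elim g 0, smul_zero]⟩

theorem Tors.of_iso {f : A} {X Y : Dual.D A} {i : ℤ} (e : X ≅ Y) (h : Tors W f X i) :
    Tors W f Y i := by
  obtain ⟨k, hk⟩ := h
  refine ⟨k, fun g => ?_⟩
  have h1 := hk (e.hom ≫ g)
  rw [← Linear.comp_smul] at h1
  have h2 : e.inv ≫ (e.hom ≫ (f ^ k • g)) = 0 := by rw [h1, comp_zero]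
  rwa [← Category.assoc, e.inv_hom_id, Category.id_comp] at h2

theorem EV.of_iso {X Y : Dual.D A} (e : X ≅ Y) (h : EV W X) : EV W Y := by
  obtain ⟨N, hN⟩ := h
  refine ⟨N, fun i hi => ?_⟩
  haveI := hN i hi
  exact (Iso.homCongr e (Iso.refl (W⟦i⟧))).symm.subsingleton

/-- extension stability of `Tors` -/
theorem Tors.of_triangle {f : A} {X K Y : Dual.D A} (φ : X ⟶ K) (g : K ⟶ Y)
    (h : Y ⟶ X⟦(1 : ℤ)⟧) (hT : Triangle.mk φ g h ∈ distTriang (Dual.D A)) {i : ℤ}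
    (hX : Tors W f X i) (hY : Tors W f Y i) : Tors W f K i := by
  obtain ⟨k₁, h₁⟩ := hX
  obtain ⟨k₃, h₃⟩ := hY
  refine ⟨k₃ + k₁, fun t => ?_⟩
  have h1 : φ ≫ (f ^ k₁ • t) = 0 := by
    rw [Linear.comp_smul]
    exact h₁ (φ ≫ t)
  obtain ⟨s, hs⟩ : ∃ s : Y ⟶ W⟦i⟧, f ^ k₁ • t = g ≫ s :=
    Triangle.yoneda_exact₂ _ hT (f ^ k₁ • t) h1
  rw [pow_add, mul_smul, hs, ← Linear.comp_smul, h₃ s, comp_zero]

/-- extension stability of `EV` -/
theorem EV.of_triangle {X K Y : Dual.D A} (φ : X ⟶ K) (g : K ⟶ Y)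
    (h : Y ⟶ X⟦(1 : ℤ)⟧) (hT : Triangle.mk φ g h ∈ distTriang (Dual.D A))
    (hX : EV W X) (hY : EV W Y) : EV W K := by
  obtain ⟨N₁, h₁⟩ := hX
  obtain ⟨N₃, h₃⟩ := hY
  refine ⟨max N₁ N₃, fun i hi => ⟨fun t t' => ?_⟩⟩
  haveI := h₁ i (lt_of_le_of_lt (le_max_left _ _) hi)
  haveI := h₃ i (lt_of_le_of_lt (le_max_right _ _) hi)
  have key : ∀ t : K ⟶ W⟦i⟧, t = 0 := by
    intro t
    have hz : φ ≫ t = 0 := Subsingleton.elim _ _
    obtain ⟨s, hs⟩ : ∃ s : Y ⟶ W⟦i⟧, t = g ≫ s := Triangle.yoneda_exact₂ _ hT t hz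
    rw [hs, Subsingleton.elim s 0, comp_zero]
  rw [key t, key t']

/-- `Hom(X[m], W[i]) ≃ Hom(X, W[i - m])` -/
noncomputable def shiftEquiv (X : Dual.D A) (m i j : ℤ) (h : j + m = i) :
    (X⟦m⟧ ⟶ W⟦i⟧) ≃ₗ[A] (X ⟶ W⟦j⟧) :=
  (Groth.Agent.H9.LD.shiftHomEquiv X (W⟦i⟧) (-m) m (by omega)).symm ≪≫ₗ
    Linear.homCongr A (Iso.refl X)
      (((shiftFunctorAdd' (Dual.D A) i (-m) j (by omega)).app W).symm)

theorem Tors.shift_iff (f : A) (X : Dual.D A) (m i j : ℤ) (h : j + m = i) :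
    Tors W f (X⟦m⟧) i ↔ Tors W f X j := by
  constructor
  · rintro ⟨k, hk⟩
    refine ⟨k, fun g => ?_⟩
    have := hk ((shiftEquiv X m i j h).symm g)
    rw [← map_smul, LinearEquiv.map_eq_zero_iff] at this
    exact this
  · rintro ⟨k, hk⟩
    refine ⟨k, fun g => ?_⟩
    have := hk (shiftEquiv X m i j h g)
    rw [← map_smul, LinearEquiv.map_eq_zero_iff] at this
    exact this

end Groth.Agent.H26.ExtEvVan
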