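import Mathlib
import Groth.Prelude.Def_DDual2
import Groth.Agent.H26.ExtEvVan1
import Groth.Agent.H9.LD.FiniteHom

/-!
# Eventual vanishing of `Hom_{D(A)}(X, W[i])`: modules, prime filtrations, amplitude induction
(helper26)
-/

set_option autoImplicit false
set_option linter.unusedSectionVars false
set_option linter.style.haveILetI false

universe u

open CategoryTheory Limits Pretriangulated DerivedCategory

namespace Groth.Agent.H26.ExtEvVan

attribute [local instance] HasDerivedCategory.standard

open Groth.Agent.H2.DualCx Groth.Agent.H9.DCF Groth.Agent.H9.LD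

variable {A : Type u} [CommRing A] [IsNoetherianRing A] {W : Dual.D A}

section SES

variable {N₁ N₂ N₃ : Type u} [AddCommGroup N₁] [Module A N₁] [AddCommGroup N₂] [Module A N₂]
  [AddCommGroup N₃] [Module A N₃] (φ : N₁ →ₗ[A] N₂) (ψ : N₂ →ₗ[A] N₃)

theorem Tors.of_ses {f : A} (hφ : Function.Injective φ) (hψ : Function.Surjective ψ)
    (hex : Function.Exact φ ψ) {i : ℤ} (h₁ : Tors W f (Dual.inD A N₁) i)
    (h₃ : Tors W f (Dual.inD A N₃) i) : Tors W f (Dual.inD A N₂) i :=
  Tors.of_triangle _ _ _ (sc_shortExact φ ψ hφ hψ hex).singleTriangle_distinguished h₁ h₃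

theorem EV.of_ses (hφ : Function.Injective φ) (hψ : Function.Surjective ψ)
    (hex : Function.Exact φ ψ) (h₁ : EV W (Dual.inD A N₁))
    (h₃ : EV W (Dual.inD A N₃)) : EV W (Dual.inD A N₂) :=
  EV.of_triangle _ _ _ (sc_shortExact φ ψ hφ hψ hex).singleTriangle_distinguished h₁ h₃

end SES

section Equiv

variable {M N : Type u} [AddCommGroup M] [Module A M] [AddCommGroup N] [Module A N]

theorem Tors.of_linearEquiv {f : A} (e : M ≃ₗ[A] N) {i : ℤ} (h : Tors W f (Dual.inD A M) i) :
    Tors W f (Dual.inD A N) i :=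
  Tors.of_iso ((DerivedCategory.singleFunctor (ModuleCat.{u} A) 0).mapIso e.toModuleIso) h

theorem EV.of_linearEquiv (e : M ≃ₗ[A] N) (h : EV W (Dual.inD A M)) : EV W (Dual.inD A N) :=
  EV.of_iso ((DerivedCategory.singleFunctor (ModuleCat.{u} A) 0).mapIso e.toModuleIso) h

theorem subsingleton_hom_inD_of_subsingleton [Subsingleton M] (i : ℤ) :
    Subsingleton (Dual.inD A M ⟶ W⟦i⟧) :=
  Groth.Agent.H2.DualCx.subsingleton_of_subsingleton W i

end Equiv

section PrimeFiltration

/-- prime filtration induction for modules killed by an ideal `J` -/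
theorem induction_of_le_annihilator (J : Ideal A)
    (P : (N : Type u) → [AddCommGroup N] → [Module A N] → Prop)
    (hsub : ∀ (N : Type u) [AddCommGroup N] [Module A N] [Subsingleton N], P N)
    (hquot : ∀ (N : Type u) [AddCommGroup N] [Module A N] (q : PrimeSpectrum A),
      J ≤ q.asIdeal → (N ≃ₗ[A] A ⧸ q.asIdeal) → P N)
    (hexact : ∀ (N₁ N₂ N₃ : Type u) [AddCommGroup N₁] [Module A N₁] [AddCommGroup N₂]
      [Module A N₂] [AddCommGroup N₃] [Module A N₃] (f : N₁ →ₗ[A] N₂) (g : N₂ →ₗ[A] N₃),
      Function.Injective f → Function.Surjective g → Function.Exact f g → P N₁ → P N₃ → P N₂)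
    (M : Type u) [AddCommGroup M] [Module A M] [hM : Module.Finite A M]
    (hJ : J ≤ Module.annihilator A M) : P M := by
  revert hJ
  induction hM using IsNoetherianRing.induction_on_isQuotientEquivQuotientPrime A with
  | subsingleton N => intro _; exact hsub N
  | quotient N q e =>
    intro hJ
    refine hquot N q ?_ e
    intro x hx
    have h1 : x ∈ Module.annihilator A N := hJ hx
    rw [Module.mem_annihilator] at h1
    have h2 := h1 (e.symm (Ideal.Quotient.mk q.asIdeal 1))
    rw [← map_smul, LinearEquiv.map_eq_zero_iff, Algebra.smul_def, map_one, mul_one,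
      Ideal.Quotient.algebraMap_eq, Ideal.Quotient.eq_zero_iff_mem] at h2
    exact h2
  | exact N₁ N₂ N₃ f g hf hg hfg h₁ h₃ =>
    intro hJ
    refine hexact N₁ N₂ N₃ f g hf hg hfg (h₁ ?_) (h₃ ?_)
    · intro x hx
      rw [Module.mem_annihilator]
      intro n
      apply hf
      rw [map_smul, map_zero]
      exact Module.mem_annihilator.mp (hJ hx) (f n)
    · intro x hx
      rw [Module.mem_annihilator]
      intro n
      obtain ⟨m, rfl⟩ := hg n
      rw [← map_smul, Module.mem_annihilator.mp (hJ hx) m, map_zero]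

end PrimeFiltration

end Groth.Agent.H26.ExtEvVan
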