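import Mathlib
import Groth.Prelude.Def_DDual2
import Groth.Agent.H26.ExtEvVan2

/-!
# Eventual vanishing of `Hom_{D(A)}(X, W[i])`: amplitude induction (helper26)
-/

set_option autoImplicit false
set_option linter.unusedSectionVars false
set_option linter.style.haveILetI false

universe u

open CategoryTheory Limits Pretriangulated DerivedCategory

namespace Groth.Agent.H26.ExtEvVan

attribute [local instance] HasDerivedCategory.standard

open Groth.Agent.H2.DualCx Groth.Agent.H9.DCF Groth.Agent.H9.LD

variable {A : Type u} [CommRing A] [IsNoetherianRing A] {W : Dual.D A}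

/-- finite modules killed by the ideal `J` -/
def InC (J : Ideal A) (N : Type u) [AddCommGroup N] [Module A N] : Prop :=
  Module.Finite A N ∧ J ≤ Module.annihilator A N

section InC

variable {J : Ideal A} {M N : Type u} [AddCommGroup M] [Module A M] [AddCommGroup N] [Module A N]

theorem InC.of_injective (f : N →ₗ[A] M) (hf : Function.Injective f) (h : InC J M) : InC J N := by
  obtain ⟨h1, h2⟩ := h
  haveI : IsNoetherian A M := isNoetherian_of_isNoetherianRing_of_finite A M
  refine ⟨Module.Finite.of_injective f hf, fun x hx => ?_⟩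
  rw [Module.mem_annihilator]
  intro n
  apply hf
  rw [map_smul, map_zero]
  exact Module.mem_annihilator.mp (h2 hx) (f n)

theorem InC.of_surjective (f : M →ₗ[A] N) (hf : Function.Surjective f) (h : InC J M) :
    InC J N := by
  obtain ⟨h1, h2⟩ := h
  refine ⟨Module.Finite.of_surjective f hf, fun x hx => ?_⟩
  rw [Module.mem_annihilator]
  intro n
  obtain ⟨m, rfl⟩ := hf n
  rw [← map_smul, Module.mem_annihilator.mp (h2 hx) m, map_zero]

theorem InC.of_subsingleton [Subsingleton N] : InC J N :=
  ⟨inferInstance, fun x _ => by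
    rw [Module.mem_annihilator]
    intro n
    exact Subsingleton.elim _ _⟩

theorem InC.of_linearEquiv (e : M ≃ₗ[A] N) (h : InC J M) : InC J N :=
  InC.of_surjective e.toLinearMap e.surjective h

end InC

section Trunc

variable (J : Ideal A)

/-- cohomology of `τ≤a K` stays in the class -/
lemma inC_HD_truncLE (K : Dual.D A) (hK : ∀ n : ℤ, InC J (Dual.HD A K n)) (a n : ℤ) :
    InC J (Dual.HD A (((tS A).truncLE a).obj K) n) := by
  by_cases hn : a < n
  · haveI := subsingleton_HD_of_isLE (((tS A).truncLE a).obj K) a n hn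
    exact InC.of_subsingleton
  · have hT := (tS A).triangleLEGT_distinguished a K
    haveI hGE : (((tS A).truncGT a).obj K).IsGE (a + 1) :=
      inferInstanceAs ((tS A).IsGE (((tS A).truncGT a).obj K) (a + 1))
    have hz0 : IsZero ((homologyFunctor (ModuleCat.{u} A) (n - 1)).obj (((tS A).truncGT a).obj K)) :=
      isZero_of_isGE _ (a + 1) (n - 1) (by omega)
    have hm : Mono ((homologyFunctor (ModuleCat.{u} A) n).map ((tS A).truncLEι a |>.app K)) :=
      (HomologySequence.mono_homologyMap_mor₁_iff _ hT (n - 1) n (by omega)).2 (hz0.eq_of_src _ _)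
    let f : (homologyFunctor (ModuleCat.{u} A) n).obj (((tS A).truncLE a).obj K) ⟶
        (homologyFunctor (ModuleCat.{u} A) n).obj K :=
      (homologyFunctor (ModuleCat.{u} A) n).map ((tS A).truncLEι a |>.app K)
    exact InC.of_injective f.hom ((ModuleCat.mono_iff_injective f).1 hm) (hK n)

/-- cohomology of `τ≥a K` stays in the class -/
lemma inC_HD_truncGE (K : Dual.D A) (hK : ∀ n : ℤ, InC J (Dual.HD A K n)) (a n : ℤ) :
    InC J (Dual.HD A (((tS A).truncGE a).obj K) n) := by
  by_cases hn : n < a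
  · haveI : (((tS A).truncGE a).obj K).IsGE a :=
      inferInstanceAs ((tS A).IsGE (((tS A).truncGE a).obj K) a)
    haveI := subsingleton_HD_of_isGE (((tS A).truncGE a).obj K) a n hn
    exact InC.of_subsingleton
  · have hT := (tS A).triangleLTGE_distinguished a K
    haveI hLE : (((tS A).truncLT a).obj K).IsLE (a - 1) :=
      inferInstanceAs ((tS A).IsLE (((tS A).truncLT a).obj K) (a - 1))
    have hz1 : IsZero ((homologyFunctor (ModuleCat.{u} A) (n + 1)).obj (((tS A).truncLT a).obj K)) :=
      isZero_of_isLE _ (a - 1) (n + 1) (by omega)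
    have he : Epi ((homologyFunctor (ModuleCat.{u} A) n).map ((tS A).truncGEπ a |>.app K)) :=
      (HomologySequence.epi_homologyMap_mor₂_iff _ hT n (n + 1) rfl).2 (hz1.eq_of_tgt _ _)
    let f : (homologyFunctor (ModuleCat.{u} A) n).obj K ⟶
        (homologyFunctor (ModuleCat.{u} A) n).obj (((tS A).truncGE a).obj K) :=
      (homologyFunctor (ModuleCat.{u} A) n).map ((tS A).truncGEπ a |>.app K)
    exact InC.of_surjective f.hom ((ModuleCat.epi_iff_surjective f).1 he) (hK n)

end Trunc

section Amplitude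

variable (J : Ideal A) (D : Type u) [AddCommGroup D] [Module A D]
  (hmod : ∀ (M : Type u) [AddCommGroup M] [Module A M], InC J M →
    ∃ N : ℤ, ∀ i : ℤ, N < i → ∀ f : A, Tors W f (Dual.inD A D) i → Tors W f (Dual.inD A M) i)

include hmod in
/-- heart case -/
theorem tors_of_heart (Y : Dual.D A) (b : ℤ) [Y.IsGE b] [Y.IsLE b]
    (hY : InC J (Dual.HD A Y b)) :
    ∃ N : ℤ, ∀ i : ℤ, N < i → ∀ f : A, Tors W f (Dual.inD A D) (i + b) → Tors W f Y i := by
  obtain ⟨M, ⟨e⟩, ⟨e'⟩⟩ := nonempty_iso_single_shift Y b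
  have hM : InC J M := InC.of_linearEquiv e'.toLinearEquiv.symm hY
  obtain ⟨N, hN⟩ := hmod M hM
  refine ⟨N - b, fun i hi f hf => ?_⟩
  have h1 : Tors W f (Dual.inD A M) (i + b) := hN (i + b) (by omega) f hf
  have h2 : Tors W f ((Dual.inD A M)⟦-b⟧) i :=
    (Tors.shift_iff f (Dual.inD A M) (-b) i (i + b) (by omega)).mpr h1
  exact Tors.of_iso e.symm h2

include hmod in
/-- induction on the amplitude -/
theorem tors_of_amplitude : ∀ (k : ℕ) (b : ℤ) (K : Dual.D A), K.IsLE b → K.IsGE (b - k) →
    (∀ n : ℤ, InC J (Dual.HD A K n)) →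
    ∃ N : ℤ, ∀ i : ℤ, N < i → ∀ f : A,
      (∀ n : ℤ, b - k ≤ n → n ≤ b → Tors W f (Dual.inD A D) (i + n)) → Tors W f K i := by
  intro k
  induction k with
  | zero =>
    intro b K hLE hGE hK
    haveI := hLE
    haveI : K.IsGE b := by
      have : b - ((0 : ℕ) : ℤ) = b := by simp
      rw [this] at hGE
      exact hGE
    obtain ⟨N, hN⟩ := tors_of_heart J D hmod K b (hK b)
    exact ⟨N, fun i hi f hf => hN i hi f (hf b (by simp) le_rfl)⟩
  | succ k ih =>
    intro b K hLE hGE hK
    haveI := hLE
    haveI := hGE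
    have hT := (tS A).triangleLEGE_distinguished (b - 1) b (by omega) K
    let X := ((tS A).truncLE (b - 1)).obj K
    let Y := ((tS A).truncGE b).obj K
    haveI hXLE : X.IsLE (b - 1) :=
      inferInstanceAs ((tS A).IsLE (((tS A).truncLE (b - 1)).obj K) (b - 1))
    haveI hXGE : X.IsGE (b - 1 - k) := by
      haveI : (tS A).IsGE K (b - 1 - k) := by
        have : b - ((k + 1 : ℕ) : ℤ) = b - 1 - k := by push_cast; ring
        rw [this] at hGE
        exact hGE
      exact inferInstanceAs ((tS A).IsGE (((tS A).truncLE (b - 1)).obj K) (b - 1 - k))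
    haveI hYGE : Y.IsGE b := inferInstanceAs ((tS A).IsGE (((tS A).truncGE b).obj K) b)
    haveI hYLE : Y.IsLE b := by
      haveI : (tS A).IsLE K b := hLE
      exact inferInstanceAs ((tS A).IsLE (((tS A).truncGE b).obj K) b)
    obtain ⟨N₁, hN₁⟩ := ih (b - 1) X hXLE hXGE (inC_HD_truncLE J K hK (b - 1))
    obtain ⟨N₃, hN₃⟩ := tors_of_heart J D hmod Y b (inC_HD_truncGE J K hK b b)
    refine ⟨max N₁ N₃, fun i hi f hf => ?_⟩
    have hX : Tors W f X i := hN₁ i (lt_of_le_of_lt (le_max_left _ _) hi) f
      (fun n hn1 hn2 => hf n (by push_cast; omega) (by omega))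
    have hY : Tors W f Y i := hN₃ i (lt_of_le_of_lt (le_max_right _ _) hi) f
      (hf b (by push_cast; omega) le_rfl)
    exact Tors.of_triangle _ _ _ hT hX hY

end Amplitude

end Groth.Agent.H26.ExtEvVan
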