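import Mathlib
import Groth.Prelude.Def_DDual2
import Groth.Prelude.Def_ega3
import Groth.Agent.H26.ExtEvVan3
import Groth.Agent.H79.KoszulFinLen
import Groth.Agent.H79.KoszulTop
import Groth.Agent.H79.KoszulEuler

/-!
# Eventual vanishing of `Hom_{D(A)}(X, W[i])`: the Koszul complex in `D(A)` (helper26)
-/

set_option autoImplicit false
set_option linter.unusedSectionVars false
set_option linter.style.haveILetI false

universe u

open CategoryTheory Limits Pretriangulated DerivedCategory

namespace Groth.Agent.H26.ExtEvVan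

attribute [local instance] HasDerivedCategory.standard

open Groth.Agent.H2.DualCx Groth.Agent.H9.DCF Groth.Agent.H9.LD

variable {A : Type u} [CommRing A] [IsNoetherianRing A] {W : Dual.D A}

/-- the Koszul complex of `A` on a list, in `D(A)` -/
noncomputable def KosD (l : List A) : Dual.D A :=
  DerivedCategory.Q.obj (CohIII.koszulCx (ModuleCat.of A A) l)

theorem EV.shift_one {X : Dual.D A} (h : EV W X) : EV W (X⟦(1 : ℤ)⟧) := by
  obtain ⟨N, hN⟩ := h
  refine ⟨N + 1, fun i hi => ?_⟩
  haveI := hN (i - 1) (by omega)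
  exact (shiftEquiv (W := W) X 1 i (i - 1) (by omega)).toEquiv.subsingleton

/-- `Hom(K(l), W[i]) = 0` for `i ≫ 0` -/
theorem ev_KosD (hA : EV W (Dual.inD A A)) : ∀ l : List A, EV W (KosD l) := by
  intro l
  induction l with
  | nil =>
    exact EV.of_iso ((DerivedCategory.singleFunctorIsoCompQ (ModuleCat.{u} A) 0).app
      (ModuleCat.of A A)) hA
  | cons f fs ih =>
    have hT := DerivedCategory.mappingCone_triangle_distinguished
      (f • 𝟙 (CohIII.koszulCx (ModuleCat.of A A) fs))
    have hT' := rot_of_distTriang _ hT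
    exact EV.of_triangle _ _ _ hT' ih (EV.shift_one ih)

instance isLE_KosD (l : List A) : (KosD l).IsLE 0 := by
  haveI : (CohIII.koszulCx (ModuleCat.of A A) l).IsStrictlyLE 0 :=
    (CochainComplex.isStrictlyLE_iff _ _).2
      (fun i hi => Groth.Agent.H79.KoszulTop.isZero_X_of_pos _ l i hi)
  exact inferInstanceAs ((DerivedCategory.Q.obj (CohIII.koszulCx (ModuleCat.of A A) l)).IsLE 0)

instance isGE_KosD (l : List A) : (KosD l).IsGE (-(l.length : ℤ)) := by
  haveI : (CohIII.koszulCx (ModuleCat.of A A) l).IsStrictlyGE (-(l.length : ℤ)) :=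
    (CochainComplex.isStrictlyGE_iff _ _).2
      (fun i hi => Groth.Agent.H79.KoszulEuler.isZero_X_of_lt _ l i (by omega))
  exact inferInstanceAs ((DerivedCategory.Q.obj (CohIII.koszulCx (ModuleCat.of A A) l)).IsGE _)

/-- cohomology of `K(l)` in `D(A)` is the homology of the Koszul complex -/
noncomputable def HDKosDEquiv (l : List A) (n : ℤ) :
    Dual.HD A (KosD l) n ≃ₗ[A] (CohIII.koszulCx (ModuleCat.of A A) l).homology n :=
  ((DerivedCategory.homologyFunctorFactors (ModuleCat.{u} A) n).app
    (CohIII.koszulCx (ModuleCat.of A A) l)).toLinearEquiv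

theorem inC_HD_KosD (l : List A) (n : ℤ) : InC (Ideal.ofList l) (Dual.HD A (KosD l) n) := by
  let K := CohIII.koszulCx (ModuleCat.of A A) l
  have hfin : Module.Finite A (K.X n) := Groth.Agent.H79.KoszulFinLen.finite_X A l n
  have hnoeth : IsNoetherian A (K.X n) := isNoetherian_of_isNoetherianRing_of_finite A _
  let e := (Groth.Agent.H79.KoszulCone.homologyIsoKerQuot K n).toLinearEquiv
  have hfinN : Module.Finite A (K.homology n) := Module.Finite.equiv e.symm
  refine InC.of_linearEquiv (HDKosDEquiv l n).symm ⟨hfinN, fun y hy => ?_⟩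
  rw [Module.mem_annihilator]
  intro h
  exact Groth.Agent.H79.KoszulFinLen.smul_homology_eq_zero (ModuleCat.of A A) l y hy n h

theorem nonempty_HD_KosD_zero_equiv (l : List A) :
    Nonempty (Dual.HD A (KosD l) 0 ≃ₗ[A] A ⧸ Ideal.ofList l) := by
  obtain ⟨e⟩ := Groth.Agent.H79.KoszulTop.homology_zero_equiv (ModuleCat.of A A) l
  have h : Ideal.ofList l • (⊤ : Submodule A A) = Ideal.ofList l := by
    rw [smul_eq_mul, ← Ideal.one_eq_top, mul_one]
  exact ⟨(HDKosDEquiv l 0) ≪≫ₗ e ≪≫ₗ Submodule.quotEquivOfEq _ _ h⟩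

end Groth.Agent.H26.ExtEvVan
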