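import Mathlib
import Groth.Prelude.Def_DDual2
import Groth.Agent.H26.ExtEvVan4

/-!
# Eventual vanishing of `Hom_{D(A)}(M[0], W[i])` for finite modules (helper26)

`ev_of_finite`: `A` Noetherian, `W ∈ D(A)` with `Hom(A[0], W[i]) = 0` for `i ≫ 0` and such that for
every prime `p` the modules `Hom((A/p)[0], W[i])`, `i ≫ 0`, are killed by elements outside `p`
(e.g. `W_p` of finite injective dimension and `W` with finite bounded-below cohomology). Then
`Hom(M[0], W[i]) = 0` for `i ≫ 0`, for every finite `A`-module `M`.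
-/

set_option autoImplicit false
set_option linter.unusedSectionVars false
set_option linter.style.haveILetI false

universe u

open CategoryTheory Limits Pretriangulated DerivedCategory

namespace Groth.Agent.H26.ExtEvVan

attribute [local instance] HasDerivedCategory.standard

open Groth.Agent.H2.DualCx Groth.Agent.H9.DCF Groth.Agent.H9.LD

variable {A : Type u} [CommRing A] [IsNoetherianRing A] {W : Dual.D A}

/-- `H^a(K) ≅ H^a(τ≥a K)` -/
lemma nonempty_HD_truncGE_equiv (K : Dual.D A) (a : ℤ) :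
    Nonempty (Dual.HD A K a ≃ₗ[A] Dual.HD A (((tS A).truncGE a).obj K) a) := by
  have hT := (tS A).triangleLTGE_distinguished a K
  haveI hLE : (((tS A).truncLT a).obj K).IsLE (a - 1) :=
    inferInstanceAs ((tS A).IsLE (((tS A).truncLT a).obj K) (a - 1))
  have hz0 : IsZero ((homologyFunctor (ModuleCat.{u} A) a).obj (((tS A).truncLT a).obj K)) :=
    isZero_of_isLE _ (a - 1) a (by omega)
  have hz1 : IsZero ((homologyFunctor (ModuleCat.{u} A) (a + 1)).obj (((tS A).truncLT a).obj K)) :=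
    isZero_of_isLE _ (a - 1) (a + 1) (by omega)
  haveI he : Epi ((homologyFunctor (ModuleCat.{u} A) a).map ((tS A).truncGEπ a |>.app K)) :=
    (HomologySequence.epi_homologyMap_mor₂_iff _ hT a (a + 1) rfl).2 (hz1.eq_of_tgt _ _)
  haveI hm : Mono ((homologyFunctor (ModuleCat.{u} A) a).map ((tS A).truncGEπ a |>.app K)) :=
    (HomologySequence.mono_homologyMap_mor₂_iff _ hT a).2 (hz0.eq_of_src _ _)
  haveI : IsIso ((homologyFunctor (ModuleCat.{u} A) a).map ((tS A).truncGEπ a |>.app K)) :=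
    isIso_of_mono_of_epi _
  exact ⟨(asIso ((homologyFunctor (ModuleCat.{u} A) a).map
    ((tS A).truncGEπ a |>.app K))).toLinearEquiv⟩

section Step

variable (p : PrimeSpectrum A)
  (IH : ∀ q : PrimeSpectrum A, p < q → EV W (Dual.inD A (A ⧸ q.asIdeal)))

include IH in
/-- finite modules killed by an ideal all of whose primes are strictly above `p` -/
theorem ev_of_le_annihilator (J : Ideal A)
    (hJ : ∀ q : PrimeSpectrum A, J ≤ q.asIdeal → p < q)
    (M : Type u) [AddCommGroup M] [Module A M] [Module.Finite A M]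
    (hM : J ≤ Module.annihilator A M) : EV W (Dual.inD A M) := by
  refine induction_of_le_annihilator J (fun N _ _ => EV W (Dual.inD A N)) ?_ ?_ ?_ M hM
  · intro N _ _ _
    exact ⟨0, fun i _ => subsingleton_hom_inD_of_subsingleton i⟩
  · intro N _ _ q hq e
    exact EV.of_linearEquiv e.symm (IH q (hJ q hq))
  · intro N₁ N₂ N₃ _ _ _ _ _ _ φ ψ hφ hψ hex h₁ h₃
    exact EV.of_ses φ ψ hφ hψ hex h₁ h₃

include IH in
/-- modules killed by `p`: torsion of `Hom((A/p)[0], W[i])` propagates -/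
theorem tors_mod (M : Type u) [AddCommGroup M] [Module A M] (hM : InC p.asIdeal M) :
    ∃ N : ℤ, ∀ i : ℤ, N < i → ∀ f : A, Tors W f (Dual.inD A (A ⧸ p.asIdeal)) i →
      Tors W f (Dual.inD A M) i := by
  obtain ⟨hfin, hann⟩ := hM
  refine induction_of_le_annihilator p.asIdeal (fun N _ _ => ∃ N₀ : ℤ, ∀ i : ℤ, N₀ < i → ∀ f : A,
    Tors W f (Dual.inD A (A ⧸ p.asIdeal)) i → Tors W f (Dual.inD A N) i) ?_ ?_ ?_ M hann
  · intro N _ _ _
    exact ⟨0, fun i _ f _ => Tors.of_subsingleton f (subsingleton_hom_inD_of_subsingleton i)⟩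
  · intro N _ _ q hq e
    by_cases hqp : q = p
    · subst hqp
      exact ⟨0, fun i _ f hf => Tors.of_linearEquiv e.symm hf⟩
    · have hlt : p < q := lt_of_le_of_ne hq (fun h => hqp h.symm)
      obtain ⟨N₀, hN₀⟩ := IH q hlt
      refine ⟨N₀, fun i hi f _ => Tors.of_subsingleton f ?_⟩
      haveI := hN₀ i hi
      exact (Groth.Agent.H2.DualCx.congr W i e).symm.toEquiv.subsingleton
  · intro N₁ N₂ N₃ _ _ _ _ _ _ φ ψ hφ hψ hex h₁ h₃
    obtain ⟨n₁, h₁⟩ := h₁
    obtain ⟨n₃, h₃⟩ := h₃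
    refine ⟨max n₁ n₃, fun i hi f hf => ?_⟩
    exact Tors.of_ses φ ψ hφ hψ hex (h₁ i (lt_of_le_of_lt (le_max_left _ _) hi) f hf)
      (h₃ i (lt_of_le_of_lt (le_max_right _ _) hi) f hf)

end Step

end Groth.Agent.H26.ExtEvVan
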