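import Mathlib
import Groth.Prelude.Def_DDual2
import Groth.Agent.H26.ExtEvVan5

/-!
# Eventual vanishing of `Hom_{D(A)}(M[0], W[i])` for finite modules: the recursion (helper26)
-/

set_option autoImplicit false
set_option linter.unusedSectionVars false
set_option linter.style.haveILetI false

universe u

open CategoryTheory Limits Pretriangulated DerivedCategory

namespace Groth.Agent.H26.ExtEvVan

attribute [local instance] HasDerivedCategory.standard

open Groth.Agent.H2.DualCx Groth.Agent.H9.DCF Groth.Agent.H9.LD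

variable {A : Type u} [CommRing A] [IsNoetherianRing A] {W : Dual.D A}

theorem exists_list_ofList_eq (I : Ideal A) : ∃ l : List A, Ideal.ofList l = I := by
  classical
  obtain ⟨s, hs⟩ := (IsNoetherian.noetherian I : I.FG)
  refine ⟨s.toList, ?_⟩
  rw [← hs]
  have : {r | r ∈ s.toList} = (s : Set A) := by
    ext x
    simp
  unfold Ideal.ofList
  rw [this]

section Step

variable (p : PrimeSpectrum A)
  (IH : ∀ q : PrimeSpectrum A, p < q → EV W (Dual.inD A (A ⧸ q.asIdeal)))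
  (hA : EV W (Dual.inD A A))

include IH hA in
/-- the recursion for the torsion of `Hom((A/p)[0], W[i])` -/
theorem tors_recursion : ∃ (r : ℕ) (N₁ : ℤ), ∀ i : ℤ, N₁ < i → ∀ f : A,
    (∀ n : ℤ, -2 - (r : ℤ) ≤ n → n ≤ -2 → Tors W f (Dual.inD A (A ⧸ p.asIdeal)) (i + n)) →
      Tors W f (Dual.inD A (A ⧸ p.asIdeal)) i := by
  obtain ⟨l, hl⟩ := exists_list_ofList_eq p.asIdeal
  set r := l.length with hr
  let P := KosD l
  obtain ⟨N_P, hN_P⟩ := ev_KosD hA l
  have hT := (tS A).triangleLEGE_distinguished (-1) 0 (by omega) P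
  let X := ((tS A).truncLE (-1)).obj P
  let Y := ((tS A).truncGE 0).obj P
  haveI hPLE : P.IsLE 0 := isLE_KosD l
  haveI hPGE : P.IsGE (-(r : ℤ)) := isGE_KosD l
  haveI hXLE : X.IsLE (-1) :=
    inferInstanceAs ((tS A).IsLE (((tS A).truncLE (-1)).obj P) (-1))
  haveI hXGE : X.IsGE (-1 - (r : ℤ)) := by
    haveI : (tS A).IsGE P (-1 - (r : ℤ)) := (tS A).isGE_of_ge P (-1 - (r : ℤ)) (-(r : ℤ)) (by omega)
    exact inferInstanceAs ((tS A).IsGE (((tS A).truncLE (-1)).obj P) (-1 - (r : ℤ)))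
  haveI hYGE : Y.IsGE 0 := inferInstanceAs ((tS A).IsGE (((tS A).truncGE 0).obj P) 0)
  haveI hYLE : Y.IsLE 0 := by
    haveI : (tS A).IsLE P 0 := hPLE
    exact inferInstanceAs ((tS A).IsLE (((tS A).truncGE 0).obj P) 0)
  have hPC : ∀ n : ℤ, InC p.asIdeal (Dual.HD A P n) := fun n => hl ▸ inC_HD_KosD l n
  have hmod := tors_mod (W := W) p IH
  obtain ⟨N_X, hN_X⟩ := tors_of_amplitude p.asIdeal (A ⧸ p.asIdeal) hmod r (-1) X hXLE hXGE
    (inC_HD_truncLE p.asIdeal P hPC (-1))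
  -- `Y ≅ (A/p)[0]`
  obtain ⟨M, ⟨e⟩, ⟨e'⟩⟩ := nonempty_iso_single_shift Y 0
  obtain ⟨e1⟩ := nonempty_HD_truncGE_equiv P 0
  obtain ⟨e2⟩ := nonempty_HD_KosD_zero_equiv l
  let e3 : (A ⧸ Ideal.ofList l) ≃ₗ[A] (A ⧸ p.asIdeal) := Submodule.quotEquivOfEq _ _ hl
  let eD : M ≃ₗ[A] (A ⧸ p.asIdeal) := e'.toLinearEquiv ≪≫ₗ e1.symm ≪≫ₗ e2 ≪≫ₗ e3
  let iY : Y ≅ Dual.inD A (A ⧸ p.asIdeal) :=
    e ≪≫ (shiftFunctorZero' (Dual.D A) (-0) (by simp)).app _ ≪≫
      (DerivedCategory.singleFunctor (ModuleCat.{u} A) 0).mapIso eD.toModuleIso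
  have hT' := rot_of_distTriang _ hT
  refine ⟨r, max N_P (N_X + 1), fun i hi f hyp => ?_⟩
  have hiP : N_P < i := lt_of_le_of_lt (le_max_left _ _) hi
  have hiX : N_X < i - 1 := by
    have := lt_of_le_of_lt (le_max_right _ _) hi
    omega
  have h1 : Tors W f P i := Tors.of_subsingleton f (hN_P i hiP)
  have h2 : Tors W f X (i - 1) := by
    refine hN_X (i - 1) hiX f (fun n hn1 hn2 => ?_)
    have := hyp (n - 1) (by omega) (by omega)
    have heq : i + (n - 1) = i - 1 + n := by ring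
    rwa [heq] at this
  have h3 : Tors W f (X⟦(1 : ℤ)⟧) i := (Tors.shift_iff f X 1 i (i - 1) (by omega)).mpr h2
  have h4 : Tors W f Y i := Tors.of_triangle _ _ _ hT' h1 h3
  exact Tors.of_iso iY h4

end Step

end Groth.Agent.H26.ExtEvVan
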