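import Mathlib
import Groth.Prelude.Def_DDual2
import Groth.Agent.H26.ExtEvVan6

/-!
# Eventual vanishing of `Hom_{D(A)}(M[0], W[i])` for finite modules: main theorem (helper26)
-/

set_option autoImplicit false
set_option linter.unusedSectionVars false
set_option linter.style.haveILetI false

universe u

open CategoryTheory Limits Pretriangulated DerivedCategory

namespace Groth.Agent.H26.ExtEvVan

attribute [local instance] HasDerivedCategory.standard

open Groth.Agent.H2.DualCx Groth.Agent.H9.DCF Groth.Agent.H9.LD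

variable {A : Type u} [CommRing A] [IsNoetherianRing A] {W : Dual.D A}

section Mult

variable (p : Ideal A) [p.IsPrime] (f : A) (hf : f ∉ p)

/-- multiplication by `f` on `A/p` -/
noncomputable def mulf : (A ⧸ p) →ₗ[A] (A ⧸ p) := f • LinearMap.id

/-- the quotient map `A/p → A/(p + f)` -/
noncomputable def quotf : (A ⧸ p) →ₗ[A] (A ⧸ (p ⊔ Ideal.span {f})) :=
  Submodule.mapQ p (p ⊔ Ideal.span {f}) LinearMap.id le_sup_left

include hf in
theorem mulf_injective : Function.Injective (mulf p f) := by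
  rw [← LinearMap.ker_eq_bot, eq_bot_iff]
  intro x hx
  obtain ⟨a, rfl⟩ := Ideal.Quotient.mk_surjective x
  rw [LinearMap.mem_ker] at hx
  change f • (Ideal.Quotient.mk p a) = 0 at hx
  rw [Algebra.smul_def, Ideal.Quotient.algebraMap_eq, ← map_mul,
    Ideal.Quotient.eq_zero_iff_mem] at hx
  rw [Submodule.mem_bot, Ideal.Quotient.eq_zero_iff_mem]
  exact (Ideal.IsPrime.mem_or_mem inferInstance hx).resolve_left hf

theorem quotf_surjective : Function.Surjective (quotf p f) := by
  intro y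
  obtain ⟨a, rfl⟩ := Ideal.Quotient.mk_surjective y
  exact ⟨Ideal.Quotient.mk p a, rfl⟩

theorem exact_mulf_quotf : Function.Exact (mulf p f) (quotf p f) := by
  intro y
  obtain ⟨a, rfl⟩ := Ideal.Quotient.mk_surjective y
  have h1 : quotf p f (Ideal.Quotient.mk p a) = Ideal.Quotient.mk (p ⊔ Ideal.span {f}) a := rfl
  rw [h1, Ideal.Quotient.eq_zero_iff_mem, Submodule.mem_sup]
  constructor
  · rintro ⟨b, hb, c, hc, rfl⟩
    obtain ⟨d, rfl⟩ := Ideal.mem_span_singleton'.mp hc
    refine ⟨Ideal.Quotient.mk p d, ?_⟩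
    change f • (Ideal.Quotient.mk p d) = _
    rw [Algebra.smul_def, Ideal.Quotient.algebraMap_eq, ← map_mul, map_add,
      Ideal.Quotient.eq_zero_iff_mem.mpr hb, zero_add, mul_comm]
  · rintro ⟨x, hx⟩
    obtain ⟨d, rfl⟩ := Ideal.Quotient.mk_surjective x
    change f • (Ideal.Quotient.mk p d) = _ at hx
    rw [Algebra.smul_def, Ideal.Quotient.algebraMap_eq, ← map_mul, Ideal.Quotient.eq] at hx
    refine ⟨a - f * d, ?_, f * d, Ideal.mem_span_singleton'.mpr ⟨d, mul_comm _ _⟩, by ring⟩
    have := p.neg_mem hx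
    rwa [neg_sub] at this

end Mult

section Final

/-- the local hypothesis at a prime -/
def LocKill (W : Dual.D A) (p : PrimeSpectrum A) : Prop :=
  ∃ n : ℤ, ∀ i : ℤ, n < i → ∃ f : A, f ∉ p.asIdeal ∧
    ∀ g : Dual.inD A (A ⧸ p.asIdeal) ⟶ W⟦i⟧, f • g = 0

theorem ev_quot_prime_step (p : PrimeSpectrum A)
    (IH : ∀ q : PrimeSpectrum A, p < q → EV W (Dual.inD A (A ⧸ q.asIdeal)))
    (hA : EV W (Dual.inD A A)) (hlocp : LocKill W p) :
    EV W (Dual.inD A (A ⧸ p.asIdeal)) := by
  classical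
  obtain ⟨r, N₁, hrec⟩ := tors_recursion p IH hA
  obtain ⟨n₀, hn₀⟩ := hlocp
  set N₂ : ℤ := max N₁ (n₀ + r + 3) with hN₂
  have hN₂1 : N₁ ≤ N₂ := le_max_left _ _
  have hN₂2 : n₀ + r + 3 ≤ N₂ := le_max_right _ _
  -- choose the elements
  let F : ℤ → A := fun j => if h : n₀ < j then Classical.choose (hn₀ j h) else 1
  have hF1 : ∀ j, F j ∉ p.asIdeal := by
    intro j
    by_cases h : n₀ < j
    · simp only [F, dif_pos h]
      exact (Classical.choose_spec (hn₀ j h)).1
    · simp only [F, dif_neg h]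
      exact fun h1 => p.2.ne_top ((Ideal.eq_top_iff_one _).mpr h1)
  have hF2 : ∀ j, n₀ < j → ∀ g : Dual.inD A (A ⧸ p.asIdeal) ⟶ W⟦j⟧, F j • g = 0 := by
    intro j h g
    simp only [F, dif_pos h]
    exact (Classical.choose_spec (hn₀ j h)).2 g
  let S : Finset ℤ := Finset.Icc (N₂ - r - 2) N₂
  let f : A := ∏ j ∈ S, F j
  have hf : f ∉ p.asIdeal := by
    intro h
    haveI := p.2
    obtain ⟨j, -, hj⟩ := Ideal.IsPrime.prod_mem_iff.mp h
    exact hF1 j hj
  -- base
  have hbase : ∀ j ∈ S, Tors W f (Dual.inD A (A ⧸ p.asIdeal)) j := by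
    intro j hj
    refine ⟨1, fun g => ?_⟩
    have hj' : n₀ < j := by
      rw [Finset.mem_Icc] at hj
      omega
    have hfe : f = (∏ x ∈ S.erase j, F x) * F j := by
      rw [mul_comm]
      exact (Finset.mul_prod_erase S F hj).symm
    rw [pow_one, hfe, mul_smul, hF2 j hj' g, smul_zero]
  -- all degrees
  have hall : ∀ m : ℕ, ∀ i : ℤ, N₂ - r - 2 ≤ i → i ≤ N₂ + m →
      Tors W f (Dual.inD A (A ⧸ p.asIdeal)) i := by
    intro m
    induction m with
    | zero =>
      intro i h1 h2
      exact hbase i (Finset.mem_Icc.mpr ⟨h1, by simpa using h2⟩)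
    | succ m ih =>
      intro i h1 h2
      by_cases h3 : i ≤ N₂ + m
      · exact ih i h1 h3
      · have hi : i = N₂ + m + 1 := by
          push_cast at h2
          omega
        refine hrec i (by omega) f (fun n hn1 hn2 => ?_)
        exact ih (i + n) (by omega) (by omega)
  -- the quotient by `p + (f)`
  haveI := p.2
  let J : Ideal A := p.asIdeal ⊔ Ideal.span {f}
  have hJ : ∀ q : PrimeSpectrum A, J ≤ q.asIdeal → p < q := by
    intro q hq
    have h1 : p.asIdeal ≤ q.asIdeal := le_trans le_sup_left hq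
    have h2 : f ∈ q.asIdeal := hq (Ideal.mem_sup_right (Ideal.subset_span rfl))
    refine lt_of_le_of_ne h1 ?_
    intro heq
    subst heq
    exact hf h2
  obtain ⟨N₃, hN₃⟩ := ev_of_le_annihilator (W := W) p IH J hJ (A ⧸ J)
    (by rw [Ideal.annihilator_quotient])
  refine ⟨max N₂ N₃, fun i hi => ⟨fun g g' => ?_⟩⟩
  have hi2 : N₂ < i := lt_of_le_of_lt (le_max_left _ _) hi
  have hi3 : N₃ < i := lt_of_le_of_lt (le_max_right _ _) hi
  haveI := hN₃ i hi3
  -- `f` acts injectively
  have hinj : ∀ t : Dual.inD A (A ⧸ p.asIdeal) ⟶ W⟦i⟧, f • t = 0 → t = 0 := by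
    intro t ht
    have h1 : t ∈ LinearMap.ker (precomp W i (mulf p.asIdeal f)) := by
      rw [LinearMap.mem_ker]
      exact (precomp_smul_id W i f t).trans ht
    obtain ⟨s, hs⟩ := ker_precomp_le_range W (mulf p.asIdeal f) (quotf p.asIdeal f)
      (mulf_injective p.asIdeal f hf) (quotf_surjective p.asIdeal f)
      (exact_mulf_quotf p.asIdeal f) i h1
    rw [← hs, Subsingleton.elim s 0, map_zero]
  have hpow : ∀ (k : ℕ) (t : Dual.inD A (A ⧸ p.asIdeal) ⟶ W⟦i⟧), f ^ k • t = 0 → t = 0 := by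
    intro k
    induction k with
    | zero => intro t ht; simpa using ht
    | succ k ih =>
      intro t ht
      apply ih t
      apply hinj
      rw [← mul_smul, ← pow_succ']
      exact ht
  obtain ⟨k, hk⟩ := hall (i - N₂).toNat i (by omega) (by omega)
  have key : ∀ t : Dual.inD A (A ⧸ p.asIdeal) ⟶ W⟦i⟧, t = 0 := fun t => hpow k t (hk t)
  rw [key g, key g']

/-- eventual vanishing for the residue rings of all primes -/
theorem ev_quot_prime (hA : EV W (Dual.inD A A)) (hloc : ∀ p : PrimeSpectrum A, LocKill W p) :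
    ∀ p : PrimeSpectrum A, EV W (Dual.inD A (A ⧸ p.asIdeal)) := by
  haveI : WellFoundedGT (PrimeSpectrum A) :=
    StrictMono.wellFoundedGT (f := PrimeSpectrum.asIdeal) (fun _ _ h => h)
  intro p
  induction p using WellFoundedGT.induction with
  | ind p IH => exact ev_quot_prime_step p IH hA (hloc p)

/-- **Eventual vanishing of `Ext^i(M, W)` for all finite modules.** -/
theorem ev_of_finite (hA : EV W (Dual.inD A A)) (hloc : ∀ p : PrimeSpectrum A, LocKill W p)
    (M : Type u) [AddCommGroup M] [Module A M] [Module.Finite A M] : EV W (Dual.inD A M) := by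
  have hq := ev_quot_prime hA hloc
  refine induction_of_le_annihilator (⊥ : Ideal A) (fun N _ _ => EV W (Dual.inD A N)) ?_ ?_ ?_ M
    bot_le
  · intro N _ _ _
    exact ⟨0, fun i _ => subsingleton_hom_inD_of_subsingleton i⟩
  · intro N _ _ q _ e
    exact EV.of_linearEquiv e.symm (hq q)
  · intro N₁ N₂ N₃ _ _ _ _ _ _ φ ψ hφ hψ hex h₁ h₃
    exact EV.of_ses φ ψ hφ hψ hex h₁ h₃

end Final

end Groth.Agent.H26.ExtEvVan
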