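import Mathlib
import Groth.Prelude.Def_DDual2
import Groth.Prelude.Def_DRing2
import Groth.Agent.H26.ExtEvVan7
import Groth.Agent.H26.FlatBCDual8
import Groth.Agent.H35.InjAmp

/-!
# Eventual vanishing of `Ext^i(M, R)` for `R` pointwise of finite injective dimension (helper26)
-/

set_option autoImplicit false
set_option linter.unusedSectionVars false
set_option linter.style.haveILetI false

universe u

open CategoryTheory Limits Pretriangulated DerivedCategory TensorProduct

namespace Groth.Agent.H26.ExtEvVan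

attribute [local instance] HasDerivedCategory.standard

open Groth.Agent.H26.FlatBCHom Groth.Agent.H26.FlatBCDual

variable {A : Type u} [CommRing A] [IsNoetherianRing A]

/-- a finite module whose localization at `p` vanishes is killed by an element outside `p` -/
theorem exists_smul_eq_zero_of_subsingleton_tensor (p : Ideal A) [p.IsPrime] (T : Type*)
    [AddCommGroup T] [Module A T] [Module.Finite A T]
    (h : Subsingleton (Localization.AtPrime p ⊗[A] T)) : ∃ f : A, f ∉ p ∧ ∀ t : T, f • t = 0 := by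
  have h1 : Subsingleton (LocalizedModule p.primeCompl T) :=
    (LocalizedModule.equivTensorProduct p.primeCompl T).toEquiv.subsingleton
  have h2 : (⟨p, inferInstance⟩ : PrimeSpectrum A) ∉ Module.support A T :=
    Module.notMem_support_iff.mpr h1
  rw [Module.mem_support_iff_of_finite] at h2
  obtain ⟨f, hf1, hf2⟩ := Set.not_subset.mp h2
  exact ⟨f, hf2, fun t => Module.mem_annihilator.mp hf1 t⟩

theorem locKill_of_hasFiniteInjDim (R : Dual.D A) (a b : ℤ) (hGE : R.IsGE a) (hLE : R.IsLE b)
    (hfin : ∀ i : ℤ, Module.Finite A (Dual.HD A R i)) (p : PrimeSpectrum A)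
    [DRing.HasLBaseChange (algebraMap A (Localization.AtPrime p.asIdeal))]
    (h : DRing.HasFiniteInjDim (Localization.AtPrime p.asIdeal)
      ((DRing.LBaseChange (algebraMap A (Localization.AtPrime p.asIdeal))).obj R)) :
    LocKill R p := by
  obtain ⟨a', b', E, hE, hinj, ⟨e⟩⟩ := h
  refine ⟨b', fun i hi => ?_⟩
  haveI : IsNoetherianRing (Localization.AtPrime p.asIdeal) :=
    IsLocalization.isNoetherianRing p.asIdeal.primeCompl _ inferInstance
  have h0 := Groth.Agent.H35.subsingleton_hom_shift_of_injective_amplitude E a' b' hE hinj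
    (ModuleCat.of (Localization.AtPrime p.asIdeal) (Localization.AtPrime p.asIdeal ⧸
      p.asIdeal.map (algebraMap A (Localization.AtPrime p.asIdeal)))) i (Or.inr hi)
  have h1 : Subsingleton (Dual.inD (Localization.AtPrime p.asIdeal)
      (Localization.AtPrime p.asIdeal ⧸
        p.asIdeal.map (algebraMap A (Localization.AtPrime p.asIdeal))) ⟶
      ((LB A (Localization.AtPrime p.asIdeal)).obj R)⟦i⟧) :=
    (Iso.homCongr (Iso.refl _) ((shiftFunctor _ i).mapIso
      (e ≪≫ (lbcIso (A := A) (B := Localization.AtPrime p.asIdeal)).app R))).symm.subsingleton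
  have e2 := TQuotEquiv (C := Localization.AtPrime p.asIdeal) R a b hGE hLE p.asIdeal i
  haveI : Subsingleton (Localization.AtPrime p.asIdeal ⊗[A]
      (Dual.inD A (A ⧸ p.asIdeal) ⟶ R⟦i⟧)) := e2.symm.toEquiv.subsingleton
  haveI : Module.Finite A (Dual.inD A (A ⧸ p.asIdeal) ⟶ R⟦i⟧) :=
    Groth.Agent.H2.DualCx.finite_T R a
      (fun M _ _ j hj => subsingleton_T_of_isGE R a hGE M j hj) hfin i (A ⧸ p.asIdeal)
  haveI := p.2
  exact exists_smul_eq_zero_of_subsingleton_tensor p.asIdeal _ inferInstance

/-- **Main theorem**: `Ext^i(M, R) = 0` for `i ≫ 0`. -/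
theorem main (R : Dual.D A) (hfin : ∀ i : ℤ, Module.Finite A (Dual.HD A R i))
    (hbdd : ∃ a b : ℤ, ∀ i : ℤ, (i < a ∨ b < i) → Subsingleton (Dual.HD A R i))
    [∀ p : PrimeSpectrum A, DRing.HasLBaseChange (algebraMap A (Localization.AtPrime p.asIdeal))]
    (hpw : ∀ p : PrimeSpectrum A, DRing.HasFiniteInjDim (Localization.AtPrime p.asIdeal)
      ((DRing.LBaseChange (algebraMap A (Localization.AtPrime p.asIdeal))).obj R))
    (M : Type u) [AddCommGroup M] [Module A M] [Module.Finite A M] :
    ∃ N : ℤ, ∀ i : ℤ, N < i → Subsingleton (Dual.inD A M ⟶ R⟦i⟧) := by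
  obtain ⟨a, b, hab⟩ := hbdd
  have hGE : R.IsGE a := isGE_of_vanishing R a (fun i hi => hab i (Or.inl hi))
  have hLE : R.IsLE b := isLE_of_vanishing R b (fun i hi => hab i (Or.inr hi))
  have hA : EV R (Dual.inD A A) := ⟨b, fun i hi =>
    (Groth.Agent.H2.DualCx.subsingleton_T_self_iff R i).mpr (hab i (Or.inr hi))⟩
  exact ev_of_finite hA (fun p => locKill_of_hasFiniteInjDim R a b hGE hLE hfin p (hpw p)) M

end Groth.Agent.H26.ExtEvVan
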