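import Mathlib.CategoryTheory.FiberedCategory.Fibered
import Mathlib.CategoryTheory.Opposites

set_option autoImplicit false
open CategoryTheory Opposite
universe v₂ u₂ v u

namespace Groth.Agent.H26

variable {C : Type u} [Category.{v} C] {𝒳 : Type u₂} [Category.{v₂} 𝒳] (p : 𝒳 ⥤ C)

theorem op_isHomLift {R S : C} {a b : 𝒳} (f : R ⟶ S) (φ : a ⟶ b) [h : p.IsHomLift f φ] :
    p.op.IsHomLift f.op φ.op := by
  cases h
  exact (inferInstance : p.op.IsHomLift (p.op.map φ.op) φ.op)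

theorem unop_isHomLift {R S : Cᵒᵖ} {a b : 𝒳ᵒᵖ} (f : R ⟶ S) (φ : a ⟶ b) [h : p.op.IsHomLift f φ] :
    p.IsHomLift f.unop φ.unop := by
  cases h
  exact (inferInstance : p.IsHomLift (p.map φ.unop) φ.unop)

/-- a fibred and co-prefibred functor is co-fibred -/
theorem isFibered_op_of_isFibered [p.IsFibered] [p.op.IsPreFibered] : p.op.IsFibered := by
  refine { comp := ?_ }
  intro R S T f g a b c φ ψ hφ hψ
  have hφl : p.op.IsHomLift f φ := inferInstance
  have hψl : p.op.IsHomLift g ψ := inferInstance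
  refine { universal_property := ?_ }
  intro d χ hχ
  have hd : p.obj d.unop = R.unop :=
    congrArg Opposite.unop (IsHomLift.domain_eq p.op (f ≫ g) χ)
  obtain ⟨e, γ, hγ⟩ := IsPreFibered.exists_isCartesian p hd f.unop
  have hγs : p.IsStronglyCartesian f.unop γ := inferInstance
  have hχu : p.IsHomLift (g.unop ≫ f.unop) χ.unop := unop_isHomLift p (f ≫ g) χ
  obtain ⟨χ₁, ⟨hχ₁, hχ₁'⟩, huχ₁⟩ :=
    Functor.IsStronglyCartesian.universal_property p f.unop γ g.unop (g.unop ≫ f.unop) rfl χ.unop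
  have hχ₁op : p.op.IsHomLift g χ₁.op := op_isHomLift p g.unop χ₁
  obtain ⟨σ, ⟨hσ, hσ'⟩, huσ⟩ :=
    Functor.IsCartesian.universal_property (p := p.op) (f := g) (φ := ψ) χ₁.op
  have hγop : p.op.IsHomLift f γ.op := op_isHomLift p f.unop γ
  have hγσ : p.op.IsHomLift f (γ.op ≫ σ) := IsHomLift.comp_lift_id_right p.op f γ.op σ
  obtain ⟨τ, ⟨hτ, hτ'⟩, huτ⟩ :=
    Functor.IsCartesian.universal_property (p := p.op) (f := f) (φ := φ) (γ.op ≫ σ)
  refine ⟨τ, ⟨hτ, ?_⟩, ?_⟩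
  · rw [← Category.assoc, hτ', Category.assoc, hσ', ← op_comp, hχ₁', Quiver.Hom.op_unop]
  · rintro τ' ⟨hτ'1, hτ'2⟩
    apply huτ
    refine ⟨hτ'1, ?_⟩
    have h1 : p.op.IsHomLift f (τ' ≫ φ) := IsHomLift.comp_lift_id_left p.op f φ τ'
    have h1u : p.IsHomLift f.unop (τ' ≫ φ).unop := unop_isHomLift p f (τ' ≫ φ)
    obtain ⟨σ'₀, ⟨hσ'₀, hσ'₀'⟩, -⟩ :=
      Functor.IsStronglyCartesian.universal_property p f.unop γ (𝟙 S.unop) f.unop (by simp)
        (τ' ≫ φ).unop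
    have h2 : ψ.unop ≫ σ'₀ = χ₁ := by
      apply huχ₁
      refine ⟨?_, ?_⟩
      · have : p.IsHomLift g.unop ψ.unop := unop_isHomLift p g ψ
        exact IsHomLift.comp_lift_id_right p g.unop ψ.unop σ'₀
      · rw [Category.assoc, hσ'₀', ← unop_comp, Category.assoc, hτ'2]
    have h3 : σ'₀.op = σ := by
      apply huσ
      refine ⟨op_isHomLift p (𝟙 S.unop) σ'₀, ?_⟩
      rw [← h2]
      rfl
    rw [← h3, ← op_comp, hσ'₀']
    rfl

/-- a co-fibred and prefibred functor is fibred -/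
theorem isFibered_of_isFibered_op [p.op.IsFibered] [p.IsPreFibered] : p.IsFibered := by
  refine { comp := ?_ }
  intro R S T f g a b c φ ψ hφ hψ
  have hφl : p.IsHomLift f φ := inferInstance
  have hψl : p.IsHomLift g ψ := inferInstance
  refine { universal_property := ?_ }
  intro d χ hχ
  have hd : p.op.obj (op d) = op R := congrArg op (IsHomLift.domain_eq p (f ≫ g) χ)
  obtain ⟨e, γ, hγ⟩ := IsPreFibered.exists_isCartesian p.op hd f.op
  have hγs : p.op.IsStronglyCartesian f.op γ := inferInstance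
  have hχu : p.op.IsHomLift (g.op ≫ f.op) χ.op := op_isHomLift p (f ≫ g) χ
  obtain ⟨χ₁, ⟨hχ₁, hχ₁'⟩, huχ₁⟩ :=
    Functor.IsStronglyCartesian.universal_property p.op f.op γ g.op (g.op ≫ f.op) rfl χ.op
  have hχ₁u : p.IsHomLift g χ₁.unop := unop_isHomLift p g.op χ₁
  obtain ⟨σ, ⟨hσ, hσ'⟩, huσ⟩ :=
    Functor.IsCartesian.universal_property (p := p) (f := g) (φ := ψ) χ₁.unop
  have hγu : p.IsHomLift f γ.unop := unop_isHomLift p f.op γ
  have hγσ : p.IsHomLift f (γ.unop ≫ σ) := IsHomLift.comp_lift_id_right p f γ.unop σ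
  obtain ⟨τ, ⟨hτ, hτ'⟩, huτ⟩ :=
    Functor.IsCartesian.universal_property (p := p) (f := f) (φ := φ) (γ.unop ≫ σ)
  refine ⟨τ, ⟨hτ, ?_⟩, ?_⟩
  · rw [← Category.assoc, hτ', Category.assoc, hσ', ← unop_comp, hχ₁', Quiver.Hom.unop_op]
  · rintro τ' ⟨hτ'1, hτ'2⟩
    apply huτ
    refine ⟨hτ'1, ?_⟩
    have h1 : p.IsHomLift f (τ' ≫ φ) := IsHomLift.comp_lift_id_left p f φ τ'
    have h1u : p.op.IsHomLift f.op (τ' ≫ φ).op := op_isHomLift p f (τ' ≫ φ)
    obtain ⟨σ'₀, ⟨hσ'₀, hσ'₀'⟩, -⟩ :=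
      Functor.IsStronglyCartesian.universal_property p.op f.op γ (𝟙 (op S)) f.op (by simp)
        (τ' ≫ φ).op
    have h2 : ψ.op ≫ σ'₀ = χ₁ := by
      apply huχ₁
      refine ⟨?_, ?_⟩
      · have : p.op.IsHomLift g.op ψ.op := op_isHomLift p g ψ
        exact IsHomLift.comp_lift_id_right p.op g.op ψ.op σ'₀
      · rw [Category.assoc, hσ'₀', ← op_comp, Category.assoc, hτ'2]
    have h3 : σ'₀.unop = σ := by
      apply huσ
      refine ⟨unop_isHomLift p (𝟙 (op S)) σ'₀, ?_⟩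
      rw [← h2]
      rfl
    rw [← h3, ← unop_comp, hσ'₀']
    rfl

theorem isFibered_iff_isFibered_op [p.IsPreFibered] [p.op.IsPreFibered] :
    p.IsFibered ↔ p.op.IsFibered :=
  ⟨fun _ => isFibered_op_of_isFibered p, fun _ => isFibered_of_isFibered_op p⟩

end Groth.Agent.H26
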