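import Mathlib
import Groth.Agent.H72.HalfExact
import Groth.Agent.H35.KFBaseChange
import Groth.Agent.H35.LTensorRing
import Groth.Agent.H35.KFTorInv
import Groth.Agent.H12.Bridge
import Groth.Agent.H35.TorAmpRestrict
import Groth.Agent.H35.TorAmpD
import Groth.Agent.H35.RestrictFlat

/-!
# Fibrewise criterion for Tor-vanishing (helper26), part 1

For a flat local homomorphism `φ : R' → B` of Noetherian local rings and a complex `G` of finite
flat `B`-modules, the functor `N ↦ H^j(G ⊗_B (B ⊗_{R'} N))` is half exact, linear, and has finite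
values on finite modules; by the dévissage for half-exact functors (helper72) it vanishes on all
finite modules as soon as it vanishes on the residue field.
-/

set_option autoImplicit false
set_option linter.unusedSectionVars false
set_option linter.style.haveILetI false
universe u
open CategoryTheory Limits MonoidalCategory TensorProduct

namespace Groth.Agent.H26.FibreTor

open Groth.Agent.H35.KF Groth.Agent.H35.KFBC Groth.Agent.H35.LT

section TensCx

variable {B : Type u} [CommRing B] (G : CochainComplex (ModuleCat.{u} B) ℤ)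

/-- `N ↦ G ⊗ N`, termwise -/
noncomputable def tensCx : ModuleCat.{u} B ⥤ CochainComplex (ModuleCat.{u} B) ℤ where
  obj N := ((tensorRight N).mapHomologicalComplex (ComplexShape.up ℤ)).obj G
  map {N N'} f := (NatTrans.mapHomologicalComplex ((tensoringRight (ModuleCat.{u} B)).map f)
    (ComplexShape.up ℤ)).app G
  map_id N := by
    ext i
    simp
  map_comp f g := by
    ext i
    simp

@[simp] lemma tensCx_obj_X (N : ModuleCat.{u} B) (i : ℤ) :
    ((tensCx G).obj N).X i = (G.X i ⊗ N) := rfl

@[simp] lemma tensCx_map_f {N N' : ModuleCat.{u} B} (f : N ⟶ N') (i : ℤ) :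
    ((tensCx G).map f).f i = G.X i ◁ f := rfl

instance : (tensCx G).Additive where
  map_add {N N' f g} := by
    ext i : 1
    change G.X i ◁ (f + g) = G.X i ◁ f + G.X i ◁ g
    exact MonoidalPreadditive.whiskerLeft_add _ _

lemma tensCx_map_smul {N N' : ModuleCat.{u} B} (c : B) (f : N ⟶ N') :
    (tensCx G).map (c • f) = c • (tensCx G).map f := by
  ext i : 1
  change G.X i ◁ (c • f) = c • (G.X i ◁ f)
  exact MonoidalLinear.whiskerLeft_smul _ _ _

end TensCx

section T

variable {R' B : Type u} [CommRing R'] [CommRing B] (φ : R' →+* B)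
  (G : CochainComplex (ModuleCat.{u} B) ℤ) (j : ℤ)

/-- `N ↦ H^j(G ⊗_B (B ⊗_{R'} N))` -/
noncomputable def T : ModuleCat.{u} R' ⥤ ModuleCat.{u} B :=
  ModuleCat.extendScalars.{u, u, u} φ ⋙ tensCx G ⋙
    HomologicalComplex.homologyFunctor (ModuleCat.{u} B) (ComplexShape.up ℤ) j

instance : (T φ G j).Additive := by
  unfold T
  infer_instance

lemma T_obj_isZero_iff (N : ModuleCat.{u} R') :
    IsZero ((T φ G j).obj N) ↔ TensExactAt G ((ModuleCat.extendScalars.{u, u, u} φ).obj N) j := by
  rw [← exactAt_map_tensorRight_iff, HomologicalComplex.exactAt_iff_isZero_homology]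
  rfl

lemma T_hex (hφ : φ.Flat) (hflat : ∀ i, Module.Flat B (G.X i))
    (S : ShortComplex (ModuleCat.{u} R')) (hS : S.ShortExact) : (S.map (T φ G j)).Exact := by
  haveI := ModuleCat.preservesFiniteLimits_extendScalars_of_flat.{u} hφ
  have h1 : (S.map (ModuleCat.extendScalars.{u, u, u} φ)).ShortExact := hS.map_of_exact _
  have h2 : ((S.map (ModuleCat.extendScalars.{u, u, u} φ)).map (tensCx G)).ShortExact := by
    rw [HomologicalComplex.shortExact_iff_degreewise_shortExact]
    intro i
    haveI := hflat i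
    exact h1.map_of_exact (tensorLeft (G.X i))
  exact h2.homology_exact₂ j

lemma extendScalars_map_smul_id (N : ModuleCat.{u} R') (b : R') :
    (ModuleCat.extendScalars.{u, u, u} φ).map (ModuleCat.ofHom (b • (LinearMap.id : N →ₗ[R'] N))) =
      φ b • 𝟙 _ := by
  apply ModuleCat.hom_ext
  apply LinearMap.ext
  intro x
  change _ = HSMul.hSMul (α := B) (β := ↑((ModuleCat.extendScalars.{u, u, u} φ).obj N)) (φ b) x
  refine TensorProduct.induction_on
    (motive := fun x => (ModuleCat.Hom.hom ((ModuleCat.extendScalars.{u, u, u} φ).map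
      (ModuleCat.ofHom (b • (LinearMap.id : N →ₗ[R'] N))))) x =
      HSMul.hSMul (α := B) (β := ↑((ModuleCat.extendScalars.{u, u, u} φ).obj N)) (φ b) x) x ?_ ?_ ?_
  · have h0 : (HSMul.hSMul (α := B) (β := ↑((ModuleCat.extendScalars.{u, u, u} φ).obj N)) (φ b) 0)
        = 0 := smul_zero (φ b)
    exact (map_zero _).trans h0.symm
  · intro s n
    have h1 := ModuleCat.ExtendScalars.map_tmul φ
      (ModuleCat.ofHom (b • (LinearMap.id : N →ₗ[R'] N))) s n
    have h2 := ModuleCat.ExtendScalars.smul_tmul (f := φ) (M := N) (φ b) s n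
    have h3 : (s ⊗ₜ[R'] (b • n) : ((ModuleCat.restrictScalars φ).obj (ModuleCat.of B B)) ⊗[R'] N) =
        (b • s) ⊗ₜ[R'] n := (TensorProduct.smul_tmul b s n).symm
    exact h1.trans (h3.trans h2.symm)
  · intro x y hx hy
    have h0 : (HSMul.hSMul (α := B) (β := ↑((ModuleCat.extendScalars.{u, u, u} φ).obj N)) (φ b)
        (x + y)) = HSMul.hSMul (α := B) (β := ↑((ModuleCat.extendScalars.{u, u, u} φ).obj N)) (φ b) x
          + HSMul.hSMul (α := B) (β := ↑((ModuleCat.extendScalars.{u, u, u} φ).obj N)) (φ b) y :=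
      smul_add (φ b) _ _
    exact (map_add _ _ _).trans ((congrArg₂ (· + ·) hx hy).trans h0.symm)

lemma homologyMap_smul_id (K : CochainComplex (ModuleCat.{u} B) ℤ) (c : B) :
    HomologicalComplex.homologyMap (c • 𝟙 K) j = c • 𝟙 _ := by
  have h : (HomologicalComplex.shortComplexFunctor (ModuleCat.{u} B) (ComplexShape.up ℤ) j).map
      (c • 𝟙 K) = c • 𝟙 _ := by
    ext <;> rfl
  change ShortComplex.homologyMap ((HomologicalComplex.shortComplexFunctor (ModuleCat.{u} B)
    (ComplexShape.up ℤ) j).map (c • 𝟙 K)) = _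
  rw [h, ShortComplex.homologyMap_smul, ShortComplex.homologyMap_id]
  rfl

lemma T_hlin (N : ModuleCat.{u} R') (b : R') :
    (T φ G j).map (ModuleCat.ofHom (b • (LinearMap.id : N →ₗ[R'] N))) =
      ModuleCat.ofHom (φ b • (LinearMap.id : (T φ G j).obj N →ₗ[B] (T φ G j).obj N)) := by
  change HomologicalComplex.homologyMap ((tensCx G).map ((ModuleCat.extendScalars.{u, u, u} φ).map
    (ModuleCat.ofHom (b • (LinearMap.id : N →ₗ[R'] N))))) j = _
  rw [extendScalars_map_smul_id, tensCx_map_smul, CategoryTheory.Functor.map_id,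
    homologyMap_smul_id]
  rfl

lemma finite_homology [IsNoetherianRing B] (K : CochainComplex (ModuleCat.{u} B) ℤ)
    (h : Module.Finite B (K.X j)) : Module.Finite B (K.homology j) := by
  have hN : IsNoetherian B (K.X j) := isNoetherian_of_isNoetherianRing_of_finite B (K.X j)
  have h1 : Module.Finite B (K.cycles j) :=
    Module.Finite.of_injective (K.iCycles j).hom ((ModuleCat.mono_iff_injective _).1 inferInstance)
  exact Module.Finite.of_surjective (K.homologyπ j).hom
    ((ModuleCat.epi_iff_surjective _).1 inferInstance)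

lemma finite_extendScalars (N : ModuleCat.{u} R') (hN : Module.Finite R' N) :
    Module.Finite B ((ModuleCat.extendScalars.{u, u, u} φ).obj N) := by
  letI := φ.toAlgebra
  have : Module.Finite B (B ⊗[R'] N) := Module.Finite.base_change R' B N
  exact Module.Finite.equiv (Groth.Agent.H12.BC.bridge (A := R') (B := B) N).symm

lemma T_hfin [IsNoetherianRing B] (hfin : ∀ i, Module.Finite B (G.X i)) (N : ModuleCat.{u} R')
    (hN : Module.Finite R' N) : Module.Finite B ((T φ G j).obj N) := by
  apply finite_homology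
  have h1 := finite_extendScalars φ N hN
  have h2 := hfin j
  change Module.Finite B (G.X j ⊗[B] ((ModuleCat.extendScalars.{u, u, u} φ).obj N))
  infer_instance

end T

section Colimit

variable {R' : Type u} [CommRing R']

/-- exactness of `X ⊗ N → Y ⊗ N → Z ⊗ N` (with `Z` flat) can be tested on finitely generated `N` -/
lemma exact_rTensor_of_forall_fg {X Y Z : Type u} [AddCommGroup X] [Module R' X] [AddCommGroup Y]
    [Module R' Y] [AddCommGroup Z] [Module R' Z] [Module.Flat R' Z] (f : X →ₗ[R'] Y)
    (g : Y →ₗ[R'] Z) (hfg : g ∘ₗ f = 0) (N : Type u) [AddCommGroup N] [Module R' N]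
    (h : ∀ N' : Submodule R' N, Module.Finite R' N' →
      Function.Exact (LinearMap.rTensor N' f) (LinearMap.rTensor N' g)) :
    Function.Exact (LinearMap.rTensor N f) (LinearMap.rTensor N g) := by
  intro y
  constructor
  · intro hy
    obtain ⟨N', hN', hs⟩ := TensorProduct.exists_finite_submodule_right_of_setFinite {y}
      (Set.finite_singleton y)
    obtain ⟨y', rfl⟩ := hs (Set.mem_singleton y)
    have hinj : Function.Injective (LinearMap.lTensor Z N'.subtype) :=
      Module.Flat.lTensor_preserves_injective_linearMap _ N'.injective_subtype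
    have h1 : LinearMap.rTensor N' g y' = 0 := by
      apply hinj
      rw [map_zero, ← LinearMap.comp_apply, LinearMap.lTensor_comp_rTensor,
        ← LinearMap.rTensor_comp_lTensor, LinearMap.comp_apply, hy]
    obtain ⟨x', rfl⟩ := (h N' hN' y').1 h1
    refine ⟨LinearMap.lTensor X N'.subtype x', ?_⟩
    rw [← LinearMap.comp_apply, LinearMap.rTensor_comp_lTensor, ← LinearMap.lTensor_comp_rTensor,
      LinearMap.comp_apply]
  · rintro ⟨x, rfl⟩
    rw [← LinearMap.comp_apply, ← LinearMap.rTensor_comp, hfg, LinearMap.rTensor_zero,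
      LinearMap.zero_apply]

lemma tensExactAt_of_forall_fg (P : CochainComplex (ModuleCat.{u} R') ℤ) (j : ℤ)
    (hflat : Module.Flat R' (P.X (j + 1)))
    (h : ∀ (N' : Type u) [AddCommGroup N'] [Module R' N'] [Module.Finite R' N'],
      TensExactAt P (ModuleCat.of R' N') j) (N : ModuleCat.{u} R') : TensExactAt P N j := by
  rw [tensExactAt_iff_function_exact P N (j - 1) j (j + 1) (by simp) (by simp)]
  refine exact_rTensor_of_forall_fg _ _ ?_ N ?_
  · rw [← ModuleCat.hom_comp, P.d_comp_d]
    rfl
  · intro N' hN'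
    rw [← tensExactAt_iff_function_exact P N' (j - 1) j (j + 1) (by simp) (by simp)]
    exact h N'

end Colimit

section Main

attribute [local instance] HasDerivedCategory.standard

variable {R' B : Type u} [CommRing R'] [CommRing B] (φ : R' →+* B)
  (G : CochainComplex (ModuleCat.{u} B) ℤ) (j : ℤ)

/-- `G ⊗_B (B ⊗_{R'} N)` versus `G ⊗_{R'} N` -/
lemma tensExactAt_extendScalars_iff (N : ModuleCat.{u} R') :
    TensExactAt G ((ModuleCat.extendScalars.{u, u, u} φ).obj N) j ↔
      TensExactAt (resL φ G) N j := by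
  rw [← exactAt_tensor_sgl_iff, ← exactAt_tensor_sgl_iff (resL φ G) N,
    ← exactAt_iff_of_iso' (restrictTensorIso φ G (sgl N)) j, exactAt_map_restrictScalars_iff]
  exact exactAt_iff_of_iso' (whiskerLeftIso G
    ((HomologicalComplex.singleMapHomologicalComplex (ModuleCat.extendScalars.{u, u, u} φ)
      (ComplexShape.up ℤ) 0).app N).symm) j

variable [IsNoetherianRing R'] [IsLocalRing R'] [IsNoetherianRing B] [IsLocalRing B]
  [IsLocalHom φ]

/-- the fibrewise criterion on finite modules -/
theorem tensExactAt_of_fibre_finite (hφ : φ.Flat) (hfin : ∀ i, Module.Finite B (G.X i))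
    (hflat : ∀ i, Module.Flat B (G.X i))
    (h0 : TensExactAt G ((ModuleCat.extendScalars.{u, u, u} φ).obj
      (ModuleCat.of R' (R' ⧸ IsLocalRing.maximalIdeal R'))) j)
    (N : Type u) [AddCommGroup N] [Module R' N] [Module.Finite R' N] :
    TensExactAt G ((ModuleCat.extendScalars.{u, u, u} φ).obj (ModuleCat.of R' N)) j := by
  letI := φ.toAlgebra
  haveI : IsLocalHom (algebraMap R' B) := ‹IsLocalHom φ›
  rw [← T_obj_isZero_iff] at h0 ⊢
  exact Groth.Agent.H72.HalfExact.isZero_obj (T φ G j)
    (fun S hS _ _ _ => T_hex φ G j hφ hflat S hS) (fun N b => T_hlin φ G j N b)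
    (fun N hN => T_hfin φ G j hfin N hN) h0 N

/-- **the fibrewise criterion**: for a flat local homomorphism `φ : R' → B` of Noetherian local
rings and a complex `G` of finite flat `B`-modules, exactness in degree `j` of
`G ⊗_B (B ⊗_{R'} k)` implies that of `G ⊗_{R'} N` for every `R'`-module `N`. -/
theorem tensExactAt_resL_of_fibre (hφ : φ.Flat) (hfin : ∀ i, Module.Finite B (G.X i))
    (hflat : ∀ i, Module.Flat B (G.X i))
    (h0 : TensExactAt G ((ModuleCat.extendScalars.{u, u, u} φ).obj
      (ModuleCat.of R' (R' ⧸ IsLocalRing.maximalIdeal R'))) j)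
    (N : ModuleCat.{u} R') : TensExactAt (resL φ G) N j := by
  have hflat' : ∀ i, Module.Flat R' ((resL φ G).X i) := fun i => by
    letI := φ.toAlgebra
    haveI : Module.Flat R' B := hφ
    haveI := hflat i
    exact Groth.Agent.H35.KF.flat_restrictScalars_of_flat (R := R') (A := B) (G.X i)
  refine tensExactAt_of_forall_fg (resL φ G) j (hflat' _) ?_ N
  intro N' _ _ _
  rw [← tensExactAt_extendScalars_iff]
  exact tensExactAt_of_fibre_finite φ G j hφ hfin hflat h0 N'

/-- Tor amplitude from the fibre. -/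
theorem hasTorAmplitudeIn_of_fibre (hφ : φ.Flat) (hfin : ∀ i, Module.Finite B (G.X i))
    (hflat : ∀ i, Module.Flat B (G.X i)) (c : ℤ) (hc : ∀ i, c < i → IsZero (G.X i)) (a b : ℤ)
    (h0 : ∀ j : ℤ, (j < a ∨ b < j) → TensExactAt G ((ModuleCat.extendScalars.{u, u, u} φ).obj
      (ModuleCat.of R' (R' ⧸ IsLocalRing.maximalIdeal R'))) j) :
    DRing.HasTorAmplitudeIn R' a b (DerivedCategory.Q.obj (resL φ G)) := by
  have hflat' : ∀ i, Module.Flat R' ((resL φ G).X i) := fun i => by
    letI := φ.toAlgebra
    haveI : Module.Flat R' B := hφ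
    haveI := hflat i
    exact Groth.Agent.H35.KF.flat_restrictScalars_of_flat (R := R') (A := B) (G.X i)
  refine hasTorAmplitudeIn_of_torVanishing _ a b (resL φ G) c
    (fun i hi => (ModuleCat.restrictScalars φ).map_isZero (hc i hi)) hflat' (Iso.refl _) ?_
  intro N i hi
  exact tensExactAt_resL_of_fibre φ G i hφ hfin hflat (h0 i hi) N

end Main

end Groth.Agent.H26.FibreTor
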