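import Mathlib
import Groth.Agent.H35.LTensorRing
import Groth.Agent.H12.Bridge
import Groth.Agent.H28.PCohRestrict

/-!
# The local ring of a fibre (helper26)

For a prime `q` of an `R`-algebra `A` over `p = q ∩ R` and the corresponding prime `Q` of the
fibre ring `κ(p) ⊗_R A`, the local ring `(κ(p) ⊗_R A)_Q` is, as an `A_q`-module, `A_q ⊗_{R_p} κ(p)`.
-/

set_option autoImplicit false
set_option linter.unusedSectionVars false
set_option linter.style.haveILetI false
universe u
open CategoryTheory Limits TensorProduct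

namespace Groth.Agent.H26.FibreTor

open Groth.Agent.H35.LT

section FibreRing

attribute [local instance] Algebra.TensorProduct.rightAlgebra

variable (R A : Type u) [CommRing R] [CommRing A] [Algebra R A] (q : Ideal A) [q.IsPrime]
  (Qp : Ideal ((q.comap (algebraMap R A)).Fiber A)) [Qp.IsPrime]
  (hQ : Qp.comap (Algebra.TensorProduct.includeRight :
    A →ₐ[R] (q.comap (algebraMap R A)).Fiber A).toRingHom = q)

include hQ in
/-- the local ring of the fibre at `Q` is the localization of the fibre ring at `A ∖ q` -/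
theorem isLocalization_fibre :
    IsLocalization (Algebra.algebraMapSubmonoid ((q.comap (algebraMap R A)).Fiber A) q.primeCompl)
      (Localization.AtPrime Qp) := by
  set p := q.comap (algebraMap R A) with hp
  set M := Algebra.algebraMapSubmonoid (p.Fiber A) q.primeCompl with hM
  have h₁ : M ≤ Qp.primeCompl := by
    rintro x ⟨a, ha, rfl⟩
    intro hx
    apply ha
    rw [← hQ]
    exact hx
  have h₂ : ∀ t ∈ Qp.primeCompl, ∃ m ∈ M, t ∣ m := by
    intro t ht
    obtain ⟨r, hr, s, hs⟩ := Ideal.Fiber.exists_smul_eq_one_tmul p t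
    refine ⟨1 ⊗ₜ[R] s, ⟨s, ?_, rfl⟩, ?_⟩
    · intro hsq
      have h1 : (1 ⊗ₜ[R] s : p.Fiber A) ∈ Qp := by
        rw [← hQ] at hsq
        exact hsq
      rw [← hs, Algebra.smul_def] at h1
      rcases Ideal.IsPrime.mem_or_mem inferInstance h1 with h2 | h2
      · apply hr
        have := Ideal.over_def Qp p
        rw [this]
        exact h2
      · exact ht h2
    · rw [← hs, Algebra.smul_def]
      exact Dvd.intro_left _ rfl
  haveI : IsLocalization Qp.primeCompl (Localization M) :=
    IsLocalization.of_le_of_exists_dvd M Qp.primeCompl h₁ h₂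
  exact IsLocalization.isLocalization_of_algEquiv (S := Localization M)
    (P := Localization.AtPrime Qp) M
    (IsLocalization.algEquiv Qp.primeCompl (Localization M) (Localization.AtPrime Qp))

include hQ in
/-- `(κ(p) ⊗_R A)_Q ≅ A_q ⊗_{R_p} κ(p)` as `A_q`-modules -/
theorem nonempty_BA_iso :
    Nonempty (BA (A := Localization.AtPrime q) (B := Localization.AtPrime Qp)
        (Localization.localRingHom q Qp (Algebra.TensorProduct.includeRight :
        A →ₐ[R] (q.comap (algebraMap R A)).Fiber A).toRingHom hQ.symm) ≅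
      (ModuleCat.extendScalars.{u, u, u} (R := Localization.AtPrime (q.comap (algebraMap R A)))
        (S := Localization.AtPrime q)
        (Localization.localRingHom (q.comap (algebraMap R A)) q (algebraMap R A) rfl)).obj
        (ModuleCat.of (Localization.AtPrime (q.comap (algebraMap R A)))
          ((Localization.AtPrime (q.comap (algebraMap R A))) ⧸
            IsLocalRing.maximalIdeal (Localization.AtPrime (q.comap (algebraMap R A)))))) := by
  set p := q.comap (algebraMap R A) with hp
  let Rp := Localization.AtPrime p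
  let Aq := Localization.AtPrime q
  let Ak := p.Fiber A
  let D := Localization.AtPrime Qp
  let k := p.ResidueField
  let φ : Rp →+* Aq := Localization.localRingHom p q (algebraMap R A) rfl
  let ι : Aq →+* D := Localization.localRingHom q Qp (Algebra.TensorProduct.includeRight :
        A →ₐ[R] Ak).toRingHom hQ.symm
  letI : Algebra Rp Aq := φ.toAlgebra
  letI : Algebra Aq D := ι.toAlgebra
  haveI : IsScalarTower A Aq D := IsScalarTower.of_algebraMap_eq (fun a => by
    change algebraMap A D a = ι (algebraMap A Aq a)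
    rw [Localization.localRingHom_to_map]
    rfl)
  haveI : IsScalarTower R Rp Aq := IsScalarTower.of_algebraMap_eq (fun r => by
    change algebraMap R Aq r = φ (algebraMap R Rp r)
    rw [Localization.localRingHom_to_map, IsScalarTower.algebraMap_apply R A Aq])
  have hloc := isLocalization_fibre R A q Qp hQ
  have hLM : IsLocalizedModule q.primeCompl (IsScalarTower.toAlgHom A Ak D).toLinearMap :=
    isLocalizedModule_iff_isLocalization.2 hloc
  have hBC : IsBaseChange Aq (IsScalarTower.toAlgHom A Ak D).toLinearMap :=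
    IsLocalizedModule.isBaseChange q.primeCompl Aq _
  let e1 : Aq ⊗[A] Ak ≃ₗ[Aq] D := hBC.equiv
  let e2a : A ⊗[R] k ≃ₗ[A] Ak := (Algebra.TensorProduct.commRight R A k).toLinearEquiv
  let e2 : Aq ⊗[A] Ak ≃ₗ[Aq] Aq ⊗[A] (A ⊗[R] k) :=
    TensorProduct.AlgebraTensorModule.congr (LinearEquiv.refl Aq Aq) e2a.symm
  let e2' : Aq ⊗[A] (A ⊗[R] k) ≃ₗ[Aq] Aq ⊗[R] k :=
    TensorProduct.AlgebraTensorModule.cancelBaseChange R A Aq Aq k
  haveI : TensorProduct.CompatibleSMul R Rp Aq k :=
    IsLocalization.tensorProduct_compatibleSMul p.primeCompl Rp Aq k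
  let e3 : Aq ⊗[Rp] k ≃ₗ[Aq] Aq ⊗[R] k := TensorProduct.equivOfCompatibleSMul R Rp Aq Aq k
  let e : D ≃ₗ[Aq] Aq ⊗[Rp] k := e1.symm ≪≫ₗ e2 ≪≫ₗ e2' ≪≫ₗ e3.symm
  refine ⟨(Groth.Agent.H28.PCohRestrict.algebraRestrictIso Aq D).symm ≪≫ e.toModuleIso ≪≫
    (Groth.Agent.H12.BC.bridge (A := Rp) (B := Aq) (ModuleCat.of Rp k)).toModuleIso.symm⟩

end FibreRing

end Groth.Agent.H26.FibreTor
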