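import Mathlib
import Groth.Agent.S1789
import Groth.Agent.S1782
import Groth.Prelude.Def_Flat
import Groth.Agent.H28.ShriekFibre
import Groth.Agent.H2.DualCx.Support
import Groth.Agent.H2.DualCx.LocalCM

set_option autoImplicit false
set_option linter.style.haveILetI false
set_option linter.unusedSectionVars false
universe u
open CategoryTheory Limits Pretriangulated DerivedCategory TensorProduct

namespace Groth.Agent.H26.ShriekFieldDim

attribute [local instance] HasDerivedCategory.standard

open Groth.Agent.H2.DualCx Groth.Agent.H26.FlatBCHom Groth.Agent.H26.FlatBCDual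

section Normalized

variable (k : Type u) [Field k]

theorem isNormalized_inD_field : Dual.IsNormalized k (Dual.inD k k) := by
  intro i hi
  haveI : Module.Projective k (IsLocalRing.ResidueField k) := Module.Projective.of_free
  haveI : Projective (ModuleCat.of k (IsLocalRing.ResidueField k)) :=
    (IsProjective.iff_projective (R := k) (P := IsLocalRing.ResidueField k)).1 inferInstance
  exact subsingleton_hom_single_of_projective (ModuleCat.of k (IsLocalRing.ResidueField k))
    (ModuleCat.of k k) i hi

end Normalized

section Loc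

variable {B : Type u} [CommRing B] (m : Ideal B) [m.IsPrime]

/-- nontriviality of the localized cohomology in terms of the flat base change -/
theorem nontrivial_HD_LB_iff (K : Dual.D B) (i : ℤ) :
    Nontrivial (Dual.HD (Localization.AtPrime m) ((LB B (Localization.AtPrime m)).obj K) i) ↔
      Nontrivial (LocalizedModule m.primeCompl (Dual.HD B K i)) := by
  have e1 := HD_LB_equiv (B := Localization.AtPrime m) K i
  have e2 := (LocalizedModule.equivTensorProduct m.primeCompl (Dual.HD B K i))
  exact (e1.toEquiv.trans e2.symm.toEquiv).nontrivial_congr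

end Loc

section Max

variable (k B : Type u) [Field k] [CommRing B] [Algebra k B] [IsNoetherianRing B]

/-- the field case at a maximal ideal -/
theorem range_of_maximal (n : ℕ) (ψ : MvPolynomial (Fin n) k →ₐ[k] B)
    (hψ : Function.Surjective ψ) [DRing.HasLBaseChange (algebraMap k (MvPolynomial (Fin n) k))]
    (Rψ : Dual.D (MvPolynomial (Fin n) k) ⥤ Dual.D B) (adj : DRing.restrictD ψ.toRingHom ⊣ Rψ)
    (m : Ideal B) [m.IsMaximal] (i : ℤ)
    (h : Nontrivial (LocalizedModule m.primeCompl
      (Dual.HD B (Dual2.shriekVia n Rψ (Dual.inD k k)) i)))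
    (d : ℕ) (hd : ringKrullDim (Localization.AtPrime m) = d) : -(d : ℤ) ≤ i ∧ i ≤ 0 := by
  haveI := Groth.Agent.H35.LT.hasLBaseChange (algebraMap B (Localization.AtPrime m))
  have hm : m.comap (algebraMap k B) = IsLocalRing.maximalIdeal k := by
    rw [IsLocalRing.maximalIdeal_eq_bot]
    rcases Ideal.eq_bot_or_top (m.comap (algebraMap k B)) with h | h
    · exact h
    · exact absurd h (Ideal.comap_ne_top _ (Ideal.IsPrime.ne_top inferInstance))
  obtain ⟨hD, hNz⟩ := Groth.Agent.S1789.result k B n ψ hψ Rψ adj m hm (Dual.inD k k)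
    (Groth.Agent.H28.ShriekFibre.isDualizing_inD_field k) (isNormalized_inD_field k)
  set ω := Dual2.shriekVia n Rψ (Dual.inD k k) with hω
  set W := (DRing.LBaseChange (algebraMap B (Localization.AtPrime m))).obj ω with hW
  have hN : Norm W := norm_of_isDualizing hD hNz
  have hd' : Module.supportDim (Localization.AtPrime m) (Localization.AtPrime m) = d := by
    rw [Module.supportDim_self_eq_ringKrullDim, hd]
  refine (range_and_supportDim hN (Localization.AtPrime m) d hd' i).1 ?_
  rw [← not_subsingleton_iff_nontrivial, subsingleton_T_self_iff, not_subsingleton_iff_nontrivial]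
  have e := (lbcIso (A := B) (B := Localization.AtPrime m)).app ω
  have e' : Dual.HD (Localization.AtPrime m) W i ≃ₗ[Localization.AtPrime m]
      Dual.HD (Localization.AtPrime m) ((LB B (Localization.AtPrime m)).obj ω) i :=
    ((DerivedCategory.homologyFunctor _ i).mapIso e).toLinearEquiv
  exact e'.toEquiv.nontrivial_congr.2 ((nontrivial_HD_LB_iff m ω i).2 h)

end Max

section Height

open TopologicalSpace Topology

variable {B : Type u} [CommRing B]

/-- the dimension of the local ring at a point of an open subset is at most the dimension of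
the open subset -/
theorem ringKrullDim_atPrime_le_of_mem_open (m : PrimeSpectrum B) (U : Opens (PrimeSpectrum B))
    (hm : m ∈ U) :
    ringKrullDim (Localization.AtPrime m.asIdeal) ≤ topologicalKrullDim (U : Set (PrimeSpectrum B)) := by
  rw [← PrimeSpectrum.topologicalKrullDim_eq_ringKrullDim]
  have hmem : ∀ q : PrimeSpectrum (Localization.AtPrime m.asIdeal),
      PrimeSpectrum.comap (algebraMap B (Localization.AtPrime m.asIdeal)) q ∈ (U : Set (PrimeSpectrum B)) := by
    intro q
    have h1 : PrimeSpectrum.comap (algebraMap B (Localization.AtPrime m.asIdeal)) q ≤ m := by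
      have := (IsLocalization.AtPrime.under_maximalIdeal (Localization.AtPrime m.asIdeal) m.asIdeal)
      change Ideal.comap _ q.asIdeal ≤ m.asIdeal
      exact le_trans (Ideal.comap_mono (IsLocalRing.le_maximalIdeal q.2.ne_top)) (le_of_eq this)
    exact ((PrimeSpectrum.le_iff_specializes _ _).1 h1).mem_open U.2 hm
  let f : PrimeSpectrum (Localization.AtPrime m.asIdeal) → (U : Set (PrimeSpectrum B)) :=
    Set.codRestrict (PrimeSpectrum.comap (algebraMap B (Localization.AtPrime m.asIdeal))) _ hmem
  have hf : IsInducing f :=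
    (PrimeSpectrum.localization_comap_isInducing (Localization.AtPrime m.asIdeal)
      m.asIdeal.primeCompl).codRestrict hmem
  exact hf.topologicalKrullDim_le

end Height

section Prime

variable (k B : Type u) [Field k] [CommRing B] [Algebra k B] [IsNoetherianRing B]

/-- **the field case**: for `B` of finite type over a field `k`, `ω_B = φ^!(k)` has
`H^i(ω_B)_Q ≠ 0` only for `-dim_Q(Spec B) ≤ i ≤ 0`. -/
theorem range_of_prime (n : ℕ) (ψ : MvPolynomial (Fin n) k →ₐ[k] B)
    (hψ : Function.Surjective ψ) [DRing.HasLBaseChange (algebraMap k (MvPolynomial (Fin n) k))]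
    (Rψ : Dual.D (MvPolynomial (Fin n) k) ⥤ Dual.D B) (adj : DRing.restrictD ψ.toRingHom ⊣ Rψ)
    (Q : PrimeSpectrum B) (i : ℤ)
    (h : Nontrivial (LocalizedModule Q.asIdeal.primeCompl
      (Dual.HD B (Dual2.shriekVia n Rψ (Dual.inD k k)) i))) :
    i ≤ 0 ∧ (((-i).toNat : ℕ) : WithBot ℕ∞) ≤ FlatMor.localDim (PrimeSpectrum B) Q := by
  haveI : IsJacobsonRing B := isJacobsonRing_of_surjective ⟨ψ.toRingHom, hψ⟩
  have hdual : Dual.IsDualizing B (Dual2.shriekVia n Rψ (Dual.inD k k)) :=
    Groth.Agent.S1782.result k B n ψ hψ Rψ adj (Dual.inD k k)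
      (Groth.Agent.H28.ShriekFibre.isDualizing_inD_field k)
  set N := Dual.HD B (Dual2.shriekVia n Rψ (Dual.inD k k)) i with hN
  haveI : Module.Finite B N := hdual.finite_cohomology i
  have hZc : IsClosed (Module.support B N) := Module.isClosed_support
  have hQZ : Q ∈ Module.support B N := Module.mem_support_iff.2 h
  -- the key: for every open neighbourhood `U` of `Q`
  have key : ∀ U : TopologicalSpace.Opens (PrimeSpectrum B), Q ∈ U →
      i ≤ 0 ∧ (((-i).toNat : ℕ) : WithBot ℕ∞) ≤ topologicalKrullDim (U : Set (PrimeSpectrum B)) := by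
    intro U hQU
    have hlc : IsLocallyClosed ((U : Set (PrimeSpectrum B)) ∩ closure {Q}) :=
      U.2.isLocallyClosed.inter isClosed_closure.isLocallyClosed
    obtain ⟨m, ⟨hmU, hmQ⟩, hmc⟩ := nonempty_inter_closedPoints
      (⟨Q, hQU, subset_closure rfl⟩ : ((U : Set (PrimeSpectrum B)) ∩ closure {Q}).Nonempty) hlc
    haveI hmax : m.asIdeal.IsMaximal := (PrimeSpectrum.isClosed_singleton_iff_isMaximal m).1 hmc
    have hmZ : m ∈ Module.support B N :=
      closure_minimal (Set.singleton_subset_iff.2 hQZ) hZc hmQ
    have hnt : Nontrivial (LocalizedModule m.asIdeal.primeCompl N) := Module.mem_support_iff.1 hmZ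
    obtain ⟨d, hd⟩ := exists_ringKrullDim_eq_nat (A := Localization.AtPrime m.asIdeal)
    obtain ⟨h1, h2⟩ := range_of_maximal k B n ψ hψ Rψ adj m.asIdeal i hnt d hd
    refine ⟨h2, ?_⟩
    have h3 := ringKrullDim_atPrime_le_of_mem_open m U hmU
    rw [hd] at h3
    refine le_trans ?_ h3
    have : (-i).toNat ≤ d := by omega
    exact_mod_cast this
  refine ⟨(key ⊤ trivial).1, ?_⟩
  unfold FlatMor.localDim
  exact le_iInf fun U => (key U.1 U.2).2

end Prime

end Groth.Agent.H26.ShriekFieldDim
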