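import Mathlib
import Groth.Agent.H26.FibreTor1
import Groth.Agent.H26.FibreTor2
import Groth.Agent.H28.TorAmpLocal
import Groth.Agent.H26.ShriekFieldDim
import Groth.Agent.H28.ShriekFibre
import Groth.Agent.S13549

/-!
# Fibrewise criterion (helper26), part 3: from the fibre to the local ring
-/

set_option autoImplicit false
set_option linter.unusedSectionVars false
set_option linter.style.haveILetI false
universe u
open CategoryTheory Limits TensorProduct

namespace Groth.Agent.H26.FibreTor

open Groth.Agent.H35.KF Groth.Agent.H35.KFBC Groth.Agent.H35.LT Groth.Agent.H28.TorAmpLocal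

attribute [local instance] HasDerivedCategory.standard

section Transfer

attribute [local instance] Algebra.TensorProduct.rightAlgebra

variable (R A : Type u) [CommRing R] [CommRing A] [Algebra R A] (q : Ideal A) [q.IsPrime]
  (Qp : Ideal ((q.comap (algebraMap R A)).Fiber A)) [Qp.IsPrime]
  (hQ : Qp.comap (Algebra.TensorProduct.includeRight :
    A →ₐ[R] (q.comap (algebraMap R A)).Fiber A).toRingHom = q)
  (F : CochainComplex (ModuleCat.{u} A) ℤ) (j : ℤ)

include hQ in
/-- exactness on the local ring of the fibre gives exactness of the closed fibre of `F_q` -/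
theorem tensExactAt_residue_of_fibre
    (h : (extK (R := (q.comap (algebraMap R A)).Fiber A) (R' := Localization.AtPrime Qp)
      (algebraMap ((q.comap (algebraMap R A)).Fiber A) (Localization.AtPrime Qp))
      (extK (Algebra.TensorProduct.includeRight :
        A →ₐ[R] (q.comap (algebraMap R A)).Fiber A).toRingHom F)).ExactAt j) :
    TensExactAt (extK (R := A) (R' := Localization.AtPrime q)
      (algebraMap A (Localization.AtPrime q)) F)
      ((ModuleCat.extendScalars.{u, u, u} (R := Localization.AtPrime (q.comap (algebraMap R A)))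
        (S := Localization.AtPrime q)
        (Localization.localRingHom (q.comap (algebraMap R A)) q (algebraMap R A) rfl)).obj
        (ModuleCat.of (Localization.AtPrime (q.comap (algebraMap R A)))
          ((Localization.AtPrime (q.comap (algebraMap R A))) ⧸
            IsLocalRing.maximalIdeal (Localization.AtPrime (q.comap (algebraMap R A)))))) j := by
  obtain ⟨e⟩ := nonempty_BA_iso R A q Qp hQ
  rw [← tensExactAt_iff_of_iso _ e, ← exactAt_map_extendScalars_iff]
  set jA := (Algebra.TensorProduct.includeRight :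
        A →ₐ[R] (q.comap (algebraMap R A)).Fiber A).toRingHom with hjA
  set ι := Localization.localRingHom q Qp jA hQ.symm with hι
  have hsq : (algebraMap ((q.comap (algebraMap R A)).Fiber A) (Localization.AtPrime Qp)).comp jA =
      ι.comp (algebraMap A (Localization.AtPrime q)) := by
    ext a
    simp [ι, Localization.localRingHom_to_map]
  have i1 := (extKCompIso (R₃ := Localization.AtPrime Qp) jA
      (algebraMap ((q.comap (algebraMap R A)).Fiber A) (Localization.AtPrime Qp)) F)
  have i2 := extKCongrIso (R₂ := Localization.AtPrime Qp) _ _ hsq F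
  have i3 := extKCompIso (R₂ := Localization.AtPrime q) (R₃ := Localization.AtPrime Qp)
        (algebraMap A (Localization.AtPrime q)) ι F
  rw [← exactAt_iff_of_iso' i3 j, ← exactAt_iff_of_iso' i2 j, exactAt_iff_of_iso' i1 j]
  exact h

end Transfer

section Derived

open Groth.Agent.H26.FlatBCHom

variable {B : Type u} [CommRing B] (Q : Ideal B) [Q.IsPrime]

/-- if `H^j(K)_Q = 0` then `E ⊗_B B_Q` is exact in degree `j`, for `E` representing `K` -/
theorem exactAt_extK_of_localized (E : CochainComplex (ModuleCat.{u} B) ℤ) (K : Dual.D B)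
    (e : DerivedCategory.Q.obj E ≅ K) (j : ℤ)
    (h : Subsingleton (LocalizedModule Q.primeCompl (Dual.HD B K j))) :
    (extK (R := B) (R' := Localization.AtPrime Q) (algebraMap B (Localization.AtPrime Q))
      E).ExactAt j := by
  have h1 : ¬ Nontrivial (Dual.HD (Localization.AtPrime Q)
      ((LB B (Localization.AtPrime Q)).obj K) j) := by
    rw [Groth.Agent.H26.ShriekFieldDim.nontrivial_HD_LB_iff]
    exact not_nontrivial_iff_subsingleton.2 h
  rw [not_nontrivial_iff_subsingleton] at h1
  let i1 : (LB B (Localization.AtPrime Q)).obj K ≅ DerivedCategory.Q.obj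
      (extK (R := B) (R' := Localization.AtPrime Q) (algebraMap B (Localization.AtPrime Q)) E) :=
    (LB B (Localization.AtPrime Q)).mapIso e.symm ≪≫
      (F0 B (Localization.AtPrime Q)).mapDerivedCategoryFactors.app E
  rw [HomologicalComplex.exactAt_iff_isZero_homology]
  have h2 : IsZero ((DerivedCategory.homologyFunctor (ModuleCat.{u} (Localization.AtPrime Q)) j).obj
      ((LB B (Localization.AtPrime Q)).obj K)) := by
    rw [ModuleCat.isZero_iff_subsingleton]
    exact h1
  exact (h2.of_iso ((DerivedCategory.homologyFunctor _ j).mapIso i1.symm)).of_iso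
    ((DerivedCategory.homologyFunctorFactors _ j).app _).symm

end Derived

section Fibre

open Groth.Agent.H26.CoextBC Groth.Agent.H28.ShriekNonFlatBC Pretriangulated

attribute [local instance] MvPolynomial.algebraMvPolynomial
attribute [local instance] Algebra.TensorProduct.rightAlgebra

lemma subsingleton_localizedModule_of_linearEquiv {B : Type u} [CommRing B] {M N : Type u}
    [AddCommGroup M] [Module B M] [AddCommGroup N] [Module B N] (e : M ≃ₗ[B] N) (S : Submonoid B)
    (h : Subsingleton (LocalizedModule S N)) : Subsingleton (LocalizedModule S M) := by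
  rw [LocalizedModule.subsingleton_iff] at h ⊢
  intro m
  obtain ⟨r, hr, h0⟩ := h (e m)
  refine ⟨r, hr, e.injective ?_⟩
  rw [map_smul, h0, map_zero]

variable (R A : Type u) [CommRing R] [CommRing A] [IsNoetherianRing R] [IsNoetherianRing A]
  [Algebra R A] [Module.Flat R A] (n : ℕ) (ψ : MvPolynomial (Fin n) R →ₐ[R] A)
  (hψ : Function.Surjective ψ) [DRing.HasLBaseChange (algebraMap R (MvPolynomial (Fin n) R))]
  (Rψ : Dual.D (MvPolynomial (Fin n) R) ⥤ Dual.D A) (adj : DRing.restrictD ψ.toRingHom ⊣ Rψ)

include ψ hψ adj in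
set_option maxHeartbeats 1600000 in
/-- the cohomology of the base change of `ω_{A/R}` to the fibre over `p`, localized at a prime
`Q` of the fibre, vanishes outside `[-dim_Q, 0]` -/
theorem subsingleton_localized_HD_fibre (k : Type u) [Field k] [Algebra R k]
    [DRing.HasLBaseChange (Algebra.TensorProduct.includeRight : A →ₐ[R] k ⊗[R] A).toRingHom]
    (Q : PrimeSpectrum (k ⊗[R] A)) (j : ℤ)
    (hj : 0 < j ∨ FlatMor.localDim (PrimeSpectrum (k ⊗[R] A)) Q < (((-j).toNat : ℕ) : WithBot ℕ∞)) :
    Subsingleton (LocalizedModule Q.asIdeal.primeCompl (Dual.HD (k ⊗[R] A) ((DRing.LBaseChange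
      (Algebra.TensorProduct.includeRight : A →ₐ[R] k ⊗[R] A).toRingHom).obj
        (Dual2.shriekVia n Rψ (Dual.inD R R))) j)) := by
  letI algP'A' : Algebra (MvPolynomial (Fin n) k) (k ⊗[R] A) :=
    (psiBC R k A n ψ).toRingHom.toAlgebra
  have hsurj : Function.Surjective (algebraMap (MvPolynomial (Fin n) k) (k ⊗[R] A)) :=
    psiBC_surjective R k A n ψ hψ
  haveI hN : IsNoetherianRing (k ⊗[R] A) :=
    isNoetherianRing_of_surjective (MvPolynomial (Fin n) k) (k ⊗[R] A)
      (algebraMap (MvPolynomial (Fin n) k) (k ⊗[R] A)) hsurj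
  haveI fin : Module.Finite (MvPolynomial (Fin n) k) (k ⊗[R] A) :=
    Module.Finite.of_surjective (Algebra.linearMap (MvPolynomial (Fin n) k) (k ⊗[R] A)) hsurj
  haveI hLB1 : DRing.HasLBaseChange (algebraMap k (MvPolynomial (Fin n) k)) :=
    Groth.Agent.H35.LT.hasLBaseChange _
  haveI hLB2 : DRing.HasLBaseChange (algebraMap R k) := Groth.Agent.H35.LT.hasLBaseChange _
  obtain ⟨e⟩ := nonempty_shriekVia_baseChange_of_flat R k A (@Groth.Agent.S13549.result) n ψ hψ Rψ
    adj n (psiBC R k A n ψ) (psiBC_surjective R k A n ψ hψ)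
    (RR (MvPolynomial (Fin n) k) (k ⊗[R] A)) (adjRR (MvPolynomial (Fin n) k) (k ⊗[R] A))
    (Dual.inD R R)
  obtain ⟨e0⟩ := Groth.Agent.H28.ShriekFibre.nonempty_LBaseChange_inD_self R k
  let iso : (DRing.LBaseChange
      (Algebra.TensorProduct.includeRight : A →ₐ[R] k ⊗[R] A).toRingHom).obj
        (Dual2.shriekVia n Rψ (Dual.inD R R)) ≅
      Dual2.shriekVia n (RR (MvPolynomial (Fin n) k) (k ⊗[R] A)) (Dual.inD k k) :=
    e ≪≫ (shiftFunctor (Dual.D (k ⊗[R] A)) (n : ℤ)).mapIso
      ((RR (MvPolynomial (Fin n) k) (k ⊗[R] A)).mapIso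
        ((DRing.LBaseChange (algebraMap k (MvPolynomial (Fin n) k))).mapIso e0))
  by_contra hne
  rw [not_subsingleton_iff_nontrivial] at hne
  have hne' : Nontrivial (LocalizedModule Q.asIdeal.primeCompl (Dual.HD (k ⊗[R] A)
      (Dual2.shriekVia n (RR (MvPolynomial (Fin n) k) (k ⊗[R] A)) (Dual.inD k k)) j)) := by
    by_contra hc
    rw [not_nontrivial_iff_subsingleton] at hc
    have := subsingleton_localizedModule_of_linearEquiv
      ((DerivedCategory.homologyFunctor (ModuleCat.{u} (k ⊗[R] A)) j).mapIso iso).toLinearEquiv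
      Q.asIdeal.primeCompl hc
    exact (not_subsingleton_iff_nontrivial.2 hne) this
  obtain ⟨h1, h2⟩ := Groth.Agent.H26.ShriekFieldDim.range_of_prime k (k ⊗[R] A) n
    (psiBC R k A n ψ) (psiBC_surjective R k A n ψ hψ)
    (RR (MvPolynomial (Fin n) k) (k ⊗[R] A)) (adjRR (MvPolynomial (Fin n) k) (k ⊗[R] A)) Q j hne'
  rcases hj with hj | hj
  · omega
  · exact absurd (lt_of_le_of_lt h2 hj) (lt_irrefl _)

end Fibre

end Groth.Agent.H26.FibreTor
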