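import Mathlib
import Groth.Agent.H26.FibreTor3
import Groth.Agent.H17.Chev.Chart

/-!
# Fibrewise criterion (helper26), part 4: `ω_{A/R}` for flat `R → A`
-/

set_option autoImplicit false
set_option linter.unusedSectionVars false
set_option linter.style.haveILetI false
universe u
open CategoryTheory Limits TensorProduct

namespace Groth.Agent.H26.FibreTor

open Groth.Agent.H35.KF Groth.Agent.H35.KFBC Groth.Agent.H35.LT Groth.Agent.H28.TorAmpLocal

attribute [local instance] HasDerivedCategory.standard
attribute [local instance] Algebra.TensorProduct.rightAlgebra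

section Omega

variable (R A : Type u) [CommRing R] [CommRing A] [IsNoetherianRing R] [IsNoetherianRing A]
  [Algebra R A] [Module.Flat R A] (n : ℕ) (ψ : MvPolynomial (Fin n) R →ₐ[R] A)
  (hψ : Function.Surjective ψ) [DRing.HasLBaseChange (algebraMap R (MvPolynomial (Fin n) R))]
  (Rψ : Dual.D (MvPolynomial (Fin n) R) ⥤ Dual.D A) (adj : DRing.restrictD ψ.toRingHom ⊣ Rψ)

include ψ hψ adj in
/-- the closed fibre of `F_q` is exact outside `[-d, 0]`, `d` the fibre dimension at `q` -/
theorem tensExactAt_residue_omega (qS : PrimeSpectrum A) (j : ℤ)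
    (hj : 0 < j ∨ FlatMor.fibreDimAt (AlgebraicGeometry.Spec.map (CommRingCat.ofHom
      (algebraMap R A))) qS < (((-j).toNat : ℕ) : WithBot ℕ∞))
    (F : CochainComplex (ModuleCat.{u} A) ℤ) (hKF : IsKFlat F)
    (e : DerivedCategory.Q.obj F ≅ Dual2.shriekVia n Rψ (Dual.inD R R)) :
    TensExactAt (extK (R := A) (R' := Localization.AtPrime qS.asIdeal)
      (algebraMap A (Localization.AtPrime qS.asIdeal)) F)
      ((ModuleCat.extendScalars.{u, u, u}
        (R := Localization.AtPrime (qS.asIdeal.comap (algebraMap R A)))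
        (S := Localization.AtPrime qS.asIdeal)
        (Localization.localRingHom (qS.asIdeal.comap (algebraMap R A)) qS.asIdeal
          (algebraMap R A) rfl)).obj
        (ModuleCat.of (Localization.AtPrime (qS.asIdeal.comap (algebraMap R A)))
          ((Localization.AtPrime (qS.asIdeal.comap (algebraMap R A))) ⧸
            IsLocalRing.maximalIdeal
              (Localization.AtPrime (qS.asIdeal.comap (algebraMap R A)))))) j := by
  let Qs : PrimeSpectrum ((qS.asIdeal.comap (algebraMap R A)).ResidueField ⊗[R] A) :=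
    PrimeSpectrum.preimageHomeomorphFiber R A (PrimeSpectrum.comap (algebraMap R A) qS) ⟨qS, rfl⟩
  have hdim : FlatMor.fibreDimAt (AlgebraicGeometry.Spec.map (CommRingCat.ofHom
      (algebraMap R A))) qS = FlatMor.localDim (PrimeSpectrum
        ((qS.asIdeal.comap (algebraMap R A)).ResidueField ⊗[R] A)) Qs :=
    Groth.Agent.H17.Chev.fibreDimAt_specMap R A (PrimeSpectrum.comap (algebraMap R A) qS) qS rfl
      qS rfl
  haveI : Qs.asIdeal.IsPrime := Qs.isPrime
  have hQ : Qs.asIdeal.comap (Algebra.TensorProduct.includeRight :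
      A →ₐ[R] (qS.asIdeal.comap (algebraMap R A)).Fiber A).toRingHom = qS.asIdeal := by
    have h1 := (PrimeSpectrum.preimageHomeomorphFiber R A
      (PrimeSpectrum.comap (algebraMap R A) qS)).symm_apply_apply ⟨qS, rfl⟩
    exact congrArg (fun z => z.1.asIdeal) h1
  haveI : DRing.HasLBaseChange (Algebra.TensorProduct.includeRight :
      A →ₐ[R] (qS.asIdeal.comap (algebraMap R A)).ResidueField ⊗[R] A).toRingHom :=
    Groth.Agent.H35.LT.hasLBaseChange _
  have h1 := subsingleton_localized_HD_fibre R A n ψ hψ Rψ adj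
    (qS.asIdeal.comap (algebraMap R A)).ResidueField Qs j (hdim ▸ hj)
  let iso : DerivedCategory.Q.obj (extK (Algebra.TensorProduct.includeRight :
      A →ₐ[R] (qS.asIdeal.comap (algebraMap R A)).ResidueField ⊗[R] A).toRingHom F) ≅
      (DRing.LBaseChange (Algebra.TensorProduct.includeRight :
      A →ₐ[R] (qS.asIdeal.comap (algebraMap R A)).ResidueField ⊗[R] A).toRingHom).obj
        (Dual2.shriekVia n Rψ (Dual.inD R R)) :=
    (LBaseChangeIso _ F hKF).symm ≪≫ (DRing.LBaseChange _).mapIso e
  have h2 := exactAt_extK_of_localized Qs.asIdeal _ _ iso j h1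
  exact tensExactAt_residue_of_fibre R A qS.asIdeal Qs.asIdeal hQ F j h2

end Omega

end Groth.Agent.H26.FibreTor
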