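import Mathlib
import Groth.Prelude.Def_DDual2
import Groth.Agent.H26.FlatBCDual13

/-!
# Dualizing complexes and flat base change, part 14: localization toolkit (helper26)

* `tmul_one_eq_zero_iff`, `subsingleton_tensor_iff`, `exists_smul_eq_zero_of_finite`:
  `S⁻¹P ⊗_P M` and torsion.
* `baseChange_bijective_of_torsion`: a linear map with torsion kernel and cokernel becomes bijective
  after localization.
* `nonempty_LB_iso_single_of_torsion`: a complex whose cohomology is `f`-power torsion outside degree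
  `c` and "generically free of rank one" in degree `c` becomes `A_f[-c]` over `A_f`.
-/

set_option autoImplicit false
set_option linter.unusedSectionVars false
set_option linter.style.haveILetI false
set_option linter.overlappingInstances false

universe u

open CategoryTheory Limits Pretriangulated DerivedCategory TensorProduct

namespace Groth.Agent.H26.FlatBCDual

open Groth.Agent.H26.FlatBCHom

attribute [local instance] HasDerivedCategory.standard
attribute [local instance] homModuleA

section Toolkit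

variable {P : Type*} [CommRing P] (S : Submonoid P) (PS : Type*) [CommRing PS] [Algebra P PS]
  [IsLocalization S PS] (M : Type*) [AddCommGroup M] [Module P M]

theorem isLocalizedModule_tmul : IsLocalizedModule S (TensorProduct.mk P PS M 1) :=
  (isLocalizedModule_iff_isBaseChange S PS _).mpr (TensorProduct.isBaseChange P M PS)

theorem tmul_one_eq_zero_iff (m : M) : (1 : PS) ⊗ₜ[P] m = 0 ↔ ∃ s : S, s • m = 0 := by
  haveI := isLocalizedModule_tmul S PS M
  exact IsLocalizedModule.eq_zero_iff S (TensorProduct.mk P PS M 1)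

theorem exists_smul_eq_tmul (t : PS ⊗[P] M) : ∃ (s : S) (m : M), s • t = (1 : PS) ⊗ₜ[P] m := by
  haveI := isLocalizedModule_tmul S PS M
  obtain ⟨⟨m, s⟩, h⟩ := IsLocalizedModule.surj S (TensorProduct.mk P PS M 1) t
  exact ⟨s, m, h⟩

theorem smul_eq_zero_iff_of_mem (s : S) (t : PS ⊗[P] M) : s • t = 0 ↔ t = 0 := by
  have h1 : s • t = algebraMap P PS s • t := by
    rw [Submonoid.smul_def, algebraMap_smul]
  rw [h1]
  exact (IsLocalization.map_units PS s).smul_eq_zero

theorem subsingleton_tensor_iff :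
    Subsingleton (PS ⊗[P] M) ↔ ∀ m : M, ∃ s : S, s • m = 0 := by
  constructor
  · intro h m
    exact (tmul_one_eq_zero_iff S PS M m).mp (Subsingleton.elim _ _)
  · intro h
    refine ⟨fun t t' => ?_⟩
    have key : ∀ t : PS ⊗[P] M, t = 0 := by
      intro t
      obtain ⟨s, m, hs⟩ := exists_smul_eq_tmul S PS M t
      rw [(tmul_one_eq_zero_iff S PS M m).mpr (h m)] at hs
      exact (smul_eq_zero_iff_of_mem S PS M s t).mp hs
    rw [key t, key t']

theorem exists_smul_eq_zero_of_finite [Module.Finite P M] (h : Subsingleton (PS ⊗[P] M)) :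
    ∃ s : S, ∀ m : M, s • m = 0 := by
  have h' := (subsingleton_tensor_iff S PS M).mp h
  obtain ⟨G, hG⟩ := (Module.finite_def (R := P) (M := M)).mp inferInstance
  choose σ hσ using h'
  refine ⟨∏ x ∈ G, σ x, fun m => ?_⟩
  have hm : m ∈ Submodule.span P (G : Set M) := hG ▸ Submodule.mem_top
  induction hm using Submodule.span_induction with
  | mem x hx =>
    obtain ⟨r, hr⟩ := Finset.dvd_prod_of_mem σ hx
    rw [hr, mul_comm, mul_smul, hσ x, smul_zero]
  | zero => exact smul_zero _
  | add x y _ _ hx hy => rw [smul_add, hx, hy, add_zero]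
  | smul a x _ hx => rw [smul_comm, hx, smul_zero]

variable {M} {N : Type*} [AddCommGroup N] [Module P N]

/-- a linear map with `S`-torsion kernel and cokernel becomes bijective after localization -/
theorem baseChange_bijective_of_torsion (φ : M →ₗ[P] N)
    (hker : ∀ m : M, φ m = 0 → ∃ s : S, s • m = 0)
    (hcoker : ∀ n : N, ∃ (s : S) (m : M), s • n = φ m) :
    Function.Bijective (φ.baseChange PS) := by
  constructor
  · rw [injective_iff_map_eq_zero]
    intro t ht
    obtain ⟨s, m, hs⟩ := exists_smul_eq_tmul S PS M t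
    have h1 : (1 : PS) ⊗ₜ[P] φ m = 0 := by
      have : φ.baseChange PS (s • t) = (1 : PS) ⊗ₜ[P] φ m := by
        rw [hs, LinearMap.baseChange_tmul]
      rw [← this, Submonoid.smul_def, ← algebraMap_smul PS, map_smul, ht, smul_zero]
    obtain ⟨s', hs'⟩ := (tmul_one_eq_zero_iff S PS N (φ m)).mp h1
    have h2 : φ (s' • m) = 0 := by
      rw [Submonoid.smul_def, map_smul]; exact hs'
    obtain ⟨s'', hs''⟩ := hker _ h2
    have h3 : (1 : PS) ⊗ₜ[P] m = 0 :=
      (tmul_one_eq_zero_iff S PS M m).mpr ⟨s'' * s', by rw [mul_smul]; exact hs''⟩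
    rw [h3] at hs
    exact (smul_eq_zero_iff_of_mem S PS M s t).mp hs
  · intro u
    obtain ⟨s, n, hs⟩ := exists_smul_eq_tmul S PS N u
    obtain ⟨s', m, hm⟩ := hcoker n
    obtain ⟨v, hv⟩ := (IsLocalization.map_units PS (s' * s)).exists_left_inv
    refine ⟨v • ((1 : PS) ⊗ₜ[P] m), ?_⟩
    rw [map_smul, LinearMap.baseChange_tmul, ← hm]
    have h4 : (1 : PS) ⊗ₜ[P] (s' • n) = (s' * s) • u := by
      rw [mul_smul, hs]
      change (1 : PS) ⊗ₜ[P] ((s' : P) • n) = (s' : P) • ((1 : PS) ⊗ₜ[P] n)
      rw [TensorProduct.tmul_smul]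
    have h5 : ((s' * s : S) • u) = algebraMap P PS ((s' * s : S) : P) • u := by
      rw [Submonoid.smul_def, algebraMap_smul]
    rw [h4, h5, smul_smul, hv, one_smul]

end Toolkit

section Invertible

variable {A : Type u} [CommRing A]

/-- **Criterion for `V ⊗ A_f ≅ A_f[-c]`**: the cohomology of `V` is `f`-power torsion outside degree
`c`, and in degree `c` there is an element `e` such that `A → H^c(V)`, `a ↦ a • e` has `f`-power
torsion kernel and cokernel. -/
theorem nonempty_LB_iso_single_of_torsion (f : A) (V : Dual.D A) (c : ℤ)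
    (h1 : ∀ j : ℤ, j ≠ c → ∀ y : Dual.HD A V j, ∃ N : ℕ, f ^ N • y = 0)
    (e : Dual.HD A V c)
    (hker : ∀ a : A, a • e = 0 → ∃ N : ℕ, f ^ N * a = 0)
    (hcoker : ∀ y : Dual.HD A V c, ∃ (N : ℕ) (a : A), f ^ N • y = a • e) :
    Nonempty ((LB A (Localization.Away f)).obj V ≅
      (DerivedCategory.singleFunctor (ModuleCat.{u} (Localization.Away f)) c).obj
        (ModuleCat.of (Localization.Away f) (Localization.Away f))) := by
  set Af := Localization.Away f with hAf
  set W := (LB A Af).obj V with hW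
  have hvan : ∀ j : ℤ, j ≠ c → Subsingleton (Dual.HD Af W j) := by
    intro j hj
    haveI : Subsingleton (Af ⊗[A] Dual.HD A V j) := by
      rw [subsingleton_tensor_iff (Submonoid.powers f) Af]
      intro y
      obtain ⟨N, hN⟩ := h1 j hj y
      exact ⟨⟨f ^ N, N, rfl⟩, hN⟩
    exact (HD_LB_equiv (B := Af) V j).toEquiv.subsingleton
  haveI hGE : W.IsGE c := isGE_of_vanishing W c (fun i hi => hvan i (by omega))
  haveI hLE : W.IsLE c := isLE_of_vanishing W c (fun i hi => hvan i (by omega))
  obtain ⟨M₀, ⟨e₀⟩⟩ := DerivedCategory.exists_iso_singleFunctor_obj_of_isGE_of_isLE W c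
  let i2 : Dual.HD Af W c ≃ₗ[Af] M₀ :=
    ((DerivedCategory.homologyFunctor (ModuleCat.{u} Af) c).mapIso e₀ ≪≫
      (DerivedCategory.singleFunctorCompHomologyFunctorIso (ModuleCat.{u} Af) c).app M₀).toLinearEquiv
  let φ : A →ₗ[A] Dual.HD A V c := LinearMap.toSpanSingleton A _ e
  have hφ : Function.Bijective (φ.baseChange Af) := by
    refine baseChange_bijective_of_torsion (Submonoid.powers f) Af φ ?_ ?_
    · intro a ha
      have ha' : a • e = 0 := by
        rw [← LinearMap.toSpanSingleton_apply A _ e a]; exact ha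
      obtain ⟨N, hN⟩ := hker a ha'
      exact ⟨⟨f ^ N, N, rfl⟩, hN⟩
    · intro y
      obtain ⟨N, a, hN⟩ := hcoker y
      refine ⟨⟨f ^ N, N, rfl⟩, a, ?_⟩
      change f ^ N • y = LinearMap.toSpanSingleton A _ e a
      rw [LinearMap.toSpanSingleton_apply]; exact hN
  let eM : M₀ ≃ₗ[Af] Af :=
    i2.symm ≪≫ₗ HD_LB_equiv (B := Af) V c ≪≫ₗ
      (LinearEquiv.ofBijective (φ.baseChange Af) hφ).symm ≪≫ₗ
      TensorProduct.AlgebraTensorModule.rid A Af Af
  exact ⟨e₀ ≪≫ (DerivedCategory.singleFunctor (ModuleCat.{u} Af) c).mapIso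
    (eM.toModuleIso : M₀ ≅ ModuleCat.of Af Af)⟩

end Invertible

end Groth.Agent.H26.FlatBCDual
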