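import Mathlib
import Groth.Prelude.Def_DDual2
import Groth.Agent.H26.FlatBCDual14
import Groth.Agent.H2.DualCx.LES
import Groth.Agent.H28.DualSelf
import Groth.Agent.Lead.RegularLocal2

/-!
# Dualizing complexes and flat base change, part 15: `Ext(S/(x₁,…,x_c), S)` for a regular sequence
(helper26)

`T_quot_weaklyRegular`: for a weakly regular sequence `rs` of length `c` in a ring `S`,
`Hom((S/(rs))[0], S[0][j]) = 0` for `j ≠ c` and it is cyclic with annihilator `(rs)` for `j = c`.
-/

set_option autoImplicit false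
set_option linter.unusedSectionVars false
set_option linter.style.haveILetI false
set_option linter.overlappingInstances false

universe u

open CategoryTheory Limits Pretriangulated DerivedCategory TensorProduct

namespace Groth.Agent.H26.FlatBCDual

open Groth.Agent.H26.FlatBCHom Groth.Agent.H2.DualCx

attribute [local instance] HasDerivedCategory.standard
attribute [local instance] homModuleA

/-- `M` is a cyclic `S`-module with annihilator `J` (i.e. `M ≅ S/J`) -/
def CyclicAnn (S : Type u) [CommRing S] (M : Type*) [AddCommGroup M] [Module S M]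
    (J : Ideal S) : Prop :=
  ∃ t₀ : M, (∀ t : M, ∃ s : S, t = s • t₀) ∧ ∀ s : S, s • t₀ = 0 ↔ s ∈ J

section Cyclic

variable {S : Type u} [CommRing S]

theorem CyclicAnn.nonempty_linearEquiv {M : Type*} [AddCommGroup M] [Module S M] {J : Ideal S}
    (h : CyclicAnn S M J) : Nonempty (M ≃ₗ[S] S ⧸ J) := by
  obtain ⟨t₀, h1, h2⟩ := h
  let φ : S →ₗ[S] M := LinearMap.toSpanSingleton S M t₀
  have hφ : Function.Surjective φ := fun t => by
    obtain ⟨s, rfl⟩ := h1 t
    exact ⟨s, LinearMap.toSpanSingleton_apply _ _ _ _⟩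
  have hker : LinearMap.ker φ = J := by
    ext s
    rw [LinearMap.mem_ker, LinearMap.toSpanSingleton_apply]
    exact h2 s
  exact ⟨((Submodule.quotEquivOfEq _ _ hker).symm ≪≫ₗ φ.quotKerEquivOfSurjective hφ).symm⟩

theorem CyclicAnn.of_linearEquiv {M : Type*} [AddCommGroup M] [Module S M] {J : Ideal S}
    (e : M ≃ₗ[S] S ⧸ J) : CyclicAnn S M J := by
  refine ⟨e.symm 1, fun t => ?_, fun s => ?_⟩
  · obtain ⟨s, hs⟩ := Ideal.Quotient.mk_surjective (e t)
    refine ⟨s, ?_⟩
    apply e.injective
    rw [map_smul, LinearEquiv.apply_symm_apply, ← hs, Algebra.smul_def, mul_one]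
    rfl
  · rw [← map_smul, LinearEquiv.map_eq_zero_iff, Algebra.smul_def, mul_one]
    exact Ideal.Quotient.eq_zero_iff_mem

theorem CyclicAnn.congr {M M' : Type*} [AddCommGroup M] [Module S M] [AddCommGroup M']
    [Module S M'] {J : Ideal S} (e : M ≃ₗ[S] M') (h : CyclicAnn S M J) : CyclicAnn S M' J := by
  obtain ⟨e'⟩ := h.nonempty_linearEquiv
  exact CyclicAnn.of_linearEquiv (e.symm ≪≫ₗ e')

/-- transfer along a semilinear additive bijection over a surjective ring map -/
theorem CyclicAnn.of_semilinear {S' : Type u} [CommRing S'] (σ : S →+* S')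
    (hσ : Function.Surjective σ) {M : Type*} [AddCommGroup M] [Module S M] {M' : Type*}
    [AddCommGroup M'] [Module S' M'] (β : M' ≃ M) (hadd : ∀ a b, β (a + b) = β a + β b)
    (hsmul : ∀ (s : S) (m : M'), β (σ s • m) = s • β m) {J' : Ideal S'}
    (h : CyclicAnn S' M' J') : CyclicAnn S M (J'.comap σ) := by
  obtain ⟨t₀, h1, h2⟩ := h
  have hzero : β 0 = 0 := by
    have := hadd 0 0
    rw [add_zero] at this
    exact left_eq_add.mp this
  refine ⟨β t₀, fun t => ?_, fun s => ?_⟩
  · obtain ⟨s', hs'⟩ := h1 (β.symm t)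
    obtain ⟨s, rfl⟩ := hσ s'
    refine ⟨s, ?_⟩
    rw [← hsmul, ← hs', Equiv.apply_symm_apply]
  · rw [← hsmul, Ideal.mem_comap, ← h2]
    constructor
    · intro h
      exact β.injective (h.trans hzero.symm)
    · intro h
      rw [h, hzero]

end Cyclic

section OneElement

variable {S : Type u} [CommRing S]

/-- the generator `u₀ : S[0] ⟶ S[0]⟦0⟧` -/
noncomputable def u₀ : T (Dual.inD S S) 0 S :=
  (shiftFunctorZero (Dual.D S) ℤ).inv.app (Dual.inD S S)

theorem exists_eq_smul_u₀ (u : T (Dual.inD S S) 0 S) : ∃ s : S, u = s • (u₀ (S := S)) := by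
  obtain ⟨s, hs⟩ := (Groth.Agent.H28.DualSelf.toEnd_bijective (A := S)).2
    (u ≫ (shiftFunctorZero (Dual.D S) ℤ).hom.app _)
  refine ⟨s, ?_⟩
  have h1 : u = (u ≫ (shiftFunctorZero (Dual.D S) ℤ).hom.app _) ≫
      (shiftFunctorZero (Dual.D S) ℤ).inv.app _ := by
    rw [Category.assoc, Iso.hom_inv_id_app, Category.comp_id]
  rw [h1, ← hs]
  change (s • 𝟙 (Dual.inD S S)) ≫ (shiftFunctorZero (Dual.D S) ℤ).inv.app _ = s • u₀
  rw [Linear.smul_comp, Category.id_comp]
  rfl

theorem smul_u₀_eq_zero (s : S) (h : s • (u₀ (S := S)) = 0) : s = 0 := by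
  apply (Groth.Agent.H28.DualSelf.toEnd_bijective (A := S)).1
  change s • 𝟙 (Dual.inD S S) = (0 : S) • 𝟙 (Dual.inD S S)
  rw [zero_smul]
  have h2 : (s • (u₀ (S := S))) ≫ (shiftFunctorZero (Dual.D S) ℤ).hom.app (Dual.inD S S) = 0 := by
    rw [h, zero_comp]
  rw [Linear.smul_comp] at h2
  have h3 : (u₀ (S := S)) ≫ (shiftFunctorZero (Dual.D S) ℤ).hom.app (Dual.inD S S) = 𝟙 _ :=
    Iso.inv_hom_id_app _ _
  rw [h3] at h2
  exact h2

open Pointwise in
/-- `Hom((S/xS)[0], S[0][j])` for a regular element `x` -/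
theorem T_quotSMulTop_regular (x : S) (hx : IsSMulRegular S x) :
    (∀ j : ℤ, j ≠ 1 → Subsingleton (T (Dual.inD S S) j (QuotSMulTop x S))) ∧
      CyclicAnn S (T (Dual.inD S S) 1 (QuotSMulTop x S)) (Ideal.span {x}) := by
  set W := Dual.inD S S with hW
  have hS : ((ModuleCat.of S S).smulShortComplex x).ShortExact :=
    IsSMulRegular.smulShortComplex_shortExact (M := ModuleCat.of S S) hx
  have hTS : ∀ j : ℤ, j ≠ 0 → Subsingleton (T W j S) := fun j hj =>
    Groth.Agent.H28.DualSelf.ext_self_subsingleton S j hj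
  -- `x` kills `T^j(S/xS)`
  have hkill : ∀ (j : ℤ) (t : T W j (QuotSMulTop x S)), x • t = 0 := by
    intro j t
    have h1 := precomp_smul_id W j x t
    rw [← h1, precomp_apply]
    have h2 : (x • (LinearMap.id : QuotSMulTop x S →ₗ[S] QuotSMulTop x S)) = 0 := by
      refine LinearMap.ext fun y => ?_
      obtain ⟨y, rfl⟩ := Submodule.Quotient.mk_surjective (x • (⊤ : Submodule S S)) y
      change x • (Submodule.Quotient.mk y : S ⧸ (x • (⊤ : Submodule S S))) = 0
      rw [← Submodule.Quotient.mk_smul, Submodule.Quotient.mk_eq_zero]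
      exact Submodule.smul_mem_pointwise_smul y x (⊤ : Submodule S S) Submodule.mem_top
    rw [h2, sg_zero, zero_comp]
  -- `map S.f ≫ v = x • v`
  have hf : ∀ (j : ℤ) (v : T W j S),
      (DerivedCategory.singleFunctor (ModuleCat.{u} S) 0).map
        ((ModuleCat.of S S).smulShortComplex x).f ≫ v = x • v := by
    intro j v
    change (DerivedCategory.singleFunctor (ModuleCat.{u} S) 0).map (x • 𝟙 (ModuleCat.of S S)) ≫ v =
      x • v
    rw [Functor.map_smul, Linear.smul_comp, CategoryTheory.Functor.map_id, Category.id_comp]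
  have hxg : ∀ (j : ℤ) (t : T W j (QuotSMulTop x S)),
      x • ((DerivedCategory.singleFunctor (ModuleCat.{u} S) 0).map
        ((ModuleCat.of S S).smulShortComplex x).g ≫ t : T W j S) = 0 := by
    intro j t
    rw [← Linear.comp_smul]
    erw [hkill j t, comp_zero]
  constructor
  · intro j hj
    by_cases hj0 : j = 0
    · subst hj0
      refine ⟨fun t t' => ?_⟩
      have key : ∀ t : T W 0 (QuotSMulTop x S), t = 0 := by
        intro t
        have hv : (DerivedCategory.singleFunctor (ModuleCat.{u} S) 0).map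
            ((ModuleCat.of S S).smulShortComplex x).g ≫ t = 0 := by
          obtain ⟨s, hs⟩ := exists_eq_smul_u₀ (S := S)
            ((DerivedCategory.singleFunctor (ModuleCat.{u} S) 0).map
              ((ModuleCat.of S S).smulShortComplex x).g ≫ t)
          have h1 := hxg 0 t
          refine hs.trans ?_
          rw [hs, smul_smul] at h1
          have h2 := smul_u₀_eq_zero _ h1
          have h3 : s = 0 := hx (by change x • s = x • 0; rw [smul_zero, smul_eq_mul]; exact h2)
          rw [h3, zero_smul]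
          rfl
        haveI : Subsingleton (T W (-1) ((ModuleCat.of S S).smulShortComplex x).X₁) :=
          hTS (-1) (by omega)
        obtain ⟨g₀, hg₀⟩ := mem_range_conn W hS (-1) 0 (by omega) t hv
        rw [← hg₀, Subsingleton.elim g₀ 0, map_zero]
        rfl
      rw [key t, key t']
    · haveI h₁ : Subsingleton (T W (j - 1) ((ModuleCat.of S S).smulShortComplex x).X₁) :=
        hTS (j - 1) (by omega)
      haveI h₂ : Subsingleton (T W j ((ModuleCat.of S S).smulShortComplex x).X₂) := hTS j hj0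
      exact subsingleton_right W hS (j - 1) j (by omega) h₁ h₂
  · refine ⟨conn W hS 0 1 (by omega) (u₀ (S := S)), fun t => ?_, fun s => ?_⟩
    · haveI h₂ : Subsingleton (T W 1 ((ModuleCat.of S S).smulShortComplex x).X₂) :=
        hTS 1 (by omega)
      obtain ⟨g₀, hg₀⟩ := mem_range_conn W hS 0 1 (by omega) t (Subsingleton.elim _ _)
      obtain ⟨s, hs⟩ := exists_eq_smul_u₀ (S := S) g₀
      refine ⟨s, ?_⟩
      rw [← hg₀, hs]
      exact (conn W hS 0 1 (by omega)).map_smul s (u₀ (S := S))
    · constructor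
      · intro h
        have h0 : conn W hS 0 1 (by omega) (s • (u₀ (S := S))) = 0 :=
          ((conn W hS 0 1 (by omega)).map_smul s (u₀ (S := S))).trans h
        rw [conn_apply, ← Category.assoc] at h0
        have h1 := congrArg (fun t => t ≫ (shIso W 0 1 (by omega)).hom) h0
        simp only [Category.assoc, Iso.inv_hom_id, Category.comp_id, zero_comp] at h1
        obtain ⟨g, hg⟩ := exact_left hS (s • (u₀ (S := S))) h1
        obtain ⟨s', hs'⟩ := exists_eq_smul_u₀ (S := S) g
        rw [hf 0, hs', smul_smul] at hg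
        have h2 : (s - x * s') • (u₀ (S := S)) = 0 := by rw [sub_smul, hg, sub_self]
        have h3 := smul_u₀_eq_zero _ h2
        rw [Ideal.mem_span_singleton']
        exact ⟨s', by rw [mul_comm]; exact (sub_eq_zero.mp h3).symm⟩
      · intro h
        obtain ⟨a, rfl⟩ := Ideal.mem_span_singleton'.mp h
        rw [mul_smul, hkill, smul_zero]

end OneElement

section Sequence

open RingTheory.Sequence

/-- weakly regular version of `isRegular_cons_iff_quotient` -/
theorem isWeaklyRegular_cons_iff_quotient (R : Type u) [CommRing R] (a : R) (rs : List R) :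
    IsWeaklyRegular R (a :: rs) ↔ IsSMulRegular R a ∧
      IsWeaklyRegular (R ⧸ Ideal.span {a}) (rs.map (Ideal.Quotient.mk (Ideal.span {a}))) := by
  rw [isWeaklyRegular_cons_iff]
  apply and_congr_right'
  apply AddEquiv.isWeaklyRegular_congr (e := Groth.Agent.Lead.RLR.quotSMulTopAddEquiv R a)
  rw [List.forall₂_map_right_iff, List.forall₂_same]
  intro r _ y
  obtain ⟨y, rfl⟩ := Submodule.Quotient.mk_surjective _ y
  rw [← Submodule.Quotient.mk_smul, Groth.Agent.Lead.RLR.quotSMulTopAddEquiv_mk,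
    Groth.Agent.Lead.RLR.quotSMulTopAddEquiv_mk, smul_eq_mul, smul_eq_mul, map_mul]

open Pointwise in
/-- **`Ext(S/(rs), S)` for a weakly regular sequence `rs` of length `c`**: zero outside degree `c`,
and `≅ S/(rs)` in degree `c`. -/
theorem T_quot_weaklyRegular : ∀ (c : ℕ) (S : Type u) [CommRing S] (rs : List S), rs.length = c →
    IsWeaklyRegular S rs →
    (∀ j : ℤ, j ≠ c → Subsingleton (T (Dual.inD S S) j (S ⧸ Ideal.ofList rs))) ∧
      CyclicAnn S (T (Dual.inD S S) (c : ℤ) (S ⧸ Ideal.ofList rs)) (Ideal.ofList rs) := by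
  intro c
  induction c with
  | zero =>
    intro S _ rs hlen _
    rw [List.length_eq_zero_iff] at hlen
    subst hlen
    have h0 : Ideal.ofList ([] : List S) = ⊥ := Ideal.ofList_nil
    let eN : (S ⧸ Ideal.ofList ([] : List S)) ≃ₗ[S] S := Submodule.quotEquivOfEqBot _ h0
    constructor
    · intro j hj
      haveI : Subsingleton (T (Dual.inD S S) j S) :=
        Groth.Agent.H28.DualSelf.ext_self_subsingleton S j (by simpa using hj)
      exact (congr (Dual.inD S S) j eN).symm.toEquiv.subsingleton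
    · have hc : CyclicAnn S (T (Dual.inD S S) 0 S) (Ideal.ofList ([] : List S)) := by
        refine ⟨u₀, exists_eq_smul_u₀, fun s => ?_⟩
        rw [h0, Ideal.mem_bot]
        exact ⟨smul_u₀_eq_zero s, fun h => by rw [h, zero_smul]⟩
      exact hc.congr (congr (Dual.inD S S) 0 eN)
  | succ c ih =>
    intro S _ rs hlen hreg
    obtain ⟨x, rs', rfl⟩ := List.exists_cons_of_length_eq_add_one hlen
    rw [isWeaklyRegular_cons_iff_quotient] at hreg
    obtain ⟨hx, hrs⟩ := hreg
    set S' := S ⧸ Ideal.span {x} with hS'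
    set rs'' := rs'.map (Ideal.Quotient.mk (Ideal.span {x})) with hrs''
    have hlen'' : rs''.length = c := by rw [hrs'', List.length_map]; simpa using hlen
    obtain ⟨ihvan, ihcyc⟩ := ih S' rs'' hlen'' hrs
    set W := Dual.inD S S with hW
    set N := S' ⧸ Ideal.ofList rs'' with hN
    -- the base case, transported to `S' = S/(x)`
    obtain ⟨bvan, bcyc⟩ := T_quotSMulTop_regular x hx
    let eQ : QuotSMulTop x S ≃ₗ[S] S' :=
      Submodule.quotEquivOfEq (x • (⊤ : Submodule S S)) (Ideal.span {x})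
        (by simp [← Submodule.ideal_span_singleton_smul])
    have h0 : ∀ j : ℤ, j ≠ 1 → Subsingleton (Dual.inD S S' ⟶ W⟦j⟧) := fun j hj => by
      haveI := bvan j hj
      exact (congr W j eQ).toEquiv.subsingleton
    have h1 : Nonempty ((Dual.inD S S' ⟶ W⟦(1 : ℤ)⟧) ≃ₗ[S] S') :=
      (bcyc.congr (congr W 1 eQ).symm).nonempty_linearEquiv
    obtain ⟨e⟩ := nonempty_RRc_iso_single (C := S) (F := S') Ideal.Quotient.mk_surjective W 1 h0 h1
    let e' : (Groth.Agent.H28.CoextModel.RRc (A := S) (B := S')).obj W ≅ (Dual.inD S' S')⟦(-1 : ℤ)⟧ :=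
      e ≪≫ (singleIso (ModuleCat.of S' S') 1).symm
    -- the `S'`-linear part
    let ε : ∀ j : ℤ, (Dual.inD S' N ⟶
        ((Groth.Agent.H28.CoextModel.RRc (A := S) (B := S')).obj W)⟦j⟧) ≃ₗ[S']
        T (Dual.inD S' S') (-1 + j) N := fun j =>
      Linear.homCongr S' (Iso.refl _) ((shiftFunctor (Dual.D S') j).mapIso e') ≪≫ₗ
        TShiftEquiv (Dual.inD S' S') (-1) j N
    -- the module `N` as a quotient of `S`
    have h2 : Ideal.ofList rs'' = (Ideal.ofList rs').map (Ideal.Quotient.mk (Ideal.span {x})) :=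
      (Ideal.map_ofList _ rs').symm
    have h3 : Ideal.span {x} ⊔ Ideal.ofList rs' = Ideal.ofList (x :: rs') :=
      (Ideal.ofList_cons x rs').symm
    let eN : N ≃ₗ[S] (S ⧸ Ideal.ofList (x :: rs')) :=
      ((Ideal.quotientEquivAlgOfEq S h2).trans
        ((DoubleQuot.quotQuotEquivQuotSupₐ S (Ideal.span {x}) (Ideal.ofList rs')).trans
          (Ideal.quotientEquivAlgOfEq S h3))).toLinearEquiv
    have hcomap : (Ideal.ofList rs'').comap (algebraMap S S') = Ideal.ofList (x :: rs') := by
      rw [h2]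
      change ((Ideal.ofList rs').map (Ideal.Quotient.mk (Ideal.span {x}))).comap
        (Ideal.Quotient.mk (Ideal.span {x})) = _
      rw [Ideal.comap_map_of_surjective _ Ideal.Quotient.mk_surjective,
        ← RingHom.ker_eq_comap_bot, Ideal.mk_ker, sup_comm, h3]
    constructor
    · intro j hj
      haveI : Subsingleton (T (Dual.inD S' S') (-1 + j) N) := ihvan (-1 + j) (by
        intro h; apply hj; push_cast; omega)
      haveI : Subsingleton (Dual.inD S' N ⟶
          ((Groth.Agent.H28.CoextModel.RRc (A := S) (B := S')).obj W)⟦j⟧) :=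
        (ε j).toEquiv.subsingleton
      haveI : Subsingleton (Dual.inD S N ⟶ W⟦j⟧) :=
        (adjT (C := S) (F := S') W N j).symm.subsingleton
      exact (congr W j eN).toEquiv.subsingleton
    · have hidx : (-1 : ℤ) + ((c + 1 : ℕ) : ℤ) = (c : ℤ) := by push_cast; ring
      have hc1 : CyclicAnn S' (T (Dual.inD S' S') (-1 + ((c + 1 : ℕ) : ℤ)) N)
          (Ideal.ofList rs'') := by
        rw [hidx]; exact ihcyc
      have hc2 : CyclicAnn S' (Dual.inD S' N ⟶
          ((Groth.Agent.H28.CoextModel.RRc (A := S) (B := S')).obj W)⟦((c + 1 : ℕ) : ℤ)⟧)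
          (Ideal.ofList rs'') := hc1.congr (ε ((c + 1 : ℕ) : ℤ)).symm
      have hc3 : CyclicAnn S (Dual.inD S N ⟶ W⟦((c + 1 : ℕ) : ℤ)⟧)
          ((Ideal.ofList rs'').comap (algebraMap S S')) :=
        CyclicAnn.of_semilinear (algebraMap S S') Ideal.Quotient.mk_surjective
          (adjT (C := S) (F := S') W N ((c + 1 : ℕ) : ℤ))
          (adjT_add W N _) (fun s m => adjT_smul W N _ s m) hc2
      rw [hcomap] at hc3
      exact hc3.congr (congr W ((c + 1 : ℕ) : ℤ) eN).symm

end Sequence

end Groth.Agent.H26.FlatBCDual
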