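import Mathlib
import Groth.Prelude.Def_CAlg
import Groth.Agent.H26.GorRegHom
import Groth.Agent.Lead.RegularLocal2
import Groth.Agent.S0343

/-!
# Quotients of Gorenstein local rings by regular sequences are Gorenstein
-/

set_option autoImplicit false
set_option linter.style.haveILetI false
set_option linter.unusedSectionVars false
universe u

open IsLocalRing RingTheory.Sequence

namespace Groth.Agent.H26.GorRegSeq

open Groth.Agent.H26.GorRegHom

theorem isRegular_of_isWeaklyRegular {A : Type u} [CommRing A] [IsLocalRing A] (rs : List A)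
    (hmem : ∀ r ∈ rs, r ∈ maximalIdeal A) (h : IsWeaklyRegular A rs) : IsRegular A rs := by
  refine ⟨h, ?_⟩
  intro htop
  have hle : Ideal.ofList rs ≤ maximalIdeal A := Ideal.span_le.mpr hmem
  have h1 : (1 : A) ∈ Ideal.ofList rs • (⊤ : Submodule A A) := htop ▸ Submodule.mem_top
  rw [smul_eq_mul, Ideal.mul_top] at h1
  exact (maximalIdeal.isMaximal A).ne_top ((Ideal.eq_top_iff_one _).mpr (hle h1))

theorem gor_quotient_aux : ∀ (n : ℕ) (A : Type u) [CommRing A] [IsLocalRing A]
    [IsNoetherianRing A] (rs : List A), rs.length = n → LocCoh.IsGorensteinLocalRing A →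
    (∀ r ∈ rs, r ∈ maximalIdeal A) → IsRegular A rs →
    LocCoh.IsGorensteinLocalRing (A ⧸ Ideal.ofList rs) := by
  intro n
  induction n with
  | zero =>
    intro A _ _ _ rs hlen hA _ _
    rw [List.length_eq_zero_iff] at hlen
    subst hlen
    have h0 : Ideal.ofList ([] : List A) = ⊥ := Ideal.ofList_nil
    exact isGorensteinLocalRing_of_ringEquiv
      ((RingEquiv.quotientBot A).symm.trans (Ideal.quotEquivOfEq h0.symm)) hA
  | succ n ih =>
    intro A _ _ _ rs hlen hA hmem hreg
    obtain ⟨r, rs, rfl⟩ := List.exists_cons_of_length_eq_add_one hlen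
    have hrm : r ∈ maximalIdeal A := hmem r List.mem_cons_self
    rw [Groth.Agent.Lead.RLR.isRegular_cons_iff_quotient] at hreg
    obtain ⟨hr, hrs⟩ := hreg
    have hne : Ideal.span {r} ≠ ⊤ := by
      intro h
      have h1 : (1 : A) ∈ maximalIdeal A := by
        have : Ideal.span {r} ≤ maximalIdeal A := (Ideal.span_singleton_le_iff_mem _).mpr hrm
        exact this (h ▸ Submodule.mem_top)
      exact (maximalIdeal.isMaximal A).ne_top ((Ideal.eq_top_iff_one _).mpr h1)
    haveI : IsLocalRing (A ⧸ Ideal.span {r}) := Groth.Agent.Lead.RLR.isLocalRing_quotient A _ hne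
    have hA' := (Groth.Agent.S0343.result A r hrm hr).mp hA
    have hmem' : ∀ x ∈ rs.map (Ideal.Quotient.mk (Ideal.span {r})),
        x ∈ maximalIdeal (A ⧸ Ideal.span {r}) := by
      intro x hx
      obtain ⟨y, hy, rfl⟩ := List.mem_map.mp hx
      rw [← map_maximalIdeal_of_surjective (Ideal.Quotient.mk (Ideal.span {r}))
        Ideal.Quotient.mk_surjective]
      exact Ideal.mem_map_of_mem _ (hmem y (List.mem_cons_of_mem _ hy))
    have h1 := ih (A ⧸ Ideal.span {r}) (rs.map (Ideal.Quotient.mk (Ideal.span {r})))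
      (by rw [List.length_map]; simpa using hlen) hA' hmem' hrs
    have h2 : Ideal.ofList (rs.map (Ideal.Quotient.mk (Ideal.span {r}))) =
        (Ideal.ofList rs).map (Ideal.Quotient.mk (Ideal.span {r})) :=
      (Ideal.map_ofList _ rs).symm
    have h3 : Ideal.span {r} ⊔ Ideal.ofList rs = Ideal.ofList (r :: rs) :=
      (Ideal.ofList_cons r rs).symm
    exact isGorensteinLocalRing_of_ringEquiv
      ((Ideal.quotEquivOfEq h2).trans
        ((DoubleQuot.quotQuotEquivQuotSup (Ideal.span {r}) (Ideal.ofList rs)).trans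
          (Ideal.quotEquivOfEq h3))) h1

/-- The quotient of a Gorenstein local ring by a weakly regular sequence in the maximal ideal is
Gorenstein. -/
theorem isGorensteinLocalRing_quotient_ofList {A : Type u} [CommRing A] [IsLocalRing A]
    [IsNoetherianRing A] (rs : List A) (hA : LocCoh.IsGorensteinLocalRing A)
    (hmem : ∀ r ∈ rs, r ∈ maximalIdeal A) (h : IsWeaklyRegular A rs) :
    LocCoh.IsGorensteinLocalRing (A ⧸ Ideal.ofList rs) :=
  gor_quotient_aux rs.length A rs rfl hA hmem (isRegular_of_isWeaklyRegular rs hmem h)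

end Groth.Agent.H26.GorRegSeq
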