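import Mathlib
import Groth.Agent.H79.KoszulEuler
import Groth.Agent.H79.KoszulMinGen

/-!
# Koszul-regular sequences in the maximal ideal of a Noetherian local ring are regular

For a Noetherian local ring `A`, a finite `A`-module `M` and a list `l` of elements of the maximal
ideal: if the Koszul complex `K(l; M)` is acyclic off degree `0`, then `l.reverse` is a weakly
regular sequence on `M`.
-/

set_option autoImplicit false
set_option linter.style.haveILetI false
set_option linter.unusedSectionVars false
universe u

open CategoryTheory CategoryTheory.Limits IsLocalRing Pointwise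
open Groth.Agent.H79.KoszulEuler Groth.Agent.H79.KoszulCone Groth.Agent.H79.ConeLength
  Groth.Agent.H79.LenComp

namespace Groth.Agent.H26.KoszulLocal

variable {A : Type u} [CommRing A] [IsLocalRing A] [IsNoetherianRing A]

theorem finite_Nmod (M : Type u) [AddCommGroup M] [Module A M] [Module.Finite A M] (l : List A)
    (i : ℤ) : Module.Finite A (Nmod M l i) := by
  haveI := Groth.Agent.H79.KoszulFinLen.finite_X M l i
  infer_instance

theorem subsingleton_of_length_quotSMulTop_eq_zero (N : Type u) [AddCommGroup N] [Module A N]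
    [Module.Finite A N] (f : A) (hf : f ∈ maximalIdeal A)
    (h : Module.length A (QuotSMulTop f N) = 0) : Subsingleton N := by
  rw [Module.length_eq_zero_iff] at h
  have h1 : (f • (⊤ : Submodule A N)) = ⊤ := Submodule.Quotient.subsingleton_iff.mp h
  have h2 : (⊤ : Submodule A N) ≤ Ideal.span {f} • (⊤ : Submodule A N) := by
    rw [Submodule.ideal_span_singleton_smul, h1]
  have h3 := Submodule.eq_bot_of_le_smul_of_le_jacobson_bot (Ideal.span {f}) (⊤ : Submodule A N)
    Module.Finite.fg_top h2
    (((Ideal.span_singleton_le_iff_mem _).mpr hf).trans (maximalIdeal_le_jacobson ⊥))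
  exact (Submodule.subsingleton_iff A).mp (subsingleton_of_bot_eq_top h3.symm)

theorem isWeaklyRegular_reverse_of_acyclic : ∀ (l : List A), (∀ a ∈ l, a ∈ maximalIdeal A) →
    ∀ (M : Type u) [AddCommGroup M] [Module A M] [Module.Finite A M],
    (∀ i : ℤ, i ≠ 0 → IsZero ((CohIII.koszulCx (ModuleCat.of A M) l).homology i)) →
    RingTheory.Sequence.IsWeaklyRegular M l.reverse := by
  intro l
  induction l with
  | nil =>
    intro _ M _ _ _ _
    exact RingTheory.Sequence.IsWeaklyRegular.nil A M
  | cons f fs ih =>
    intro hmem M _ _ _ hac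
    have hf : f ∈ maximalIdeal A := hmem f (List.mem_cons_self)
    have hfs : ∀ a ∈ fs, a ∈ maximalIdeal A := fun a ha => hmem a (List.mem_cons_of_mem _ ha)
    have hlen0 : ∀ i : ℤ, i ≠ 0 → hlen M (f :: fs) i = 0 := by
      intro i hi
      unfold hlen
      rw [Module.length_eq_zero_iff]
      exact ModuleCat.subsingleton_of_isZero (hac i hi)
    -- acyclicity of `K(fs; M)`
    have hac' : ∀ i : ℤ, i ≠ 0 → IsZero ((CohIII.koszulCx (ModuleCat.of A M) fs).homology i) := by
      intro i hi
      rcases lt_or_gt_of_ne hi with hneg | hpos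
      · have h1 := hlen_cons M fs f i
        rw [hlen0 i hi] at h1
        have h2 : cK M fs f i = 0 := (add_eq_zero.mp h1.symm).1
        haveI := finite_Nmod M fs i
        have h3 : Subsingleton (Nmod M fs i) :=
          subsingleton_of_length_quotSMulTop_eq_zero _ f hf h2
        have h4 : hlen M fs i = 0 := by
          rw [hlen_eq, Module.length_eq_zero_iff]
          exact h3
        unfold hlen at h4
        rw [Module.length_eq_zero_iff] at h4
        exact ModuleCat.isZero_of_subsingleton _
      · exact Groth.Agent.H79.KoszulMinGen.isZero_homology_of_pos _ fs i hpos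
    have hreg := ih hfs M hac'
    -- `f` is regular on `M/(fs)M`
    have h1 := hlen_cons M fs f (-1)
    rw [hlen0 (-1) (by norm_num)] at h1
    have h2 : kK M fs f (-1 + 1) = 0 := (add_eq_zero.mp h1.symm).2
    have h2' : kK M fs f 0 = 0 := by
      have : (-1 : ℤ) + 1 = 0 := by norm_num
      rwa [this] at h2
    unfold kK at h2'
    rw [Module.length_eq_zero_iff] at h2'
    have hregN : IsSMulRegular (Nmod M fs 0) f := by
      intro a b hab
      have hab' : f • a = f • b := hab
      have h3 : a - b ∈ kerSMul (Nmod M fs 0) f := by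
        rw [mem_kerSMul, smul_sub, hab', sub_self]
      have h4 : (⟨a - b, h3⟩ : kerSMul (Nmod M fs 0) f) = 0 := Subsingleton.elim _ _
      have h5 : a - b = 0 := congrArg Subtype.val h4
      exact sub_eq_zero.mp h5
    obtain ⟨e0⟩ := Groth.Agent.H79.KoszulTop.homology_zero_equiv (ModuleCat.of A M) fs
    let e1 : ((CohIII.koszulCx (ModuleCat.of A M) fs).homology 0) ≃ₗ[A] Nmod M fs 0 :=
      (homologyIsoKerQuot (CohIII.koszulCx (ModuleCat.of A M) fs) 0).toLinearEquiv
    have hregQ : IsSMulRegular (M ⧸ (Ideal.ofList fs • (⊤ : Submodule A M))) f :=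
      ((e1.symm.trans e0).isSMulRegular_congr f).mp hregN
    rw [List.reverse_cons, RingTheory.Sequence.isWeaklyRegular_append_iff]
    refine ⟨hreg, ?_⟩
    have hof : Ideal.ofList fs.reverse = Ideal.ofList fs := by
      unfold Ideal.ofList
      congr 1
      ext x
      simp
    rw [hof]
    rw [RingTheory.Sequence.isWeaklyRegular_cons_iff]
    exact ⟨hregQ, RingTheory.Sequence.IsWeaklyRegular.nil A _⟩

end Groth.Agent.H26.KoszulLocal
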