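import Mathlib
import Groth.Prelude.Def_CAlg
import Groth.Prelude.Def_LCI2
import Groth.Agent.H26.KoszulLocal
import Groth.Agent.H26.GorRegSeq
import Groth.Agent.H26.GorQuot
import Groth.Agent.H79.KoszulNat

/-!
# Local complete intersections over Gorenstein rings are Gorenstein (S1827)
-/

set_option autoImplicit false
set_option linter.style.haveILetI false
set_option linter.unusedSectionVars false
universe u

open CategoryTheory CategoryTheory.Limits IsLocalRing TensorProduct

namespace Groth.Agent.H26.GorLCI

open Groth.Agent.H26.GorRegHom Groth.Agent.H26.GorQuot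

/-- A Koszul-regular sequence in the maximal ideal of a Gorenstein local ring has Gorenstein
quotient. -/
theorem gor_quotient_of_koszulRegular {A : Type u} [CommRing A] [IsLocalRing A]
    [IsNoetherianRing A] (hA : LocCoh.IsGorensteinLocalRing A) (l : List A)
    (hmem : ∀ a ∈ l, a ∈ maximalIdeal A)
    (hl : ∀ i : ℤ, i ≠ 0 → IsZero ((CohIII.koszulCx (ModuleCat.of A A) l).homology i)) :
    LocCoh.IsGorensteinLocalRing (A ⧸ Ideal.ofList l) := by
  have h1 := Groth.Agent.H26.KoszulLocal.isWeaklyRegular_reverse_of_acyclic l hmem A hl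
  have hmem' : ∀ a ∈ l.reverse, a ∈ maximalIdeal A := fun a ha => hmem a (List.mem_reverse.mp ha)
  have h2 := Groth.Agent.H26.GorRegSeq.isGorensteinLocalRing_quotient_ofList l.reverse hA hmem' h1
  have hof : Ideal.ofList l.reverse = Ideal.ofList l := by
    unfold Ideal.ofList
    congr 1
    ext x
    simp
  exact isGorensteinLocalRing_of_ringEquiv (Ideal.quotEquivOfEq hof) h2

set_option backward.isDefEq.respectTransparency false in
/-- Localizing a Koszul-regular ideal of a Gorenstein ring at a prime gives a Gorenstein
quotient. -/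
theorem gor_atPrime_quotient (P : Type u) [CommRing P] (hP : LocCoh.IsGorensteinRing P)
    (I : Ideal P) (hI : LCI.IsKoszulRegularIdeal I) (Q : Ideal P) [hQ : Q.IsPrime] (hIQ : I ≤ Q) :
    LocCoh.IsGorensteinLocalRing
      (Localization.AtPrime Q ⧸ I.map (algebraMap P (Localization.AtPrime Q))) := by
  obtain ⟨g, hgQ, l, hl, hspan⟩ := hI ⟨Q, hQ⟩ hIQ
  have hGQ := hP.isGorensteinLocalRing_localization Q
  haveI : IsNoetherianRing (Localization.AtPrime Q) := hGQ.toIsNoetherian
  have hu : IsUnit (algebraMap P (Localization.AtPrime Q) g) :=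
    IsLocalization.map_units (Localization.AtPrime Q) (⟨g, hgQ⟩ : Q.primeCompl)
  let φ : Localization.Away g →+* Localization.AtPrime Q :=
    IsLocalization.Away.lift (S := Localization.Away g) g hu
  letI : Algebra (Localization.Away g) (Localization.AtPrime Q) := φ.toAlgebra
  haveI : IsScalarTower P (Localization.Away g) (Localization.AtPrime Q) :=
    IsScalarTower.of_algebraMap_eq (fun x => (IsLocalization.Away.lift_eq g hu x).symm)
  have hle : Submonoid.powers g ≤ Q.primeCompl := by
    rintro _ ⟨n, rfl⟩
    exact Q.primeCompl.pow_mem hgQ n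
  haveI : IsLocalization (Q.primeCompl.map (algebraMap P (Localization.Away g)))
      (Localization.AtPrime Q) :=
    IsLocalization.isLocalization_of_submonoid_le (Localization.Away g) (Localization.AtPrime Q)
      (Submonoid.powers g) Q.primeCompl hle
  haveI : Module.Flat (Localization.Away g) (Localization.AtPrime Q) :=
    IsLocalization.flat _ (Q.primeCompl.map (algebraMap P (Localization.Away g)))
  -- acyclicity over `P_Q`
  have hac : ∀ i : ℤ, i ≠ 0 → IsZero ((CohIII.koszulCx
      (ModuleCat.of (Localization.AtPrime Q) (Localization.AtPrime Q)) (l.map φ)).homology i) := by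
    intro i hi
    have h1 := Groth.Agent.H79.KoszulNat.isZero_homology_of_flat l i (hl i hi)
      (ModuleCat.of (Localization.Away g) (Localization.AtPrime Q))
    exact (Groth.Agent.H79.KoszulNat.isZero_homology_restrict_iff φ
      (ModuleCat.of (Localization.AtPrime Q) (Localization.AtPrime Q)) l i).mp h1
  have hmapI : (I.map (algebraMap P (Localization.Away g))).map φ =
      I.map (algebraMap P (Localization.AtPrime Q)) := by
    rw [Ideal.map_map]
    congr 1
    exact IsLocalization.Away.lift_comp g hu
  have hof : Ideal.ofList (l.map φ) = I.map (algebraMap P (Localization.AtPrime Q)) := by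
    rw [← Ideal.map_ofList, ← hmapI, hspan]
  have hmem : ∀ a ∈ l.map φ, a ∈ maximalIdeal (Localization.AtPrime Q) := by
    intro a ha
    have h1 : a ∈ Ideal.ofList (l.map φ) := Ideal.subset_span ha
    rw [hof] at h1
    rw [← Localization.AtPrime.map_eq_maximalIdeal]
    exact Ideal.map_mono hIQ h1
  have h3 := gor_quotient_of_koszulRegular hGQ (l.map φ) hmem hac
  exact isGorensteinLocalRing_of_ringEquiv (Ideal.quotEquivOfEq hof) h3


set_option backward.isDefEq.respectTransparency false in
/-- The local ring of a quotient at a prime is a quotient of the local ring. -/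
theorem nonempty_atPrime_quotient_equiv (S : Type u) [CommRing S] (I : Ideal S)
    (Q : Ideal (S ⧸ I)) [Q.IsPrime] :
    Nonempty (Localization.AtPrime Q ≃+*
      (Localization.AtPrime (Q.comap (Ideal.Quotient.mk I)) ⧸
        I.map (algebraMap S (Localization.AtPrime (Q.comap (Ideal.Quotient.mk I)))))) := by
  set P : Ideal S := Q.comap (Ideal.Quotient.mk I) with hP
  haveI : P.IsPrime := Ideal.comap_isPrime _ Q
  have hloc : IsLocalization (Algebra.algebraMapSubmonoid (S ⧸ I) P.primeCompl)
      (Localization.AtPrime P ⧸ I.map (algebraMap S (Localization.AtPrime P))) := inferInstance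
  have hsub : Algebra.algebraMapSubmonoid (S ⧸ I) P.primeCompl = Q.primeCompl := by
    ext y
    obtain ⟨y, rfl⟩ := Ideal.Quotient.mk_surjective y
    constructor
    · rintro ⟨z, hz, hzy⟩
      rw [← hzy]
      exact hz
    · intro hy
      exact ⟨y, hy, rfl⟩
  haveI : IsLocalization.AtPrime
      (Localization.AtPrime P ⧸ I.map (algebraMap S (Localization.AtPrime P))) Q := by
    show IsLocalization Q.primeCompl _
    rw [← hsub]
    exact hloc
  exact ⟨(IsLocalization.algEquiv Q.primeCompl (Localization.AtPrime Q)
      (Localization.AtPrime P ⧸ I.map (algebraMap S (Localization.AtPrime P)))).toRingEquiv⟩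

/-- The quotient of a Gorenstein ring by a Koszul-regular ideal is Gorenstein. -/
theorem isGorensteinRing_quotient_of_koszulRegularIdeal (P : Type u) [CommRing P]
    (hP : LocCoh.IsGorensteinRing P) (I : Ideal P) (hI : LCI.IsKoszulRegularIdeal I) :
    LocCoh.IsGorensteinRing (P ⧸ I) := by
  haveI : IsNoetherianRing P := hP.toIsNoetherian
  refine ⟨fun Q _ => ?_⟩
  obtain ⟨e⟩ := nonempty_atPrime_quotient_equiv P I Q
  have hIQ : I ≤ Q.comap (Ideal.Quotient.mk I) := by
    intro x hx
    rw [Ideal.mem_comap, Ideal.Quotient.eq_zero_iff_mem.mpr hx]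
    exact Q.zero_mem
  exact isGorensteinLocalRing_of_ringEquiv e.symm
    (gor_atPrime_quotient P hP I hI (Q.comap (Ideal.Quotient.mk I)) hIQ)

set_option backward.isDefEq.respectTransparency false in
/-- Polynomial rings over Gorenstein rings are Gorenstein. -/
theorem isGorensteinRing_mvPolynomial (A : Type u) [CommRing A] (hA : LocCoh.IsGorensteinRing A)
    (n : ℕ) : LocCoh.IsGorensteinRing (MvPolynomial (Fin n) A) := by
  haveI : IsNoetherianRing A := hA.toIsNoetherian
  refine isGorensteinRing_of_flat_of_regular_fibres A (MvPolynomial (Fin n) A) hA (fun p _ => ?_)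
  exact @IsRegularRing.of_ringEquiv _ _ _ _
    (MvPolynomial.algebraTensorAlgEquiv A p.ResidueField (σ := Fin n)).symm.toRingEquiv
    inferInstance

/-- **S1827**: a local complete intersection algebra over a Gorenstein ring is Gorenstein. -/
theorem isGorensteinRing_of_isLCI (A B : Type u) [CommRing A] [CommRing B] [Algebra A B]
    (hA : LocCoh.IsGorensteinRing A) (h : LCI.IsLCI A B) : LocCoh.IsGorensteinRing B := by
  obtain ⟨-, n, f, hf, hI⟩ := h
  have hP := isGorensteinRing_mvPolynomial A hA n
  have h1 := isGorensteinRing_quotient_of_koszulRegularIdeal _ hP _ hI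
  exact isGorensteinRing_of_ringEquiv
    (RingHom.quotientKerEquivOfSurjective (f := f.toRingHom) hf) h1

end Groth.Agent.H26.GorLCI
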