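import Mathlib
import Groth.Prelude.Def_DDual2
import Groth.Prelude.Def_LCI2
import Groth.Agent.H26.FlatBCDual15
import Groth.Agent.H26.GorLCI
import Groth.Agent.H35.KoszulPerfect
import Groth.Agent.H35.ProjAmpTFAE
import Groth.Agent.H39.KoszulPresMain

/-!
# Dualizing complexes and flat base change, part 16: `RHom_P(P/I, P)` for a Koszul-regular ideal
(helper26)
-/

set_option autoImplicit false
set_option linter.unusedSectionVars false
set_option linter.style.haveILetI false
set_option linter.overlappingInstances false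

universe u

open CategoryTheory Limits Pretriangulated DerivedCategory TensorProduct

namespace Groth.Agent.H26.FlatBCDual

open Groth.Agent.H26.FlatBCHom Groth.Agent.H2.DualCx

attribute [local instance] HasDerivedCategory.standard
attribute [local instance] homModuleA

section KoszulUpper

variable {S : Type u} [CommRing S]

/-- **upper vanishing**: for a Koszul-regular sequence `l`, `Hom((S/(l))[0], N[0][j]) = 0` for
`j > length l` -/
theorem subsingleton_T_quot_of_koszulRegular (l : List S) (hl : LCI.IsKoszulRegularSeq S l)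
    (N : Type u) [AddCommGroup N] [Module S N] (j : ℤ) (hj : (l.length : ℤ) < j) :
    Subsingleton (T (Dual.inD S N) j (S ⧸ Ideal.ofList l)) := by
  obtain ⟨e1⟩ := Groth.Agent.H35.KoszulPerf.nonempty_iso_single_of_isZero_homology
    (Koszul.koszul S l) hl
  obtain ⟨e2⟩ := Groth.Agent.H79.KoszulCone.homology_zero_iso l
  have e : Q.obj (Koszul.koszul S l) ≅ Dual.inD S (S ⧸ Ideal.ofList l) :=
    e1 ≪≫ (DerivedCategory.singleFunctor (ModuleCat.{u} S) 0).mapIso e2
  have h := Groth.Agent.H35.subsingleton_hom_shift_of_projective_amplitude (Koszul.koszul S l)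
    (-(l.length : ℤ)) 0 (Groth.Agent.H35.KoszulPerf.koszul_vanishesOutside l)
    (fun i => (Groth.Agent.H35.KoszulPerf.koszul_termwiseFiniteProjective l i).2)
    (ModuleCat.of S N) j (Or.inr (by omega))
  exact subsingleton_hom_of_iso e (Iso.refl _) h

end KoszulUpper

section LocalSeq

open IsLocalRing

set_option backward.isDefEq.respectTransparency false in
/-- a Koszul-regular ideal `I` of a Noetherian ring, at a prime `Q ⊇ I`: on a basic open
neighbourhood `D(g)` it is generated by a Koszul-regular sequence `l`, and in the local ring at `Q`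
by a weakly regular sequence of the same length. -/
theorem exists_weaklyRegular_atPrime (P : Type u) [CommRing P] [IsNoetherianRing P]
    (I : Ideal P) (hI : LCI.IsKoszulRegularIdeal I) (Q : Ideal P) [hQ : Q.IsPrime] (hIQ : I ≤ Q) :
    ∃ (g : P) (_ : g ∉ Q) (l : List (Localization.Away g)),
      LCI.IsKoszulRegularSeq (Localization.Away g) l ∧
      I.map (algebraMap P (Localization.Away g)) = Ideal.ofList l ∧
      ∃ rs : List (Localization.AtPrime Q), rs.length = l.length ∧
        RingTheory.Sequence.IsWeaklyRegular (Localization.AtPrime Q) rs ∧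
        Ideal.ofList rs = I.map (algebraMap P (Localization.AtPrime Q)) := by
  obtain ⟨g, hgQ, l, hl, hspan⟩ := hI ⟨Q, hQ⟩ hIQ
  refine ⟨g, hgQ, l, hl, hspan, ?_⟩
  have hu : IsUnit (algebraMap P (Localization.AtPrime Q) g) :=
    IsLocalization.map_units (Localization.AtPrime Q) (⟨g, hgQ⟩ : Q.primeCompl)
  let φ : Localization.Away g →+* Localization.AtPrime Q :=
    IsLocalization.Away.lift (S := Localization.Away g) g hu
  letI : Algebra (Localization.Away g) (Localization.AtPrime Q) := φ.toAlgebra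
  haveI : IsScalarTower P (Localization.Away g) (Localization.AtPrime Q) :=
    IsScalarTower.of_algebraMap_eq (fun x => (IsLocalization.Away.lift_eq g hu x).symm)
  have hle : Submonoid.powers g ≤ Q.primeCompl := by
    rintro _ ⟨n, rfl⟩
    exact Q.primeCompl.pow_mem hgQ n
  haveI : IsLocalization (Q.primeCompl.map (algebraMap P (Localization.Away g)))
      (Localization.AtPrime Q) :=
    IsLocalization.isLocalization_of_submonoid_le (Localization.Away g) (Localization.AtPrime Q)
      (Submonoid.powers g) Q.primeCompl hle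
  haveI : Module.Flat (Localization.Away g) (Localization.AtPrime Q) :=
    IsLocalization.flat _ (Q.primeCompl.map (algebraMap P (Localization.Away g)))
  have hac : ∀ i : ℤ, i ≠ 0 → IsZero ((CohIII.koszulCx
      (ModuleCat.of (Localization.AtPrime Q) (Localization.AtPrime Q)) (l.map φ)).homology i) := by
    intro i hi
    have h1 := Groth.Agent.H79.KoszulNat.isZero_homology_of_flat l i (hl i hi)
      (ModuleCat.of (Localization.Away g) (Localization.AtPrime Q))
    exact (Groth.Agent.H79.KoszulNat.isZero_homology_restrict_iff φ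
      (ModuleCat.of (Localization.AtPrime Q) (Localization.AtPrime Q)) l i).mp h1
  have hmapI : (I.map (algebraMap P (Localization.Away g))).map φ =
      I.map (algebraMap P (Localization.AtPrime Q)) := by
    rw [Ideal.map_map]
    congr 1
    exact IsLocalization.Away.lift_comp g hu
  have hof : Ideal.ofList (l.map φ) = I.map (algebraMap P (Localization.AtPrime Q)) := by
    rw [← Ideal.map_ofList, ← hmapI, hspan]
  have hmem : ∀ a ∈ l.map φ, a ∈ maximalIdeal (Localization.AtPrime Q) := by
    intro a ha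
    have h1 : a ∈ Ideal.ofList (l.map φ) := Ideal.subset_span ha
    rw [hof] at h1
    rw [← Localization.AtPrime.map_eq_maximalIdeal]
    exact Ideal.map_mono hIQ h1
  haveI : IsNoetherianRing (Localization.AtPrime Q) :=
    IsLocalization.isNoetherianRing Q.primeCompl _ inferInstance
  have h1 := Groth.Agent.H26.KoszulLocal.isWeaklyRegular_reverse_of_acyclic (l.map φ) hmem
    (Localization.AtPrime Q) hac
  refine ⟨(l.map φ).reverse, by simp, h1, ?_⟩
  rw [← hof]
  unfold Ideal.ofList
  congr 1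
  ext x
  simp

end LocalSeq

section Uniform

variable {P : Type u} [CommRing P] (S : Submonoid P) (M : Type*) [AddCommGroup M] [Module P M]

/-- elementwise `S`-torsion finite modules are uniformly `S`-torsion -/
theorem exists_smul_eq_zero_of_forall [Module.Finite P M] (h : ∀ m : M, ∃ s : S, s • m = 0) :
    ∃ s : S, ∀ m : M, s • m = 0 := by
  obtain ⟨G, hG⟩ := (Module.finite_def (R := P) (M := M)).mp inferInstance
  choose σ hσ using h
  refine ⟨∏ x ∈ G, σ x, fun m => ?_⟩
  have hm : m ∈ Submodule.span P (G : Set M) := hG ▸ Submodule.mem_top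
  induction hm using Submodule.span_induction with
  | mem x hx =>
    obtain ⟨r, hr⟩ := Finset.dvd_prod_of_mem σ hx
    rw [hr, mul_comm, mul_smul, hσ x, smul_zero]
  | zero => exact smul_zero _
  | add x y _ _ hx hy => rw [smul_add, hx, hy, add_zero]
  | smul a x _ hx => rw [smul_comm, hx, smul_zero]

end Uniform

section QuotKill

variable {P : Type u} [CommRing P] (W : Dual.D P) (I : Ideal P)

/-- `I` kills `Hom((P/I)[0], W[j])` -/
theorem smul_T_quot_eq_zero (j : ℤ) (a : P) (ha : a ∈ I) (t : T W j (P ⧸ I)) : a • t = 0 := by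
  have h1 := precomp_smul_id W j a t
  rw [← h1, precomp_apply]
  have h2 : (a • (LinearMap.id : (P ⧸ I) →ₗ[P] (P ⧸ I))) = 0 := by
    refine LinearMap.ext fun y => ?_
    obtain ⟨y, rfl⟩ := Ideal.Quotient.mk_surjective y
    change a • (Ideal.Quotient.mk I y) = 0
    rw [Algebra.smul_def, Ideal.Quotient.algebraMap_eq, ← map_mul,
      Ideal.Quotient.eq_zero_iff_mem]
    exact I.mul_mem_right _ ha
  rw [h2, sg_zero, zero_comp]

end QuotKill

section PSide

variable {P : Type u} [CommRing P] [IsNoetherianRing P]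

/-- flat base change of `Hom((P/I)[0], P[0][j])` to a flat `P`-algebra `C` in which `I C = J` -/
noncomputable def TSelfQuotEquiv (C : Type u) [CommRing C] [Algebra P C] [Module.Flat P C]
    [IsNoetherianRing C] (I : Ideal P) (J : Ideal C) (hJ : I.map (algebraMap P C) = J) (j : ℤ) :
    (C ⊗[P] T (Dual.inD P P) j (P ⧸ I)) ≃ₗ[C] T (Dual.inD C C) j (C ⧸ J) :=
  (TQuotEquiv (C := C) (Dual.inD P P) 0 0 inferInstance inferInstance I j).symm ≪≫ₗ
    Linear.homCongr C ((S0 C).mapIso (Submodule.quotEquivOfEq _ _ hJ).toModuleIso)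
      ((shiftFunctor (Dual.D C) j).mapIso (LBSelfIso (S := P) C))

theorem finite_T_self_quot (I : Ideal P) (j : ℤ) :
    Module.Finite P (T (Dual.inD P P) j (P ⧸ I)) :=
  finite_T (Dual.inD P P) 0
    (fun M _ _ i hi => subsingleton_T_single_of_neg P M i hi)
    (fun i => Groth.Agent.H28.DualSelf.finite_HD_inD P P i) j (P ⧸ I)

end PSide

section PSideMain

variable {P : Type u} [CommRing P] [IsNoetherianRing P]

set_option maxHeartbeats 1600000 in
/-- **The local structure of `Ext_P(P/I, P)` for a Koszul-regular ideal `I`** near a prime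
`Q ⊇ I`: there are `c` and `h ∉ Q` such that `Ext^j` is `h`-power torsion for `j ≠ c` and `Ext^c`
is, up to `h`-power torsion, free of rank one over `P/I`. -/
theorem exists_torsion_data (I : Ideal P) (hI : LCI.IsKoszulRegularIdeal I) (Q : Ideal P)
    [hQ : Q.IsPrime] (hIQ : I ≤ Q) :
    ∃ (c : ℕ) (h : P), h ∉ Q ∧
      (∀ j : ℤ, j ≠ c → ∀ y : T (Dual.inD P P) j (P ⧸ I), ∃ N : ℕ, h ^ N • y = 0) ∧
      ∃ e : T (Dual.inD P P) c (P ⧸ I),
        (∀ a : P, a • e = 0 → ∃ N : ℕ, h ^ N * a ∈ I) ∧
        (∀ y : T (Dual.inD P P) c (P ⧸ I), ∃ (N : ℕ) (a : P), h ^ N • y = a • e) := by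
  obtain ⟨g, hgQ, l, hl, hspan, rs, hlen, hreg, hof⟩ := exists_weaklyRegular_atPrime P I hI Q hIQ
  set c := l.length with hc
  haveI : IsNoetherianRing (Localization.Away g) :=
    IsLocalization.isNoetherianRing (Submonoid.powers g) _ inferInstance
  haveI : IsNoetherianRing (Localization.AtPrime Q) :=
    IsLocalization.isNoetherianRing Q.primeCompl _ inferInstance
  haveI hfinE : ∀ j : ℤ, Module.Finite P (T (Dual.inD P P) j (P ⧸ I)) :=
    fun j => finite_T_self_quot I j
  -- upper vanishing
  have hup : ∀ j : ℤ, (c : ℤ) < j → ∀ y : T (Dual.inD P P) j (P ⧸ I), ∃ N : ℕ, g ^ N • y = 0 := by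
    intro j hj y
    haveI := subsingleton_T_quot_of_koszulRegular l hl (Localization.Away g) j hj
    have h1 : Subsingleton (Localization.Away g ⊗[P] T (Dual.inD P P) j (P ⧸ I)) :=
      (TSelfQuotEquiv (Localization.Away g) I _ hspan j).toEquiv.subsingleton
    obtain ⟨⟨_, N, rfl⟩, hs⟩ :=
      (subsingleton_tensor_iff (Submonoid.powers g) (Localization.Away g) _).mp h1 y
    exact ⟨N, hs⟩
  -- the local computation
  obtain ⟨hvanC, hcycC⟩ := T_quot_weaklyRegular rs.length (Localization.AtPrime Q) rs rfl hreg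
  rw [hlen] at hvanC hcycC
  have hlow : ∀ j : ℤ, j ≠ c → ∃ s : Q.primeCompl, ∀ y : T (Dual.inD P P) j (P ⧸ I), s • y = 0 := by
    intro j hj
    haveI := hvanC j hj
    have h1 : Subsingleton (Localization.AtPrime Q ⊗[P] T (Dual.inD P P) j (P ⧸ I)) :=
      (TSelfQuotEquiv (Localization.AtPrime Q) I _ hof.symm j).toEquiv.subsingleton
    exact exists_smul_eq_zero_of_finite Q.primeCompl (Localization.AtPrime Q) _ h1
  choose σ hσ using fun k : Fin c => hlow ((k : ℕ) : ℤ) (by
    have := k.is_lt
    omega)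
  -- degree `c`
  have hcyc' : CyclicAnn (Localization.AtPrime Q)
      (Localization.AtPrime Q ⊗[P] T (Dual.inD P P) c (P ⧸ I)) (Ideal.ofList rs) :=
    hcycC.congr (TSelfQuotEquiv (Localization.AtPrime Q) I _ hof.symm c).symm
  obtain ⟨y₀, hgen, hann⟩ := hcyc'
  obtain ⟨s₀, e, hs₀⟩ := exists_smul_eq_tmul Q.primeCompl (Localization.AtPrime Q) _ y₀
  let φ : P →ₗ[P] T (Dual.inD P P) c (P ⧸ I) := LinearMap.toSpanSingleton P _ e
  have hφI : I ≤ LinearMap.ker φ := fun a ha => by
    rw [LinearMap.mem_ker, LinearMap.toSpanSingleton_apply]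
    exact smul_T_quot_eq_zero _ I c a ha e
  let φ' : (P ⧸ I) →ₗ[P] T (Dual.inD P P) c (P ⧸ I) := Submodule.liftQ I φ hφI
  have hφ' : ∀ a : P, φ' (Ideal.Quotient.mk I a) = a • e := fun a => by
    change Submodule.liftQ I φ hφI (Submodule.Quotient.mk a) = _
    rw [Submodule.liftQ_apply, LinearMap.toSpanSingleton_apply]
  -- `s • t = algebraMap s • t`
  have hsm : ∀ (s : Q.primeCompl)
      (t : Localization.AtPrime Q ⊗[P] T (Dual.inD P P) c (P ⧸ I)),
      s • t = algebraMap P (Localization.AtPrime Q) s • t := fun s t => by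
    rw [Submonoid.smul_def, algebraMap_smul]
  -- elementwise kernel
  have hkerE : ∀ m : LinearMap.ker φ', ∃ t : Q.primeCompl, t • m = 0 := by
    rintro ⟨m, hm⟩
    obtain ⟨a, rfl⟩ := Ideal.Quotient.mk_surjective m
    rw [LinearMap.mem_ker, hφ'] at hm
    have h1 : algebraMap P (Localization.AtPrime Q) (a * s₀) • y₀ = 0 := by
      rw [map_mul, mul_smul, ← hsm, hs₀, algebraMap_smul, ← TensorProduct.tmul_smul, hm,
        TensorProduct.tmul_zero]
    have h2 := (hann _).mp h1
    rw [hof, IsLocalization.mem_map_algebraMap_iff Q.primeCompl] at h2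
    obtain ⟨⟨x, s'⟩, hx⟩ := h2
    rw [← map_mul, IsLocalization.eq_iff_exists Q.primeCompl] at hx
    obtain ⟨m', hm'⟩ := hx
    refine ⟨m' * s₀ * s', ?_⟩
    apply Subtype.ext
    change ((m' * s₀ * s' : Q.primeCompl) : P) • (Ideal.Quotient.mk I a) = 0
    rw [Algebra.smul_def, Ideal.Quotient.algebraMap_eq, ← map_mul, Ideal.Quotient.eq_zero_iff_mem]
    have h3 : ((m' * s₀ * s' : Q.primeCompl) : P) * a = (m' : P) * (a * s₀ * s') := by
      push_cast; ring
    rw [h3, hm']
    exact I.mul_mem_left _ x.2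
  -- elementwise cokernel
  have hcokerE : ∀ z : T (Dual.inD P P) c (P ⧸ I) ⧸ LinearMap.range φ',
      ∃ t : Q.primeCompl, t • z = 0 := by
    intro z
    obtain ⟨y, rfl⟩ := Submodule.Quotient.mk_surjective _ z
    obtain ⟨b, hb⟩ := hgen ((1 : Localization.AtPrime Q) ⊗ₜ[P] y)
    obtain ⟨⟨p, s'⟩, hps⟩ := IsLocalization.surj Q.primeCompl b
    have h1 : (s₀ * s') • ((1 : Localization.AtPrime Q) ⊗ₜ[P] y) =
        (1 : Localization.AtPrime Q) ⊗ₜ[P] (p • e) := by
      rw [hb, hsm, smul_smul, Submonoid.coe_mul, map_mul, mul_assoc, mul_comm _ b, hps,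
        mul_comm, mul_smul, ← hsm, hs₀, algebraMap_smul, TensorProduct.tmul_smul]
    have h2 : (1 : Localization.AtPrime Q) ⊗ₜ[P] ((s₀ * s') • y - p • e) = 0 := by
      rw [TensorProduct.tmul_sub, ← h1, sub_eq_zero, Submonoid.smul_def, Submonoid.smul_def,
        TensorProduct.tmul_smul]
    obtain ⟨s'', hs''⟩ := (tmul_one_eq_zero_iff Q.primeCompl (Localization.AtPrime Q) _ _).mp h2
    refine ⟨s'' * (s₀ * s'), ?_⟩
    rw [← Submodule.Quotient.mk_smul, Submodule.Quotient.mk_eq_zero]
    rw [smul_sub, sub_eq_zero] at hs''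
    refine ⟨Ideal.Quotient.mk I ((s'' : P) * p), ?_⟩
    rw [hφ', mul_smul, mul_smul]
    exact hs''.symm
  haveI : Module.Finite P (LinearMap.ker φ') :=
    Module.Finite.of_fg (IsNoetherian.noetherian _)
  obtain ⟨t₁, ht₁⟩ := exists_smul_eq_zero_of_forall Q.primeCompl (LinearMap.ker φ') hkerE
  obtain ⟨t₂, ht₂⟩ := exists_smul_eq_zero_of_forall Q.primeCompl
    (T (Dual.inD P P) c (P ⧸ I) ⧸ LinearMap.range φ') hcokerE
  -- assemble
  set π : Q.primeCompl := ∏ k : Fin c, σ k with hπ
  let sg : Q.primeCompl := ⟨g, hgQ⟩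
  have hsg : (sg : P) = g := rfl
  have hHQ : ((sg * π * t₁ * t₂ : Q.primeCompl) : P) ∉ Q := (sg * π * t₁ * t₂ : Q.primeCompl).2
  refine ⟨c, ((sg * π * t₁ * t₂ : Q.primeCompl) : P), hHQ, ?_, e, ?_, ?_⟩
  · intro j hj y
    rcases lt_or_gt_of_ne hj with hlt | hgt
    · by_cases hneg : j < 0
      · haveI : Subsingleton (T (Dual.inD P P) j (P ⧸ I)) :=
          subsingleton_T_single_of_neg P (P ⧸ I) j hneg
        exact ⟨0, Subsingleton.elim _ _⟩
      · obtain ⟨k, hk⟩ : ∃ k : Fin c, ((k : ℕ) : ℤ) = j :=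
          ⟨⟨j.toNat, by omega⟩, by simp; omega⟩
        subst hk
        refine ⟨1, ?_⟩
        obtain ⟨r, hr⟩ := Finset.dvd_prod_of_mem σ (Finset.mem_univ k)
        have h4 : ((sg * π * t₁ * t₂ : Q.primeCompl) : P) =
            ((g : P) * (r : P) * (t₁ : P) * (t₂ : P)) * (σ k : P) := by
          rw [hπ, hr]; push_cast; rw [hsg]; ring
        rw [pow_one, h4, mul_smul]
        have := hσ k y
        rw [Submonoid.smul_def] at this
        rw [this, smul_zero]
    · obtain ⟨N, hN⟩ := hup j hgt y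
      refine ⟨N, ?_⟩
      have h4 : ((sg * π * t₁ * t₂ : Q.primeCompl) : P) ^ N =
          ((π : P) * (t₁ : P) * (t₂ : P)) ^ N * g ^ N := by
        push_cast; rw [hsg]; ring
      rw [h4, mul_smul, hN, smul_zero]
  · intro a ha
    refine ⟨1, ?_⟩
    have hm : Ideal.Quotient.mk I a ∈ LinearMap.ker φ' := by
      rw [LinearMap.mem_ker, hφ']; exact ha
    have h5 := congrArg Subtype.val (ht₁ ⟨_, hm⟩)
    change ((t₁ : P)) • (Ideal.Quotient.mk I a) = 0 at h5
    rw [Algebra.smul_def, Ideal.Quotient.algebraMap_eq, ← map_mul,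
      Ideal.Quotient.eq_zero_iff_mem] at h5
    have h4 : ((sg * π * t₁ * t₂ : Q.primeCompl) : P) ^ 1 * a =
        ((g : P) * (π : P) * (t₂ : P)) * ((t₁ : P) * a) := by
      push_cast; rw [hsg]; ring
    rw [h4]
    exact I.mul_mem_left _ h5
  · intro y
    have h5 := ht₂ (Submodule.Quotient.mk y)
    rw [← Submodule.Quotient.mk_smul, Submodule.Quotient.mk_eq_zero] at h5
    obtain ⟨m, hm⟩ := h5
    obtain ⟨a, rfl⟩ := Ideal.Quotient.mk_surjective m
    rw [hφ'] at hm
    refine ⟨1, (g : P) * (π : P) * (t₁ : P) * a, ?_⟩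
    have h4 : ((sg * π * t₁ * t₂ : Q.primeCompl) : P) ^ 1 =
        ((g : P) * (π : P) * (t₁ : P)) * (t₂ : P) := by
      push_cast; rw [hsg]; ring
    rw [h4, mul_smul, mul_smul ((g : P) * (π : P) * (t₁ : P)) a, hm]
    rfl

end PSideMain

end Groth.Agent.H26.FlatBCDual
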