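import Mathlib
import Groth.Prelude.Def_DDual2
import Groth.Prelude.Def_LCI2
import Groth.Agent.H26.FlatBCDual16

/-!
# Dualizing complexes and flat base change, part 17: `RHom_P(A, P)` is invertible for `P → A` a
surjection with Koszul-regular kernel (helper26)
-/

set_option autoImplicit false
set_option linter.unusedSectionVars false
set_option linter.style.haveILetI false
set_option linter.overlappingInstances false

universe u v

open CategoryTheory Limits Pretriangulated DerivedCategory TensorProduct

namespace Groth.Agent.H26.FlatBCDual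

open Groth.Agent.H26.FlatBCHom Groth.Agent.H2.DualCx

attribute [local instance] HasDerivedCategory.standard
attribute [local instance] homModuleA

section ASide

variable {P A : Type u} [CommRing P] [CommRing A] [Algebra P A]

/-- transfer of the torsion criterion along semilinear additive bijections -/
theorem nonempty_LB_iso_single_of_semilinear (hsurj : Function.Surjective (algebraMap P A)) (h : P)
    (V : Dual.D A) (c : ℤ) (E : ℤ → Type v) [∀ j, AddCommGroup (E j)] [∀ j, Module P (E j)]
    (Φ : ∀ j, Dual.HD A V j ≃ E j) (hadd : ∀ j x y, Φ j (x + y) = Φ j x + Φ j y)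
    (hsmul : ∀ j (p : P) y, Φ j (algebraMap P A p • y) = p • Φ j y)
    (h1 : ∀ j : ℤ, j ≠ c → ∀ y : E j, ∃ N : ℕ, h ^ N • y = 0)
    (e : E c)
    (hker : ∀ a : P, a • e = 0 → ∃ N : ℕ, algebraMap P A (h ^ N * a) = 0)
    (hcoker : ∀ y : E c, ∃ (N : ℕ) (a : P), h ^ N • y = a • e) :
    Nonempty ((LB A (Localization.Away (algebraMap P A h))).obj V ≅
      (DerivedCategory.singleFunctor (ModuleCat.{u} (Localization.Away (algebraMap P A h))) c).obj
        (ModuleCat.of (Localization.Away (algebraMap P A h))
          (Localization.Away (algebraMap P A h)))) := by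
  have hzero : ∀ j, Φ j 0 = 0 := fun j => by
    have := hadd j 0 0
    rw [add_zero] at this
    exact left_eq_add.mp this
  refine nonempty_LB_iso_single_of_torsion (algebraMap P A h) V c ?_ ((Φ c).symm e) ?_ ?_
  · intro j hj y
    obtain ⟨N, hN⟩ := h1 j hj (Φ j y)
    refine ⟨N, (Φ j).injective ?_⟩
    rw [← map_pow, hsmul, hN, hzero]
  · intro a ha
    obtain ⟨p, rfl⟩ := hsurj a
    have h2 : p • e = 0 := by
      have := congrArg (Φ c) ha
      rwa [hsmul, Equiv.apply_symm_apply, hzero] at this
    obtain ⟨N, hN⟩ := hker p h2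
    exact ⟨N, by rw [← map_pow, ← map_mul]; exact hN⟩
  · intro y
    obtain ⟨N, p, hN⟩ := hcoker (Φ c y)
    refine ⟨N, algebraMap P A p, (Φ c).injective ?_⟩
    rw [← map_pow, hsmul, hsmul, Equiv.apply_symm_apply, hN]

variable [IsNoetherianRing P] [IsNoetherianRing A]

set_option maxHeartbeats 1600000 in
/-- **`RHom_P(A, P)` is invertible** for a surjection `P → A` of Noetherian rings with
Koszul-regular kernel: near every prime of `A` it is a shift of the structure sheaf. -/
theorem nonempty_LB_RRc_iso_single_of_koszulRegular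
    (hsurj : Function.Surjective (algebraMap P A))
    (hI : LCI.IsKoszulRegularIdeal (RingHom.ker (algebraMap P A))) (q : Ideal A) [q.IsPrime]
    (W : Dual.D P) (eW : W ≅ Dual.inD P P) :
    ∃ (h : P) (_ : algebraMap P A h ∉ q) (c : ℕ),
      Nonempty ((LB A (Localization.Away (algebraMap P A h))).obj
        ((Groth.Agent.H28.CoextModel.RRc (A := P) (B := A)).obj W) ≅
        (DerivedCategory.singleFunctor
          (ModuleCat.{u} (Localization.Away (algebraMap P A h))) (c : ℤ)).obj
          (ModuleCat.of (Localization.Away (algebraMap P A h))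
            (Localization.Away (algebraMap P A h)))) := by
  set I := RingHom.ker (algebraMap P A) with hIdef
  set Q := q.comap (algebraMap P A) with hQdef
  haveI : Q.IsPrime := Ideal.comap_isPrime _ _
  have hIQ : I ≤ Q := fun x hx => by
    rw [hQdef, Ideal.mem_comap, (RingHom.mem_ker).mp hx]; exact q.zero_mem
  obtain ⟨c, h, hQ, hvan, e, hker, hcoker⟩ := exists_torsion_data I hI Q hIQ
  refine ⟨h, hQ, c, ?_⟩
  let V := (Groth.Agent.H28.CoextModel.RRc (A := P) (B := A)).obj W
  have hkerI : LinearMap.ker (Algebra.linearMap P A) = I := by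
    ext x
    rw [LinearMap.mem_ker, Algebra.linearMap_apply, hIdef, RingHom.mem_ker]
  let eM : (P ⧸ I) ≃ₗ[P] A :=
    (Submodule.quotEquivOfEq _ _ hkerI).symm ≪≫ₗ
      (Algebra.linearMap P A).quotKerEquivOfSurjective hsurj
  let Φ : ∀ j : ℤ, Dual.HD A V j ≃ T (Dual.inD P P) j (P ⧸ I) := fun j =>
    (homSelfEquivHD V j).symm.toEquiv.trans ((adjT (C := P) (F := A) W A j).trans
      ((Linear.homCongr P (Iso.refl (Dual.inD P A))
        ((shiftFunctor (Dual.D P) j).mapIso eW)).toEquiv.trans
        (congr (Dual.inD P P) j eM).toEquiv))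
  refine nonempty_LB_iso_single_of_semilinear hsurj h V c
    (fun j => T (Dual.inD P P) j (P ⧸ I)) Φ ?_ ?_ hvan e ?_ hcoker
  · intro j x y
    simp only [Φ, Equiv.trans_apply, LinearEquiv.coe_toEquiv]
    rw [map_add, adjT_add, map_add, map_add]
  · intro j p y
    simp only [Φ, Equiv.trans_apply, LinearEquiv.coe_toEquiv]
    rw [map_smul, adjT_smul, map_smul, map_smul]
  · intro a ha
    obtain ⟨N, hN⟩ := hker a ha
    exact ⟨N, (RingHom.mem_ker).mp hN⟩

end ASide

end Groth.Agent.H26.FlatBCDual
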