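import Mathlib
import Groth.Prelude.Def_DDual2
import Groth.Agent.H26.FlatBCDual

/-!
# Dualizing complexes and flat base change, part 5: Zariski descent  (helper26)
-/

set_option autoImplicit false
set_option linter.unusedSectionVars false
set_option linter.style.haveILetI false
set_option linter.overlappingInstances false

universe u

open CategoryTheory Limits Pretriangulated DerivedCategory TensorProduct

namespace Groth.Agent.H26.FlatBCDual

open Groth.Agent.H26.FlatBCHom

attribute [local instance] HasDerivedCategory.standard
attribute [local instance] homModuleA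

section Span

variable {A : Type u} [CommRing A] {ι : Type} (f : ι → A) (hf : Ideal.span (Set.range f) = ⊤)

/-- a chosen index for an element of the range -/
noncomputable def idx (r : Set.range f) : ι := r.2.choose

theorem idx_spec (r : Set.range f) : f (idx f r) = r.1 := r.2.choose_spec

instance isLocalization_idx (r : Set.range f) :
    IsLocalization.Away r.1 (Localization.Away (f (idx f r))) := by
  have key : ∀ (a b : A), a = b → IsLocalization.Away b (Localization.Away a) := by
    rintro a _ rfl
    infer_instance
  exact key _ _ (idx_spec f r)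

include hf

theorem subsingleton_of_away {M : Type*} [AddCommGroup M] [Module A M]
    (h : ∀ i : ι, Subsingleton (Localization.Away (f i) ⊗[A] M)) : Subsingleton M := by
  rw [subsingleton_iff_forall_eq 0]
  intro x
  exact Module.eq_zero_of_isLocalized_span (Set.range f) hf
    (fun r => Localization.Away (f (idx f r)) ⊗[A] M)
    (fun r => TensorProduct.mk A (Localization.Away (f (idx f r))) M 1) x
    (fun r => by
      haveI := h (idx f r)
      exact Subsingleton.elim _ _)

theorem finite_of_away {M : Type*} [AddCommGroup M] [Module A M]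
    (h : ∀ i : ι, Module.Finite (Localization.Away (f i)) (Localization.Away (f i) ⊗[A] M)) :
    Module.Finite A M :=
  Module.Finite.of_localizationSpan' (Set.range f) hf
    (Mₚ := fun r => Localization.Away (f (idx f r)) ⊗[A] M)
    (Rₚ := fun r => Localization.Away (f (idx f r)))
    (fun r => TensorProduct.mk A (Localization.Away (f (idx f r))) M 1)
    (fun r => h (idx f r))

theorem bijective_of_away {M N : Type*} [AddCommGroup M] [Module A M] [AddCommGroup N]
    [Module A N] (F : M →ₗ[A] N)
    (h : ∀ i : ι, Function.Bijective (F.baseChange (Localization.Away (f i)))) :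
    Function.Bijective F := by
  refine bijective_of_isLocalized_span (Set.range f) hf
    (fun r => Localization.Away (f (idx f r)) ⊗[A] M)
    (fun r => TensorProduct.mk A (Localization.Away (f (idx f r))) M 1)
    (fun r => Localization.Away (f (idx f r)) ⊗[A] N)
    (fun r => TensorProduct.mk A (Localization.Away (f (idx f r))) N 1) F ?_
  intro r
  have h1 : IsLocalizedModule.map (Submonoid.powers r.1)
      (TensorProduct.mk A (Localization.Away (f (idx f r))) M 1)
      (TensorProduct.mk A (Localization.Away (f (idx f r))) N 1) F =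
      (F.baseChange (Localization.Away (f (idx f r)))).restrictScalars A := by
    apply IsLocalizedModule.linearMap_ext (Submonoid.powers r.1)
      (TensorProduct.mk A (Localization.Away (f (idx f r))) M 1)
      (TensorProduct.mk A (Localization.Away (f (idx f r))) N 1)
    rw [IsLocalizedModule.map_comp]
    ext x
    simp
  rw [h1]
  exact h (idx f r)

end Span


section BaseChangeRho

variable {A B : Type u} [CommRing A] [CommRing B] [Algebra A B] [Module.Flat A B]

theorem rho_baseChange_bijective_of_LB (K : Dual.D A) (hBC : BC (B := B) K K)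
    (h : Function.Bijective (fun b : B => b • 𝟙 ((LB A B).obj K))) :
    Function.Bijective ((rho K).baseChange B) := by
  rw [toEnd_LB_eq] at h
  have h1 : Function.Bijective ((theta (B := B) K K) ∘ ((rho K).baseChange B)) := by
    have := h.comp (TensorProduct.AlgebraTensorModule.rid A B B).bijective
    have h2 : (((theta (B := B) K K) ∘ ((rho K).baseChange B) ∘
        (TensorProduct.AlgebraTensorModule.rid A B B).symm) ∘
        (TensorProduct.AlgebraTensorModule.rid A B B)) =
        (theta (B := B) K K) ∘ ((rho K).baseChange B) := by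
      funext x
      simp
    rwa [h2] at this
  refine ⟨h1.1.of_comp, ?_⟩
  intro y
  obtain ⟨x, hx⟩ := h1.2 (theta (B := B) K K y)
  exact ⟨x, hBC.1 hx⟩

end BaseChangeRho

section Family

variable {A : Type u} [CommRing A] [IsNoetherianRing A] {n : ℕ} (f : Fin n → A)
  (hf : Ideal.span (Set.range f) = ⊤)

include hf in
/-- **Zariski descent of dualizing complexes** (for `LB`). -/
theorem isDualizing_of_LB_away (K : Dual.D A)
    (hK : ∀ i : Fin n, Dual.IsDualizing (Localization.Away (f i))
      ((LB A (Localization.Away (f i))).obj K)) : Dual.IsDualizing A K := by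
  choose a b hab using fun i => (hK i).finite_injective_dimension
  obtain ⟨a₀, ha⟩ : ∃ a₀ : ℤ, ∀ i, a₀ ≤ a i := by
    refine ⟨- ∑ i, |a i|, fun i => ?_⟩
    have h1 : |a i| ≤ ∑ j, |a j| :=
      Finset.single_le_sum (f := fun j => |a j|) (fun j _ => abs_nonneg _) (Finset.mem_univ i)
    have h2 := neg_abs_le (a i)
    linarith
  obtain ⟨b₀, hb⟩ : ∃ b₀ : ℤ, ∀ i, b i ≤ b₀ := by
    refine ⟨∑ i, |b i|, fun i => ?_⟩
    have h1 : |b i| ≤ ∑ j, |b j| :=
      Finset.single_le_sum (f := fun j => |b j|) (fun j _ => abs_nonneg _) (Finset.mem_univ i)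
    have h2 := le_abs_self (b i)
    linarith
  have hab' : ∀ (i : Fin n) (M : Type u) [AddCommGroup M] [Module (Localization.Away (f i)) M]
      (j : ℤ), (j < a₀ ∨ b₀ < j) → Subsingleton (Dual.inD (Localization.Away (f i)) M ⟶
        ((LB A (Localization.Away (f i))).obj K)⟦j⟧) := by
    intro i M _ _ j hj
    refine hab i M j ?_
    rcases hj with h | h
    · left
      linarith [ha i]
    · right
      linarith [hb i]
  have hvan : ∀ j : ℤ, (j < a₀ ∨ b₀ < j) → Subsingleton (Dual.HD A K j) := by
    intro j hj
    refine subsingleton_of_away f hf (fun i => ?_)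
    haveI := subsingleton_HD_of_fid _ a₀ b₀ (hab' i) j hj
    exact (HD_LB_equiv (B := Localization.Away (f i)) K j).symm.toEquiv.subsingleton
  have hGE : K.IsGE a₀ := isGE_of_vanishing K a₀ (fun i hi => hvan i (Or.inl hi))
  have hLE : K.IsLE b₀ := isLE_of_vanishing K b₀ (fun i hi => hvan i (Or.inr hi))
  have hfin : ∀ j : ℤ, Module.Finite A (Dual.HD A K j) := by
    intro j
    refine finite_of_away f hf (fun i => ?_)
    haveI := (hK i).finite_cohomology j
    exact Module.Finite.equiv (HD_LB_equiv (B := Localization.Away (f i)) K j)
  have hBC : ∀ (i : Fin n) (j : ℤ), BC (B := Localization.Away (f i)) K (K⟦j⟧) := fun i j =>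
    BC_of_bounded K K a₀ b₀ a₀ b₀ hGE hLE hfin hGE hLE j
  have hBC0 : ∀ i : Fin n, BC (B := Localization.Away (f i)) K K := fun i =>
    BC_of_bounded' K K a₀ b₀ a₀ b₀ hGE hLE hfin hGE hLE
  refine ⟨inferInstance, ⟨a₀, b₀, ?_⟩, hfin, ?_, ?_⟩
  · refine fun M _ _ j hj => subsingleton_of_cyclic K a₀ b₀ ?_ M j hj
    intro I j hj
    refine subsingleton_of_away f hf (fun i => ?_)
    have h1 : BC (B := Localization.Away (f i)) ((S0 A).obj (ModuleCat.of A (A ⧸ I))) (K⟦j⟧) :=
      BC_single_of_bounded (ModuleCat.of A (A ⧸ I)) K a₀ b₀ hGE hLE j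
    have h2 : Subsingleton ((LB A (Localization.Away (f i))).obj
        ((S0 A).obj (ModuleCat.of A (A ⧸ I))) ⟶
        (LB A (Localization.Away (f i))).obj (K⟦j⟧)) :=
      subsingleton_hom_of_iso (eps (ModuleCat.of A (A ⧸ I))).symm
        (((LB A (Localization.Away (f i))).commShiftIso j).app K).symm
        (hab' i ((F0 A (Localization.Away (f i))).obj (ModuleCat.of A (A ⧸ I))) j hj)
    exact h1.1.subsingleton
  · exact bijective_of_away f hf (rho K) (fun i =>
      rho_baseChange_bijective_of_LB K (hBC0 i) (hK i).toEnd_bijective)
  · intro j hj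
    refine subsingleton_of_away f hf (fun i => ?_)
    have h2 : Subsingleton ((LB A (Localization.Away (f i))).obj K ⟶
        (LB A (Localization.Away (f i))).obj (K⟦j⟧)) :=
      subsingleton_hom_of_iso (Iso.refl _)
        (((LB A (Localization.Away (f i))).commShiftIso j).app K).symm
        ((hK i).ext_self_subsingleton j hj)
    exact (hBC i j).1.subsingleton

end Family

end Groth.Agent.H26.FlatBCDual
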