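import Groth.Agent.H32.Fp

set_option autoImplicit false
open CategoryTheory CategoryTheory.Limits
universe v₄ u₄ v₃ u₃ v₂ u₂ v u

namespace Groth.Agent.H26

open Groth.Agent.H32

section general

variable {𝒮 : Type u} {𝒳 : Type u₂} [Category.{v} 𝒮] [Category.{v₂} 𝒳] (p : 𝒳 ⥤ 𝒮)

/-- being cartesian over `f` only depends on `f` through the underlying morphism -/
theorem isCartesian_iff_map {R S : 𝒮} {a b : 𝒳} (f : R ⟶ S) (φ : a ⟶ b) [h : p.IsHomLift f φ] :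
    p.IsCartesian f φ ↔ p.IsCartesian (p.map φ) φ := by
  cases h
  exact Iff.rfl

theorem isCartesian_of_map {R S : 𝒮} {a b : 𝒳} (f : R ⟶ S) (φ : a ⟶ b) [h : p.IsHomLift f φ]
    (hc : p.IsCartesian (p.map φ) φ) : p.IsCartesian f φ :=
  (isCartesian_iff_map p f φ).mpr hc

theorem isCartesian_map_of {R S : 𝒮} {a b : 𝒳} (f : R ⟶ S) (φ : a ⟶ b)
    [hc : p.IsCartesian f φ] : p.IsCartesian (p.map φ) φ :=
  (isCartesian_iff_map p f φ).mp hc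

end general

variable {C : Type u} [Category.{v} C]

/-- two parallel morphisms of `C` over the same morphism (for the identity functor) are equal -/
theorem self_hom_ext {R S : C} (f : R ⟶ S) {a b : (FibCat.selfOver C).obj} (φ φ' : a ⟶ b)
    [h : (FibCat.selfOver C).p.IsHomLift f φ] [h' : (FibCat.selfOver C).p.IsHomLift f φ'] :
    φ = φ' := by
  have h1 := IsHomLift.fac' (FibCat.selfOver C).p f φ
  have h2 := IsHomLift.fac' (FibCat.selfOver C).p f φ'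
  change φ = _ at h1
  change φ' = _ at h2
  rw [h1, h2]

theorem self_isHomLift_self {a b : (FibCat.selfOver C).obj} (φ : a ⟶ b) :
    (FibCat.selfOver C).p.IsHomLift (φ : (show C from a) ⟶ (show C from b)) φ :=
  (inferInstance : (FibCat.selfOver C).p.IsHomLift ((FibCat.selfOver C).p.map φ) φ)

/-- every morphism is strongly cartesian for the identity functor -/
theorem self_isStronglyCartesian {R S : C} (f : R ⟶ S) {a b : (FibCat.selfOver C).obj} (φ : a ⟶ b)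
    [h : (FibCat.selfOver C).p.IsHomLift f φ] :
    (FibCat.selfOver C).p.IsStronglyCartesian f φ := by
  refine { universal_property' := ?_ }
  intro a' g φ' hφ'
  have ha : a = R := IsHomLift.domain_eq (FibCat.selfOver C).p f φ
  have hb : b = S := IsHomLift.codomain_eq (FibCat.selfOver C).p f φ
  subst ha hb
  have hφf : (FibCat.selfOver C).p.IsHomLift (φ : (show C from a) ⟶ (show C from b)) φ :=
    self_isHomLift_self φ
  have hfφ : f = φ := by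
    have h1 := IsHomLift.fac (FibCat.selfOver C).p f φ
    change f = eqToHom (rfl : a = a) ≫ φ ≫ eqToHom (rfl : b = b) at h1
    simpa using h1
  subst hfφ
  have hg : (FibCat.selfOver C).p.IsHomLift g (g : a' ⟶ a) := self_isHomLift_self (a := a') (b := a) g
  refine ⟨g, ⟨hg, ?_⟩, ?_⟩
  · have : (FibCat.selfOver C).p.IsHomLift (g ≫ f) ((g : a' ⟶ a) ≫ f) :=
      self_isHomLift_self (a := a') (b := b) (g ≫ f)
    exact @self_hom_ext _ _ _ _ (g ≫ f) _ _ _ _ this hφ'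
  · rintro χ ⟨h1, -⟩
    exact @self_hom_ext _ _ _ _ g _ _ _ _ h1 hg

section fp

variable {𝒳 : BasedCategory.{v₂, u₂} C} {𝒴 : BasedCategory.{v₃, u₃} C}

/-- the compatibility needed for a pair of morphisms over the same base morphism to define
a morphism of `𝒳 ×_C 𝒴` -/
theorem fpSelf_w {z z' : (FibCat.fp (FibCat.toSelf 𝒳) (FibCat.toSelf 𝒴)).obj} {R S : C} (f : R ⟶ S)
    (α : z'.obj.fst ⟶ z.obj.fst) (β : z'.obj.snd ⟶ z.obj.snd)
    [hα : 𝒳.p.IsHomLift f α] [hβ : 𝒴.p.IsHomLift f β] :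
    (FibCat.toSelf 𝒳).toFunctor.map α ≫ z.obj.iso.hom =
      z'.obj.iso.hom ≫ (FibCat.toSelf 𝒴).toFunctor.map β := by
  have hz := fp_iso_isHomLift (FibCat.toSelf 𝒳) (FibCat.toSelf 𝒴) z
  have hz' := fp_iso_isHomLift (FibCat.toSelf 𝒳) (FibCat.toSelf 𝒴) z'
  have h1 : (FibCat.selfOver C).p.IsHomLift f ((FibCat.toSelf 𝒳).toFunctor.map α) :=
    BasedFunctor.preserves_isHomLift (FibCat.toSelf 𝒳) f α
  have h2 : (FibCat.selfOver C).p.IsHomLift f ((FibCat.toSelf 𝒴).toFunctor.map β) :=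
    BasedFunctor.preserves_isHomLift (FibCat.toSelf 𝒴) f β
  have hL : (FibCat.selfOver C).p.IsHomLift f
      ((FibCat.toSelf 𝒳).toFunctor.map α ≫ z.obj.iso.hom) :=
    IsHomLift.comp_lift_id_right' (FibCat.selfOver C).p f _ (𝒳.p.obj z.obj.fst) z.obj.iso.hom
  have hR : (FibCat.selfOver C).p.IsHomLift f
      (z'.obj.iso.hom ≫ (FibCat.toSelf 𝒴).toFunctor.map β) :=
    IsHomLift.comp_lift_id_left' (FibCat.selfOver C).p (𝒳.p.obj z'.obj.fst) z'.obj.iso.hom f _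
  exact self_hom_ext f _ _

/-- a morphism of `𝒳 ×_C 𝒴` from components over a common morphism of `C` -/
def fpSelfHomMk {z z' : (FibCat.fp (FibCat.toSelf 𝒳) (FibCat.toSelf 𝒴)).obj} {R S : C} (f : R ⟶ S)
    (α : z'.obj.fst ⟶ z.obj.fst) (β : z'.obj.snd ⟶ z.obj.snd)
    [hα : 𝒳.p.IsHomLift f α] [hβ : 𝒴.p.IsHomLift f β] : z' ⟶ z :=
  ObjectProperty.homMk ⟨α, β, fpSelf_w f α β⟩

@[simp] theorem fpSelfHomMk_fst {z z' : (FibCat.fp (FibCat.toSelf 𝒳) (FibCat.toSelf 𝒴)).obj}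
    {R S : C} (f : R ⟶ S) (α : z'.obj.fst ⟶ z.obj.fst) (β : z'.obj.snd ⟶ z.obj.snd)
    [hα : 𝒳.p.IsHomLift f α] [hβ : 𝒴.p.IsHomLift f β] : (fpSelfHomMk f α β).hom.fst = α := rfl

@[simp] theorem fpSelfHomMk_snd {z z' : (FibCat.fp (FibCat.toSelf 𝒳) (FibCat.toSelf 𝒴)).obj}
    {R S : C} (f : R ⟶ S) (α : z'.obj.fst ⟶ z.obj.fst) (β : z'.obj.snd ⟶ z.obj.snd)
    [hα : 𝒳.p.IsHomLift f α] [hβ : 𝒴.p.IsHomLift f β] : (fpSelfHomMk f α β).hom.snd = β := rfl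

theorem fpSelfHomMk_isHomLift {z z' : (FibCat.fp (FibCat.toSelf 𝒳) (FibCat.toSelf 𝒴)).obj}
    {R S : C} (f : R ⟶ S) (α : z'.obj.fst ⟶ z.obj.fst) (β : z'.obj.snd ⟶ z.obj.snd)
    [hα : 𝒳.p.IsHomLift f α] [hβ : 𝒴.p.IsHomLift f β] :
    (FibCat.fp (FibCat.toSelf 𝒳) (FibCat.toSelf 𝒴)).p.IsHomLift f (fpSelfHomMk f α β) := by
  have : 𝒳.p.IsHomLift f (fpSelfHomMk f α β).hom.fst := hα
  exact fp_isHomLift_of_fst _ _ _ f

theorem fpSelf_hom_ext {z z' : (FibCat.fp (FibCat.toSelf 𝒳) (FibCat.toSelf 𝒴)).obj}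
    (m n : z' ⟶ z) (h1 : m.hom.fst = n.hom.fst) (h2 : m.hom.snd = n.hom.snd) : m = n := by
  apply ObjectProperty.hom_ext
  apply CategoricalPullback.hom_ext
  · exact h1
  · exact h2

/-- componentwise cartesian morphisms of `𝒳 ×_C 𝒴` are cartesian -/
theorem fpSelf_isCartesian {z z' : (FibCat.fp (FibCat.toSelf 𝒳) (FibCat.toSelf 𝒴)).obj}
    (m : z' ⟶ z) {R S : C} (f : R ⟶ S)
    [h1 : 𝒳.p.IsCartesian f m.hom.fst] [h2 : 𝒴.p.IsCartesian f m.hom.snd] :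
    (FibCat.fp (FibCat.toSelf 𝒳) (FibCat.toSelf 𝒴)).p.IsCartesian f m := by
  have hl : (FibCat.fp (FibCat.toSelf 𝒳) (FibCat.toSelf 𝒴)).p.IsHomLift f m :=
    fp_isHomLift_of_fst _ _ m f
  refine { toIsHomLift := hl, universal_property := ?_ }
  intro z'' m' hm'
  have hm'1 : 𝒳.p.IsHomLift f m'.hom.fst := fp_fst_isHomLift _ _ m' f
  have hm'2 : 𝒴.p.IsHomLift f m'.hom.snd := fp_snd_isHomLift _ _ m' f
  let a' := Functor.IsCartesian.map 𝒳.p f m.hom.fst m'.hom.fst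
  let b' := Functor.IsCartesian.map 𝒴.p f m.hom.snd m'.hom.snd
  have ha' : 𝒳.p.IsHomLift (𝟙 R) a' := Functor.IsCartesian.map_isHomLift 𝒳.p f m.hom.fst m'.hom.fst
  have hb' : 𝒴.p.IsHomLift (𝟙 R) b' := Functor.IsCartesian.map_isHomLift 𝒴.p f m.hom.snd m'.hom.snd
  refine ⟨fpSelfHomMk (𝟙 R) a' b', ⟨fpSelfHomMk_isHomLift (𝟙 R) a' b', ?_⟩, ?_⟩
  · apply fpSelf_hom_ext
    · exact Functor.IsCartesian.fac 𝒳.p f m.hom.fst m'.hom.fst
    · exact Functor.IsCartesian.fac 𝒴.p f m.hom.snd m'.hom.snd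
  · rintro n ⟨hn1, hn2⟩
    have hn1' : 𝒳.p.IsHomLift (𝟙 R) n.hom.fst := fp_fst_isHomLift _ _ n (𝟙 R)
    have hn2' : 𝒴.p.IsHomLift (𝟙 R) n.hom.snd := fp_snd_isHomLift _ _ n (𝟙 R)
    apply fpSelf_hom_ext
    · exact Functor.IsCartesian.map_uniq 𝒳.p f m.hom.fst m'.hom.fst n.hom.fst
        (congrArg (fun t => t.hom.fst) hn2)
    · exact Functor.IsCartesian.map_uniq 𝒴.p f m.hom.snd m'.hom.snd n.hom.snd
        (congrArg (fun t => t.hom.snd) hn2)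

/-- an object of `𝒳 ×_C 𝒴` from two objects over the same object of `C` -/
def fpSelfObjMk (a : 𝒳.obj) (b : 𝒴.obj) (h : 𝒳.p.obj a = 𝒴.p.obj b) :
    (FibCat.fp (FibCat.toSelf 𝒳) (FibCat.toSelf 𝒴)).obj :=
  ⟨⟨a, b, eqToIso h⟩, IsHomLift.eqToHom_domain_lift_id (p := (FibCat.selfOver C).p) h rfl⟩

/-- the first component of a cartesian morphism of `𝒳 ×_C 𝒴` is cartesian -/
theorem fpSelf_fst_isCartesian {z z' : (FibCat.fp (FibCat.toSelf 𝒳) (FibCat.toSelf 𝒴)).obj}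
    (m : z' ⟶ z) {R S : C} (f : R ⟶ S)
    [h : (FibCat.fp (FibCat.toSelf 𝒳) (FibCat.toSelf 𝒴)).p.IsCartesian f m] :
    𝒳.p.IsCartesian f m.hom.fst := by
  have hl1 : 𝒳.p.IsHomLift f m.hom.fst := fp_fst_isHomLift _ _ m f
  have hl2 : 𝒴.p.IsHomLift f m.hom.snd := fp_snd_isHomLift _ _ m f
  refine { toIsHomLift := hl1, universal_property := ?_ }
  intro a'' α hα
  have hR1 : 𝒳.p.obj a'' = R := IsHomLift.domain_eq 𝒳.p f α
  have hR2 : 𝒴.p.obj z'.obj.snd = R := IsHomLift.domain_eq 𝒴.p f m.hom.snd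
  let z'' := fpSelfObjMk a'' z'.obj.snd (hR1.trans hR2.symm)
  have hα' : 𝒳.p.IsHomLift f (show z''.obj.fst ⟶ z.obj.fst from α) := hα
  have hβ' : 𝒴.p.IsHomLift f (show z''.obj.snd ⟶ z.obj.snd from m.hom.snd) := hl2
  let m' : z'' ⟶ z := fpSelfHomMk f (show z''.obj.fst ⟶ z.obj.fst from α)
    (show z''.obj.snd ⟶ z.obj.snd from m.hom.snd)
  have hm' : (FibCat.fp (FibCat.toSelf 𝒳) (FibCat.toSelf 𝒴)).p.IsHomLift f m' :=
    fpSelfHomMk_isHomLift f _ _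
  let χ : z'' ⟶ z' := Functor.IsCartesian.map (FibCat.fp (FibCat.toSelf 𝒳) (FibCat.toSelf 𝒴)).p f m m'
  have hχ : (FibCat.fp (FibCat.toSelf 𝒳) (FibCat.toSelf 𝒴)).p.IsHomLift (𝟙 R) χ :=
    Functor.IsCartesian.map_isHomLift (FibCat.fp (FibCat.toSelf 𝒳) (FibCat.toSelf 𝒴)).p f m m'
  have hχfac : χ ≫ m = m' := Functor.IsCartesian.fac (FibCat.fp (FibCat.toSelf 𝒳) (FibCat.toSelf 𝒴)).p f m m'
  refine ⟨χ.hom.fst, ⟨fp_fst_isHomLift _ _ χ (𝟙 R), congrArg (fun t => t.hom.fst) hχfac⟩, ?_⟩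
  rintro χ₁ ⟨h1, h2⟩
  have h1' : 𝒳.p.IsHomLift (𝟙 R) (show z''.obj.fst ⟶ z'.obj.fst from χ₁) := h1
  have h3 : 𝒴.p.IsHomLift (𝟙 R) (show z''.obj.snd ⟶ z'.obj.snd from 𝟙 z'.obj.snd) :=
    IsHomLift.id hR2
  let n : z'' ⟶ z' := fpSelfHomMk (𝟙 R) (show z''.obj.fst ⟶ z'.obj.fst from χ₁)
    (show z''.obj.snd ⟶ z'.obj.snd from 𝟙 z'.obj.snd)
  have hn : (FibCat.fp (FibCat.toSelf 𝒳) (FibCat.toSelf 𝒴)).p.IsHomLift (𝟙 R) n :=
    fpSelfHomMk_isHomLift (𝟙 R) _ _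
  have hnm : n ≫ m = m' := by
    apply fpSelf_hom_ext
    · exact h2
    · exact Category.id_comp m.hom.snd
  have := Functor.IsCartesian.map_uniq (FibCat.fp (FibCat.toSelf 𝒳) (FibCat.toSelf 𝒴)).p f m m' n hnm
  exact congrArg (fun t => t.hom.fst) this

/-- the second component of a cartesian morphism of `𝒳 ×_C 𝒴` is cartesian -/
theorem fpSelf_snd_isCartesian {z z' : (FibCat.fp (FibCat.toSelf 𝒳) (FibCat.toSelf 𝒴)).obj}
    (m : z' ⟶ z) {R S : C} (f : R ⟶ S)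
    [h : (FibCat.fp (FibCat.toSelf 𝒳) (FibCat.toSelf 𝒴)).p.IsCartesian f m] :
    𝒴.p.IsCartesian f m.hom.snd := by
  have hl1 : 𝒳.p.IsHomLift f m.hom.fst := fp_fst_isHomLift _ _ m f
  have hl2 : 𝒴.p.IsHomLift f m.hom.snd := fp_snd_isHomLift _ _ m f
  refine { toIsHomLift := hl2, universal_property := ?_ }
  intro b'' β hβ
  have hR1 : 𝒴.p.obj b'' = R := IsHomLift.domain_eq 𝒴.p f β
  have hR2 : 𝒳.p.obj z'.obj.fst = R := IsHomLift.domain_eq 𝒳.p f m.hom.fst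
  let z'' := fpSelfObjMk z'.obj.fst b'' (hR2.trans hR1.symm)
  have hα' : 𝒳.p.IsHomLift f (show z''.obj.fst ⟶ z.obj.fst from m.hom.fst) := hl1
  have hβ' : 𝒴.p.IsHomLift f (show z''.obj.snd ⟶ z.obj.snd from β) := hβ
  let m' : z'' ⟶ z := fpSelfHomMk f (show z''.obj.fst ⟶ z.obj.fst from m.hom.fst)
    (show z''.obj.snd ⟶ z.obj.snd from β)
  have hm' : (FibCat.fp (FibCat.toSelf 𝒳) (FibCat.toSelf 𝒴)).p.IsHomLift f m' :=
    fpSelfHomMk_isHomLift f _ _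
  let χ : z'' ⟶ z' := Functor.IsCartesian.map (FibCat.fp (FibCat.toSelf 𝒳) (FibCat.toSelf 𝒴)).p f m m'
  have hχ : (FibCat.fp (FibCat.toSelf 𝒳) (FibCat.toSelf 𝒴)).p.IsHomLift (𝟙 R) χ :=
    Functor.IsCartesian.map_isHomLift (FibCat.fp (FibCat.toSelf 𝒳) (FibCat.toSelf 𝒴)).p f m m'
  have hχfac : χ ≫ m = m' := Functor.IsCartesian.fac (FibCat.fp (FibCat.toSelf 𝒳) (FibCat.toSelf 𝒴)).p f m m'
  refine ⟨χ.hom.snd, ⟨fp_snd_isHomLift _ _ χ (𝟙 R), congrArg (fun t => t.hom.snd) hχfac⟩, ?_⟩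
  rintro χ₁ ⟨h1, h2⟩
  have h1' : 𝒴.p.IsHomLift (𝟙 R) (show z''.obj.snd ⟶ z'.obj.snd from χ₁) := h1
  have h3 : 𝒳.p.IsHomLift (𝟙 R) (show z''.obj.fst ⟶ z'.obj.fst from 𝟙 z'.obj.fst) :=
    IsHomLift.id hR2
  let n : z'' ⟶ z' := fpSelfHomMk (𝟙 R) (show z''.obj.fst ⟶ z'.obj.fst from 𝟙 z'.obj.fst)
    (show z''.obj.snd ⟶ z'.obj.snd from χ₁)
  have hn : (FibCat.fp (FibCat.toSelf 𝒳) (FibCat.toSelf 𝒴)).p.IsHomLift (𝟙 R) n :=
    fpSelfHomMk_isHomLift (𝟙 R) _ _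
  have hnm : n ≫ m = m' := by
    apply fpSelf_hom_ext
    · exact Category.id_comp m.hom.fst
    · exact h2
  have := Functor.IsCartesian.map_uniq (FibCat.fp (FibCat.toSelf 𝒳) (FibCat.toSelf 𝒴)).p f m m' n hnm
  exact congrArg (fun t => t.hom.snd) this

end fp

end Groth.Agent.H26

namespace Groth.Agent.H26

open Groth.Agent.H32

variable {C : Type u} [Category.{v} C]

instance self_isFibered : (FibCat.selfOver C).p.IsFibered := by
  apply Functor.IsFibered.of_exists_isStronglyCartesian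
  intro a R f
  have : (FibCat.selfOver C).p.IsHomLift f (show (show (FibCat.selfOver C).obj from R) ⟶ a from f) :=
    self_isHomLift_self (a := R) (b := a) f
  exact ⟨R, f, self_isStronglyCartesian f _⟩

variable {𝒳 : BasedCategory.{v₂, u₂} C} {𝒴 : BasedCategory.{v₃, u₃} C}

theorem isFibered_fpSelf [𝒳.p.IsFibered] [𝒴.p.IsFibered] :
    (FibCat.fp (FibCat.toSelf 𝒳) (FibCat.toSelf 𝒴)).p.IsFibered := by
  apply isFibered_fp
  · intro R S f a b φ hφ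
    have : (FibCat.selfOver C).p.IsHomLift f ((FibCat.toSelf 𝒳).toFunctor.map φ) :=
      BasedFunctor.preserves_isHomLift (FibCat.toSelf 𝒳) f φ
    exact self_isStronglyCartesian f _
  · intro R S f a b φ hφ
    have : (FibCat.selfOver C).p.IsHomLift f ((FibCat.toSelf 𝒴).toFunctor.map φ) :=
      BasedFunctor.preserves_isHomLift (FibCat.toSelf 𝒴) f φ
    exact self_isStronglyCartesian f _

theorem isPreFibered_fpSelf [𝒳.p.IsPreFibered] [𝒴.p.IsPreFibered] :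
    (FibCat.fp (FibCat.toSelf 𝒳) (FibCat.toSelf 𝒴)).p.IsPreFibered := by
  refine ⟨?_⟩
  intro z R f
  change R ⟶ 𝒳.p.obj z.obj.fst at f
  obtain ⟨x', φ, hφ⟩ := IsPreFibered.exists_isCartesian 𝒳.p (a := z.obj.fst) rfl f
  obtain ⟨y', ψ, hψ⟩ := IsPreFibered.exists_isCartesian 𝒴.p (a := z.obj.snd)
    (fp_snd_obj_eq _ _ z) f
  have hR1 : 𝒳.p.obj x' = R := IsHomLift.domain_eq 𝒳.p f φ
  have hR2 : 𝒴.p.obj y' = R := IsHomLift.domain_eq 𝒴.p f ψ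
  let z' := fpSelfObjMk x' y' (hR1.trans hR2.symm)
  have hα' : 𝒳.p.IsHomLift f (show z'.obj.fst ⟶ z.obj.fst from φ) := hφ.toIsHomLift
  have hβ' : 𝒴.p.IsHomLift f (show z'.obj.snd ⟶ z.obj.snd from ψ) := hψ.toIsHomLift
  let m : z' ⟶ z := fpSelfHomMk f (show z'.obj.fst ⟶ z.obj.fst from φ)
    (show z'.obj.snd ⟶ z.obj.snd from ψ)
  have h1 : 𝒳.p.IsCartesian f m.hom.fst := hφ
  have h2 : 𝒴.p.IsCartesian f m.hom.snd := hψ
  exact ⟨z', m, fpSelf_isCartesian m f⟩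

end Groth.Agent.H26
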