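import Mathlib
import Groth.Agent.H26.ArtSocle

/-!
# Frobenius forms on finite-dimensional commutative algebras over a field

For a finite-dimensional commutative algebra `C` over a field `κ`, a linear form `φ : C → κ` such
that `c ↦ φ(c ·)` is injective (equivalently bijective) `C → Hom_κ(C, κ)` exists iff `Ann_C(m)` is
generated by one nonzero element for every maximal ideal `m`.
-/

set_option autoImplicit false
set_option linter.style.haveILetI false
set_option linter.unusedSectionVars false
universe u

open Module Function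

namespace Groth.Agent.H26.FrobField

open Groth.Agent.H26.ArtSocle

variable {κ C : Type u} [Field κ] [CommRing C] [Algebra κ C]

/-- `c ↦ φ(c ·)` -/
noncomputable def toDual (φ : C →ₗ[κ] κ) : C →ₗ[κ] Module.Dual κ C :=
  (LinearMap.mul κ C).compr₂ φ

@[simp] theorem toDual_apply (φ : C →ₗ[κ] κ) (c x : C) : toDual φ c x = φ (c * x) := rfl

theorem toDual_bijective_of_injective [Module.Finite κ C] {φ : C →ₗ[κ] κ}
    (h : Function.Injective (toDual φ)) : Function.Bijective (toDual φ) :=
  ⟨h, (LinearMap.injective_iff_surjective_of_finrank_eq_finrank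
    (Subspace.dual_finrank_eq (K := κ) (V := C)).symm).mp h⟩

/-- the `κ`-subspace `Ann_C(m)` -/
def annSub (m : Ideal C) : Submodule κ C where
  carrier := {c | ∀ y ∈ m, y * c = 0}
  add_mem' := fun {a b} ha hb y hy => by rw [mul_add, ha y hy, hb y hy, add_zero]
  zero_mem' := fun y _ => mul_zero y
  smul_mem' := fun r a ha y hy => by rw [mul_smul_comm, ha y hy, smul_zero]

theorem mem_annSub {m : Ideal C} {c : C} : c ∈ annSub (κ := κ) m ↔ ∀ y ∈ m, y * c = 0 := Iff.rfl

/-- If `c ↦ φ(c ·)` is injective then every nonzero element of `Ann_C(m)` generates it. -/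
theorem isSocGenAt_of_injective [Module.Finite κ C] {φ : C →ₗ[κ] κ}
    (hφ : Function.Injective (toDual φ)) (m : Ideal C) [hm : m.IsMaximal] {s : C} (hs : s ≠ 0)
    (hms : ∀ y ∈ m, y * s = 0) : IsSocGenAt m s := by
  refine ⟨hs, hms, fun t ht => ?_⟩
  set m' : Submodule κ C := m.restrictScalars κ with hm'
  set S : Submodule κ C := annSub m with hS
  -- dimension bound for S
  have h1 : S.map (toDual φ) ≤ m'.dualAnnihilator := by
    rintro _ ⟨c, hc, rfl⟩
    rw [Submodule.mem_dualAnnihilator]
    intro y hy
    have hy' : y ∈ m := hy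
    rw [toDual_apply, mul_comm, (mem_annSub.mp hc) y hy', map_zero]
  have h2 : finrank κ S ≤ finrank κ m'.dualAnnihilator := by
    rw [(Submodule.equivMapOfInjective (toDual φ) hφ S).finrank_eq]
    exact Submodule.finrank_mono h1
  have h3 := Subspace.finrank_add_finrank_dualAnnihilator_eq m'
  -- multiplication by s
  set R : C →ₗ[κ] C := LinearMap.mulRight κ s with hR
  have h4 : LinearMap.range R ≤ S := by
    rintro _ ⟨c, rfl⟩
    intro y hy
    show y * (c * s) = 0
    rw [mul_left_comm, hms y hy, mul_zero]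
  have h5 : LinearMap.ker R = m' := by
    -- the ideal {c | c * s = 0}
    let I : Ideal C := LinearMap.ker (LinearMap.mulRight C s)
    have hI : m ≤ I := fun y hy => by
      show y * s = 0
      exact hms y hy
    have hI2 : I ≠ ⊤ := by
      intro h
      have : (1 : C) ∈ I := h ▸ Submodule.mem_top
      have : (1 : C) * s = 0 := this
      exact hs (by simpa using this)
    have hI3 : m = I := hm.eq_of_le hI2 hI
    ext c
    constructor
    · intro hc
      have : c ∈ I := hc
      rw [← hI3] at this
      exact this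
    · intro hc
      have hc' : c ∈ m := hc
      exact hI hc'
  have h6 := LinearMap.finrank_range_add_finrank_ker R
  rw [h5] at h6
  have h7 : finrank κ S ≤ finrank κ (LinearMap.range R) := by omega
  have h8 : LinearMap.range R = S := Submodule.eq_of_le_of_finrank_le h4 h7
  have h9 : t ∈ LinearMap.range R := h8 ▸ (show t ∈ S from ht)
  obtain ⟨u, hu⟩ := h9
  exact ⟨u, hu.symm⟩

/-- every nonzero element has a nonzero multiple killed by a maximal ideal -/
theorem exists_mul_ne_zero_forall_mul_eq_zero [IsArtinianRing C] {c : C} (hc : c ≠ 0) :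
    ∃ (P : Ideal C) (a : C), P.IsMaximal ∧ a * c ≠ 0 ∧ ∀ y ∈ P, y * (a * c) = 0 := by
  haveI : IsNoetherianRing C := inferInstance
  let x : (Ideal.span {c} : Ideal C) := ⟨c, Ideal.mem_span_singleton_self c⟩
  have hx : x ≠ 0 := fun h => hc (congrArg Subtype.val h)
  obtain ⟨P, hP, -⟩ := exists_le_isAssociatedPrime_of_isNoetherianRing C x hx
  obtain ⟨hPp, z, hz⟩ := (isAssociatedPrime_iff (R := C)).mp hP
  haveI := hPp
  obtain ⟨a, ha⟩ := Ideal.mem_span_singleton'.mp z.2
  refine ⟨P, a, inferInstance, ?_, ?_⟩
  · intro h0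
    apply hPp.ne_top
    rw [hz]
    ext r
    have : z = 0 := Subtype.ext (by rw [← ha, h0]; rfl)
    simp [Submodule.mem_colon_singleton, this]
  · intro y hy
    rw [hz, Submodule.mem_colon_singleton] at hy
    have := congrArg Subtype.val (show y • z = 0 by simpa using hy)
    rw [ha]
    simpa using this

/-- If `Ann_C(m)` is generated by one nonzero element for every maximal `m`, there is a
Frobenius form. -/
theorem exists_injective_toDual [Module.Finite κ C]
    (h : ∀ m : Ideal C, m.IsMaximal → ∃ s : C, IsSocGenAt m s) :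
    ∃ φ : C →ₗ[κ] κ, Function.Injective (toDual φ) := by
  classical
  haveI : IsArtinianRing C := IsArtinianRing.of_finite κ C
  haveI : Finite (MaximalSpectrum C) := inferInstance
  haveI : Fintype (MaximalSpectrum C) := Fintype.ofFinite _
  choose s hs using fun m : MaximalSpectrum C => h m.asIdeal m.isMaximal
  -- CRT elements
  have hcop : Pairwise (IsCoprime on fun m : MaximalSpectrum C => m.asIdeal) := by
    intro m m' hne
    rw [Function.onFun, Ideal.isCoprime_iff_sup_eq]
    exact Ideal.IsMaximal.coprime_of_ne m.isMaximal m'.isMaximal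
      (fun h => hne (MaximalSpectrum.ext h))
  have hy : ∀ m : MaximalSpectrum C, ∃ y : C, ∀ m' : MaximalSpectrum C,
      y - (if m' = m then 1 else 0) ∈ m'.asIdeal := fun m =>
    Ideal.exists_forall_sub_mem_ideal hcop _
  choose y hy using hy
  have hψ : ∀ m : MaximalSpectrum C, ∃ ψ : Module.Dual κ C, ψ (s m) ≠ 0 := fun m =>
    Module.Projective.exists_dual_ne_zero κ (hs m).1
  choose ψ hψ using hψ
  let φ : C →ₗ[κ] κ := ∑ m : MaximalSpectrum C, (ψ m) ∘ₗ LinearMap.mulLeft κ (y m)
  have hφ : ∀ x : C, φ x = ∑ m : MaximalSpectrum C, ψ m (y m * x) := by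
    intro x
    simp [φ, LinearMap.sum_apply]
  have hφs : ∀ m : MaximalSpectrum C, φ (s m) = ψ m (s m) := by
    intro m
    rw [hφ, Finset.sum_eq_single m]
    · have h1 := hy m m
      rw [if_pos rfl] at h1
      have h2 := (hs m).2.1 _ h1
      rw [sub_mul, one_mul, sub_eq_zero] at h2
      rw [h2]
    · intro m' _ hne
      have h1 := hy m' m
      rw [if_neg (Ne.symm hne), sub_zero] at h1
      rw [(hs m).2.1 _ h1, map_zero]
    · intro hm; exact absurd (Finset.mem_univ m) hm
  refine ⟨φ, ?_⟩
  rw [injective_iff_map_eq_zero]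
  intro c hc0
  by_contra hc
  obtain ⟨P, a, hP, hne, hkill⟩ := exists_mul_ne_zero_forall_mul_eq_zero hc
  let mP : MaximalSpectrum C := ⟨P, hP⟩
  obtain ⟨u, hu⟩ := (hs mP).2.2 (a * c) hkill
  haveI := hP
  have hu' : u ∉ P := by
    intro huP
    apply hne
    rw [hu]
    exact (hs mP).2.1 u huP
  obtain ⟨b, hb⟩ := exists_mul_eq_of_notMem (hs mP).2.1 hu'
  -- s mP = b * (a * c)
  have h1 : s mP = c * (b * a) := by
    rw [← hb, ← hu]; ring
  have h2 : φ (s mP) = 0 := by
    rw [h1, ← toDual_apply, hc0]; rfl
  exact hψ mP (by rw [← hφs, h2])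

end Groth.Agent.H26.FrobField
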