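import Mathlib
import Groth.Prelude.Def_Found
import Groth.Agent.H72.ExcellentLoc

/-!
# G-schemes: the G-ring property is local on affine opens (helper26)
-/

set_option autoImplicit false
set_option linter.style.haveILetI false
set_option linter.unusedSectionVars false
universe u
open CategoryTheory AlgebraicGeometry Opposite

namespace Groth.Agent.H26.GScheme

set_option backward.isDefEq.respectTransparency false in
theorem isGRing_of_cover (X : Scheme.{u})
    (h : ∀ x : X, ∃ U : X.Opens, x ∈ U ∧ IsAffineOpen U ∧ CAlg.IsGRing Γ(X, U))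
    (U : X.Opens) (hU : IsAffineOpen U) : CAlg.IsGRing Γ(X, U) := by
  choose V hxV hV hG using h
  have hLN : IsLocallyNoetherian X := by
    refine isLocallyNoetherian_of_affine_cover (S := fun x : X => (⟨V x, hV x⟩ : X.affineOpens))
      ?_ (fun x => (hG x).1)
    refine top_le_iff.mp ?_
    intro x _
    exact TopologicalSpace.Opens.mem_iSup.mpr ⟨x, hxV x⟩
  have hN : IsNoetherianRing Γ(X, U) := IsLocallyNoetherian.component_noetherian ⟨U, hU⟩
  refine ⟨hN, fun p hp => ?_⟩
  let y : PrimeSpectrum Γ(X, U) := ⟨p, hp⟩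
  have hxU : hU.fromSpec y ∈ U := by
    have : hU.fromSpec y ∈ Set.range hU.fromSpec := ⟨y, rfl⟩
    rw [hU.range_fromSpec] at this
    exact this
  obtain ⟨x, hx⟩ : ∃ x : X, x = hU.fromSpec y := ⟨_, rfl⟩
  have hxU' : x ∈ U := hx ▸ hxU
  letI algU : Algebra Γ(X, U) (X.presheaf.stalk x) :=
    TopCat.Presheaf.algebra_section_stalk X.presheaf ⟨x, hxU'⟩
  letI algV : Algebra Γ(X, V x) (X.presheaf.stalk x) :=
    TopCat.Presheaf.algebra_section_stalk X.presheaf ⟨x, hxV x⟩
  have h1 : IsLocalization.AtPrime (X.presheaf.stalk x) p := by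
    subst hx
    exact hU.isLocalization_stalk' y hxU
  have h2 : IsLocalization.AtPrime (X.presheaf.stalk x)
      ((hV x).primeIdealOf ⟨x, hxV x⟩).asIdeal := (hV x).isLocalization_stalk ⟨x, hxV x⟩
  haveI : IsNoetherianRing Γ(X, V x) := (hG x).1
  let e1 : Localization.AtPrime p ≃+* X.presheaf.stalk x :=
    (IsLocalization.algEquiv p.primeCompl (Localization.AtPrime p) (X.presheaf.stalk x)).toRingEquiv
  let e2 : Localization.AtPrime ((hV x).primeIdealOf ⟨x, hxV x⟩).asIdeal ≃+* X.presheaf.stalk x :=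
    (IsLocalization.algEquiv ((hV x).primeIdealOf ⟨x, hxV x⟩).asIdeal.primeCompl
      (Localization.AtPrime ((hV x).primeIdealOf ⟨x, hxV x⟩).asIdeal)
      (X.presheaf.stalk x)).toRingEquiv
  haveI : IsNoetherianRing (Localization.AtPrime p) :=
    IsLocalization.isNoetherianRing p.primeCompl _ hN
  haveI : IsNoetherianRing (Localization.AtPrime ((hV x).primeIdealOf ⟨x, hxV x⟩).asIdeal) :=
    IsLocalization.isNoetherianRing ((hV x).primeIdealOf ⟨x, hxV x⟩).asIdeal.primeCompl _ (hG x).1
  exact Groth.Agent.H72.ExcellentLoc.isRegularHom_compl_of_ringEquiv (e2.trans e1.symm)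
    ((hG x).2 ((hV x).primeIdealOf ⟨x, hxV x⟩).asIdeal)

end Groth.Agent.H26.GScheme
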