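import Groth.Agent.H49.CMMor
import Groth.Agent.H26.GorFibre
import Groth.Agent.H26.GorRegHom
import Groth.Prelude.Def_Dual3

/-!
# Gorenstein morphisms at a point: ring-level reformulation (helper26)

Gorenstein mirror of helper49's `CMMor`:
`Dual3.IsGorensteinAt f x ↔ f flat at x ∧ Gorenstein (O_{X,x} ⧸ m_{f x} O_{X,x})`, behaviour under
composition, and along a flat stalk map.
-/

set_option autoImplicit false
set_option linter.style.haveILetI false
universe u

open CategoryTheory CategoryTheory.Limits AlgebraicGeometry IsLocalRing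

namespace Groth.Agent.H26.GorMor

open Groth.Agent.H49.FibreStalk Groth.Agent.H26.GorRegHom

section ring

variable {B C : Type u} [CommRing B] [CommRing C] [Algebra B C] [IsLocalRing B] [IsLocalRing C]
  [IsLocalHom (algebraMap B C)]

/-- Gorensteinness of `C/JC` for a flat local homomorphism `B → C`. -/
theorem gor_quotient_iff [Module.Flat B C] (J : Ideal B) (hJ : J ≠ ⊤) [IsNoetherianRing (B ⧸ J)]
    [IsNoetherianRing (C ⧸ J.map (algebraMap B C))] :
    LocCoh.IsGorensteinLocalRing (C ⧸ J.map (algebraMap B C)) ↔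
      LocCoh.IsGorensteinLocalRing (B ⧸ J) ∧
        LocCoh.IsGorensteinLocalRing (C ⧸ (maximalIdeal B).map (algebraMap B C)) := by
  haveI := Groth.Agent.H49.FibreCM.isLocalRing_quotient J hJ
  haveI := Groth.Agent.H49.FibreCM.isLocalRing_quotient (J.map (algebraMap B C))
    (Groth.Agent.H49.FibreCM.map_ne_top J hJ)
  haveI := Groth.Agent.H49.FibreCM.isLocalHom_quotient (C := C) J hJ
  haveI := Groth.Agent.H49.FibreCM.flat_quotient (C := C) J
  rw [Groth.Agent.H26.GorFibre.isGorensteinLocalRing_iff_of_flat (B ⧸ J)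
    (C ⧸ J.map (algebraMap B C))]
  have e := Groth.Agent.H49.FibreCM.quotQuotEquiv (C := C) J hJ
  exact and_congr_right fun _ => ⟨isGorensteinLocalRing_of_ringEquiv e,
    isGorensteinLocalRing_of_ringEquiv e.symm⟩

end ring

variable {X Y Z : Scheme.{u}}

theorem gor_stalk_asFiber_iff (f : X ⟶ Y) (x : X) :
    LocCoh.IsGorensteinLocalRing ((f.fiber (f x)).presheaf.stalk (f.asFiber x)) ↔
      LocCoh.IsGorensteinLocalRing (X.presheaf.stalk x ⧸ fibreIdeal f x) :=
  ⟨isGorensteinLocalRing_of_ringEquiv (quotientEquivStalkAsFiber f x).symm,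
    isGorensteinLocalRing_of_ringEquiv (quotientEquivStalkAsFiber f x)⟩

theorem isGorensteinAt_iff (f : X ⟶ Y) (x : X) :
    Dual3.IsGorensteinAt f x ↔ (f.stalkMap x).hom.Flat ∧
      LocCoh.IsGorensteinLocalRing (X.presheaf.stalk x ⧸ fibreIdeal f x) :=
  and_congr_right fun _ => gor_stalk_asFiber_iff f x

/-- Gorensteinness of the fibre ring of a composite, `f` flat at `x`. -/
theorem gor_comp_iff (f : X ⟶ Y) (g : Y ⟶ Z) (x : X) (hfl : (f.stalkMap x).hom.Flat)
    [IsNoetherianRing (Y.presheaf.stalk (f x) ⧸ fibreIdeal g (f x))]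
    [IsNoetherianRing (X.presheaf.stalk x ⧸ fibreIdeal (f ≫ g) x)] :
    LocCoh.IsGorensteinLocalRing (X.presheaf.stalk x ⧸ fibreIdeal (f ≫ g) x) ↔
      LocCoh.IsGorensteinLocalRing (Y.presheaf.stalk (f x) ⧸ fibreIdeal g (f x)) ∧
        LocCoh.IsGorensteinLocalRing (X.presheaf.stalk x ⧸ fibreIdeal f x) := by
  letI : Algebra (Y.presheaf.stalk (f x)) (X.presheaf.stalk x) := (f.stalkMap x).hom.toAlgebra
  haveI : IsLocalHom (algebraMap (Y.presheaf.stalk (f x)) (X.presheaf.stalk x)) :=
    (inferInstance : IsLocalHom (f.stalkMap x).hom)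
  haveI : Module.Flat (Y.presheaf.stalk (f x)) (X.presheaf.stalk x) := hfl
  have hJ : fibreIdeal g (f x) ≠ ⊤ := fibreIdeal_ne_top g (f x)
  have hcomp : fibreIdeal (f ≫ g) x = Ideal.map (algebraMap (Y.presheaf.stalk (f x))
      (X.presheaf.stalk x)) (fibreIdeal g (f x)) := Groth.Agent.H49.CMMor.fibreIdeal_comp f g x
  let e : (X.presheaf.stalk x ⧸ fibreIdeal (f ≫ g) x) ≃+*
      (X.presheaf.stalk x ⧸ Ideal.map (algebraMap (Y.presheaf.stalk (f x))
      (X.presheaf.stalk x)) (fibreIdeal g (f x))) := Ideal.quotEquivOfEq hcomp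
  haveI : IsNoetherianRing (X.presheaf.stalk x ⧸ Ideal.map (algebraMap (Y.presheaf.stalk (f x))
      (X.presheaf.stalk x)) (fibreIdeal g (f x))) := isNoetherianRing_of_ringEquiv _ e
  have key := gor_quotient_iff (B := Y.presheaf.stalk (f x))
    (C := X.presheaf.stalk x) (fibreIdeal g (f x)) hJ
  refine Iff.trans ?_ key
  exact ⟨isGorensteinLocalRing_of_ringEquiv e, isGorensteinLocalRing_of_ringEquiv e.symm⟩

/-- Gorensteinness along a flat stalk map. -/
theorem gor_stalk_iff_of_flat (f : X ⟶ Y) (x : X) (hfl : (f.stalkMap x).hom.Flat)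
    [IsNoetherianRing (X.presheaf.stalk x)] [IsNoetherianRing (Y.presheaf.stalk (f x))] :
    LocCoh.IsGorensteinLocalRing (X.presheaf.stalk x) ↔
      LocCoh.IsGorensteinLocalRing (Y.presheaf.stalk (f x)) ∧
        LocCoh.IsGorensteinLocalRing (X.presheaf.stalk x ⧸ fibreIdeal f x) := by
  letI : Algebra (Y.presheaf.stalk (f x)) (X.presheaf.stalk x) := (f.stalkMap x).hom.toAlgebra
  haveI : IsLocalHom (algebraMap (Y.presheaf.stalk (f x)) (X.presheaf.stalk x)) :=
    (inferInstance : IsLocalHom (f.stalkMap x).hom)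
  haveI : Module.Flat (Y.presheaf.stalk (f x)) (X.presheaf.stalk x) := hfl
  exact Groth.Agent.H26.GorFibre.isGorensteinLocalRing_iff_of_flat
    (Y.presheaf.stalk (f x)) (X.presheaf.stalk x)

end Groth.Agent.H26.GorMor
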