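import Mathlib
import Groth.Prelude.Def_Dual3
import Groth.Agent.H26.GorFieldAny
import Groth.Agent.H26.GorMor
import Groth.Agent.H49.CMMorBC

/-!
# `Dual3.IsGorensteinAt` under base change (helper26)

Gorenstein mirror of helper49's `CMFieldBC`, `CMFieldBCScheme`, `CMMorBC`.
-/

set_option autoImplicit false
set_option linter.style.haveILetI false
set_option linter.unusedSectionVars false
universe u
open CategoryTheory CategoryTheory.Limits AlgebraicGeometry TensorProduct IsLocalRing

namespace Groth.Agent.H26.GorMorBC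

open Groth.Agent.H26.GorRegHom Groth.Agent.H26.GorFieldExt Groth.Agent.H26.GorFieldAny

/-- fibres of `C → C ⊗_k k'` are Gorenstein when `k'/k` is a finitely generated field extension -/
theorem isGorensteinRing_fiber_tensor_of_essFiniteType (k k' C : Type u) [Field k] [Field k']
    [Algebra k k'] [Algebra.EssFiniteType k k']
    [CommRing C] [Algebra k C] (p : Ideal C) [p.IsPrime] :
    LocCoh.IsGorensteinRing (p.Fiber (C ⊗[k] k')) := by
  haveI : LocCoh.IsGorensteinRing p.ResidueField := isGorensteinRing_of_isRegularRing _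
  have hfg : ∃ s : Finset k', IntermediateField.adjoin k (s : Set k') = ⊤ :=
    IntermediateField.fg_top (F := k) (E := k')
  have h0 : LocCoh.IsGorensteinRing (k' ⊗[k] p.ResidueField) :=
    isGorensteinRing_tensor_of_fg k k' p.ResidueField hfg
  have h1 : LocCoh.IsGorensteinRing (p.ResidueField ⊗[k] k') :=
    isGorensteinRing_of_ringEquiv (Algebra.TensorProduct.comm k k' p.ResidueField).toRingEquiv h0
  exact isGorensteinRing_of_ringEquiv
    (Algebra.TensorProduct.cancelBaseChange k C p.ResidueField p.ResidueField k').symm.toRingEquiv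
    h1

set_option backward.isDefEq.respectTransparency false in
/-- general form of S1803 given Gorenstein fibres -/
theorem gor_iff_tensor_of_fibres (k k' C : Type u) [Field k] [Field k']
    [Algebra k k'] [CommRing C] [Algebra k C] [IsNoetherianRing C] [IsNoetherianRing (C ⊗[k] k')]
    (hfib : ∀ (p : Ideal C) [p.IsPrime], LocCoh.IsGorensteinRing (p.Fiber (C ⊗[k] k')))
    (q : Ideal (C ⊗[k] k')) [hq : q.IsPrime] :
    LocCoh.IsGorensteinLocalRing (Localization.AtPrime (q.comap (algebraMap C (C ⊗[k] k')))) ↔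
      LocCoh.IsGorensteinLocalRing (Localization.AtPrime q) := by
  constructor
  · intro hp
    refine Groth.Agent.H26.SkFieldExt.localization_of_flat_of_fibres₂
      (fun X _ => LocCoh.IsGorensteinLocalRing X) (fun X _ => LocCoh.IsGorensteinLocalRing X)
      (fun X Y _ _ e h => isGorensteinLocalRing_of_ringEquiv e h)
      (fun A B _ _ _ _ _ _ _ _ _ hA hF =>
        (Groth.Agent.H26.GorFibre.isGorensteinLocalRing_iff_of_flat A B).mpr ⟨hA, hF⟩)
      C (C ⊗[k] k') q hp ?_
    intro Q _
    exact (hfib (q.under C)).isGorensteinLocalRing_localization Q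
  · intro hq'
    let _ := Localization.AtPrime.algebraOfLiesOver (q.under C) q
    haveI hloc : IsLocalHom (algebraMap (Localization.AtPrime (q.under C))
        (Localization.AtPrime q)) :=
      Localization.isLocalHom_localRingHom (q.under C) q (algebraMap C (C ⊗[k] k'))
        Ideal.LiesOver.over
    haveI hflatS : Module.Flat (C ⊗[k] k') (Localization.AtPrime q) :=
      IsLocalization.flat _ q.primeCompl
    haveI hflatR : Module.Flat C (Localization.AtPrime q) := Module.Flat.trans C (C ⊗[k] k') _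
    haveI hflat' : Module.Flat (Localization.AtPrime (q.under C)) (Localization.AtPrime q) :=
      (Module.flat_iff_of_isLocalization (Localization.AtPrime (q.under C))
        (q.under C).primeCompl _).mpr hflatR
    exact Groth.Agent.H26.GorDescent.isGorensteinLocalRing_of_flat_descent
      (Localization.AtPrime (q.under C)) (Localization.AtPrime q) hq'

/-- `S_q` is Gorenstein iff `(S ⊗_k k')_{q'}` is, for `q'` over `q`. -/
theorem gor_iff_tensor (k S k' : Type u) [Field k] [CommRing S] [Algebra k S] [IsNoetherianRing S]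
    [Field k'] [Algebra k k']
    (hft : Algebra.FiniteType k S ∨ Algebra.EssFiniteType k k') [IsNoetherianRing (S ⊗[k] k')]
    (q' : Ideal (S ⊗[k] k')) [q'.IsPrime] :
    LocCoh.IsGorensteinLocalRing
        (Localization.AtPrime (q'.comap (algebraMap S (S ⊗[k] k')))) ↔
      LocCoh.IsGorensteinLocalRing (Localization.AtPrime q') := by
  rcases hft with h | h
  · haveI := h
    exact isGorensteinLocalRing_localization_tensor_iff k k' S q'
  · haveI := h
    exact gor_iff_tensor_of_fibres k k' S
      (fun p _ => isGorensteinRing_fiber_tensor_of_essFiniteType k k' S p) q'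

/-- Pushout form with abstract localizations: `T = S ⊗_k K`, `qT` a prime of `T`, `A = S_q`
(`q` the contraction of `qT`), `B = T_{qT}`. Then `A` is Gorenstein iff `B` is. -/
theorem gor_iff_of_isPushout (k K S T : Type u) [Field k] [Field K] [Algebra k K]
    [CommRing S] [CommRing T] [Algebra k S] [Algebra S T] [Algebra K T] [Algebra k T]
    [IsScalarTower k S T] [IsScalarTower k K T] [IsNoetherianRing S]
    [hpo : Algebra.IsPushout k S K T]
    (hft : Algebra.FiniteType k S ∨ Algebra.EssFiniteType k K)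
    (qT : Ideal T) [qT.IsPrime]
    (A B : Type u) [CommRing A] [CommRing B] [Algebra S A] [Algebra T B]
    [IsLocalization.AtPrime A (qT.comap (algebraMap S T))] [IsLocalization.AtPrime B qT] :
    LocCoh.IsGorensteinLocalRing A ↔ LocCoh.IsGorensteinLocalRing B := by
  haveI := Groth.Agent.H49.CMFieldBC.isNoetherianRing_tensor k S K hft
  let e : S ⊗[k] K ≃ₐ[S] T := Algebra.IsPushout.equiv k S K T
  let q' : Ideal (S ⊗[k] K) := qT.comap (e : S ⊗[k] K →+* T)
  haveI : q'.IsPrime := Ideal.comap_isPrime _ _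
  have hq : q'.comap (algebraMap S (S ⊗[k] K)) = qT.comap (algebraMap S T) := by
    ext s
    simp only [q', Ideal.mem_comap]
    have : (e : S ⊗[k] K →+* T) (algebraMap S (S ⊗[k] K) s) = algebraMap S T s := e.commutes s
    rw [this]
  have h1 := gor_iff_tensor k S K hft q'
  -- identify the localizations
  let eB : Localization.AtPrime q' ≃+* Localization.AtPrime qT :=
    Localization.localRingEquiv q' qT e.toRingEquiv rfl
  let eB' : Localization.AtPrime qT ≃+* B :=
    (IsLocalization.algEquiv qT.primeCompl (Localization.AtPrime qT) B).toRingEquiv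
  haveI : IsLocalization.AtPrime A (q'.comap (algebraMap S (S ⊗[k] K))) := by
    have : (q'.comap (algebraMap S (S ⊗[k] K))).primeCompl =
        (qT.comap (algebraMap S T)).primeCompl := by
      ext s
      simp only [Ideal.mem_primeCompl_iff, hq]
    show IsLocalization (q'.comap (algebraMap S (S ⊗[k] K))).primeCompl A
    rw [this]
    infer_instance
  let eA : Localization.AtPrime (q'.comap (algebraMap S (S ⊗[k] K))) ≃+* A :=
    (IsLocalization.algEquiv (q'.comap (algebraMap S (S ⊗[k] K))).primeCompl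
      (Localization.AtPrime (q'.comap (algebraMap S (S ⊗[k] K)))) A).toRingEquiv
  constructor
  · intro hA
    have h2 := h1.mp (isGorensteinLocalRing_of_ringEquiv eA.symm hA)
    exact isGorensteinLocalRing_of_ringEquiv (eB.trans eB') h2
  · intro hB
    have h2 := h1.mpr (isGorensteinLocalRing_of_ringEquiv (eB.trans eB').symm hB)
    exact isGorensteinLocalRing_of_ringEquiv eA h2

/-- **Gorensteinness of a stalk is invariant under extension of the base field**, when the
scheme is locally Noetherian and either locally of finite type over `k` or the field extension is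
finitely generated. -/
theorem gor_stalk_iff_of_isPullback_field {Z W : Scheme.{u}} (k K : Type u) [Field k] [Field K]
    (φ : k →+* K) (z : Z ⟶ Spec (.of k)) (p : W ⟶ Z)
    (q : W ⟶ Spec (.of K)) (hpb : IsPullback p q z (Spec.map (CommRingCat.ofHom φ)))
    [IsLocallyNoetherian Z] (hft : LocallyOfFiniteType z ∨ φ.EssFiniteType) (w : W) :
    LocCoh.IsGorensteinLocalRing (Z.presheaf.stalk (p w)) ↔
      LocCoh.IsGorensteinLocalRing (W.presheaf.stalk w) := by
  obtain ⟨U, hU, hwU, -⟩ := exists_isAffineOpen_mem_and_subset (x := p w) (U := ⊤) trivial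
  obtain ⟨hV, hpo'⟩ := Groth.Agent.H49.CMFieldBC.isPushout_sections k K φ z p q hpb hU
  have hwV : w ∈ p ⁻¹ᵁ U := hwU
  have hUSX : U ≤ z ⁻¹ᵁ ⊤ := by simp
  let e₁ := Scheme.ΓSpecIso (CommRingCat.of k)
  let e₃ := Scheme.ΓSpecIso (CommRingCat.of K)
  let _ : Algebra k K := φ.toAlgebra
  let _ : Algebra k Γ(Z, U) := (e₁.inv ≫ z.appLE ⊤ U hUSX).hom.toAlgebra
  let _ : Algebra Γ(Z, U) Γ(W, p ⁻¹ᵁ U) := (p.appLE U (p ⁻¹ᵁ U) le_rfl).hom.toAlgebra
  let _ : Algebra K Γ(W, p ⁻¹ᵁ U) := (e₃.inv ≫ q.appLE ⊤ (p ⁻¹ᵁ U) (by simp)).hom.toAlgebra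
  let _ : Algebra k Γ(W, p ⁻¹ᵁ U) :=
    ((e₁.inv ≫ z.appLE ⊤ U hUSX) ≫ (p.appLE U (p ⁻¹ᵁ U) le_rfl)).hom.toAlgebra
  have t1 : IsScalarTower k Γ(Z, U) Γ(W, p ⁻¹ᵁ U) :=
    IsScalarTower.of_algebraMap_eq fun r => rfl
  have t2 : IsScalarTower k K Γ(W, p ⁻¹ᵁ U) :=
    IsScalarTower.of_algebraMap_eq fun r => congr($(hpo'.w).hom r)
  have hpo'' : Algebra.IsPushout k Γ(Z, U) K Γ(W, p ⁻¹ᵁ U) :=
    CommRingCat.isPushout_iff_isPushout.mp hpo'
  have hft' : Algebra.FiniteType k Γ(Z, U) ∨ Algebra.EssFiniteType k K := by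
    rcases hft with h | h
    · left
      have hft : RingHom.FiniteType (z.appLE ⊤ U hUSX).hom :=
        HasRingHomProperty.appLE @LocallyOfFiniteType z h ⟨⊤, isAffineOpen_top _⟩
          ⟨U, hU⟩ hUSX
      have : RingHom.FiniteType (e₁.inv ≫ z.appLE ⊤ U hUSX).hom := by
        rw [CommRingCat.hom_comp]
        refine hft.comp ?_
        exact RingHom.FiniteType.of_surjective _
          (ConcreteCategory.bijective_of_isIso e₁.inv).2
      exact this
    · right
      exact h
  haveI : IsNoetherianRing Γ(Z, U) := IsLocallyNoetherian.component_noetherian ⟨U, hU⟩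
  letI := W.presheaf.algebra_section_stalk ⟨w, hwV⟩
  haveI hlocW := hV.isLocalization_stalk ⟨w, hwV⟩
  letI := Z.presheaf.algebra_section_stalk ⟨p w, hwU⟩
  haveI hlocZ := hU.isLocalization_stalk ⟨p w, hwU⟩
  have hcomap : (hV.primeIdealOf ⟨w, hwV⟩).asIdeal.comap
      (algebraMap Γ(Z, U) Γ(W, p ⁻¹ᵁ U)) = (hU.primeIdealOf ⟨p w, hwU⟩).asIdeal :=
    congr($(IsAffineOpen.comap_primeIdealOf_appLE U hU (p ⁻¹ᵁ U) hV le_rfl hwV).1)
  haveI : IsLocalization.AtPrime (Z.presheaf.stalk (p w))
      ((hV.primeIdealOf ⟨w, hwV⟩).asIdeal.comap (algebraMap Γ(Z, U) Γ(W, p ⁻¹ᵁ U))) := by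
    have : ((hV.primeIdealOf ⟨w, hwV⟩).asIdeal.comap
        (algebraMap Γ(Z, U) Γ(W, p ⁻¹ᵁ U))).primeCompl =
        (hU.primeIdealOf ⟨p w, hwU⟩).asIdeal.primeCompl := by
      ext s
      simp only [Ideal.mem_primeCompl_iff, hcomap]
    show IsLocalization ((hV.primeIdealOf ⟨w, hwV⟩).asIdeal.comap
        (algebraMap Γ(Z, U) Γ(W, p ⁻¹ᵁ U))).primeCompl _
    rw [this]
    exact hlocZ
  exact gor_iff_of_isPushout k K Γ(Z, U) Γ(W, p ⁻¹ᵁ U) hft' (hV.primeIdealOf ⟨w, hwV⟩).asIdeal
    (Z.presheaf.stalk (p w)) (W.presheaf.stalk w)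

variable {X Y X' Y' : Scheme.{u}}

/-- Transport along an equality of base points: the stalk of a fibre at any point over `x`. -/
theorem gor_fiber_stalk_iff_asFiber (f : X ⟶ Y) (x : X) (y : Y) (hy : f x = y) (z0 : f.fiber y)
    (hz : f.fiberι y z0 = x) :
    LocCoh.IsGorensteinLocalRing ((f.fiber y).presheaf.stalk z0) ↔
      LocCoh.IsGorensteinLocalRing ((f.fiber (f x)).presheaf.stalk (f.asFiber x)) := by
  subst hy
  have : z0 = f.asFiber x := by
    apply (f.fiberι (f x)).isEmbedding.injective
    rw [hz, Scheme.Hom.fiberι_asFiber]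
  rw [this]

/-- **Gorensteinness of the fibre stalk is invariant under base change**, provided the fibre of
`f` is locally Noetherian and either `f` or `g` is locally of finite type. -/
theorem gor_fiber_stalk_iff_of_isPullback (f : X ⟶ Y) (f' : X' ⟶ Y') (g' : X' ⟶ X) (g : Y' ⟶ Y)
    (hc : IsPullback g' f' f g) (x' : X') [IsLocallyNoetherian (f.fiber (g (f' x')))]
    (hft : LocallyOfFiniteType f ∨ LocallyOfFiniteType g) :
    LocCoh.IsGorensteinLocalRing
        ((f.fiber (f (g' x'))).presheaf.stalk (f.asFiber (g' x'))) ↔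
      LocCoh.IsGorensteinLocalRing
        ((f'.fiber (f' x')).presheaf.stalk (f'.asFiber x')) := by
  have hsq := isPullback_fiberToSpecResidueField_of_isPullback hc (f' x')
  have hft' : LocallyOfFiniteType (f.fiberToSpecResidueField (g (f' x'))) ∨
      (g.residueFieldMap (f' x')).hom.EssFiniteType := by
    rcases hft with h | h
    · left
      exact inferInstanceAs (LocallyOfFiniteType (pullback.snd f (Y.fromSpecResidueField (g (f' x')))))
    · right
      exact RingHom.EssFiniteType.residueFieldMap (LocallyOfFiniteType.stalkMap g (f' x'))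
  have hL := gor_stalk_iff_of_isPullback_field
    (Y.residueField (g (f' x'))) (Y'.residueField (f' x')) (g.residueFieldMap (f' x')).hom
    (f.fiberToSpecResidueField (g (f' x'))) _ (f'.fiberToSpecResidueField (f' x')) hsq hft'
    (f'.asFiber x')
  refine Iff.trans (Iff.symm ?_) hL
  have hfx : f (g' x') = g (f' x') := by
    rw [← Scheme.Hom.comp_apply, ← Scheme.Hom.comp_apply, hc.w]
  refine gor_fiber_stalk_iff_asFiber f (g' x') (g (f' x')) hfx _ ?_
  have hmap : pullback.map _ _ _ _ g' (Spec.map (g.residueFieldMap (f' x'))) g hc.w.symm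
      (by simp) ≫ f.fiberι (g (f' x')) = f'.fiberι (f' x') ≫ g' :=
    pullback.lift_fst _ _ _
  have h6 := congrArg (fun h : (f'.fiber (f' x')) ⟶ X => h (f'.asFiber x')) hmap
  simp only [Scheme.Hom.comp_apply, Scheme.Hom.fiberι_asFiber] at h6
  exact h6

end Groth.Agent.H26.GorMorBC
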