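import Mathlib
import Groth.Prelude.Def_Dual3
import Groth.Agent.H26.GorMorBC

/-!
# Local rings of a fibre over an arbitrary field point (helper26)

For `f : X ⟶ Y`, a field `K`, `σ : Spec K ⟶ Y` and a pullback `W = X ×_Y Spec K`: the local ring of
`W` at `w` is Gorenstein iff the local ring of the scheme-theoretic fibre of `f` through the image
of `w` is Gorenstein (under finiteness hypotheses).
-/

set_option autoImplicit false
set_option linter.style.haveILetI false
universe u
open CategoryTheory CategoryTheory.Limits AlgebraicGeometry IsLocalRing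

namespace Groth.Agent.H26.GorFibreField

variable {X Y W : Scheme.{u}}

theorem gor_stalk_pullback_field_iff (f : X ⟶ Y) (K : Type u) [Field K]
    (σ : Spec (CommRingCat.of K) ⟶ Y) (a : W ⟶ X) (b : W ⟶ Spec (CommRingCat.of K))
    (hpb : IsPullback a b f σ)
    [hN : IsLocallyNoetherian (f.fiber (σ (closedPoint K)))]
    (hft : LocallyOfFiniteType f ∨
      (Y.descResidueField (Scheme.stalkClosedPointTo σ)).hom.EssFiniteType) (w : W) :
    LocCoh.IsGorensteinLocalRing (W.presheaf.stalk w) ↔
      LocCoh.IsGorensteinLocalRing ((f.fiber (f (a w))).presheaf.stalk (f.asFiber (a w))) := by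
  set y : Y := σ (closedPoint K) with hy
  let φ : Y.residueField y ⟶ CommRingCat.of K := Y.descResidueField (Scheme.stalkClosedPointTo σ)
  have hσ : Spec.map φ ≫ Y.fromSpecResidueField y = σ :=
    Scheme.descResidueField_stalkClosedPointTo_fromSpecResidueField K Y σ
  have hw : a ≫ f = (b ≫ Spec.map φ) ≫ Y.fromSpecResidueField y := by
    rw [Category.assoc, hσ, hpb.w]
  let c : W ⟶ f.fiber y := pullback.lift a (b ≫ Spec.map φ) hw
  have hc1 : c ≫ f.fiberι y = a := pullback.lift_fst _ _ _
  have hc2 : c ≫ f.fiberToSpecResidueField y = b ≫ Spec.map φ := pullback.lift_snd _ _ _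
  have hbig : IsPullback (f.fiberι y) (f.fiberToSpecResidueField y) f
      (Y.fromSpecResidueField y) := IsPullback.of_hasPullback _ _
  have hsq : IsPullback c b (f.fiberToSpecResidueField y) (Spec.map φ) := by
    refine IsPullback.of_right ?_ hc2 hbig
    rw [hc1, hσ]
    exact hpb
  have hft' : LocallyOfFiniteType (f.fiberToSpecResidueField y) ∨ φ.hom.EssFiniteType := by
    rcases hft with h | h
    · left
      exact inferInstanceAs (LocallyOfFiniteType (pullback.snd f (Y.fromSpecResidueField y)))
    · right
      exact h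
  have hL := Groth.Agent.H26.GorMorBC.gor_stalk_iff_of_isPullback_field
    (Y.residueField y) K φ.hom (f.fiberToSpecResidueField y) c b hsq hft' w
  refine Iff.trans hL.symm ?_
  have hfx : f (a w) = y := by
    have h1 : (a ≫ f) w = (b ≫ σ) w := by rw [hpb.w]
    rw [Scheme.Hom.comp_apply, Scheme.Hom.comp_apply] at h1
    rw [h1, hy]
    congr 1
    exact Subsingleton.elim _ _
  refine Groth.Agent.H26.GorMorBC.gor_fiber_stalk_iff_asFiber f (a w) y hfx (c w) ?_
  rw [← Scheme.Hom.comp_apply, hc1]

end Groth.Agent.H26.GorFibreField
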