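import Mathlib
import Groth.Prelude.Def_CAlg
import Groth.Agent.H26.GorDescent
import Groth.Agent.H26.GorFieldExt
import Groth.Agent.H2.GorensteinGlobal

/-!
# Gorenstein local rings and finitely generated field extensions (S1760)
-/

set_option autoImplicit false
set_option linter.style.haveILetI false
set_option linter.unusedSectionVars false
universe u

open TensorProduct IsLocalRing

namespace Groth.Agent.H26.GorFieldLocal

open Groth.Agent.H26.GorRegHom Groth.Agent.H26.GorQuot Groth.Agent.H26.GorFieldExt

/-- A Gorenstein local ring is a Gorenstein ring. -/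
theorem isGorensteinRing_of_isGorensteinLocalRing (B : Type u) [CommRing B]
    (hB : LocCoh.IsGorensteinLocalRing B) : LocCoh.IsGorensteinRing B := by
  haveI : IsNoetherianRing B := hB.toIsNoetherian
  obtain ⟨n, hn⟩ := hB.exists_hasInjectiveDimensionLT
  exact Groth.Agent.H2.GorensteinGlobal.isGorensteinRing_of_hasInjectiveDimensionLT B n hn

set_option backward.isDefEq.respectTransparency false in
theorem isGorensteinLocalRing_iff_tensor_localization (k k' : Type u) [Field k] [Field k']
    [Algebra k k'] (hfg : ∃ s : Finset k', IntermediateField.adjoin k (s : Set k') = ⊤)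
    (B : Type u) [CommRing B] [IsLocalRing B] [IsNoetherianRing B] [Algebra k B]
    (q : Ideal (B ⊗[k] k')) [q.IsPrime]
    (hq : q.comap (algebraMap B (B ⊗[k] k')) = maximalIdeal B) :
    LocCoh.IsGorensteinLocalRing B ↔ LocCoh.IsGorensteinLocalRing (Localization.AtPrime q) := by
  constructor
  · intro hB
    haveI := isGorensteinRing_of_isGorensteinLocalRing B hB
    have h1 : LocCoh.IsGorensteinRing (k' ⊗[k] B) := isGorensteinRing_tensor_of_fg k k' B hfg
    have h2 : LocCoh.IsGorensteinRing (B ⊗[k] k') :=
      isGorensteinRing_of_ringEquiv (Algebra.TensorProduct.comm k k' B).toRingEquiv h1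
    exact h2.isGorensteinLocalRing_localization q
  · intro hq'
    haveI : IsLocalHom (algebraMap B (Localization.AtPrime q)) := by
      constructor
      intro b hb
      rw [IsScalarTower.algebraMap_apply B (B ⊗[k] k') (Localization.AtPrime q),
        IsLocalization.AtPrime.isUnit_to_map_iff (Localization.AtPrime q) q] at hb
      by_contra hnu
      have hbm : b ∈ maximalIdeal B := (mem_maximalIdeal b).mpr hnu
      rw [← hq] at hbm
      exact hb hbm
    haveI : Module.Flat (B ⊗[k] k') (Localization.AtPrime q) :=
      IsLocalization.flat _ q.primeCompl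
    haveI : Module.Flat B (Localization.AtPrime q) :=
      Module.Flat.trans B (B ⊗[k] k') (Localization.AtPrime q)
    exact Groth.Agent.H26.GorDescent.isGorensteinLocalRing_of_flat_descent B
      (Localization.AtPrime q) hq'

end Groth.Agent.H26.GorFieldLocal
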