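import Mathlib.RingTheory.Ideal.AssociatedPrime.Localization
import Mathlib.RingTheory.Ideal.AssociatedPrime.Finiteness
import Mathlib.Algebra.Module.FinitePresentation
import Mathlib.RingTheory.Support
import Mathlib.RingTheory.SimpleModule.Basic
import Mathlib.RingTheory.Nakayama
import Mathlib.Algebra.Module.LocalizedModule.AtPrime

set_option autoImplicit false
universe u

open IsLocalRing

namespace Groth.Agent.H26

/-- over a local ring, a nontrivial finite module maps onto the residue field, hence nontrivially
into any module having the maximal ideal as the annihilator of an element -/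
lemma exists_ne_zero_linearMap_of_local {R : Type u} [CommRing R] [IsLocalRing R]
    (P H : Type u) [AddCommGroup P] [Module R P] [Module.Finite R P] [Nontrivial P]
    [AddCommGroup H] [Module R H] (x : H) (hx0 : x ≠ 0)
    (hx : ∀ r ∈ maximalIdeal R, r • x = 0) :
    ∃ g : P →ₗ[R] H, g ≠ 0 := by
  obtain ⟨N, hN, -⟩ := (eq_top_or_exists_le_coatom (⊥ : Submodule R P)).resolve_left bot_ne_top
  have hsimple : IsSimpleModule R (P ⧸ N) := isSimpleModule_iff_isCoatom.mpr hN
  obtain ⟨I, hI, ⟨e⟩⟩ := isSimpleModule_iff_quot_maximal.mp hsimple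
  have hIm : I = maximalIdeal R := IsLocalRing.eq_maximalIdeal hI
  subst hIm
  let ψ : (R ⧸ maximalIdeal R) →ₗ[R] H :=
    Submodule.liftQ (maximalIdeal R) (LinearMap.toSpanSingleton R H x) (by
      intro r hr
      rw [LinearMap.mem_ker, LinearMap.toSpanSingleton_apply]
      exact hx r hr)
  refine ⟨ψ ∘ₗ e.toLinearMap ∘ₗ N.mkQ, ?_⟩
  intro h0
  obtain ⟨y, hy⟩ := e.surjective (Submodule.Quotient.mk (1 : R))
  obtain ⟨z, rfl⟩ := N.mkQ_surjective y
  have := LinearMap.congr_fun h0 z
  simp only [LinearMap.comp_apply, LinearEquiv.coe_coe, hy, LinearMap.zero_apply] at this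
  have h1 : ψ (Submodule.Quotient.mk (1 : R)) = x := by
    show Submodule.liftQ (maximalIdeal R) (LinearMap.toSpanSingleton R H x) _ (Submodule.Quotient.mk (1 : R)) = x
    rw [Submodule.liftQ_apply, LinearMap.toSpanSingleton_apply, one_smul]
  rw [h1] at this
  exact hx0 this



/-- `Hom(P, H) = 0` with `P` finite and `Supp H ⊆ Supp P` over a Noetherian ring forces `H = 0`. -/
theorem subsingleton_of_hom_subsingleton_of_support_subset (A : Type u) [CommRing A]
    [IsNoetherianRing A] (P H : Type u) [AddCommGroup P] [Module A P] [Module.Finite A P]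
    [AddCommGroup H] [Module A H] (hsupp : Module.support A H ⊆ Module.support A P)
    (hhom : Subsingleton (P →ₗ[A] H)) : Subsingleton H := by
  by_contra hH
  rw [not_subsingleton_iff_nontrivial] at hH
  obtain ⟨p, hp⟩ := associatedPrimes.nonempty A H
  have hpp : p.IsPrime := hp.isPrime
  let S := p.primeCompl
  let R' := Localization.AtPrime p
  let H' := LocalizedModule p.primeCompl H
  let P' := LocalizedModule p.primeCompl P
  have hass := Module.associatedPrimes.mem_associatedPrimes_atPrime_of_mem_associatedPrimes
    (M := H) hp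
  rw [AssociatedPrimes.mem_iff, isAssociatedPrime_iff] at hass
  obtain ⟨-, x', hx'⟩ := hass
  have hx'0 : x' ≠ 0 := by
    rintro rfl
    have h1 : (1 : R') ∈ maximalIdeal R' := by
      rw [hx', Submodule.mem_colon_singleton]
      simp
    exact (Ideal.ne_top_iff_one _).mp (IsLocalRing.maximalIdeal.isMaximal R').ne_top h1
  have hkill : ∀ r ∈ maximalIdeal R', r • x' = 0 := by
    intro r hr
    rw [hx', Submodule.mem_colon_singleton] at hr
    simpa using hr
  have hH'nt : Nontrivial H' := ⟨⟨x', 0, hx'0⟩⟩
  have hpH : (⟨p, hpp⟩ : PrimeSpectrum A) ∈ Module.support A H := Module.mem_support_iff.mpr hH'nt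
  have hP'nt : Nontrivial P' := Module.mem_support_iff.mp (hsupp hpH)
  obtain ⟨g', hg'⟩ := exists_ne_zero_linearMap_of_local (R := R') P' H' x' hx'0 hkill
  let g : P →ₗ[A] H' := (g'.restrictScalars A) ∘ₗ (LocalizedModule.mkLinearMap S P)
  have : Module.FinitePresentation A P := Module.finitePresentation_of_finite A P
  obtain ⟨h, s, hs⟩ := Module.FinitePresentation.exists_lift_of_isLocalizedModule S
    (LocalizedModule.mkLinearMap S H) g
  have h0 : h = 0 := Subsingleton.elim _ _
  rw [h0, LinearMap.comp_zero] at hs
  apply hg'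
  apply LinearMap.ext
  intro y
  induction y using LocalizedModule.induction_on with
  | _ m t =>
    have h1 : (s • g) m = 0 := by rw [← hs]; rfl
    have h2 : g m = 0 := by
      have hinj := (Module.End.isUnit_iff _).mp
        (IsLocalizedModule.map_units (LocalizedModule.mkLinearMap S H) s)
      apply hinj.1
      rw [map_zero]
      exact h1
    have h3 : g' (LocalizedModule.mk m 1) = 0 := h2
    have h4 : LocalizedModule.mk m t =
        (Localization.mk (1 : A) t : Localization.AtPrime p) • LocalizedModule.mk m 1 := by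
      rw [LocalizedModule.mk_smul_mk, one_smul, mul_one]
    rw [h4, map_smul, h3, smul_zero, LinearMap.zero_apply]

end Groth.Agent.H26
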