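import Groth.Agent.H2.MatlisEmbed
import Groth.Agent.H9.InjHullLocal
import Groth.Agent.H30.Matlis

/-!
# A criterion for injective hulls of the residue field of a local ring
-/

set_option autoImplicit false
universe u
open IsLocalRing

namespace Groth.Agent.H26

variable {A : Type u} [CommRing A] [IsLocalRing A]
  {E : Type u} [AddCommGroup E] [Module A E]

theorem residue_eq_smul_one (a : A) : IsLocalRing.residue A a = a • (1 : ResidueField A) := by
  rw [Algebra.smul_def, mul_one]; rfl

/-- a nonzero linear map out of the residue field is injective -/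
theorem injective_of_ne_zero (f : ResidueField A →ₗ[A] E) (hf : f ≠ 0) : Function.Injective f := by
  rw [injective_iff_map_eq_zero]
  intro x hx
  by_contra hx0
  apply hf
  ext y
  obtain ⟨b, hb⟩ := IsLocalRing.residue_surjective (y * x⁻¹)
  have : y = b • x := by
    rw [Algebra.smul_def, ResidueField.algebraMap_eq, hb, inv_mul_cancel_right₀ hx0]
  rw [this, map_smul, hx, smul_zero, LinearMap.zero_apply]

/-- the linear map `k → E` with `1 ↦ y`, for `y` in the socle of `E` -/
theorem exists_hom_of_mem_socle (y : E) (hy : y ∈ LocCoh.torsionBy (maximalIdeal A) E) :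
    ∃ g : ResidueField A →ₗ[A] E, g 1 = y := by
  have hker : (maximalIdeal A : Submodule A A) ≤ LinearMap.ker (LinearMap.toSpanSingleton A E y) := by
    intro a ha
    rw [LinearMap.mem_ker, LinearMap.toSpanSingleton_apply]
    exact ((Submodule.mem_torsionBySet_iff _ _).mp hy) ⟨a, ha⟩
  refine ⟨Submodule.liftQ (maximalIdeal A) (LinearMap.toSpanSingleton A E y) hker, ?_⟩
  change Submodule.liftQ (maximalIdeal A) (LinearMap.toSpanSingleton A E y) hker
    (Submodule.Quotient.mk 1) = y
  rw [Submodule.liftQ_apply, LinearMap.toSpanSingleton_apply, one_smul]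

/-- hull criterion: an injective `m`-power torsion module whose socle is the image of an injective
map from the residue field is an injective hull of the residue field -/
theorem isInjectiveHull_of_socle_le [Module.Injective A E]
    (hE : LocCoh.IsPowerTorsion (maximalIdeal A) E) (f : ResidueField A →ₗ[A] E)
    (hf : Function.Injective f)
    (hsoc : LocCoh.torsionBy (maximalIdeal A) E ≤ LinearMap.range f) :
    InjHull.IsInjectiveHull f := by
  refine { toIsEssentialInj := ?_, isInjective := inferInstance }
  rw [Groth.Agent.H2.isEssentialInj_iff_forall]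
  refine ⟨hf, fun x hx => ?_⟩
  have h := Groth.Agent.H2.isEssentialInj_torsionBy_of_isPowerTorsion (maximalIdeal A) E hE
  rw [Groth.Agent.H2.isEssentialInj_iff_forall] at h
  obtain ⟨r, hr, hr0⟩ := h.2 x hx
  rw [Submodule.range_subtype] at hr
  exact ⟨r, hsoc hr, hr0⟩

/-- S5155 -/
theorem exists_isInjectiveHull_iff [IsNoetherianRing A] :
    (∃ f : ResidueField A →ₗ[A] E, InjHull.IsInjectiveHull f) ↔
      (Module.Injective A E ∧ LocCoh.IsPowerTorsion (maximalIdeal A) E ∧
        IsSimpleModule A (ResidueField A →ₗ[A] E)) := by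
  constructor
  · rintro ⟨f, hf⟩
    refine ⟨hf.isInjective, Groth.Agent.H9.isPowerTorsion_of_isEssentialInj f hf.toIsEssentialInj, ?_⟩
    have hf0 : f ≠ 0 := by
      intro h
      have := hf.injective (a₁ := 1) (a₂ := 0) (by rw [h]; rfl)
      exact one_ne_zero this
    have : Nontrivial (ResidueField A →ₗ[A] E) := ⟨⟨f, 0, hf0⟩⟩
    rw [isSimpleModule_iff_toSpanSingleton_surjective]
    refine ⟨this, fun g hg h => ?_⟩
    -- `g = a • f` with `a` a unit, `h = b • f`
    obtain ⟨a, rfl⟩ := Groth.Agent.H30.Matlis.exists_smul_eq f hf g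
    obtain ⟨b, rfl⟩ := Groth.Agent.H30.Matlis.exists_smul_eq f hf h
    have ha : IsUnit a := by
      by_contra hna
      apply hg
      ext x
      obtain ⟨t, rfl⟩ := IsLocalRing.residue_surjective x
      rw [LinearMap.smul_apply, ← map_smul, Algebra.smul_def, ResidueField.algebraMap_eq,
        (residue_eq_zero_iff a).2 hna, zero_mul, map_zero, LinearMap.zero_apply]
    obtain ⟨c, hc⟩ := ha.exists_left_inv
    refine ⟨b * c, ?_⟩
    rw [LinearMap.toSpanSingleton_apply, smul_smul, mul_assoc, hc, mul_one]
  · rintro ⟨hinj, htor, hsimple⟩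
    have hnt : Nontrivial (ResidueField A →ₗ[A] E) := hsimple.nontrivial
    obtain ⟨f, hf0⟩ := exists_ne (0 : ResidueField A →ₗ[A] E)
    refine ⟨f, isInjectiveHull_of_socle_le htor f (injective_of_ne_zero f hf0) ?_⟩
    intro y hy
    obtain ⟨g, hg⟩ := exists_hom_of_mem_socle y hy
    obtain ⟨a, ha⟩ := IsSimpleModule.toSpanSingleton_surjective A hf0 g
    rw [LinearMap.toSpanSingleton_apply] at ha
    refine ⟨a • 1, ?_⟩
    rw [map_smul, ← hg, ← ha, LinearMap.smul_apply]

end Groth.Agent.H26
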