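import Groth.Agent.H26.HullCrit
import Groth.Agent.H2.InjNoeth
import Mathlib.Algebra.Category.ModuleCat.ChangeOfRings
import Mathlib.Algebra.Category.ModuleCat.Injective
import Mathlib.RingTheory.SimpleModule.InjectiveProjective
import Mathlib.LinearAlgebra.Dual.Lemmas
import Mathlib.CategoryTheory.Preadditive.Injective.Basic

/-!
# The topological dual of a local algebra over a field is an injective hull of the residue field
-/

set_option autoImplicit false
universe u
open IsLocalRing CategoryTheory

namespace Groth.Agent.H26

section coext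

variable {R S : Type u} [CommRing R] [CommRing S] (f : R →+* S)

/-- coextension of scalars preserves injective modules -/
theorem injective_coextendScalars (M : ModuleCat.{u} R) (hM : Module.Injective R M) :
    Module.Injective S ((ModuleCat.coextendScalars f).obj M) := by
  have h1 : CategoryTheory.Injective (ModuleCat.of R M) :=
    Module.injective_object_of_injective_module R M
  have h2 : CategoryTheory.Injective ((ModuleCat.coextendScalars f).obj (ModuleCat.of R M)) :=
    CategoryTheory.Injective.injective_of_adjoint (ModuleCat.restrictCoextendScalarsAdj f) _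
  exact Module.injective_module_of_injective_object S _

end coext

section D

variable (k₀ : Type u) [Field k₀] (A : Type u) [CommRing A] [Algebra k₀ A]

/-- the full linear dual of `A` as an `A`-module -/
noncomputable abbrev coD : ModuleCat.{u} A :=
  (ModuleCat.coextendScalars (algebraMap k₀ A)).obj (ModuleCat.of k₀ k₀)

set_option backward.isDefEq.respectTransparency false in
/-- an element of `coD` from a linear form -/
noncomputable def coMk (φ : A →ₗ[k₀] k₀) : coD k₀ A :=
  (ModuleCat.CoextendScalars.equiv (algebraMap k₀ A) (ModuleCat.of k₀ k₀)).symm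
    { toFun := fun a => φ a
      map_add' := fun a b => map_add φ a b
      map_smul' := fun r a => by
        have h : ∀ b : A, φ (algebraMap k₀ A r * b) = r • φ b := by
          intro b
          rw [← Algebra.smul_def, map_smul]
        exact h a }

set_option backward.isDefEq.respectTransparency false in
/-- the linear form of an element of `coD` -/
noncomputable def coEval (g : coD k₀ A) : A →ₗ[k₀] k₀ where
  toFun := fun a => g a
  map_add' := fun a b =>
    LinearMap.map_add (ModuleCat.CoextendScalars.equiv (algebraMap k₀ A) _ g) a b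
  map_smul' := fun r a => by
    have := LinearMap.map_smul
      (ModuleCat.CoextendScalars.equiv (algebraMap k₀ A) (ModuleCat.of k₀ k₀) g) r a
    rw [Algebra.smul_def]
    exact this

theorem coMk_apply (φ : A →ₗ[k₀] k₀) (a : A) : (coMk k₀ A φ) a = φ a := rfl

theorem coEval_apply (g : coD k₀ A) (a : A) : coEval k₀ A g a = g a := rfl

theorem coD_ext {g g' : coD k₀ A} (h : ∀ a : A, g a = g' a) : g = g' := by
  apply ModuleCat.CoextendScalars.ext
  ext a
  exact h a

theorem coD_smul_apply (g : coD k₀ A) (s a : A) : (s • g) a = g (a * s) := rfl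

end D

section main

variable (k₀ : Type u) [Field k₀] (A : Type u) [CommRing A] [IsLocalRing A] [IsNoetherianRing A]
  [Algebra k₀ A] [Module.Finite k₀ (A ⧸ IsLocalRing.maximalIdeal A)]

/-- S5175 -/
theorem exists_isInjectiveHull_topDual :
    ∃ f : IsLocalRing.ResidueField A →ₗ[A] ↥(⨆ n : ℕ, Submodule.torsionBySet A
      ((ModuleCat.coextendScalars (algebraMap k₀ A)).obj (ModuleCat.of k₀ k₀))
      ((IsLocalRing.maximalIdeal A ^ n : Ideal A) : Set A)), InjHull.IsInjectiveHull f := by
  classical
  have hfin : Module.Finite k₀ (ResidueField A) := ‹Module.Finite k₀ (A ⧸ maximalIdeal A)›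
  -- a nonzero form
  obtain ⟨lam, hlam⟩ : ∃ lam : ResidueField A →ₗ[k₀] k₀, lam 1 ≠ 0 := by
    by_contra hcon
    push Not at hcon
    exact one_ne_zero ((Module.forall_dual_apply_eq_zero_iff k₀ (1 : ResidueField A)).mp hcon)
  let Φ : ResidueField A →ₗ[k₀] Module.Dual k₀ (ResidueField A) :=
    (LinearMap.mul k₀ (ResidueField A)).compr₂ lam
  have hΦ : ∀ x y, Φ x y = lam (x * y) := fun x y => rfl
  have hΦinj : Function.Injective Φ := by
    rw [injective_iff_map_eq_zero]
    intro x hx
    by_contra hx0
    apply hlam
    have := hΦ x x⁻¹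
    rw [hx, mul_inv_cancel₀ hx0] at this
    exact this.symm
  have hΦsurj : Function.Surjective Φ :=
    (LinearMap.injective_iff_surjective_of_finrank_eq_finrank
      (Subspace.dual_finrank_eq (K := k₀) (V := ResidueField A)).symm).mp hΦinj
  -- the residue map as a `k₀`-linear map
  let resL : A →ₗ[k₀] ResidueField A := (IsScalarTower.toAlgHom k₀ A (ResidueField A)).toLinearMap
  have hresL : ∀ a, resL a = IsLocalRing.residue A a := fun a => rfl
  -- the map `F`
  let F : ResidueField A →ₗ[A] coD k₀ A :=
    { toFun := fun x => coMk k₀ A (Φ x ∘ₗ resL)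
      map_add' := fun x y => by
        apply coD_ext
        intro a
        rw [map_add]
        rfl
      map_smul' := fun b x => by
        apply coD_ext
        intro a
        rw [RingHom.id_apply, coD_smul_apply, coMk_apply, coMk_apply, LinearMap.comp_apply,
          LinearMap.comp_apply, hΦ, hΦ, hresL, hresL, (residue A).map_mul, Algebra.smul_def,
          ResidueField.algebraMap_eq]
        congr 1
        ring }
  have hF : ∀ x a, F x a = lam (x * IsLocalRing.residue A a) := fun x a => rfl
  have hmono : Monotone (fun n : ℕ => Submodule.torsionBySet A (coD k₀ A)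
      ((IsLocalRing.maximalIdeal A ^ n : Ideal A) : Set A)) := fun n m hnm =>
    Submodule.torsionBySet_le_torsionBySet_of_subset (Ideal.pow_le_pow_right hnm)
  have hFmem : ∀ x, F x ∈ (⨆ n : ℕ, Submodule.torsionBySet A (coD k₀ A)
      ((IsLocalRing.maximalIdeal A ^ n : Ideal A) : Set A)) := by
    intro x
    apply Submodule.mem_iSup_of_mem 1
    rw [Submodule.mem_torsionBySet_iff]
    rintro ⟨c, hc⟩
    apply coD_ext
    intro a
    rw [pow_one] at hc
    change (c • F x) a = 0
    rw [coD_smul_apply, hF, (residue A).map_mul, (residue_eq_zero_iff c).2 hc, mul_zero, mul_zero,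
      map_zero]
  have hinjD : Module.Injective A (coD k₀ A) :=
    injective_coextendScalars (algebraMap k₀ A) (ModuleCat.of k₀ k₀)
      (Module.injective_of_isSemisimpleRing k₀ k₀)
  have hinjE := Groth.Agent.H2.injective_iSup_torsionBySet_pow (coD k₀ A) hinjD (maximalIdeal A)
  refine ⟨F.codRestrict _ hFmem, isInjectiveHull_of_socle_le ?_ _ ?_ ?_⟩
  · -- power torsion
    intro x
    obtain ⟨n, hn⟩ := (Submodule.mem_iSup_of_directed _ hmono.directed_le).mp x.2
    refine ⟨n, fun a ha => ?_⟩
    apply Subtype.ext
    exact (Submodule.mem_torsionBySet_iff _ _).mp hn ⟨a, ha⟩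
  · -- injective
    rw [injective_iff_map_eq_zero]
    intro x hx
    apply hΦinj
    rw [map_zero]
    ext y
    obtain ⟨a, rfl⟩ := IsLocalRing.residue_surjective y
    have h1 : F x = 0 := congrArg Subtype.val hx
    rw [hΦ, ← hF, h1]
    rfl
  · -- socle
    intro y hy
    have hy' : ∀ c ∈ maximalIdeal A, y.1 c = 0 := by
      intro c hc
      have h1 : c • y = 0 := (Submodule.mem_torsionBySet_iff _ _).mp hy ⟨c, hc⟩
      have h2 : c • y.1 = 0 := congrArg Subtype.val h1
      have h3 : (c • y.1) (1 : A) = 0 := by rw [h2]; rfl
      rwa [coD_smul_apply, one_mul] at h3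
    obtain ⟨σ, hσ⟩ := LinearMap.exists_rightInverse_of_surjective resL
      (LinearMap.range_eq_top.mpr IsLocalRing.residue_surjective)
    obtain ⟨x, hx⟩ := hΦsurj (coEval k₀ A y.1 ∘ₗ σ)
    refine ⟨x, Subtype.ext ?_⟩
    apply coD_ext
    intro a
    change F x a = y.1 a
    rw [hF, ← hΦ, hx, LinearMap.comp_apply, coEval_apply]
    have h4 : σ (IsLocalRing.residue A a) - a ∈ maximalIdeal A := by
      rw [← residue_eq_zero_iff, map_sub, sub_eq_zero, ← hresL, ← hresL]
      exact LinearMap.congr_fun hσ _
    have h5 := hy' _ h4
    rw [← coEval_apply, map_sub, sub_eq_zero] at h5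
    exact h5

end main

end Groth.Agent.H26
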