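import Groth.Agent.H26.HullCrit
import Groth.Agent.H26.TopDual
import Groth.Agent.H26.Coext
import Groth.Agent.S6292
import Mathlib.RingTheory.Ideal.GoingUp

/-!
# The injective hull of the residue field of a finite local algebra
-/

set_option autoImplicit false
universe u
open IsLocalRing

namespace Groth.Agent.H26

section main

variable (A B : Type u) [CommRing A] [IsLocalRing A] [IsNoetherianRing A] [CommRing B]
  [IsLocalRing B] [IsNoetherianRing B] [Algebra A B] [Module.Finite A B]
  (E : Type u) [AddCommGroup E] [Module A E]

/-- S5156 -/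
theorem exists_isInjectiveHull_coextend (f : ResidueField A →ₗ[A] E)
    (hf : InjHull.IsInjectiveHull f) :
    ∃ g : ResidueField B →ₗ[B] (ModuleCat.coextendScalars (algebraMap A B)).obj (ModuleCat.of A E),
      InjHull.IsInjectiveHull g := by
  classical
  have hint : Algebra.IsIntegral A B := inferInstance
  have hcomap : (maximalIdeal B).comap (algebraMap A B) = maximalIdeal A :=
    IsLocalRing.eq_maximalIdeal (Ideal.isMaximal_comap_of_isIntegral_of_isMaximal _)
  have hloc : ∀ a ∈ maximalIdeal A, algebraMap A B a ∈ maximalIdeal B := by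
    intro a ha
    rw [← hcomap] at ha
    exact ha
  have hsmulres : ∀ (a : A) (b : B), a • residue B b = residue B (a • b) := by
    intro a b
    exact (map_smul (IsScalarTower.toAlgHom A B (ResidueField B)) a b).symm
  -- `k_B` has finite length over `A`
  have hfl : IsFiniteLength A (ResidueField B) := by
    refine Groth.Agent.S6292.result (maximalIdeal A)
      ((isNoetherianRing_iff_ideal_fg A).mp inferInstance _) (ResidueField B) 1 ?_
    rw [pow_one, eq_bot_iff, Submodule.smul_le]
    intro a ha x _
    obtain ⟨b, rfl⟩ := residue_surjective x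
    rw [Submodule.mem_bot, hsmulres, Algebra.smul_def, map_mul,
      (residue_eq_zero_iff _).2 (hloc a ha), zero_mul]
  -- a nonzero form
  obtain ⟨lam, hlam⟩ : ∃ lam : ResidueField B →ₗ[A] E, lam 1 ≠ 0 := by
    by_contra hcon
    push Not at hcon
    have h1 : (LinearMap.applyₗ : ResidueField B →ₗ[A] (ResidueField B →ₗ[A] E) →ₗ[A] E) 1 = 0 := by
      ext l
      exact hcon l
    have := Groth.Agent.H30.Matlis.applyₗ_injective f hf (ResidueField B)
      (h1.trans (map_zero _).symm)
    exact one_ne_zero this
  let Φ : ResidueField B →ₗ[A] (ResidueField B →ₗ[A] E) :=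
    (LinearMap.mul A (ResidueField B)).compr₂ lam
  have hΦ : ∀ x y, Φ x y = lam (x * y) := fun x y => rfl
  have hΦinj : Function.Injective Φ := by
    rw [injective_iff_map_eq_zero]
    intro x hx
    by_contra hx0
    apply hlam
    have := hΦ x x⁻¹
    rw [hx, mul_inv_cancel₀ hx0] at this
    exact this.symm
  have hΦsurj : Function.Surjective Φ := by
    have hlen := Groth.Agent.H30.Matlis.length_dual_eq f hf hfl
    have hfin : Module.length A (ResidueField B) ≠ ⊤ := Module.length_ne_top_iff.2 hfl
    have hD : IsFiniteLength A (ResidueField B →ₗ[A] E) :=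
      Module.length_ne_top_iff.1 (hlen ▸ hfin)
    rw [isFiniteLength_iff_isNoetherian_isArtinian] at hD
    obtain ⟨_, _⟩ := hD
    rw [← LinearMap.range_eq_top]
    by_contra hne
    have h3 := Submodule.length_lt hne
    have h4 : Module.length A (ResidueField B) ≤ Module.length A (LinearMap.range Φ) :=
      Module.length_le_of_injective (LinearMap.rangeRestrict Φ) (by
        intro x y hxy
        exact hΦinj congr(($hxy).1))
    rw [hlen] at h3
    exact absurd (h4.trans_lt h3) (lt_irrefl _)
  -- the residue map as an `A`-linear map
  let resL : B →ₗ[A] ResidueField B := (IsScalarTower.toAlgHom A B (ResidueField B)).toLinearMap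
  have hresL : ∀ b, resL b = residue B b := fun b => rfl
  -- the map `F`
  let F : ResidueField B →ₗ[B] coObj (R := A) (S := B) E :=
    { toFun := fun x => coObjMk E (Φ x ∘ₗ resL)
      map_add' := fun x y => by
        apply coObj_ext
        intro a
        rw [map_add]
        rfl
      map_smul' := fun b x => by
        apply coObj_ext
        intro a
        rw [RingHom.id_apply, coObj_smul_apply, coObjMk_apply, coObjMk_apply, LinearMap.comp_apply,
          LinearMap.comp_apply, hΦ, hΦ, hresL, hresL, (residue B).map_mul, Algebra.smul_def,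
          ResidueField.algebraMap_eq]
        congr 1
        ring }
  have hF : ∀ x b, F x b = lam (x * residue B b) := fun x b => rfl
  have hinjE : Module.Injective A E := hf.isInjective
  have hinjD : Module.Injective B (coObj (R := A) (S := B) E) :=
    injective_coextendScalars (algebraMap A B) (ModuleCat.of A E) hinjE
  refine ⟨F, isInjectiveHull_of_socle_le ?_ F ?_ ?_⟩
  · -- power torsion
    intro z
    -- a power of `m_A` kills the image of `z`
    obtain ⟨n, hn⟩ : ∃ n : ℕ, ∀ a ∈ maximalIdeal A ^ n, ∀ b : B, a • z b = 0 := by
      obtain ⟨s, hs⟩ := (Module.finite_def.mp ‹Module.Finite A B›)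
      have hE := Groth.Agent.H9.isPowerTorsion_of_isEssentialInj f hf.toIsEssentialInj
      choose N hN using fun b : B => hE (z b)
      refine ⟨s.sup N, fun a ha b => ?_⟩
      have hb : b ∈ Submodule.span A (s : Set B) := by rw [hs]; trivial
      induction hb using Submodule.span_induction with
      | mem x hx => exact hN x a (Ideal.pow_le_pow_right (Finset.le_sup hx) ha)
      | zero => rw [← coObjEval_apply, map_zero, smul_zero]
      | add x y _ _ hx hy => rw [← coObjEval_apply, map_add, smul_add, coObjEval_apply,
          coObjEval_apply, hx, hy, add_zero]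
      | smul r x _ hx => rw [← coObjEval_apply, map_smul, smul_comm, coObjEval_apply, hx, smul_zero]
    -- the extended ideal kills `z`
    have hJ : ∀ c ∈ (maximalIdeal A ^ n).map (algebraMap A B), ∀ x : B, z (x * c) = 0 := by
      intro c hc
      induction hc using Submodule.span_induction with
      | mem c hc =>
        obtain ⟨a, ha, rfl⟩ := hc
        intro x
        rw [mul_comm, ← Algebra.smul_def, ← coObjEval_apply, map_smul, coObjEval_apply]
        exact hn a ha x
      | zero => intro x; rw [mul_zero, ← coObjEval_apply, map_zero]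
      | add c d _ _ hc hd =>
        intro x
        rw [mul_add, ← coObjEval_apply, map_add, coObjEval_apply, coObjEval_apply, hc, hd,
          add_zero]
      | smul r c _ hc =>
        intro x
        rw [smul_eq_mul, ← mul_assoc]
        exact hc (x * r)
    -- a power of `m_B` lies in the extended ideal
    have hrad : maximalIdeal B ≤ ((maximalIdeal A ^ n).map (algebraMap A B)).radical := by
      rw [Ideal.radical_eq_sInf]
      apply le_sInf
      rintro P ⟨hJP, hP⟩
      have h1 : maximalIdeal A ^ n ≤ P.comap (algebraMap A B) := Ideal.map_le_iff_le_comap.mp hJP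
      have h2 : maximalIdeal A ≤ P.comap (algebraMap A B) := Ideal.IsPrime.le_of_pow_le h1
      have h3 : P.comap (algebraMap A B) = maximalIdeal A :=
        ((maximalIdeal.isMaximal A).eq_of_le (Ideal.comap_ne_top _ hP.ne_top) h2).symm
      have h4 : P.IsMaximal := Ideal.isMaximal_of_isIntegral_of_isMaximal_comap P
        (h3 ▸ maximalIdeal.isMaximal A)
      rw [IsLocalRing.eq_maximalIdeal h4]
    obtain ⟨N, hN⟩ := Ideal.exists_pow_le_of_le_radical_of_fg hrad
      ((isNoetherianRing_iff_ideal_fg B).mp inferInstance _)
    refine ⟨N, fun c hc => ?_⟩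
    apply coObj_ext
    intro x
    rw [coObj_smul_apply, hJ c (hN hc) x]
    rfl
  · -- injective
    rw [injective_iff_map_eq_zero]
    intro x hx
    apply hΦinj
    rw [map_zero]
    ext y
    obtain ⟨b, rfl⟩ := IsLocalRing.residue_surjective y
    rw [hΦ, ← hF, hx]
    rfl
  · -- socle
    intro y hy
    have hy' : ∀ c ∈ maximalIdeal B, y c = 0 := by
      intro c hc
      have h2 : c • y = 0 := (Submodule.mem_torsionBySet_iff _ _).mp hy ⟨c, hc⟩
      have h3 : (c • y) (1 : B) = 0 := by rw [h2]; rfl
      rwa [coObj_smul_apply, one_mul] at h3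
    obtain ⟨ψ, hψ⟩ := exists_factor_residue (coObjEval E y) hy'
    obtain ⟨x, hx⟩ := hΦsurj ψ
    refine ⟨x, ?_⟩
    apply coObj_ext
    intro b
    rw [hF, ← hΦ, hx, hψ, coObjEval_apply]

end main

end Groth.Agent.H26
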