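import Groth.Agent.H26.HullCrit
import Mathlib.Algebra.Module.Injective
import Mathlib.RingTheory.LocalRing.Quotient

/-!
# The injective hull of the residue field of a quotient of a local ring
-/

set_option autoImplicit false
universe u
open IsLocalRing

namespace Groth.Agent.H26

section inj

variable {A : Type u} [CommRing A] (a : Ideal A) (E : Type u) [AddCommGroup E] [Module A E]

/-- `E[a]` is an injective `A/a`-module if `E` is an injective `A`-module -/
theorem injective_torsionBySet [hE : Module.Injective A E] :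
    Module.Injective (A ⧸ a) (Submodule.torsionBySet A E (a : Set A)) := by
  apply Module.Baer.injective
  intro J' φ
  let J : Ideal A := J'.comap (Ideal.Quotient.mk a)
  let ψ : J →ₗ[A] E :=
    { toFun := fun j => (φ ⟨Ideal.Quotient.mk a j.1, j.2⟩).1
      map_add' := fun j j' => by
        have : (⟨Ideal.Quotient.mk a (j + j').1, (j + j').2⟩ : J') =
            ⟨Ideal.Quotient.mk a j.1, j.2⟩ + ⟨Ideal.Quotient.mk a j'.1, j'.2⟩ := by
          apply Subtype.ext
          simp
        rw [this, map_add]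
        rfl
      map_smul' := fun r j => by
        have : (⟨Ideal.Quotient.mk a (r • j).1, (r • j).2⟩ : J') =
            (Ideal.Quotient.mk a r) • ⟨Ideal.Quotient.mk a j.1, j.2⟩ := by
          apply Subtype.ext
          simp
        rw [this, map_smul, Submodule.torsionBySet.mk_smul]
        rfl }
  obtain ⟨χ, hχ⟩ := Module.Baer.of_injective hE J ψ
  have he : χ 1 ∈ Submodule.torsionBySet A E (a : Set A) := by
    rw [Submodule.mem_torsionBySet_iff]
    rintro ⟨c, hc⟩
    have hcJ : c ∈ J := by
      change Ideal.Quotient.mk a c ∈ J'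
      rw [Ideal.Quotient.eq_zero_iff_mem.mpr hc]
      exact J'.zero_mem
    change c • χ 1 = 0
    rw [← map_smul, smul_eq_mul, mul_one, hχ c hcJ]
    change (φ ⟨Ideal.Quotient.mk a c, _⟩).1 = 0
    have : (⟨Ideal.Quotient.mk a c, hcJ⟩ : J') = 0 := by
      apply Subtype.ext
      exact Ideal.Quotient.eq_zero_iff_mem.mpr hc
    rw [this, map_zero]
    rfl
  refine ⟨LinearMap.toSpanSingleton (A ⧸ a) _ ⟨χ 1, he⟩, ?_⟩
  intro x' hx'
  obtain ⟨x, rfl⟩ := Ideal.Quotient.mk_surjective x'
  rw [LinearMap.toSpanSingleton_apply, Submodule.torsionBySet.mk_smul]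
  apply Subtype.ext
  change x • χ 1 = _
  rw [← map_smul, smul_eq_mul, mul_one, hχ x hx']
  rfl

end inj

section main

variable {A : Type u} [CommRing A] [IsLocalRing A] [IsNoetherianRing A]
  {E : Type u} [AddCommGroup E] [Module A E]

omit [IsNoetherianRing A] in
/-- the socle of an injective hull of the residue field is the image of the residue field -/
theorem socle_le_range_of_isInjectiveHull (f : ResidueField A →ₗ[A] E)
    (hf : InjHull.IsInjectiveHull f) :
    LocCoh.torsionBy (maximalIdeal A) E ≤ LinearMap.range f := by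
  intro y hy
  obtain ⟨g, hg⟩ := exists_hom_of_mem_socle y hy
  obtain ⟨b, hb⟩ := Groth.Agent.H30.Matlis.exists_smul_eq f hf g
  refine ⟨b • 1, ?_⟩
  rw [map_smul, ← hg, hb, LinearMap.smul_apply]

omit [IsNoetherianRing A] in
theorem smul_apply_one_eq_zero (f : ResidueField A →ₗ[A] E) (c : A) (hc : c ∈ maximalIdeal A) :
    c • f 1 = 0 := by
  rw [← map_smul, ← residue_eq_smul_one, (residue_eq_zero_iff c).2 hc, map_zero]

/-- S5157 -/
theorem exists_isInjectiveHull_torsionBy (a : Ideal A) [IsLocalRing (A ⧸ a)]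
    (f : ResidueField A →ₗ[A] E) (hf : InjHull.IsInjectiveHull f) :
    ∃ g : ResidueField (A ⧸ a) →ₗ[A ⧸ a] (LocCoh.torsionBy a E), InjHull.IsInjectiveHull g := by
  have hinjE : Module.Injective A E := hf.isInjective
  have hinj : Module.Injective (A ⧸ a) (LocCoh.torsionBy a E) := injective_torsionBySet a E
  have hloc : IsLocalHom (Ideal.Quotient.mk a) :=
    IsLocalHom.of_surjective _ Ideal.Quotient.mk_surjective
  have hmem : ∀ c : A, c ∈ maximalIdeal A ↔ Ideal.Quotient.mk a c ∈ maximalIdeal (A ⧸ a) := by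
    intro c
    rw [mem_maximalIdeal, mem_maximalIdeal, mem_nonunits_iff, mem_nonunits_iff, not_iff_not]
    exact ⟨fun h => h.map _, fun h => isUnit_of_map_unit _ c h⟩
  have hale : a ≤ maximalIdeal A := by
    intro c hc
    rw [hmem, Ideal.Quotient.eq_zero_iff_mem.mpr hc]
    exact Ideal.zero_mem _
  have hmap : maximalIdeal (A ⧸ a) = (maximalIdeal A).map (Ideal.Quotient.mk a) := by
    apply le_antisymm
    · intro c' hc'
      obtain ⟨c, rfl⟩ := Ideal.Quotient.mk_surjective c'
      exact Ideal.mem_map_of_mem _ ((hmem c).mpr hc')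
    · rw [Ideal.map_le_iff_le_comap]
      intro c hc
      exact (hmem c).mp hc
  have hy1 : f 1 ∈ LocCoh.torsionBy a E := by
    rw [Submodule.mem_torsionBySet_iff]
    rintro ⟨c, hc⟩
    exact smul_apply_one_eq_zero f c (hale hc)
  have hy : (⟨f 1, hy1⟩ : LocCoh.torsionBy a E) ∈
      LocCoh.torsionBy (maximalIdeal (A ⧸ a)) (LocCoh.torsionBy a E) := by
    rw [Submodule.mem_torsionBySet_iff]
    rintro ⟨c', hc'⟩
    obtain ⟨c, rfl⟩ := Ideal.Quotient.mk_surjective c'
    change Ideal.Quotient.mk a c • (⟨f 1, hy1⟩ : LocCoh.torsionBy a E) = 0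
    rw [Submodule.torsionBySet.mk_smul]
    apply Subtype.ext
    exact smul_apply_one_eq_zero f c ((hmem c).mpr hc')
  obtain ⟨g, hg⟩ := exists_hom_of_mem_socle (A := A ⧸ a) _ hy
  have hf1 : f 1 ≠ 0 := by
    intro h
    exact one_ne_zero (hf.injective (a₁ := 1) (a₂ := 0) (by rw [h, map_zero]))
  have hg0 : g ≠ 0 := by
    intro h
    rw [h, LinearMap.zero_apply] at hg
    exact hf1 (congrArg Subtype.val hg).symm
  refine ⟨g, isInjectiveHull_of_socle_le ?_ g (injective_of_ne_zero g hg0) ?_⟩
  · intro x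
    obtain ⟨n, hn⟩ := Groth.Agent.H9.isPowerTorsion_of_isEssentialInj f hf.toIsEssentialInj x.1
    refine ⟨n, fun c' hc' => ?_⟩
    rw [hmap, ← Ideal.map_pow, Ideal.mem_map_iff_of_surjective _ Ideal.Quotient.mk_surjective]
      at hc'
    obtain ⟨c, hc, rfl⟩ := hc'
    rw [Submodule.torsionBySet.mk_smul]
    apply Subtype.ext
    exact hn c hc
  · intro z hz
    have hz1 : z.1 ∈ LocCoh.torsionBy (maximalIdeal A) E := by
      rw [Submodule.mem_torsionBySet_iff]
      rintro ⟨c, hc⟩
      have h1 := (Submodule.mem_torsionBySet_iff _ _).mp hz ⟨Ideal.Quotient.mk a c, (hmem c).mp hc⟩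
      change Ideal.Quotient.mk a c • z = 0 at h1
      rw [Submodule.torsionBySet.mk_smul] at h1
      exact congrArg Subtype.val h1
    obtain ⟨w, hw⟩ := socle_le_range_of_isInjectiveHull f hf hz1
    obtain ⟨b, rfl⟩ := IsLocalRing.residue_surjective w
    refine ⟨Ideal.Quotient.mk a b • 1, ?_⟩
    rw [map_smul, hg, Submodule.torsionBySet.mk_smul]
    apply Subtype.ext
    change b • f 1 = z.1
    rw [← hw, residue_eq_smul_one, map_smul]

end main

end Groth.Agent.H26
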