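import Mathlib
import Groth.Agent.H89.DualBC

/-!
# Invertibility of a finitely presented module is local
-/

set_option autoImplicit false
set_option linter.style.haveILetI false
set_option linter.unusedSectionVars false
universe u

open TensorProduct Module

namespace Groth.Agent.H26.InvLocal

variable {R M : Type u} [CommRing R] [AddCommGroup M] [Module R M]

/-- A finitely presented module which is invertible at every maximal ideal is invertible. -/
theorem invertible_of_localization_maximal [Module.FinitePresentation R M]
    (h : ∀ (q : Ideal R) [q.IsMaximal],
      Module.Invertible (Localization.AtPrime q) (Localization.AtPrime q ⊗[R] M)) :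
    Module.Invertible R M := by
  have hproj : Module.Projective R M :=
    Module.projective_of_localization_maximal' (fun q _ => Localization.AtPrime q)
      (fun q _ => Localization.AtPrime q ⊗[R] M)
      (fun q _ => TensorProduct.mk R (Localization.AtPrime q) M 1)
      (fun q hq => by haveI := hq; haveI := h q; infer_instance)
  haveI : Module.Finite R M := inferInstance
  refine ⟨?_⟩
  refine bijective_of_isLocalized_maximal
    (fun q _ => Localization.AtPrime q ⊗[R] (Module.Dual R M ⊗[R] M))
    (fun q _ => TensorProduct.mk R (Localization.AtPrime q) _ 1)
    (fun q _ => Localization.AtPrime q ⊗[R] R)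
    (fun q _ => TensorProduct.mk R (Localization.AtPrime q) R 1) (contractLeft R M) ?_
  intro q hq
  have hmap : IsLocalizedModule.map q.primeCompl
      (TensorProduct.mk R (Localization.AtPrime q) (Module.Dual R M ⊗[R] M) 1)
      (TensorProduct.mk R (Localization.AtPrime q) R 1) (contractLeft R M) =
      (contractLeft R M).lTensor (Localization.AtPrime q) := by
    apply IsLocalizedModule.linearMap_ext q.primeCompl
      (TensorProduct.mk R (Localization.AtPrime q) (Module.Dual R M ⊗[R] M) 1)
      (TensorProduct.mk R (Localization.AtPrime q) R 1)
    rw [IsLocalizedModule.map_comp]
    ext x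
    simp
  rw [hmap]
  haveI := h q
  exact Groth.Agent.H89.DualBC.lTensor_contractLeft_bijective R (Localization.AtPrime q) M

end Groth.Agent.H26.InvLocal
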