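import Mathlib
import Groth.Agent.H79.KoszulNat

/-!
# Koszul acyclicity survives base change when the quotient is flat (helper26)

`A → P` flat, `l` a list in `P` whose Koszul complex is acyclic off degree `0`, with `P/(l)` flat over
`A`.  Then for every `A`-module `N` the Koszul complex `K(l; P ⊗_A N)` is acyclic off degree `0`.
-/

set_option autoImplicit false
set_option linter.style.haveILetI false
set_option linter.unusedSectionVars false
universe u
open CategoryTheory CategoryTheory.Limits TensorProduct
open Groth.Agent.H79.KoszulNat Groth.Agent.H79.KoszulTopNat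

namespace Groth.Agent.H26.KoszulBC

section flat

variable (A P : Type u) [CommRing A] [CommRing P] [Algebra A P] (I : Ideal P)
  [Module.Flat A (P ⧸ I)]
  {N' F : Type u} [AddCommGroup N'] [Module A N'] [AddCommGroup F] [Module A F]

/-- `(P/I) ⊗ N' → (P/I) ⊗ F` injective means `I(P ⊗ N') = (P ⊗ N') ∩ I(P ⊗ F)`. -/
theorem mem_smul_top_of_map_mem (ι : N' →ₗ[A] F) (hι : Function.Injective ι)
    (y : P ⊗[A] N') (hy : (LinearMap.lTensor P ι) y ∈ I • (⊤ : Submodule P (P ⊗[A] F))) :
    y ∈ I • (⊤ : Submodule P (P ⊗[A] N')) := by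
  let π : P →ₗ[A] P ⧸ I := (Ideal.Quotient.mkₐ A I).toLinearMap
  let f : I →ₗ[A] P := (Submodule.subtype I).restrictScalars A
  have hπ : Function.Surjective π := Ideal.Quotient.mk_surjective
  have hex : Function.Exact f π := by
    intro p
    constructor
    · intro hp
      exact ⟨⟨p, Ideal.Quotient.eq_zero_iff_mem.mp hp⟩, rfl⟩
    · rintro ⟨i, rfl⟩
      exact Ideal.Quotient.eq_zero_iff_mem.mpr i.2
  -- `π ⊗ F` kills `I • ⊤`
  have hkill : ∀ z ∈ I • (⊤ : Submodule P (P ⊗[A] F)), (LinearMap.rTensor F π) z = 0 := by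
    intro z hz
    refine Submodule.smul_induction_on hz ?_ ?_
    · intro i hi w hw
      clear hw
      induction w using TensorProduct.induction_on with
      | zero => simp
      | tmul p x =>
        rw [TensorProduct.smul_tmul', LinearMap.rTensor_tmul]
        have : π (i • p) = 0 := by
          show Ideal.Quotient.mk I (i * p) = 0
          exact Ideal.Quotient.eq_zero_iff_mem.mpr (I.mul_mem_right _ hi)
        rw [this, TensorProduct.zero_tmul]
      | add a b ha hb => rw [smul_add, map_add, ha, hb, add_zero]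
    · intro a b ha hb
      rw [map_add, ha, hb, add_zero]
  have h1 : (LinearMap.rTensor F π) ((LinearMap.lTensor P ι) y) = 0 := hkill _ hy
  have h2 : (LinearMap.lTensor (P ⧸ I) ι) ((LinearMap.rTensor N' π) y) = 0 := by
    rw [← LinearMap.comp_apply, LinearMap.lTensor_comp_rTensor, ← LinearMap.rTensor_comp_lTensor]
    exact h1
  have h3 : Function.Injective (LinearMap.lTensor (P ⧸ I) ι) :=
    Module.Flat.lTensor_preserves_injective_linearMap ι hι
  have h4 : (LinearMap.rTensor N' π) y = 0 := h3 (by rw [h2, map_zero])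
  have h5 := (rTensor_exact N' hex hπ) y
  obtain ⟨w, rfl⟩ := h5.mp h4
  have key : ∀ w : I ⊗[A] N', (LinearMap.rTensor N' f) w ∈ I • (⊤ : Submodule P (P ⊗[A] N')) := by
    intro w
    induction w using TensorProduct.induction_on with
    | zero => simp
    | tmul i n =>
      rw [LinearMap.rTensor_tmul]
      have : f i ⊗ₜ[A] n = (i : P) • ((1 : P) ⊗ₜ[A] n) := by
        rw [TensorProduct.smul_tmul']
        simp [f]
      rw [this]
      exact Submodule.smul_mem_smul i.2 Submodule.mem_top
    | add a b ha hb =>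
      rw [map_add]
      exact Submodule.add_mem _ ha hb
  exact key w

end flat

section koszul

variable (A P : Type u) [CommRing A] [CommRing P] [Algebra A P]

/-- the `P`-module `P ⊗_A N` -/
abbrev MN (N : Type u) [AddCommGroup N] [Module A N] : ModuleCat.{u} P :=
  ModuleCat.of P (P ⊗[A] N)

variable {A} {N' F N : Type u} [AddCommGroup N'] [Module A N'] [AddCommGroup F] [Module A F]
  [AddCommGroup N] [Module A N]

/-- the short complex `P ⊗ N' → P ⊗ F → P ⊗ N` -/
noncomputable def bcSC (ι : N' →ₗ[A] F) (g : F →ₗ[A] N) (h : g ∘ₗ ι = 0) :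
    ShortComplex (ModuleCat.{u} P) :=
  ShortComplex.mk (X₁ := MN A P N') (X₂ := MN A P F) (X₃ := MN A P N)
    (ModuleCat.ofHom (ι.baseChange P)) (ModuleCat.ofHom (g.baseChange P)) (by
      rw [← ModuleCat.ofHom_comp, ← LinearMap.baseChange_comp, h]
      ext x
      simp)

theorem bcSC_shortExact [Module.Flat A P] (ι : N' →ₗ[A] F) (g : F →ₗ[A] N)
    (hι : Function.Injective ι) (hg : Function.Surjective g) (hex : Function.Exact ι g) :
    (bcSC P ι g (hex.linearMap_comp_eq_zero)).ShortExact := by
  have h1 : Function.Injective (ι.baseChange P) := by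
    rw [LinearMap.baseChange_eq_ltensor]
    exact Module.Flat.lTensor_preserves_injective_linearMap ι hι
  have h2 : Function.Surjective (g.baseChange P) := by
    rw [LinearMap.baseChange_eq_ltensor]
    exact LinearMap.lTensor_surjective P hg
  have h3 : Function.Exact (ι.baseChange P) (g.baseChange P) := by
    rw [LinearMap.baseChange_eq_ltensor, LinearMap.baseChange_eq_ltensor]
    exact lTensor_exact P hex hg
  refine ShortComplex.ShortExact.mk' ?_ ?_ ?_
  · rw [ShortComplex.ShortExact.moduleCat_exact_iff_function_exact]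
    exact h3
  · exact (ModuleCat.mono_iff_injective _).mpr h1
  · exact (ModuleCat.epi_iff_surjective _).mpr h2

end koszul

section main

variable (A P : Type u) [CommRing A] [CommRing P] [Algebra A P] [Module.Flat A P] (l : List P)

/-- free coefficient modules -/
theorem isZero_homology_of_flat_coeff (hl : ∀ i : ℤ, i ≠ 0 → IsZero ((Koszul.koszul P l).homology i))
    (F : Type u) [AddCommGroup F] [Module A F] [Module.Flat A F] (i : ℤ) (hi : i ≠ 0) :
    IsZero ((CohIII.koszulCx (MN A P F) l).homology i) :=
  isZero_homology_of_flat l i (hl i hi) (MN A P F)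

/-- injectivity on `H^0` from flatness of `P/(l)` -/
theorem mono_homologyMap_zero [Module.Flat A (P ⧸ Ideal.ofList l)]
    {N' F : Type u} [AddCommGroup N'] [Module A N'] [AddCommGroup F] [Module A F]
    (ι : N' →ₗ[A] F) (hι : Function.Injective ι) :
    Mono (HomologicalComplex.homologyMap
      (kmap (M := MN A P N') (M' := MN A P F) (ModuleCat.ofHom (ι.baseChange P)) l) 0) := by
  rw [ModuleCat.mono_iff_injective, injective_iff_map_eq_zero]
  intro x hx
  obtain ⟨m, rfl⟩ := topMap_surjective (MN A P N') l x
  rw [topMap_kmap, topMap_eq_zero_iff] at hx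
  rw [topMap_eq_zero_iff]
  refine mem_smul_top_of_map_mem A P (Ideal.ofList l) ι hι m ?_
  have : (LinearMap.lTensor P ι) m = (ι.baseChange P) m := by
    rw [← LinearMap.baseChange_eq_ltensor]
  rw [this]
  exact hx

/-- the presentation short exact sequence of Koszul complexes -/
theorem exists_presentation (N : Type u) [AddCommGroup N] [Module A N] :
    ∃ (N' : Type u) (_ : AddCommGroup N') (_ : Module A N') (ι : N' →ₗ[A] (N →₀ A))
      (g : (N →₀ A) →ₗ[A] N), Function.Injective ι ∧ Function.Surjective g ∧ Function.Exact ι g := by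
  let g : (N →₀ A) →ₗ[A] N := Finsupp.linearCombination A (id : N → N)
  exact ⟨LinearMap.ker g, inferInstance, inferInstance, (LinearMap.ker g).subtype, g,
    Submodule.subtype_injective _, Finsupp.linearCombination_id_surjective A N,
    LinearMap.exact_subtype_ker_map g⟩

theorem step_zero (hl : ∀ i : ℤ, i ≠ 0 → IsZero ((Koszul.koszul P l).homology i))
    [Module.Flat A (P ⧸ Ideal.ofList l)]
    {N' F N : Type u} [AddCommGroup N'] [Module A N'] [AddCommGroup F] [Module A F]
    [Module.Flat A F] [AddCommGroup N] [Module A N] (ι : N' →ₗ[A] F) (g : F →ₗ[A] N)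
    (hι : Function.Injective ι) (hg : Function.Surjective g) (hex : Function.Exact ι g) :
    IsZero ((CohIII.koszulCx (MN A P N) l).homology (-1)) := by
  have hS := bcSC_shortExact P ι g hι hg hex
  have hK := kmapSC_shortExact _ hS l
  have hF : IsZero ((CohIII.koszulCx (MN A P F) l).homology (-1)) :=
    isZero_homology_of_flat_coeff A P l hl F (-1) (by norm_num)
  have hrel : (ComplexShape.up ℤ).Rel (-1) 0 := by simp
  have hmono : Mono (hK.δ (-1) 0 hrel) := hK.mono_δ (-1) 0 hrel hF
  have hm0 := mono_homologyMap_zero A P l ι hι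
  have h1 := hK.δ_comp (-1) 0 hrel
  have hδ0 : hK.δ (-1) 0 hrel = 0 :=
    (@cancel_mono _ _ _ _ _ _ hm0 _ _).mp (h1.trans zero_comp.symm)
  exact @IsZero.of_mono_eq_zero _ _ _ _ _ (hK.δ (-1) 0 hrel) hmono hδ0

theorem step_succ (hl : ∀ i : ℤ, i ≠ 0 → IsZero ((Koszul.koszul P l).homology i))
    {N' F N : Type u} [AddCommGroup N'] [Module A N'] [AddCommGroup F] [Module A F]
    [Module.Flat A F] [AddCommGroup N] [Module A N] (ι : N' →ₗ[A] F) (g : F →ₗ[A] N)
    (hι : Function.Injective ι) (hg : Function.Surjective g) (hex : Function.Exact ι g)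
    (i j : ℤ) (hij : i + 1 = j) (hi : i ≠ 0)
    (hN' : IsZero ((CohIII.koszulCx (MN A P N') l).homology j)) :
    IsZero ((CohIII.koszulCx (MN A P N) l).homology i) := by
  have hS := bcSC_shortExact P ι g hι hg hex
  have hK := kmapSC_shortExact _ hS l
  have hF : IsZero ((CohIII.koszulCx (MN A P F) l).homology i) :=
    isZero_homology_of_flat_coeff A P l hl F i hi
  have hrel : (ComplexShape.up ℤ).Rel i j := hij
  have hex3 := hK.homology_exact₃ i j hrel
  exact hex3.isZero_of_both_zeros (hF.eq_of_src _ _) (hN'.eq_of_tgt _ _)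

/-- **Koszul acyclicity with coefficients in `P ⊗_A N`.** -/
theorem isZero_homology_tensor (hl : ∀ i : ℤ, i ≠ 0 → IsZero ((Koszul.koszul P l).homology i))
    [Module.Flat A (P ⧸ Ideal.ofList l)] :
    ∀ (n : ℕ) (N : Type u) [AddCommGroup N] [Module A N],
      IsZero ((CohIII.koszulCx (MN A P N) l).homology (-1 - (n : ℤ))) := by
  intro n
  induction n with
  | zero =>
    intro N _ _
    obtain ⟨N', _, _, ι, g, hι, hg, hex⟩ := exists_presentation A N
    have := step_zero A P l hl ι g hι hg hex
    simpa using this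
  | succ n ih =>
    intro N _ _
    obtain ⟨N', _, _, ι, g, hι, hg, hex⟩ := exists_presentation A N
    exact step_succ A P l hl ι g hι hg hex _ _ (by push_cast; ring) (by push_cast; omega) (ih N')

theorem isZero_homology_tensor' (hl : ∀ i : ℤ, i ≠ 0 → IsZero ((Koszul.koszul P l).homology i))
    [Module.Flat A (P ⧸ Ideal.ofList l)] (N : Type u) [AddCommGroup N] [Module A N] (i : ℤ)
    (hi : i ≠ 0) : IsZero ((CohIII.koszulCx (MN A P N) l).homology i) := by
  rcases lt_or_gt_of_ne hi with h | h
  · obtain ⟨n, rfl⟩ : ∃ n : ℕ, i = -1 - (n : ℤ) := ⟨(-1 - i).toNat, by omega⟩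
    exact isZero_homology_tensor A P l hl n N
  · exact ShortComplex.isZero_homology_of_isZero_X₂ _
      (Groth.Agent.H79.KoszulTop.isZero_X_of_pos _ l i h)

end main

end Groth.Agent.H26.KoszulBC
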