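import Mathlib
import Groth.Prelude.Def_LCI2
import Groth.Agent.H26.KoszulBC
import Groth.Agent.H79.KoszulCone
import Groth.Agent.H26.GorLCI

/-!
# Base change of Koszul-regular ideals with flat quotient; flat lci maps have Gorenstein fibres
(helper26)
-/

set_option autoImplicit false
set_option linter.style.haveILetI false
set_option linter.unusedSectionVars false
universe u
open CategoryTheory CategoryTheory.Limits TensorProduct

namespace Groth.Agent.H26.KoszulBC2

section

theorem nonempty_linearEquiv (A P : Type u) [CommRing A] [CommRing P] [Algebra A P] (A' : Type u)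
    [CommRing A'] [Algebra A A'] (g : P)
    (Pg : Type u) [CommRing Pg] [Algebra P Pg] [IsLocalization.Away g Pg]
    [Algebra A Pg] [IsScalarTower A P Pg]
    (S : Type u) [CommRing S] [Algebra (P ⊗[A] A') S]
    [IsLocalization.Away (algebraMap P (P ⊗[A] A') g) S]
    [Algebra P S] [IsScalarTower P (P ⊗[A] A') S] [Algebra Pg S] [IsScalarTower P Pg S]
    [Algebra A S] [IsScalarTower A P S] [IsScalarTower A Pg S] :
    Nonempty (Pg ⊗[A] A' ≃ₗ[Pg] S) := by
  have h1 : IsBaseChange P (TensorProduct.mk A P A' 1) := TensorProduct.isBaseChange A A' P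
  have hsub : Algebra.algebraMapSubmonoid (P ⊗[A] A') (Submonoid.powers g) =
      Submonoid.powers (algebraMap P (P ⊗[A] A') g) := by
    rw [Algebra.algebraMapSubmonoid, Submonoid.map_powers]
  haveI : IsLocalization (Algebra.algebraMapSubmonoid (P ⊗[A] A') (Submonoid.powers g)) S := by
    rw [hsub]
    infer_instance
  have h2 : IsBaseChange Pg (IsScalarTower.toAlgHom P (P ⊗[A] A') S).toLinearMap :=
    IsLocalizedModule.isBaseChange (Submonoid.powers g) Pg _
  have h3 := h1.comp h2
  exact ⟨h3.equiv⟩

/-- flatness of the localized quotient -/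
theorem flat_quotient_away (A P : Type u) [CommRing A] [CommRing P] [Algebra A P] (I : Ideal P)
    [Module.Flat A (P ⧸ I)] (g : P) (J : Ideal (Localization.Away g))
    (hJ : I.map (algebraMap P (Localization.Away g)) = J) :
    Module.Flat A (Localization.Away g ⧸ J) := by
  subst hJ
  haveI : Module.Flat (P ⧸ I)
      (Localization.Away g ⧸ I.map (algebraMap P (Localization.Away g))) :=
    IsLocalization.flat _ (Algebra.algebraMapSubmonoid (P ⧸ I) (Submonoid.powers g))
  haveI : IsScalarTower A (P ⧸ I)
      (Localization.Away g ⧸ I.map (algebraMap P (Localization.Away g))) :=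
    IsScalarTower.to₁₃₄ A P _ _
  exact Module.Flat.trans A (P ⧸ I) _

set_option backward.isDefEq.respectTransparency false in
theorem isKoszulRegularIdeal_map_tensor (A P : Type u) [CommRing A] [CommRing P] [Algebra A P]
    [Module.Flat A P] (I : Ideal P) [Module.Flat A (P ⧸ I)] (hI : LCI.IsKoszulRegularIdeal I)
    (A' : Type u) [CommRing A'] [Algebra A A'] :
    LCI.IsKoszulRegularIdeal (I.map (algebraMap P (P ⊗[A] A'))) := by
  intro 𝔮 h𝔮
  have h0 : I ≤ (𝔮.comap (algebraMap P (P ⊗[A] A'))).asIdeal :=
    fun x hx => h𝔮 (Ideal.mem_map_of_mem _ hx)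
  obtain ⟨g, hg, l, hl, hspan⟩ := hI _ h0
  refine ⟨algebraMap P (P ⊗[A] A') g, hg, ?_⟩
  let φ : Localization.Away g →+* Localization.Away (algebraMap P (P ⊗[A] A') g) :=
    Localization.awayMap (algebraMap P (P ⊗[A] A')) g
  have hφ : φ.comp (algebraMap P (Localization.Away g)) =
      (algebraMap (P ⊗[A] A') (Localization.Away (algebraMap P (P ⊗[A] A') g))).comp
        (algebraMap P (P ⊗[A] A')) := by
    ext x
    simp only [φ, IsLocalization.Away.map, RingHom.comp_apply,
      IsLocalization.map_eq]
  refine ⟨l.map φ, ?_, ?_⟩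
  · intro i hi
    have key : ∀ (K L : CochainComplex
        (ModuleCat.{u} (Localization.Away (algebraMap P (P ⊗[A] A') g))) ℤ) (_ : K = L),
        IsZero (L.homology i) → IsZero (K.homology i) := by
      rintro K L rfl h
      exact h
    refine key _ _ (Groth.Agent.H79.KoszulCone.koszul_eq _) ?_
    letI : Algebra (Localization.Away g) (Localization.Away (algebraMap P (P ⊗[A] A') g)) :=
      φ.toAlgebra
    haveI : IsScalarTower P (Localization.Away g)
        (Localization.Away (algebraMap P (P ⊗[A] A') g)) := by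
      refine IsScalarTower.of_algebraMap_eq (fun x => ?_)
      rw [RingHom.algebraMap_toAlgebra]
      exact (IsScalarTower.algebraMap_apply P (P ⊗[A] A') _ x).trans (RingHom.congr_fun hφ x).symm
    haveI : IsScalarTower A (Localization.Away g)
        (Localization.Away (algebraMap P (P ⊗[A] A') g)) := IsScalarTower.to₁₃₄ A P _ _
    obtain ⟨e⟩ := nonempty_linearEquiv A P A' g (Localization.Away g)
      (Localization.Away (algebraMap P (P ⊗[A] A') g))
    haveI : Module.Flat A (Localization.Away g) := Module.Flat.trans A P _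
    haveI : Module.Flat A (Localization.Away g ⧸ Ideal.ofList l) :=
      flat_quotient_away A P I g _ hspan
    have h1 := Groth.Agent.H26.KoszulBC.isZero_homology_tensor' A (Localization.Away g) l hl A' i hi
    rw [← Groth.Agent.H79.KoszulNat.isZero_homology_restrict_iff φ
      (ModuleCat.of _ (Localization.Away (algebraMap P (P ⊗[A] A') g))) l i]
    let e' : Groth.Agent.H26.KoszulBC.MN A (Localization.Away g) A' ≅
        (ModuleCat.restrictScalars φ).obj
          (ModuleCat.of _ (Localization.Away (algebraMap P (P ⊗[A] A') g))) :=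
      LinearEquiv.toModuleIso e
    exact IsZero.of_iso h1 ((HomologicalComplex.homologyFunctor _ _ i).mapIso
      (Groth.Agent.H79.KoszulNat.kiso e' l)).symm
  · rw [Ideal.map_map, ← hφ, ← Ideal.map_map, hspan, Ideal.map_span]
    congr 1
    ext x
    simp

/-- base change of a flat local complete intersection is a quotient of a polynomial ring by a
Koszul-regular ideal; in particular Gorenstein over a Gorenstein base. -/
theorem isGorensteinRing_tensor_of_flat_isLCI (A B : Type u) [CommRing A] [CommRing B]
    [Algebra A B] [Module.Flat A B] (hl : LCI.IsLCI A B) (A' : Type u) [CommRing A'] [Algebra A A']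
    (hA' : LocCoh.IsGorensteinRing A') : LocCoh.IsGorensteinRing (B ⊗[A] A') := by
  obtain ⟨-, n, f, hf, hI⟩ := hl
  have hP' : LocCoh.IsGorensteinRing (MvPolynomial (Fin n) A ⊗[A] A') :=
    Groth.Agent.H26.GorRegHom.isGorensteinRing_of_ringEquiv
      ((MvPolynomial.algebraTensorAlgEquiv A A' (σ := Fin n)).symm.toRingEquiv.trans
        (Algebra.TensorProduct.comm A A' (MvPolynomial (Fin n) A)).toRingEquiv)
      (Groth.Agent.H26.GorLCI.isGorensteinRing_mvPolynomial A' hA' n)
  haveI : Module.Flat A (MvPolynomial (Fin n) A ⧸ RingHom.ker f.toRingHom) :=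
    Module.Flat.of_linearEquiv
      (Ideal.quotientKerAlgEquivOfSurjective hf).toLinearEquiv
  have hI' := isKoszulRegularIdeal_map_tensor A (MvPolynomial (Fin n) A) _ hI A'
  have h1 := Groth.Agent.H26.GorLCI.isGorensteinRing_quotient_of_koszulRegularIdeal _ hP' _ hI'
  let ψ : MvPolynomial (Fin n) A ⊗[A] A' →+* B ⊗[A] A' :=
    (Algebra.TensorProduct.map f (AlgHom.id A A')).toRingHom
  have hsurj : Function.Surjective ψ :=
    Algebra.TensorProduct.map_surjective f (AlgHom.id A A') hf Function.surjective_id
  have hker : (RingHom.ker f.toRingHom).map (algebraMap (MvPolynomial (Fin n) A)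
        (MvPolynomial (Fin n) A ⊗[A] A')) = RingHom.ker ψ := by
    have h2 := Algebra.TensorProduct.rTensor_ker (R := A) (S := A) (C := A') f hf
    exact h2.symm
  have e1 : (MvPolynomial (Fin n) A ⊗[A] A') ⧸ (RingHom.ker f.toRingHom).map
      (algebraMap (MvPolynomial (Fin n) A) (MvPolynomial (Fin n) A ⊗[A] A')) ≃+*
      (MvPolynomial (Fin n) A ⊗[A] A') ⧸ RingHom.ker ψ := Ideal.quotEquivOfEq hker
  have e2 : (MvPolynomial (Fin n) A ⊗[A] A') ⧸ RingHom.ker ψ ≃+* B ⊗[A] A' :=
    RingHom.quotientKerEquivOfSurjective hsurj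
  exact Groth.Agent.H26.GorRegHom.isGorensteinRing_of_ringEquiv (e1.trans e2) h1

end
end Groth.Agent.H26.KoszulBC2
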