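import Mathlib.RingTheory.Kaehler.Basic
import Mathlib.RingTheory.Adjoin.Basic
import Mathlib.Algebra.Polynomial.Derivative
import Mathlib.Algebra.Polynomial.AlgebraMap
import Mathlib.RingTheory.Ideal.Maps

set_option autoImplicit false
universe u
open Polynomial

namespace Groth.Agent.H26

variable {A B : Type u} [CommRing A] [CommRing B] [Algebra A B] (u : B)

lemma aeval_surjective_of_adjoin (hu : Algebra.adjoin A ({u} : Set B) = ⊤) :
    Function.Surjective (aeval u : A[X] →ₐ[A] B) := by
  intro b
  have hb : b ∈ Algebra.adjoin A ({u} : Set B) := by rw [hu]; trivial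
  rw [Algebra.adjoin_singleton_eq_range_aeval] at hb
  exact hb

/-- The ideal of values at `u` of derivatives of relations satisfied by `u`. -/
def derivIdeal (hu : Algebra.adjoin A ({u} : Set B) = ⊤) : Ideal B where
  carrier := {b | ∃ P : A[X], aeval u P = 0 ∧ aeval u (derivative P) = b}
  add_mem' := by
    rintro _ _ ⟨P, hP, rfl⟩ ⟨Q, hQ, rfl⟩
    exact ⟨P + Q, by simp [hP, hQ], by simp⟩
  zero_mem' := ⟨0, by simp, by simp⟩
  smul_mem' := by
    rintro c _ ⟨P, hP, rfl⟩
    obtain ⟨Q, rfl⟩ := aeval_surjective_of_adjoin u hu c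
    refine ⟨Q * P, by simp [hP], ?_⟩
    simp [derivative_mul, hP]

lemma mem_derivIdeal (hu : Algebra.adjoin A ({u} : Set B) = ⊤) (b : B) :
    b ∈ derivIdeal u hu ↔ ∃ P : A[X], aeval u P = 0 ∧ aeval u (derivative P) = b := Iff.rfl

/-- The function underlying the canonical derivation `B → B ⧸ derivIdeal`. -/
noncomputable def monoDerFun (hu : Algebra.adjoin A ({u} : Set B) = ⊤) (b : B) :
    B ⧸ derivIdeal u hu :=
  Ideal.Quotient.mk _ (aeval u (derivative (aeval_surjective_of_adjoin u hu b).choose))

lemma monoDerFun_eq (hu : Algebra.adjoin A ({u} : Set B) = ⊤) (P : A[X]) :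
    monoDerFun u hu (aeval u P) = Ideal.Quotient.mk _ (aeval u (derivative P)) := by
  unfold monoDerFun
  rw [Ideal.Quotient.eq]
  have h := (aeval_surjective_of_adjoin u hu (aeval u P)).choose_spec
  refine ⟨(aeval_surjective_of_adjoin u hu (aeval u P)).choose - P, by simp [h], by simp⟩

/-- The canonical derivation `B → B ⧸ derivIdeal`, `P(u) ↦ P'(u)`. -/
noncomputable def monoDer (hu : Algebra.adjoin A ({u} : Set B) = ⊤) :
    Derivation A B (B ⧸ derivIdeal u hu) where
  toFun := monoDerFun u hu
  map_add' := by
    intro x y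
    obtain ⟨P, rfl⟩ := aeval_surjective_of_adjoin u hu x
    obtain ⟨Q, rfl⟩ := aeval_surjective_of_adjoin u hu y
    rw [← map_add, monoDerFun_eq, monoDerFun_eq, monoDerFun_eq]
    simp
  map_smul' := by
    intro a x
    obtain ⟨P, rfl⟩ := aeval_surjective_of_adjoin u hu x
    rw [← map_smul, monoDerFun_eq, monoDerFun_eq]
    simp [Algebra.smul_def]
  map_one_eq_zero' := by
    show monoDerFun u hu 1 = 0
    have := monoDerFun_eq u hu (1 : A[X])
    simpa using this
  leibniz' := by
    intro x y
    obtain ⟨P, rfl⟩ := aeval_surjective_of_adjoin u hu x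
    obtain ⟨Q, rfl⟩ := aeval_surjective_of_adjoin u hu y
    show monoDerFun u hu (aeval u P * aeval u Q) = aeval u P • monoDerFun u hu (aeval u Q) +
      aeval u Q • monoDerFun u hu (aeval u P)
    rw [← map_mul, monoDerFun_eq, monoDerFun_eq, monoDerFun_eq]
    simp only [derivative_mul, map_add, map_mul, Algebra.smul_def, Ideal.Quotient.algebraMap_eq]
    ring

lemma monoDer_u (hu : Algebra.adjoin A ({u} : Set B) = ⊤) : monoDer u hu u = 1 := by
  show monoDerFun u hu u = 1
  have := monoDerFun_eq u hu (X : A[X])
  simpa using this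

/-- For a monogenic algebra `B = A[u]`, the annihilator of the module of differentials is the ideal
of values at `u` of the derivatives of the relations of `u`. -/
theorem annihilator_kaehler_eq_derivIdeal (hu : Algebra.adjoin A ({u} : Set B) = ⊤) :
    Module.annihilator B (KaehlerDifferential A B) = derivIdeal u hu := by
  apply le_antisymm
  · intro s hs
    rw [Module.mem_annihilator] at hs
    have h1 := hs (KaehlerDifferential.D A B u)
    have h2 := congrArg (monoDer u hu).liftKaehlerDifferential h1
    rw [map_smul, Derivation.liftKaehlerDifferential_comp_D, monoDer_u, map_zero] at h2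
    rw [← Ideal.Quotient.eq_zero_iff_mem]
    simpa [Algebra.smul_def] using h2
  · rintro _ ⟨P, hP, rfl⟩
    rw [Module.mem_annihilator]
    intro m
    have hm : m ∈ Submodule.span B (Set.range (KaehlerDifferential.D A B)) := by
      rw [KaehlerDifferential.span_range_derivation]; trivial
    induction hm using Submodule.span_induction with
    | mem x hx =>
      obtain ⟨b, rfl⟩ := hx
      obtain ⟨Q, rfl⟩ := aeval_surjective_of_adjoin u hu b
      rw [Derivation.map_aeval, smul_smul, mul_comm, ← smul_smul, ← Derivation.map_aeval, hP]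
      simp
    | zero => simp
    | add x y _ _ hx hy => rw [smul_add, hx, hy, add_zero]
    | smul a x _ hx => rw [smul_comm, hx, smul_zero]

end Groth.Agent.H26
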