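import Mathlib.RingTheory.Etale.StandardEtale
import Mathlib.RingTheory.AdjoinRoot
import Groth.Agent.H26.Monogenic

set_option autoImplicit false
set_option linter.unusedVariables false
set_option linter.unnecessarySimpa false
universe u
open Polynomial

namespace Groth.Agent.H26

variable (A : Type u) [CommRing A]

/-- the standard étale pair `(X^n - 1, 1)` when `n` is invertible -/
noncomputable def kummerPair (n : ℕ) (hn : 1 ≤ n) (v : A) (hv : (n : A) * v = 1) :
    StandardEtalePair A where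
  f := X ^ n - 1
  monic_f := by
    have := monic_X_pow_sub_C (1 : A) (show n ≠ 0 by omega)
    simpa using this
  g := 1
  cond := by
    refine ⟨C v * X, -1, 1, ?_⟩
    obtain ⟨m, rfl⟩ : ∃ m, n = m + 1 := ⟨n - 1, by omega⟩
    simp only [derivative_sub, derivative_X_pow, derivative_one, sub_zero, pow_one,
      Nat.add_sub_cancel]
    have h1 : (C ((m + 1 : ℕ) : A) * X ^ m) * (C v * X) = C (((m + 1 : ℕ) : A) * v) * X ^ (m + 1) := by
      rw [C_mul]; ring
    rw [h1, hv]
    simp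

theorem etale_adjoinRoot_of_isUnit (n : ℕ) (hn : 1 ≤ n) (h : IsUnit ((n : ℕ) : A)) :
    Algebra.Etale A (AdjoinRoot ((X : A[X]) ^ n - 1)) := by
  obtain ⟨w, hw⟩ := h
  let P := kummerPair A n hn (↑w⁻¹ : A) (by rw [← hw]; simp)
  have hf : P.f = X ^ n - 1 := rfl
  let φ : P.Ring →ₐ[A] AdjoinRoot ((X : A[X]) ^ n - 1) :=
    P.lift (AdjoinRoot.root _) ⟨by rw [hf, AdjoinRoot.aeval_eq, AdjoinRoot.mk_self], by
      change IsUnit (aeval _ (1 : A[X])); simp⟩
  let ψ : AdjoinRoot ((X : A[X]) ^ n - 1) →ₐ[A] P.Ring :=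
    AdjoinRoot.liftAlgHom _ (Algebra.ofId A P.Ring) P.X (by
      have := P.hasMap_X.1
      rw [hf] at this
      simpa [aeval_def] using this)
  have e : P.Ring ≃ₐ[A] AdjoinRoot ((X : A[X]) ^ n - 1) :=
    AlgEquiv.ofAlgHom φ ψ (by
      apply AdjoinRoot.algHom_ext
      simp [φ, ψ]) (by
      apply P.hom_ext
      simp [φ, ψ])
  exact Algebra.Etale.of_equiv e


theorem isUnit_of_etale_adjoinRoot (n : ℕ) (hn : 1 ≤ n)
    (h : Algebra.Etale A (AdjoinRoot ((X : A[X]) ^ n - 1))) : IsUnit ((n : ℕ) : A) := by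
  set f : A[X] := X ^ n - 1 with hf
  have hu : Algebra.adjoin A ({AdjoinRoot.root f} : Set (AdjoinRoot f)) = ⊤ :=
    AdjoinRoot.adjoinRoot_eq_top
  have hann := annihilator_kaehler_eq_derivIdeal (A := A) (AdjoinRoot.root f) hu
  have hsub : Subsingleton (Ω[AdjoinRoot f⁄A]) := inferInstance
  have htop : Module.annihilator (AdjoinRoot f) (Ω[AdjoinRoot f⁄A]) = ⊤ := by
    rw [Module.annihilator_eq_top_iff]
    exact hsub
  rw [htop] at hann
  have h1 : (1 : AdjoinRoot f) ∈ derivIdeal (AdjoinRoot.root f) hu := by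
    rw [← hann]; trivial
  obtain ⟨P, hP0, hP1⟩ := h1
  rw [AdjoinRoot.aeval_eq, AdjoinRoot.mk_eq_zero] at hP0
  obtain ⟨Q, rfl⟩ := hP0
  rw [derivative_mul, map_add, map_mul, map_mul] at hP1
  have hf0 : aeval (AdjoinRoot.root f) f = 0 := by
    rw [AdjoinRoot.aeval_eq, AdjoinRoot.mk_self]
  rw [hf0, zero_mul, add_zero] at hP1
  have hunit : IsUnit (aeval (AdjoinRoot.root f) (derivative f)) :=
    IsUnit.of_mul_eq_one _ hP1
  have hroot1 : eval₂ (algebraMap A A) (1 : A) f = 0 := by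
    simp [hf]
  let ε : AdjoinRoot f →ₐ[A] A := AdjoinRoot.liftAlgHom f (Algebra.ofId A A) 1 (by
    simpa [hf] using hroot1)
  have h2 := hunit.map ε
  have h3 : ε (aeval (AdjoinRoot.root f) (derivative f)) = (n : A) := by
    rw [← aeval_algHom_apply]
    have : ε (AdjoinRoot.root f) = 1 := by simp [ε]
    rw [this, hf]
    simp [derivative_X_pow]
  rwa [h3] at h2

end Groth.Agent.H26
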