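import Mathlib.Algebra.Polynomial.Laurent
import Mathlib.Algebra.MonoidAlgebra.MapDomain

set_option autoImplicit false
universe u
open scoped LaurentPolynomial

namespace Groth.Agent.H26

variable (A : Type u) [CommRing A] (n : ℕ)

/-- the `n`-th power endomorphism of the Laurent polynomial ring -/
noncomputable abbrev powMap : A[T;T⁻¹] →+* A[T;T⁻¹] :=
  AddMonoidAlgebra.mapDomainRingHom A (AddMonoidHom.mulLeft (n : ℤ))

variable {A n}

lemma coeff_powMap_mul_T (hn : 1 ≤ n) (c : A[T;T⁻¹]) (i m : ℤ) :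
    (powMap A n c * LaurentPolynomial.T i).coeff m =
      if (n : ℤ) ∣ m - i then c.coeff ((m - i) / n) else 0 := by
  have hn0 : (n : ℤ) ≠ 0 := by exact_mod_cast (show n ≠ 0 by omega)
  have hinj : Function.Injective (AddMonoidHom.mulLeft (n : ℤ)) := by
    intro a b hab
    exact mul_left_cancel₀ hn0 hab
  rw [LaurentPolynomial.T, AddMonoidAlgebra.coeff_mul_single_apply, mul_one]
  change (Finsupp.mapDomain (AddMonoidHom.mulLeft (n : ℤ)) c.coeff) (m + -i) = _
  rw [← sub_eq_add_neg]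
  split_ifs with h
  · obtain ⟨k, hk⟩ := h
    rw [hk, Int.mul_ediv_cancel_left _ hn0]
    exact Finsupp.mapDomain_apply hinj _ _
  · apply Finsupp.mapDomain_of_notMem_range
    rintro ⟨k, hk⟩
    exact h ⟨k, hk.symm⟩


lemma coeff_sum_powMap (hn : 1 ≤ n) (c : Fin n → A[T;T⁻¹]) (m : ℤ) :
    (∑ i : Fin n, powMap A n (c i) * LaurentPolynomial.T (i : ℤ)).coeff m =
      (c ⟨(m % n).toNat, by
        have h1 := Int.emod_nonneg m (show (n : ℤ) ≠ 0 by omega)
        have h2 := Int.emod_lt_of_pos m (show (0 : ℤ) < n by omega)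
        omega⟩).coeff (m / n) := by
  have hn0 : (n : ℤ) ≠ 0 := by omega
  have h1 := Int.emod_nonneg m hn0
  have h2 := Int.emod_lt_of_pos m (show (0 : ℤ) < n by omega)
  rw [AddMonoidAlgebra.coeff_sum, Finsupp.finsetSum_apply]
  rw [Finset.sum_eq_single ⟨(m % n).toNat, by omega⟩]
  · rw [coeff_powMap_mul_T hn]
    have hr : ((⟨(m % n).toNat, by omega⟩ : Fin n) : ℤ) = m % n := by
      simp [Int.toNat_of_nonneg h1]
    rw [hr, if_pos (Int.dvd_self_sub_emod)]
    congr 1
    have := Int.emod_add_mul_ediv m n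
    have h3 : m - m % n = n * (m / n) := by omega
    rw [h3, Int.mul_ediv_cancel_left _ hn0]
  · intro i _ hi
    rw [coeff_powMap_mul_T hn, if_neg]
    intro hdvd
    apply hi
    apply Fin.ext
    have hi1 : (0 : ℤ) ≤ (i : ℕ) := by omega
    have hi2 : ((i : ℕ) : ℤ) < n := by exact_mod_cast i.2
    have : m % n = (i : ℕ) := by
      have := Int.emod_emod_of_dvd m (dvd_refl (n : ℤ))
      have h4 : (m - (i : ℕ)) % n = 0 := Int.emod_eq_zero_of_dvd hdvd
      have h5 : m % n = ((i : ℕ) : ℤ) % n := by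
        have := Int.emod_eq_emod_iff_emod_sub_eq_zero.mpr h4
        exact this
      rw [h5, Int.emod_eq_of_lt hi1 hi2]
    simp [this]
  · intro h; exact absurd (Finset.mem_univ _) h


theorem existsUnique_powMap_decomp (hn : 1 ≤ n) (q : A[T;T⁻¹]) :
    ∃! c : Fin n → A[T;T⁻¹],
      q = ∑ i : Fin n, powMap A n (c i) * LaurentPolynomial.T (i : ℤ) := by
  have hn0 : (n : ℤ) ≠ 0 := by omega
  have hinj : ∀ i : Fin n, Function.Injective (fun k : ℤ => (n : ℤ) * k + (i : ℕ)) := by
    intro i a b hab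
    have : (n : ℤ) * a = n * b := by simpa using hab
    exact mul_left_cancel₀ hn0 this
  have key : ∀ (i : Fin n) (k : ℤ),
      (⟨(((n : ℤ) * k + (i : ℕ)) % n).toNat, by
        have h1 := Int.emod_nonneg ((n : ℤ) * k + (i : ℕ)) hn0
        have h2 := Int.emod_lt_of_pos ((n : ℤ) * k + (i : ℕ)) (show (0 : ℤ) < n by omega)
        omega⟩ : Fin n) = i ∧ ((n : ℤ) * k + (i : ℕ)) / n = k := by
    intro i k
    have hi1 : (0 : ℤ) ≤ (i : ℕ) := by omega
    have hi2 : ((i : ℕ) : ℤ) < n := by exact_mod_cast i.2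
    have e1 : ((n : ℤ) * k + (i : ℕ)) % n = (i : ℕ) := by
      rw [Int.add_comm, Int.add_mul_emod_self_left, Int.emod_eq_of_lt hi1 hi2]
    have e2 : ((n : ℤ) * k + (i : ℕ)) / n = k := by
      rw [Int.add_comm, Int.add_mul_ediv_left _ _ hn0, Int.ediv_eq_zero_of_lt hi1 hi2, zero_add]
    refine ⟨?_, e2⟩
    apply Fin.ext
    simp [e1]
  refine ⟨fun i => AddMonoidAlgebra.ofCoeff
    (Finsupp.comapDomain (fun k : ℤ => (n : ℤ) * k + (i : ℕ)) q.coeff (hinj i).injOn), ?_, ?_⟩
  · apply AddMonoidAlgebra.ext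
    ext m
    rw [coeff_sum_powMap hn]
    simp only [Finsupp.comapDomain_apply]
    have h1 := Int.emod_nonneg m hn0
    congr 1
    simp only [Int.toNat_of_nonneg h1]
    have := Int.emod_add_mul_ediv m n
    omega
  · intro c hc
    funext i
    apply AddMonoidAlgebra.ext
    ext k
    simp only [Finsupp.comapDomain_apply]
    rw [hc, coeff_sum_powMap hn]
    obtain ⟨e1, e2⟩ := key i k
    rw [e2, e1]

end Groth.Agent.H26
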