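import Groth.Agent.H26.Monogenic
import Mathlib.RingTheory.Unramified.Locus
import Mathlib.RingTheory.QuasiFinite.Basic
import Mathlib.RingTheory.Support
import Mathlib.RingTheory.Ideal.GoingUp

set_option autoImplicit false
universe u
open Polynomial

namespace Groth.Agent.H26

theorem exists_monic_derivative_notMem_of_unramifiedAt (A B : Type u) [CommRing A] [IsLocalRing A]
    [CommRing B] [Algebra A B] [Module.Finite A B] (u : B) (hu : Algebra.adjoin A ({u} : Set B) = ⊤) :
    ∃ F : Polynomial A, F.Monic ∧ Polynomial.aeval u F = 0 ∧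
      ∀ (n : Ideal B) [n.IsMaximal], Algebra.IsUnramifiedAt A n → Polynomial.aeval u (Polynomial.derivative F) ∉ n := by
  classical
  set 𝔞 := Groth.Agent.H26.derivIdeal u hu with h𝔞
  -- unramified maximal ideals do not contain 𝔞
  have hunr : ∀ (n : Ideal B) [n.IsMaximal], Algebra.IsUnramifiedAt A n → ¬ 𝔞 ≤ n := by
    intro n hn h hle
    have h1 : (⟨n, inferInstance⟩ : PrimeSpectrum B) ∈ Algebra.unramifiedLocus A B := h
    rw [Algebra.unramifiedLocus_eq_compl_support, Set.mem_compl_iff, Module.support_eq_zeroLocus,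
      Groth.Agent.H26.annihilator_kaehler_eq_derivIdeal u hu] at h1
    exact h1 hle
  -- finiteness of the set of maximal ideals
  have hfin : {n : Ideal B | n.IsMaximal}.Finite := by
    refine (Algebra.QuasiFinite.finite_primesOver (S := B) (IsLocalRing.maximalIdeal A)).subset ?_
    intro n (hn : n.IsMaximal)
    have : (n.comap (algebraMap A B)).IsMaximal :=
      Ideal.isMaximal_comap_of_isIntegral_of_isMaximal n
    exact ⟨hn.isPrime, ⟨(IsLocalRing.eq_maximalIdeal this).symm⟩⟩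
  set T : Finset (Ideal B) := (hfin.subset (fun n (hn : n.IsMaximal ∧ ¬ 𝔞 ≤ n) => hn.1) :
    {n : Ideal B | n.IsMaximal ∧ ¬ 𝔞 ≤ n}.Finite).toFinset with hT
  have hTmem : ∀ n, n ∈ T ↔ n.IsMaximal ∧ ¬ 𝔞 ≤ n := by
    intro n; simp [hT]
  have hnot : ¬ ((𝔞 : Set B) ⊆ ⋃ n ∈ (↑T : Set (Ideal B)), (n : Set B)) := by
    intro hsub
    have := (Ideal.subset_union_prime (s := T) (f := fun n => n) ⊥ ⊥
      (fun n hn _ _ => ((hTmem n).1 hn).1.isPrime) (I := 𝔞)).1 hsub
    obtain ⟨n, hn, hle⟩ := this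
    exact ((hTmem n).1 hn).2 hle
  obtain ⟨b, hb𝔞, hbT⟩ := Set.not_subset.1 hnot
  obtain ⟨P, hP, rfl⟩ := hb𝔞
  -- a monic relation
  obtain ⟨F₀, hF₀m, hF₀⟩ := Algebra.IsIntegral.isIntegral (R := A) u
  have hF₀' : aeval u F₀ = 0 := by rwa [aeval_def]
  set N := P.natDegree + 1 with hN
  have hm : (X ^ N * F₀ ^ 2 : A[X]).Monic := (monic_X_pow N).mul (hF₀m.pow 2)
  refine ⟨P + X ^ N * F₀ ^ 2, ?_, ?_, ?_⟩
  · apply Monic.add_of_right hm
    apply degree_lt_degree
    rw [(monic_X_pow N).natDegree_mul (hF₀m.pow 2), natDegree_X_pow]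
    omega
  · simp [hP, hF₀']
  · intro n hn hunrn
    have hmem : n ∈ T := (hTmem n).2 ⟨hn, hunr n hunrn⟩
    have : aeval u (derivative (P + X ^ N * F₀ ^ 2)) = aeval u (derivative P) := by
      simp [derivative_mul, derivative_pow, hF₀']
    rw [this]
    intro hcon
    apply hbT
    simp only [Set.mem_iUnion]
    exact ⟨n, hmem, hcon⟩

end Groth.Agent.H26
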