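import Groth.Agent.H26.DiagField
import Mathlib.RingTheory.HopfAlgebra.Quotient
import Mathlib.RingTheory.Localization.Basic
import Mathlib.RingTheory.Ideal.Quotient.Basic
import Mathlib.RingTheory.Flat.FaithfullyFlat.Basic

/-!
# Closed subgroups of groups of multiplicative type over a field
-/

set_option autoImplicit false
universe u
open TensorProduct Coalgebra

namespace Groth.Agent.H26

/-- a module over a ring which is a field (as a proposition) is faithfully flat if nontrivial -/
theorem faithfullyFlat_of_isField {F : Type*} [CommRing F] (hF : IsField F) (V : Type*)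
    [AddCommGroup V] [Module F V] [Nontrivial V] : Module.FaithfullyFlat F V := by
  let _ : Field F := hF.toField
  exact (inferInstance : Module.FaithfullyFlat F V)

/-- group-like elements span any Hopf algebra isomorphic to a group algebra -/
theorem span_isGroupLikeElem_of_bialgEquiv {R' : Type*} [CommRing R'] {T : Type*} [CommRing T]
    [Bialgebra R' T] {M : Type*} [Monoid M] (e : T ≃ₐc[R'] MonoidAlgebra R' M) :
    Submodule.span R' {t : T | IsGroupLikeElem R' t} = ⊤ := by
  rw [eq_top_iff]
  intro t _
  have h1 : e t ∈ Submodule.span R' {a : MonoidAlgebra R' M | IsGroupLikeElem R' a} := by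
    rw [MonoidAlgebra.span_isGroupLikeElem]; trivial
  have h2 : ∀ y ∈ Submodule.span R' {a : MonoidAlgebra R' M | IsGroupLikeElem R' a},
      e.symm y ∈ Submodule.span R' {t : T | IsGroupLikeElem R' t} := by
    intro y hy
    induction hy using Submodule.span_induction with
    | mem g hg => exact Submodule.subset_span (hg.map e.symm)
    | zero => rw [map_zero]; exact Submodule.zero_mem _
    | add x y _ _ hx hy => rw [map_add]; exact Submodule.add_mem _ hx hy
    | smul r x _ hx => rw [map_smul]; exact Submodule.smul_mem _ _ hx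
  have := h2 _ h1
  rwa [e.symm_apply_apply] at this

/-- S5244: over a field, a closed subgroup of a group of multiplicative type is of multiplicative
type -/
theorem quotient_isMultType_of_field (k : Type u) [Field k] (A : Type u) [CommRing A]
    [HopfAlgebra k A] (h : SGA3b.IsMultType k A) (J : Ideal A) [J.IsHopfIdeal k] :
    SGA3b.IsMultType k (A ⧸ J) := by
  obtain ⟨s, hs, hloc⟩ := h
  obtain ⟨f, hfs, hf0⟩ : ∃ f ∈ s, f ≠ 0 := by
    by_contra hcon
    push Not at hcon
    have : Ideal.span s = ⊥ := by
      rw [Ideal.span_eq_bot]; exact hcon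
    rw [this] at hs
    exact bot_ne_top hs
  suffices key : SGA3b.IsMultTypeConst (Localization.Away f)
      (Localization.Away f ⊗[k] (A ⧸ J)) by
    refine ⟨{f}, Ideal.span_singleton_eq_top.mpr (isUnit_iff_ne_zero.mpr hf0), ?_⟩
    intro g hg
    obtain rfl := Set.mem_singleton_iff.mp hg
    exact key
  obtain ⟨R', hR', hAlg, hFF, M, hM, ⟨e⟩⟩ := hloc f hfs
  have hkf : IsField (Localization.Away f) := by
    have hbij := Field.localization_map_bijective (K := k) (Kₘ := Localization.Away f)
      (M := Submonoid.powers f) (by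
        rintro ⟨n, hn⟩
        exact pow_ne_zero n hf0 hn)
    exact (RingEquiv.ofBijective (algebraMap k (Localization.Away f)) hbij).symm.toMulEquiv.isField
      (Field.toIsField k)
  have hkfnt : Nontrivial (Localization.Away f) := hkf.nontrivial
  have hR'nt : Nontrivial R' := by
    by_contra hcon
    rw [not_nontrivial_iff_subsingleton] at hcon
    obtain ⟨m, hm⟩ := Ideal.exists_maximal (Localization.Away f)
    exact hFF.submodule_ne_top hm (Subsingleton.elim _ _)
  obtain ⟨𝔪, h𝔪⟩ := Ideal.exists_maximal R'
  let _ : Field (R' ⧸ 𝔪) := Ideal.Quotient.field 𝔪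
  refine ⟨R' ⧸ 𝔪, inferInstance, inferInstance, faithfullyFlat_of_isField hkf _, ?_⟩
  let _ : Algebra k R' :=
    ((algebraMap (Localization.Away f) R').comp (algebraMap k (Localization.Away f))).toAlgebra
  have : IsScalarTower k (Localization.Away f) R' := IsScalarTower.of_algebraMap_eq (fun _ => rfl)
  -- the coalgebra map `A → H`
  let π : A →ₗc[k] A ⧸ J := (Bialgebra.Quotient.mkBialgHom (R := k) J : A →ₐc[k] A ⧸ J)
  have hπ := isCoalgMapOver_of_coalgHom (R := k) π
  have h₁ := isCoalgMapOver_inc (R := k) (Localization.Away f) (A ⧸ J)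
  have h₂ := isCoalgMapOver_inc (R := Localization.Away f) (R' ⧸ 𝔪)
    (Localization.Away f ⊗[k] (A ⧸ J))
  have hθ₀ := h₂.comp (h₁.comp hπ)
  have hΘ₀ := hθ₀.liftBaseChange (S := Localization.Away f)
  have hΘ := hΘ₀.liftBaseChange (S := R')
  refine isDiag_of_coalgMap (R' ⧸ 𝔪) _ (span_isGroupLikeElem_of_bialgEquiv e) _ hΘ ?_
  -- spanning
  rw [eq_top_iff]
  rintro x -
  induction x using TensorProduct.induction_on with
  | zero => exact Submodule.zero_mem _
  | add x y hx hy => exact Submodule.add_mem _ hx hy
  | tmul κ y =>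
    have h1 : κ ⊗ₜ[Localization.Away f] y = κ • ((1 : R' ⧸ 𝔪) ⊗ₜ[Localization.Away f] y) := by
      rw [TensorProduct.smul_tmul', smul_eq_mul, mul_one]
    rw [h1]
    clear h1
    apply Submodule.smul_mem
    induction y using TensorProduct.induction_on with
    | zero => rw [tmul_zero]; exact Submodule.zero_mem _
    | add x y hx hy => rw [tmul_add]; exact Submodule.add_mem _ hx hy
    | tmul c a =>
      obtain ⟨a, rfl⟩ := Ideal.Quotient.mk_surjective a
      have h2 : (1 : R' ⧸ 𝔪) ⊗ₜ[Localization.Away f] (c ⊗ₜ[k] (Ideal.Quotient.mk J a)) =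
          (algebraMap (Localization.Away f) (R' ⧸ 𝔪) c) •
            ((1 : R' ⧸ 𝔪) ⊗ₜ[Localization.Away f]
              ((1 : Localization.Away f) ⊗ₜ[k] (Ideal.Quotient.mk J a))) := by
        rw [algebraMap_smul, ← TensorProduct.tmul_smul, TensorProduct.smul_tmul', smul_eq_mul,
          mul_one]
      rw [h2]
      apply Submodule.smul_mem
      apply Submodule.subset_span
      refine ⟨(1 : R') ⊗ₜ ((1 : Localization.Away f) ⊗ₜ a), ?_⟩
      simp [π]

end Groth.Agent.H26
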