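import Groth.Prelude.Def_SGA3b
import Groth.Agent.H26.DiagRigid
import Groth.Agent.H26.AdicSepDiag

/-!
# Rigidity of homomorphisms from groups of multiplicative type (nilpotent base change)
-/

set_option autoImplicit false
universe u
open TensorProduct Coalgebra

namespace Groth.Agent.H26

/-- For `A` of multiplicative type over `R`, the coalgebra maps `L : A → R'[M]` (over varying
`R`-algebras `R'`) with `L 1 = 1` are jointly injective. -/
theorem eq_zero_of_isMultType (R : Type u) [CommRing R] (A : Type u) [CommRing A] [HopfAlgebra R A]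
    (hH : SGA3b.IsMultType R A) (a : A)
    (h : ∀ (R' : Type u) [CommRing R'] [Algebra R R'] (M : Type u) [CommGroup M]
      (L : A →ₗ[R] MonoidAlgebra R' M), IsCoalgMapOver R' L → L 1 = 1 → L a = 0) : a = 0 := by
  obtain ⟨s, hs, hloc⟩ := hH
  apply Module.eq_zero_of_isLocalized_span s hs (fun f => Localization.Away f.1 ⊗[R] A)
    (fun f => TensorProduct.mk R (Localization.Away f.1) A 1)
  intro f
  obtain ⟨R', hR', hAlg, hFF, M, hM, ⟨e⟩⟩ := hloc f.1 f.2
  apply Module.FaithfullyFlat.tensorProduct_mk_injective (A := Localization.Away f.1) (B := R')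
    (Localization.Away f.1 ⊗[R] A)
  rw [map_zero]
  apply e.injective
  rw [map_zero]
  let _ : Algebra R R' :=
    ((algebraMap (Localization.Away f.1) R').comp (algebraMap R (Localization.Away f.1))).toAlgebra
  have : IsScalarTower R (Localization.Away f.1) R' := IsScalarTower.of_algebraMap_eq (fun _ => rfl)
  let ι₁ : A →ₗ[R] Localization.Away f.1 ⊗[R] A := TensorProduct.mk R (Localization.Away f.1) A 1
  let ι₂ : (Localization.Away f.1 ⊗[R] A) →ₗ[Localization.Away f.1]
      R' ⊗[Localization.Away f.1] (Localization.Away f.1 ⊗[R] A) :=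
    TensorProduct.mk (Localization.Away f.1) R' _ 1
  have h₂ : IsCoalgMapOver (Localization.Away f.1) ι₁ := isCoalgMapOver_inc _ A
  have h₃ : IsCoalgMapOver R' ι₂ := isCoalgMapOver_inc R' _
  let eL : (R' ⊗[Localization.Away f.1] (Localization.Away f.1 ⊗[R] A)) →ₗc[R']
      MonoidAlgebra R' M := e.toCoalgEquiv.toCoalgHom
  have h₄ := isCoalgMapOver_of_coalgHom (R := R') eL
  have h₃₂ := h₃.comp h₂
  have h₄₃₂ := h₄.comp h₃₂
  have := h _ _ _ h₄₃₂ (by
    change e ((1 : R') ⊗ₜ ((1 : Localization.Away f.1) ⊗ₜ (1 : A))) = 1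
    rw [← Algebra.TensorProduct.one_def, ← Algebra.TensorProduct.one_def]
    exact map_one e)
  exact this

lemma map_algebraMap_of_map_one {R : Type*} [CommRing R] {A : Type*} [CommRing A] [Algebra R A]
    {R' : Type*} [CommRing R'] [Algebra R R'] {M : Type*} [Monoid M]
    (L : A →ₗ[R] MonoidAlgebra R' M) (hL1 : L 1 = 1) (r : R) :
    L (algebraMap R A r) = MonoidAlgebra.single 1 (algebraMap R R' r) := by
  rw [Algebra.algebraMap_eq_smul_one, map_smul, hL1, MonoidAlgebra.one_def,
    MonoidAlgebra.smul_single, Algebra.algebraMap_eq_smul_one]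

/-- S5240: a homomorphism from a group of multiplicative type which is trivial modulo a nilpotent
ideal is trivial -/
theorem bialgHom_eq_trivial_of_mod_nilpotent (R : Type u) [CommRing R] (I : Ideal R)
    (hI : IsNilpotent I) (A : Type u) [CommRing A] [HopfAlgebra R A] (hH : SGA3b.IsMultType R A)
    (C : Type u) [CommRing C] [HopfAlgebra R C] (φ : C →ₐc[R] A)
    (h0 : ∀ c : C, (1 : R ⧸ I) ⊗ₜ[R] (φ c) =
      (1 : R ⧸ I) ⊗ₜ[R] (algebraMap R A (Coalgebra.counit c))) (c : C) :
    φ c = algebraMap R A (Coalgebra.counit c) := by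
  have h0' : ∀ c : C, φ c - algebraMap R A (Coalgebra.counit c) ∈ (I • ⊤ : Submodule R A) := by
    intro c
    apply mem_smul_top_of_one_tmul_eq_zero
    rw [TensorProduct.tmul_sub, h0 c, sub_self]
  rw [← sub_eq_zero]
  apply eq_zero_of_isMultType R A hH
  intro R' _ _ M _ L hL hL1
  have hφ := isCoalgMapOver_of_coalgHom (R := R) (φ : C →ₗc[R] A)
  have hθ := hL.comp hφ
  have key := coalgMap_eq_trivial I hI _ hθ (by
    intro c'
    have := map_mem_smul_top I L (h0' c')
    rw [map_sub, map_algebraMap_of_map_one L hL1] at this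
    exact this) c
  rw [map_sub, sub_eq_zero, map_algebraMap_of_map_one L hL1]
  exact key

/-- S5241: two homomorphisms from a group of multiplicative type to a commutative group which
agree modulo a nilpotent ideal are equal -/
theorem bialgHom_eq_of_mod_nilpotent (R : Type u) [CommRing R] (I : Ideal R)
    (hI : IsNilpotent I) (A : Type u) [CommRing A] [HopfAlgebra R A] (hH : SGA3b.IsMultType R A)
    (C : Type u) [CommRing C] [HopfAlgebra R C] [Coalgebra.IsCocomm R C] (φ ψ : C →ₐc[R] A)
    (h0 : ∀ c : C, (1 : R ⧸ I) ⊗ₜ[R] (φ c) = (1 : R ⧸ I) ⊗ₜ[R] (ψ c)) :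
    φ = ψ := by
  have h0' : ∀ c : C, φ c - ψ c ∈ (I • ⊤ : Submodule R A) := by
    intro c
    apply mem_smul_top_of_one_tmul_eq_zero
    rw [TensorProduct.tmul_sub, h0 c, sub_self]
  apply DFunLike.ext
  intro c
  rw [← sub_eq_zero]
  apply eq_zero_of_isMultType R A hH
  intro R' _ _ M _ L hL hL1
  have hφ := isCoalgMapOver_of_coalgHom (R := R) (φ : C →ₗc[R] A)
  have hψ := isCoalgMapOver_of_coalgHom (R := R) (ψ : C →ₗc[R] A)
  have key := coalgMap_eq_of_sub_mem I hI _ _ (hL.comp hφ) (hL.comp hψ) (by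
    intro c'
    have := map_mem_smul_top I L (h0' c')
    rw [map_sub] at this
    exact this) c
  rw [map_sub, sub_eq_zero]
  exact key

end Groth.Agent.H26
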