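import Mathlib
import Groth.Prelude.Def_EGA4b

/-!
# Polynomial rings over normal rings are normal
-/

set_option autoImplicit false
set_option linter.style.haveILetI false
set_option linter.unusedSectionVars false
universe u

open Polynomial

namespace Groth.Agent.H26.NormalPoly

/-- If `S = M⁻¹R` is an integrally closed domain and `P` is a prime of `R` disjoint from `M`, then
`R_P` is an integrally closed domain. -/
theorem normal_atPrime_of_isLocalization_le {R : Type u} [CommRing R] (M : Submonoid R)
    (S : Type u) [CommRing S] [Algebra R S] [IsLocalization M S] [IsDomain S]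
    [IsIntegrallyClosed S] (P : Ideal R) [hP : P.IsPrime] (hle : M ≤ P.primeCompl) :
    IsDomain (Localization.AtPrime P) ∧ IsIntegrallyClosed (Localization.AtPrime P) := by
  letI := IsLocalization.localizationAlgebraOfSubmonoidLe S (Localization.AtPrime P) M
    P.primeCompl hle
  haveI := IsLocalization.localization_isScalarTower_of_submonoid_le S (Localization.AtPrime P) M
    P.primeCompl hle
  haveI hloc := IsLocalization.isLocalization_of_submonoid_le S (Localization.AtPrime P) M
    P.primeCompl hle
  have hnzd : P.primeCompl.map (algebraMap R S) ≤ nonZeroDivisors S := by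
    rintro _ ⟨s, hs, rfl⟩
    rw [mem_nonZeroDivisors_iff_ne_zero]
    intro h0
    obtain ⟨u, hu⟩ := (IsLocalization.map_eq_zero_iff M _ s).mp h0
    have hmem : (u : R) * s ∈ P := by rw [hu]; exact P.zero_mem
    rcases hP.mem_or_mem hmem with h1 | h1
    · exact hle u.2 h1
    · exact hs h1
  exact ⟨IsLocalization.isDomain_of_le_nonZeroDivisors _ hnzd,
    isIntegrallyClosed_of_isLocalization _ _ hnzd⟩

attribute [local instance] Polynomial.algebra in
/-- The polynomial ring over a normal ring is a normal ring. -/
theorem isNormalRing_polynomial (R : Type u) [CommRing R] (hR : EGA4.IsNormalRing R) :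
    EGA4.IsNormalRing R[X] := by
  intro P hP
  set p : Ideal R := P.comap (C : R →+* R[X]) with hp
  haveI hpp : p.IsPrime := Ideal.comap_isPrime _ _
  obtain ⟨h1, h2⟩ := hR p
  haveI : IsLocalization (p.primeCompl.map (C : R →+* R[X])) (Localization.AtPrime p)[X] :=
    Polynomial.isLocalization p.primeCompl (Localization.AtPrime p)
  refine normal_atPrime_of_isLocalization_le (p.primeCompl.map (C : R →+* R[X]))
    (Localization.AtPrime p)[X] P ?_
  rintro _ ⟨s, hs, rfl⟩ hmem
  exact hs hmem

end Groth.Agent.H26.NormalPoly
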