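import Groth.Agent.H44.OmegaD
import Groth.Prelude.Def_OmAff

/-!
# The comparison map `Ω[B⁄A] → Γ(Spec B, Ω_{Spec B/Spec A})` is bijective (helper26)

Built on helper44's `exists_omega_kaehler_equiv`.
-/

set_option autoImplicit false
set_option linter.style.haveILetI false
universe u
open CategoryTheory AlgebraicGeometry TopologicalSpace Opposite

namespace Groth.Agent.H26.OmAffSpec

variable (A B : Type u) [CommRing A] [CommRing B] [Algebra A B]

set_option maxRecDepth 8000 in
theorem toSpec_bijective : Function.Bijective (OmAff.toSpec A B) := by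
  let f : Spec (CommRingCat.of B) ⟶ Spec (CommRingCat.of A) :=
    Spec.map (CommRingCat.ofHom (algebraMap A B))
  have e : (⊤ : (Spec (CommRingCat.of B)).Opens) ≤ f ⁻¹ᵁ ⊤ := le_top
  obtain ⟨Φ, hΦ⟩ := Groth.Agent.H44.exists_omega_kaehler_equiv f
    (isAffineOpen_top (Spec (CommRingCat.of B))) (isAffineOpen_top (Spec (CommRingCat.of A))) e
  letI algR : Algebra Γ(Spec (CommRingCat.of A), ⊤) Γ(Spec (CommRingCat.of B), ⊤) :=
    (f.appLE ⊤ ⊤ e).hom.toAlgebra
  let σB : Γ(Spec (CommRingCat.of B), ⊤) →+* B := (Scheme.ΓSpecIso (CommRingCat.of B)).hom.hom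
  let σA : Γ(Spec (CommRingCat.of A), ⊤) →+* A := (Scheme.ΓSpecIso (CommRingCat.of A)).hom.hom
  have hσB : ∀ b : B, σB (OmAff.toΓ B b) = b := fun b =>
    congr($((Scheme.ΓSpecIso (CommRingCat.of B)).inv_hom_id) b)
  have hσB' : ∀ r : Γ(Spec (CommRingCat.of B), ⊤), OmAff.toΓ B (σB r) = r := fun r =>
    congr($((Scheme.ΓSpecIso (CommRingCat.of B)).hom_inv_id) r)
  have hσA' : ∀ r : Γ(Spec (CommRingCat.of A), ⊤), OmAff.toΓ A (σA r) = r := fun r =>
    congr($((Scheme.ΓSpecIso (CommRingCat.of A)).hom_inv_id) r)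
  have halg : ∀ a' : Γ(Spec (CommRingCat.of A), ⊤),
      algebraMap Γ(Spec (CommRingCat.of A), ⊤) Γ(Spec (CommRingCat.of B), ⊤) a' = f.appTop a' := by
    intro a'
    rfl
  have hcompat : ∀ a' : Γ(Spec (CommRingCat.of A), ⊤),
      σB (algebraMap Γ(Spec (CommRingCat.of A), ⊤) Γ(Spec (CommRingCat.of B), ⊤) a') =
        algebraMap A B (σA a') := by
    intro a'
    rw [halg]
    conv_lhs => rw [← hσA' a']
    rw [OmAff.appTop_toΓ, hσB]
  -- module structures on `Ω[B⁄A]` over the rings of global sections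
  letI modR : Module Γ(Spec (CommRingCat.of B), ⊤) Ω[B⁄A] := Module.compHom _ σB
  letI modA' : Module Γ(Spec (CommRingCat.of A), ⊤) Ω[B⁄A] :=
    Module.compHom _ (σB.comp (algebraMap Γ(Spec (CommRingCat.of A), ⊤)
      Γ(Spec (CommRingCat.of B), ⊤)))
  have hsmulR : ∀ (r : Γ(Spec (CommRingCat.of B), ⊤)) (m : Ω[B⁄A]), r • m = σB r • m :=
    fun _ _ => rfl
  have hsmulA : ∀ (a' : Γ(Spec (CommRingCat.of A), ⊤)) (m : Ω[B⁄A]),
      a' • m = σB (algebraMap Γ(Spec (CommRingCat.of A), ⊤)
        Γ(Spec (CommRingCat.of B), ⊤) a') • m := fun _ _ => rfl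
  haveI : IsScalarTower Γ(Spec (CommRingCat.of A), ⊤) Γ(Spec (CommRingCat.of B), ⊤) Ω[B⁄A] :=
    ⟨fun a' r m => by
      rw [hsmulA, hsmulR, hsmulR, Algebra.smul_def, map_mul, mul_smul]⟩
  let der : Derivation Γ(Spec (CommRingCat.of A), ⊤) Γ(Spec (CommRingCat.of B), ⊤) Ω[B⁄A] :=
    { toFun := fun r => KaehlerDifferential.D A B (σB r)
      map_add' := fun r r' => by rw [map_add, map_add]
      map_smul' := fun a' r => by
        rw [RingHom.id_apply, hsmulA, Algebra.smul_def, map_mul, hcompat, Derivation.leibniz,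
          Derivation.map_algebraMap, smul_zero, add_zero]
      map_one_eq_zero' := by
        change KaehlerDifferential.D A B (σB 1) = 0
        rw [map_one, Derivation.map_one_eq_zero]
      leibniz' := fun r r' => by
        change KaehlerDifferential.D A B (σB (r * r')) = _
        rw [map_mul, Derivation.leibniz, hsmulR, hsmulR]
        rfl }
  let Θ : Ω[Γ(Spec (CommRingCat.of B), ⊤)⁄Γ(Spec (CommRingCat.of A), ⊤)] →ₗ[Γ(Spec (CommRingCat.of B), ⊤)]
      Ω[B⁄A] := der.liftKaehlerDifferential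
  have hΘ : ∀ r : Γ(Spec (CommRingCat.of B), ⊤),
      Θ (KaehlerDifferential.D Γ(Spec (CommRingCat.of A), ⊤) Γ(Spec (CommRingCat.of B), ⊤) r) =
        KaehlerDifferential.D A B (σB r) := fun r => der.liftKaehlerDifferential_comp_D r
  constructor
  · -- injectivity: `Θ ∘ Φ ∘ toSpec = id`
    have key : ∀ x : Ω[B⁄A], Θ (Φ (OmAff.toSpec A B x)) = x := by
      intro x
      have hx : x ∈ Submodule.span B (Set.range (KaehlerDifferential.D A B)) := by
        rw [KaehlerDifferential.span_range_derivation]; trivial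
      induction hx using Submodule.span_induction with
      | mem y hy =>
        obtain ⟨b, rfl⟩ := hy
        rw [OmAff.toSpec_D, hΦ, hΘ, hσB]
      | zero => rw [map_zero, map_zero, map_zero]
      | add y z _ _ hy hz => rw [map_add, map_add, map_add, hy, hz]
      | smul b y _ hy =>
        rw [LinearMap.map_smulₛₗ, map_smul, map_smul, hy, hsmulR, hσB]
    intro x y hxy
    rw [← key x, ← key y, hxy]
  · -- surjectivity
    have key : ∀ w : Ω[Γ(Spec (CommRingCat.of B), ⊤)⁄Γ(Spec (CommRingCat.of A), ⊤)],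
        ∃ x : Ω[B⁄A], Φ (OmAff.toSpec A B x) = w := by
      intro w
      have hw : w ∈ Submodule.span Γ(Spec (CommRingCat.of B), ⊤)
          (Set.range (KaehlerDifferential.D Γ(Spec (CommRingCat.of A), ⊤)
            Γ(Spec (CommRingCat.of B), ⊤))) := by
        rw [KaehlerDifferential.span_range_derivation]; trivial
      induction hw using Submodule.span_induction with
      | mem y hy =>
        obtain ⟨r, rfl⟩ := hy
        refine ⟨KaehlerDifferential.D A B (σB r), ?_⟩
        rw [OmAff.toSpec_D, hσB', hΦ]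
      | zero => exact ⟨0, by rw [map_zero, map_zero]⟩
      | add y z _ _ hy hz =>
        obtain ⟨x1, h1⟩ := hy
        obtain ⟨x2, h2⟩ := hz
        exact ⟨x1 + x2, by rw [map_add, map_add, h1, h2]⟩
      | smul r y _ hy =>
        obtain ⟨x1, h1⟩ := hy
        refine ⟨σB r • x1, ?_⟩
        rw [LinearMap.map_smulₛₗ, hσB', map_smul, h1]
    intro m
    obtain ⟨x, hx⟩ := key (Φ m)
    exact ⟨x, Φ.injective hx⟩

end Groth.Agent.H26.OmAffSpec
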