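import Mathlib
import Groth.Prelude.Def_CAlg
import Groth.Prelude.Def_Disc
import Groth.Agent.H26.FrobField

/-!
# `Hom_A(B, A)` for finite free `B/A` with Gorenstein closed fibre (local case)
-/

set_option autoImplicit false
set_option linter.style.haveILetI false
set_option linter.unusedSectionVars false
universe u

open TensorProduct Module

namespace Groth.Agent.H26.OmegaGor

open Groth.Agent.H26.ArtSocle Groth.Agent.H26

section General

variable {A B : Type u} [CommRing A] [CommRing B] [Algebra A B]

/-- `b ↦ φ(b ·)` -/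
noncomputable def toDualA (φ : B →ₗ[A] A) : B →ₗ[A] Module.Dual A B :=
  (LinearMap.mul A B).compr₂ φ

@[simp] theorem toDualA_apply (φ : B →ₗ[A] A) (b x : B) : toDualA φ b x = φ (b * x) := rfl

theorem toSpanSingleton_toLinearMap (φ : B →ₗ[A] A) (b : B) :
    (LinearMap.toSpanSingleton B (Disc.Omega A B) ⟨φ⟩ b).toLinearMap = toDualA φ b := by
  ext x
  simp [LinearMap.toSpanSingleton_apply]

/-- a Frobenius form gives a trivialization of `Ω` -/
noncomputable def omegaEquivOfBijective (φ : B →ₗ[A] A) (h : Function.Bijective (toDualA φ)) :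
    B ≃ₗ[B] Disc.Omega A B :=
  LinearEquiv.ofBijective (LinearMap.toSpanSingleton B (Disc.Omega A B) ⟨φ⟩) (by
    constructor
    · intro b b' hbb
      apply h.1
      rw [← toSpanSingleton_toLinearMap, ← toSpanSingleton_toLinearMap, hbb]
    · intro ω
      obtain ⟨b, hb⟩ := h.2 ω.toLinearMap
      refine ⟨b, ?_⟩
      apply Disc.Omega.ext
      rw [toSpanSingleton_toLinearMap, hb])

theorem omegaEquivOfBijective_apply (φ : B →ₗ[A] A) (h : Function.Bijective (toDualA φ)) (b : B) :
    omegaEquivOfBijective φ h b = b • (⟨φ⟩ : Disc.Omega A B) := rfl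

theorem bijective_toDualA_of_equiv (e : B ≃ₗ[B] Disc.Omega A B) :
    Function.Bijective (toDualA (e 1).toLinearMap) := by
  have key : ∀ b : B, toDualA (e 1).toLinearMap b = (e b).toLinearMap := by
    intro b
    have : e b = b • e 1 := by rw [← map_smul, smul_eq_mul, mul_one]
    rw [this]
    ext x
    simp
  constructor
  · intro b b' hbb
    rw [key, key] at hbb
    exact e.injective (Disc.Omega.ext hbb)
  · intro ψ
    refine ⟨e.symm ⟨ψ⟩, ?_⟩
    rw [key, LinearEquiv.apply_symm_apply]

end General

/-- **Field case.** -/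
theorem field_case (κ C : Type u) [Field κ] [CommRing C] [Algebra κ C] [Module.Finite κ C] :
    LocCoh.IsGorensteinRing C ↔ Nonempty (C ≃ₗ[C] Disc.Omega κ C) := by
  haveI : IsArtinianRing C := IsArtinianRing.of_finite κ C
  constructor
  · intro hG
    obtain ⟨φ, hφ⟩ := FrobField.exists_injective_toDual (κ := κ)
      ((isGorensteinRing_iff_of_isArtinianRing).mp hG)
    exact ⟨omegaEquivOfBijective φ (FrobField.toDual_bijective_of_injective hφ)⟩
  · rintro ⟨e⟩
    have hb := bijective_toDualA_of_equiv e
    rw [isGorensteinRing_iff_of_isArtinianRing]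
    intro m hm
    haveI := hm
    obtain ⟨s, hs, hms⟩ := exists_ne_zero_forall_mul_eq_zero m
    exact ⟨s, FrobField.isSocGenAt_of_injective (φ := (e 1).toLinearMap) hb.1 m hs hms⟩

section Local

variable {A B : Type u} [CommRing A] [IsLocalRing A] [CommRing B] [Algebra A B]
  [Module.Finite A B] [Module.Free A B]

open IsLocalRing

/-- **Local case**: if the closed fibre is Gorenstein there is a Frobenius form. -/
theorem exists_bijective_toDualA_of_local
    (h : LocCoh.IsGorensteinRing (ResidueField A ⊗[A] B)) :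
    ∃ φ : B →ₗ[A] A, Function.Bijective (toDualA φ) := by
  classical
  set κ := ResidueField A with hκ
  set C := κ ⊗[A] B with hC
  obtain ⟨e⟩ := (field_case κ C).mp h
  set φb : C →ₗ[κ] κ := (e 1).toLinearMap with hφb
  have hb : Function.Bijective (toDualA φb) := bijective_toDualA_of_equiv e
  have ibc : IsBaseChange κ (TensorProduct.mk A κ B 1) := TensorProduct.isBaseChange A B κ
  set j : B →ₗ[A] C := TensorProduct.mk A κ B 1 with hj
  have hjdef : ∀ b : B, j b = (1 : κ) ⊗ₜ[A] b := fun b => rfl
  have hjmul : ∀ b x : B, j b * j x = j (b * x) := by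
    intro b x
    rw [hjdef, hjdef, hjdef, Algebra.TensorProduct.tmul_mul_tmul, mul_one]
  have hjsurj : Function.Surjective j := by
    intro c
    induction c using TensorProduct.induction_on with
    | zero => exact ⟨0, map_zero _⟩
    | tmul k b =>
      obtain ⟨a, rfl⟩ := IsLocalRing.residue_surjective k
      refine ⟨a • b, ?_⟩
      rw [hjdef, TensorProduct.tmul_smul, TensorProduct.smul_tmul']
      congr 1
      rw [Algebra.smul_def, mul_one]; rfl
    | add x y hx hy =>
      obtain ⟨bx, rfl⟩ := hx
      obtain ⟨by', rfl⟩ := hy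
      exact ⟨bx + by', map_add _ _ _⟩
  set D : Module.Dual A B →ₗ[A] Module.Dual κ C := ibc.toDual with hD
  have hDbc : IsBaseChange κ D := ibc.dual
  have hDsurj : Function.Surjective D := by
    intro ψ
    induction ψ using hDbc.inductionOn with
    | zero => exact ⟨0, map_zero _⟩
    | tmul f => exact ⟨f, rfl⟩
    | smul k ψ hψ =>
      obtain ⟨f, rfl⟩ := hψ
      obtain ⟨a, rfl⟩ := IsLocalRing.residue_surjective k
      refine ⟨a • f, ?_⟩
      rw [map_smul]
      exact (algebraMap_smul κ a (D f)).symm
    | add x y hx hy =>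
      obtain ⟨fx, rfl⟩ := hx
      obtain ⟨fy, rfl⟩ := hy
      exact ⟨fx + fy, map_add _ _ _⟩
  obtain ⟨φ, hφ⟩ := hDsurj φb
  refine ⟨φ, ?_⟩
  -- compatibility
  have hcomp : ∀ b : B, toDualA φb (j b) = D (toDualA φ b) := by
    intro b
    apply ibc.algHom_ext
    intro x
    rw [toDualA_apply]
    change φb (j b * j x) = D (toDualA φ b) (j x)
    rw [hjmul, ← hφ, hD, ibc.toDual_comp_apply, ibc.toDual_comp_apply, toDualA_apply]
  -- surjectivity by Nakayama
  have hsurj : Function.Surjective (toDualA φ) := by
    rw [← LinearMap.range_eq_top, ← IsLocalRing.map_tensorProduct_mk_eq_top, eq_top_iff]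
    intro z _
    obtain ⟨c, hc⟩ := hb.2 (hDbc.equiv z)
    obtain ⟨b, rfl⟩ := hjsurj c
    refine ⟨toDualA φ b, ⟨b, rfl⟩, ?_⟩
    apply hDbc.equiv.injective
    rw [← hc, hcomp, TensorProduct.mk_apply, hDbc.equiv_tmul, one_smul]
  refine ⟨?_, hsurj⟩
  let bas := Module.Free.chooseBasis A B
  exact OrzechProperty.injective_of_surjective_of_injective bas.toDualEquiv.toLinearMap
    (toDualA φ) bas.toDualEquiv.injective hsurj

end Local

end Groth.Agent.H26.OmegaGor
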