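import Mathlib
import Groth.Prelude.Def_CAlg
import Groth.Prelude.Def_Disc
import Groth.Agent.H26.OmegaGor
import Groth.Agent.H26.InvLocal
import Groth.Agent.H26.GorRegHom
import Groth.Agent.H73.DiffBCOmega

/-!
# Finite free `B/A`: Gorenstein fibres iff `Hom_A(B, A)` invertible
-/

set_option autoImplicit false
set_option linter.style.haveILetI false
set_option linter.unusedSectionVars false
universe u

open TensorProduct Module

namespace Groth.Agent.H26.OmegaGorGlobal

open Groth.Agent.H26.OmegaGor Groth.Agent.H73.DiffBCOmega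

attribute [local instance] iA iB iA2 tA tB tAA' tAB
attribute [local instance] Algebra.TensorProduct.rightAlgebra

variable {A B : Type u} [CommRing A] [CommRing B] [Algebra A B] [IsNoetherianRing A]
  [Module.Finite A B] [Module.Free A B]

/-- invertible `Ω` gives Gorenstein fibres -/
theorem gorFibre_of_invertible [Module.Invertible B (Disc.Omega A B)] (p : Ideal A) [p.IsPrime] :
    LocCoh.IsGorensteinRing (p.Fiber B) := by
  set κ := p.ResidueField with hκ
  set C := p.Fiber B with hC
  have hB : Algebra.IsPushout A κ B C := inferInstance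
  have ebc := (isBaseChange_bcLin hB).equiv
  haveI : Module.Invertible C (Disc.Omega κ C) := Module.Invertible.congr ebc
  haveI : IsArtinianRing C := IsArtinianRing.of_finite κ C
  haveI : Finite (MaximalSpectrum C) := inferInstance
  haveI : Module.Free C (Disc.Omega κ C) := inferInstance
  obtain ⟨e⟩ := Module.Invertible.free_iff_linearEquiv.mp (inferInstance : Module.Free C (Disc.Omega κ C))
  exact (field_case κ C).mpr ⟨e.symm⟩

/-- Gorenstein fibres give invertible `Ω` -/
theorem invertible_of_gorFibres
    (h : ∀ (p : Ideal A) [p.IsPrime], LocCoh.IsGorensteinRing (p.Fiber B)) :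
    Module.Invertible B (Disc.Omega A B) := by
  haveI : IsNoetherianRing B := IsNoetherianRing.of_finite A B
  haveI : Module.Finite B (Disc.Omega A B) := finite_omega
  haveI : Module.FinitePresentation B (Disc.Omega A B) := Module.finitePresentation_of_finite B _
  apply Groth.Agent.H26.InvLocal.invertible_of_localization_maximal
  intro q hq
  haveI : q.IsPrime := hq.isPrime
  set P : Ideal A := q.comap (algebraMap A B) with hP
  haveI : P.IsPrime := Ideal.comap_isPrime _ _
  set AP := Localization.AtPrime P with hAP
  set S := AP ⊗[A] B with hS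
  -- the closed fibre of `S/AP`
  have hGor : LocCoh.IsGorensteinRing (IsLocalRing.ResidueField AP ⊗[AP] S) := by
    let e : IsLocalRing.ResidueField AP ⊗[AP] S ≃ₐ[AP] P.Fiber B :=
      Algebra.TensorProduct.cancelBaseChange A AP AP (IsLocalRing.ResidueField AP) B
    exact Groth.Agent.H26.GorRegHom.isGorensteinRing_of_ringEquiv e.symm.toRingEquiv (h P)
  obtain ⟨φ, hφ⟩ := exists_bijective_toDualA_of_local (A := AP) (B := S) hGor
  have eS : S ≃ₗ[S] Disc.Omega AP S := omegaEquivOfBijective φ hφ
  have hB : Algebra.IsPushout A AP B S := inferInstance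
  have ebc : S ⊗[B] Disc.Omega A B ≃ₗ[S] Disc.Omega AP S := (isBaseChange_bcLin hB).equiv
  haveI : Module.Invertible S (S ⊗[B] Disc.Omega A B) :=
    Module.Invertible.congr (eS.trans ebc.symm)
  -- `B_q` as an `S`-algebra
  set Bq := Localization.AtPrime q with hBq
  haveI : IsLocalization (Algebra.algebraMapSubmonoid B P.primeCompl) S := inferInstance
  have hT : ∀ t : Algebra.algebraMapSubmonoid B P.primeCompl, IsUnit (algebraMap B Bq t) := by
    rintro ⟨_, a, ha, rfl⟩
    exact IsLocalization.map_units Bq (⟨algebraMap A B a, ha⟩ : q.primeCompl)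
  letI : Algebra S Bq := (IsLocalization.lift hT).toAlgebra
  haveI : IsScalarTower B S Bq := IsScalarTower.of_algebraMap_eq
    (fun b => (IsLocalization.lift_eq hT b).symm)
  have ec : Bq ⊗[S] (S ⊗[B] Disc.Omega A B) ≃ₗ[Bq] Bq ⊗[B] Disc.Omega A B :=
    AlgebraTensorModule.cancelBaseChange B S Bq Bq (Disc.Omega A B)
  exact Module.Invertible.congr ec

end Groth.Agent.H26.OmegaGorGlobal
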