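import Groth.Prelude.Def_Pi1X
import Mathlib.CategoryTheory.Galois.Basic
import Mathlib.CategoryTheory.Galois.Topology
import Mathlib.CategoryTheory.Galois.Decomposition
import Mathlib.CategoryTheory.Galois.Prorepresentability
import Mathlib.Topology.Algebra.Group.Basic
import Mathlib.CategoryTheory.Limits.Preserves.Finite

set_option autoImplicit false
set_option linter.unusedSectionVars false
set_option linter.unusedVariables false
universe u v w
open CategoryTheory PreGaloisCategory Limits

namespace Groth.Agent.H26.Pi1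

variable {C : Type u} [Category.{v} C] [GaloisCategory C]
  (F : C ⥤ FintypeCat.{w}) [FiberFunctor F]

/-- the fibre of the terminal object is a singleton -/
@[instance_reducible]
noncomputable def uniqueFiberTerminal (G : C ⥤ FintypeCat.{w})
    [PreservesLimit (Functor.empty.{0} C) G] : Unique (G.obj (⊤_ C)) := by
  have h1 : IsTerminal ((G ⋙ FintypeCat.incl).obj (⊤_ C)) :=
    IsTerminal.isTerminalObj (G ⋙ FintypeCat.incl) (⊤_ C) terminalIsTerminal
  exact Types.isTerminalEquivUnique _ h1

lemma map_injective_of_mono {X Y : C} (i : X ⟶ Y) [Mono i] : Function.Injective (F.map i) :=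
  ConcreteCategory.injective_of_mono_of_preservesPullback (F.map i)

/-- pointwise: σ fixes y iff σ fixes its image under a mono -/
lemma smul_eq_iff_of_mono {X Y : C} (i : X ⟶ Y) [Mono i] (σ : Aut F) (y : F.obj X) :
    σ • y = y ↔ σ • (F.map i y) = F.map i y := by
  constructor
  · intro h
    rw [mulAction_naturality, h]
  · intro h
    apply map_injective_of_mono F i
    rw [← mulAction_naturality, h]

/-- A connected object with a point fixed by all automorphisms of the fibre functor is terminal. -/
lemma isIso_terminal_from_of_fixed (Y : C) [IsConnected Y] (y : F.obj Y)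
    (h : ∀ σ : Aut F, σ • y = y) : IsIso (terminal.from Y) := by
  have hsub : ∀ z : F.obj Y, z = y := by
    intro z
    obtain ⟨σ, hσ⟩ := MulAction.exists_smul_eq (Aut F) y z
    rw [← hσ, h]
  let _ := uniqueFiberTerminal F
  have : IsIso (F.map (terminal.from Y)) := by
    rw [ConcreteCategory.isIso_iff_bijective]
    constructor
    · intro a b _
      rw [hsub a, hsub b]
    · intro t
      exact ⟨y, Subsingleton.elim _ _⟩
  exact isIso_of_reflects_iso _ F


section Whisker

variable {C' : Type u} [Category.{v} C'] [GaloisCategory C'] (H : C ⥤ C')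
  (F' : C' ⥤ FintypeCat.{w})

@[simp]
lemma autWhisker_smul (σ : Aut F') (X : C) (a : (H ⋙ F').obj X) :
    (Pi1X.autWhisker H F' σ) • a = (σ • (show F'.obj (H.obj X) from a) : F'.obj (H.obj X)) := rfl

variable [FiberFunctor F']

theorem range_le_stabilizer_iff (X : C) (a : (H ⋙ F').obj X) :
    (Pi1X.autWhisker H F').range ≤ MulAction.stabilizer (Aut (H ⋙ F')) a ↔
      ∃ s : ⊤_ C' ⟶ H.obj X, ∀ t : F'.obj (⊤_ C'), F'.map s t = a := by
  let _ := uniqueFiberTerminal F'
  constructor
  · intro h
    have hfix : ∀ σ : Aut F', σ • (show F'.obj (H.obj X) from a) = a := by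
      intro σ
      have := h ⟨σ, rfl⟩
      exact this
    obtain ⟨Y', i, y, hy, hconn, hmono⟩ := fiber_in_connected_component F' (H.obj X) a
    have hy' : ∀ σ : Aut F', σ • y = y := by
      intro σ
      rw [smul_eq_iff_of_mono F' i, hy]
      exact hfix σ
    have := isIso_terminal_from_of_fixed F' Y' y hy'
    refine ⟨inv (terminal.from Y') ≫ i, ?_⟩
    intro t
    have ht : t = F'.map (terminal.from Y') y := Subsingleton.elim _ _
    rw [ht, ← hy, ← FintypeCat.comp_apply, ← F'.map_comp, IsIso.hom_inv_id_assoc]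
  · rintro ⟨s, hs⟩ _ ⟨σ, rfl⟩
    rw [MulAction.mem_stabilizer_iff]
    have h1 := hs default
    change σ • (show F'.obj (H.obj X) from a) = a
    rw [← h1, mulAction_naturality]
    congr 1
    exact Subsingleton.elim _ _

end Whisker

section NormalClosure

variable {C : Type u} [Category.{v} C] [GaloisCategory C]
variable {C' : Type u} [Category.{v} C'] [GaloisCategory C'] (H : C ⥤ C')
  (F' : C' ⥤ FintypeCat.{w}) [FiberFunctor F'] [FiberFunctor (H ⋙ F')]

/-- every object all of whose fibre points are fixed is a finite coproduct of terminal objects -/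
lemma exists_iso_coprod_terminal_of_fixed (Z : C') (h : ∀ (σ : Aut F') (z : F'.obj Z), σ • z = z) :
    ∃ n : ℕ, Nonempty (Z ≅ ∐ fun _ : Fin n => ⊤_ C') := by
  obtain ⟨ι, hfin, f, e, hconn⟩ := has_decomp_connected_components' Z
  have hiso : ∀ i, IsIso (terminal.from (f i)) := by
    intro i
    have := hconn i
    obtain ⟨y⟩ := nonempty_fiber_of_isConnected F' (f i)
    have : Mono (Sigma.ι f i ≫ e.hom) := mono_comp _ _
    apply isIso_terminal_from_of_fixed F' (f i) y
    intro σ
    rw [smul_eq_iff_of_mono F' (Sigma.ι f i ≫ e.hom)]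
    exact h σ _
  have := Fintype.ofFinite ι
  let n := Fintype.card ι
  let eq : ι ≃ Fin n := Fintype.equivFin ι
  refine ⟨n, ⟨e.symm ≪≫ Sigma.whiskerEquiv eq (fun i => (asIso (terminal.from (f i))).symm)⟩⟩

theorem normalClosure_range_le_stabilizer_iff (X : C) [IsConnected X] (a : (H ⋙ F').obj X) :
    Subgroup.normalClosure ((Pi1X.autWhisker H F').range : Set (Aut (H ⋙ F'))) ≤
        MulAction.stabilizer (Aut (H ⋙ F')) a ↔
      ∃ n : ℕ, Nonempty (H.obj X ≅ ∐ fun _ : Fin n => ⊤_ C') := by
  constructor
  · intro h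
    apply exists_iso_coprod_terminal_of_fixed F'
    intro σ b
    obtain ⟨g, hg⟩ := MulAction.exists_smul_eq (Aut (H ⋙ F')) a (show (H ⋙ F').obj X from b)
    have h1 : g⁻¹ * (Pi1X.autWhisker H F' σ) * g ∈
        Subgroup.normalClosure ((Pi1X.autWhisker H F').range : Set (Aut (H ⋙ F'))) := by
      have h2 : Pi1X.autWhisker H F' σ ∈
          Subgroup.normalClosure ((Pi1X.autWhisker H F').range : Set (Aut (H ⋙ F'))) :=
        Subgroup.subset_normalClosure ⟨σ, rfl⟩
      have := (Subgroup.normalClosure_normal (s := ((Pi1X.autWhisker H F').range : Set (Aut (H ⋙ F'))))).conj_mem _ h2 g⁻¹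
      simpa using this
    have h3 := h h1
    rw [MulAction.mem_stabilizer_iff, mul_smul, mul_smul, hg, inv_smul_eq_iff, hg] at h3
    exact h3
  · rintro ⟨n, ⟨φ⟩⟩
    have hfix : ∀ (σ : Aut F') (b : F'.obj (H.obj X)), σ • b = b := by
      intro σ b
      obtain ⟨⟨j⟩, t, ht⟩ := FintypeCat.jointly_surjective _ _
        (isColimitOfPreserves F' (coproductIsCoproduct (fun _ : Fin n => ⊤_ C'))) (F'.map φ.hom b)
      have hb : b = F'.map (Sigma.ι (fun _ : Fin n => ⊤_ C') j ≫ φ.inv) t := by
        rw [F'.map_comp, FintypeCat.comp_apply]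
        have : F'.map (Sigma.ι (fun _ : Fin n => ⊤_ C') j) t = F'.map φ.hom b := ht
        rw [this, ← FintypeCat.comp_apply, ← F'.map_comp, Iso.hom_inv_id, F'.map_id]
        rfl
      have h1 : (Pi1X.autWhisker H F').range ≤
          MulAction.stabilizer (Aut (H ⋙ F')) (show (H ⋙ F').obj X from b) := by
        rw [range_le_stabilizer_iff]
        refine ⟨Sigma.ι (fun _ : Fin n => ⊤_ C') j ≫ φ.inv, ?_⟩
        intro t'
        let _ := uniqueFiberTerminal F'
        rw [hb]
        congr 1
        exact Subsingleton.elim _ _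
      exact h1 ⟨σ, rfl⟩
    let K := (MulAction.toPermHom (Aut (H ⋙ F')) ((H ⋙ F').obj X)).ker
    have hK : ((Pi1X.autWhisker H F').range : Set (Aut (H ⋙ F'))) ⊆ K := by
      rintro _ ⟨σ, rfl⟩
      change _ ∈ (MulAction.toPermHom (Aut (H ⋙ F')) ((H ⋙ F').obj X)).ker
      rw [MonoidHom.mem_ker]
      ext b
      exact hfix σ b
    refine (Subgroup.normalClosure_le_normal hK).trans ?_
    intro g hg
    rw [MulAction.mem_stabilizer_iff]
    have : MulAction.toPermHom (Aut (H ⋙ F')) ((H ⋙ F').obj X) g = 1 := hg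
    have := congrArg (fun p => p a) this
    exact this

end NormalClosure


section Hom

variable {C : Type u} [Category.{v} C] [GaloisCategory C]
  (F : C ⥤ FintypeCat.{w}) [FiberFunctor F]

lemma fiberBinaryProductEquiv_apply (X Y : C) (p : F.obj (X ⨯ Y)) :
    fiberBinaryProductEquiv F X Y p = (F.map prod.fst p, F.map prod.snd p) := by
  obtain ⟨⟨x, y⟩, rfl⟩ := (fiberBinaryProductEquiv F X Y).symm.surjective p
  rw [Equiv.apply_symm_apply, fiberBinaryProductEquiv_symm_fst_apply,
    fiberBinaryProductEquiv_symm_snd_apply]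

lemma fiber_prod_ext {X Y : C} (p p' : F.obj (X ⨯ Y))
    (h1 : F.map prod.fst p = F.map prod.fst p') (h2 : F.map prod.snd p = F.map prod.snd p') :
    p = p' := by
  apply (fiberBinaryProductEquiv F X Y).injective
  rw [fiberBinaryProductEquiv_apply, fiberBinaryProductEquiv_apply, h1, h2]

/-- If the stabilizer of a point `y` of a connected object `Y` is contained in the stabilizer of
a point `x` of `X`, there is a morphism `Y ⟶ X` sending `y` to `x`. -/
lemma exists_hom_of_stabilizer_le (Y X : C) [IsConnected Y] (y : F.obj Y) (x : F.obj X)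
    (h : MulAction.stabilizer (Aut F) y ≤ MulAction.stabilizer (Aut F) x) :
    ∃ q : Y ⟶ X, F.map q y = x := by
  let p : F.obj (Y ⨯ X) := (fiberBinaryProductEquiv F Y X).symm (y, x)
  obtain ⟨Z, j, z, hz, hconn, hmono⟩ := fiber_in_connected_component F (Y ⨯ X) p
  have h1 : F.map (j ≫ prod.fst) z = y := by
    rw [F.map_comp, FintypeCat.comp_apply, hz, fiberBinaryProductEquiv_symm_fst_apply]
  have h2 : F.map (j ≫ prod.snd) z = x := by
    rw [F.map_comp, FintypeCat.comp_apply, hz, fiberBinaryProductEquiv_symm_snd_apply]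
  have hiso : IsIso (j ≫ prod.fst) := by
    have : IsIso (F.map (j ≫ prod.fst)) := by
      rw [ConcreteCategory.isIso_iff_bijective]
      constructor
      · intro z1 z2 h12
        obtain ⟨g1, hg1⟩ := MulAction.exists_smul_eq (Aut F) z z1
        obtain ⟨g2, hg2⟩ := MulAction.exists_smul_eq (Aut F) z z2
        rw [← hg1, ← hg2] at h12 ⊢
        rw [← mulAction_naturality, ← mulAction_naturality, h1] at h12
        have h3 : g2⁻¹ * g1 ∈ MulAction.stabilizer (Aut F) y := by
          rw [MulAction.mem_stabilizer_iff, mul_smul, h12, inv_smul_smul]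
        have h4 := h h3
        rw [MulAction.mem_stabilizer_iff] at h3 h4
        have h5 : (g2⁻¹ * g1) • p = p := by
          apply fiber_prod_ext F
          · rw [← mulAction_naturality, fiberBinaryProductEquiv_symm_fst_apply, h3]
          · rw [← mulAction_naturality, fiberBinaryProductEquiv_symm_snd_apply, h4]
        have h6 : (g2⁻¹ * g1) • z = z := by
          rw [smul_eq_iff_of_mono F j, hz]
          exact h5
        rw [mul_smul, inv_smul_eq_iff] at h6
        exact h6
      · have : Nonempty (F.obj Z) := ⟨z⟩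
        exact surjective_of_nonempty_fiber_of_isConnected F (j ≫ prod.fst)
    exact isIso_of_reflects_iso _ F
  refine ⟨inv (j ≫ prod.fst) ≫ j ≫ prod.snd, ?_⟩
  rw [← h1, ← FintypeCat.comp_apply, ← F.map_comp, IsIso.hom_inv_id_assoc]
  exact h2

end Hom


section Ker

variable {C : Type u} [Category.{v} C] [GaloisCategory C]
variable {C' : Type u} [Category.{v} C'] [GaloisCategory C'] (H : C ⥤ C')
  (F' : C' ⥤ FintypeCat.{w})

lemma continuous_autWhisker : Continuous (Pi1X.autWhisker H F') := by
  rw [(autEmbedding_isClosedEmbedding (H ⋙ F')).isInducing.continuous_iff, continuous_pi_iff]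
  intro X
  have : (fun σ : Aut F' => (autEmbedding (H ⋙ F') (Pi1X.autWhisker H F' σ)) X) =
      fun σ => autEmbedding F' σ (H.obj X) := rfl
  change Continuous fun σ : Aut F' => (autEmbedding (H ⋙ F') (Pi1X.autWhisker H F' σ)) X
  rw [this]
  exact (continuous_apply (H.obj X)).comp continuous_induced_dom

lemma mem_ker_autWhisker_iff (σ : Aut F') :
    σ ∈ (Pi1X.autWhisker H F').ker ↔ ∀ (X : C) (b : F'.obj (H.obj X)), σ • b = b := by
  rw [MonoidHom.mem_ker]
  constructor
  · intro h X b
    have := congrArg (fun τ : Aut (H ⋙ F') => τ.hom.app X b) h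
    exact this
  · intro h
    apply Iso.ext
    ext X b
    exact h X b

variable [FiberFunctor F'] [FiberFunctor (H ⋙ F')]

theorem ker_le_stabilizer_iff (X' : C') [IsConnected X'] (a' : F'.obj X') :
    (Pi1X.autWhisker H F').ker ≤ MulAction.stabilizer (Aut F') a' ↔
      ∃ (X : C) (Y' : C') (i : Y' ⟶ H.obj X) (q : Y' ⟶ X'), Mono i ∧ IsConnected Y' := by
  constructor
  · intro h
    -- compactness
    let K : Set (Aut F') := (MulAction.stabilizer (Aut F') a' : Set (Aut F'))ᶜ
    have hKc : IsCompact K :=
      (IsOpen.isClosed_compl (stabilizer_isOpen (Aut F') a')).isCompact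
    have hK1 : (1 : Aut (H ⋙ F')) ∉ (Pi1X.autWhisker H F') '' K := by
      rintro ⟨σ, hσK, hσ⟩
      exact hσK (h hσ)
    have hopen : IsOpen ((Pi1X.autWhisker H F') '' K)ᶜ :=
      (hKc.image (continuous_autWhisker H F')).isClosed.isOpen_compl
    obtain ⟨A, -, hA⟩ := (nhds_one_has_basis_stabilizers (H ⋙ F')).mem_iff.mp
      (hopen.mem_nhds hK1)
    -- the point of `H.obj A.obj`
    let x : F'.obj (H.obj A.obj) := A.pt
    obtain ⟨Y', i, y, hy, hconn, hmono⟩ := fiber_in_connected_component F' (H.obj A.obj) x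
    have hstab : MulAction.stabilizer (Aut F') y ≤ MulAction.stabilizer (Aut F') a' := by
      intro σ hσ
      rw [MulAction.mem_stabilizer_iff, smul_eq_iff_of_mono F' i, hy] at hσ
      by_contra hcon
      have h1 : Pi1X.autWhisker H F' σ ∈ MulAction.stabilizer (Aut (H ⋙ F')) A.pt := by
        rw [MulAction.mem_stabilizer_iff]
        exact hσ
      exact hA h1 ⟨σ, hcon, rfl⟩
    obtain ⟨q, -⟩ := exists_hom_of_stabilizer_le F' Y' X' y a' hstab
    exact ⟨A.obj, Y', i, q, hmono, hconn⟩
  · rintro ⟨X, Y', i, q, hmono, hconn⟩ σ hσ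
    rw [mem_ker_autWhisker_iff] at hσ
    rw [MulAction.mem_stabilizer_iff]
    have : Nonempty (F'.obj Y') := nonempty_fiber_of_isConnected F' Y'
    obtain ⟨y, rfl⟩ := surjective_of_nonempty_fiber_of_isConnected F' q a'
    rw [mulAction_naturality]
    congr 1
    rw [smul_eq_iff_of_mono F' i]
    exact hσ X _

end Ker

end Groth.Agent.H26.Pi1
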