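import Groth.Agent.H26.Pi1
import Mathlib.CategoryTheory.Galois.EssSurj
import Mathlib.Topology.Algebra.ClopenNhdofOne

set_option autoImplicit false
set_option linter.unusedSectionVars false
set_option linter.unusedVariables false
universe u v w
open CategoryTheory PreGaloisCategory Limits

namespace Groth.Agent.H26.Pi1

section Stab

variable {C : Type u} [Category.{v} C] [GaloisCategory C]

/-- special case: fibre functor with values in `FintypeCat.{u}` -/
lemma exists_stabilizer_eq_aux (F : C ⥤ FintypeCat.{u}) [FiberFunctor F]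
    (V : OpenSubgroup (Aut F)) :
    ∃ (X : C) (x : F.obj X), MulAction.stabilizer (Aut F) x = V.toSubgroup := by
  obtain ⟨X, ⟨φ⟩⟩ := exists_lift_of_quotient_openSubgroup V
  let x : F.obj X := φ.inv.hom (QuotientGroup.mk (1 : Aut F))
  refine ⟨X, x, ?_⟩
  ext τ
  rw [MulAction.mem_stabilizer_iff]
  have h1 : φ.hom.hom x = QuotientGroup.mk (1 : Aut F) := by
    change (φ.inv.hom ≫ φ.hom.hom) _ = _
    rw [← Action.comp_hom, Iso.inv_hom_id]
    rfl
  have h2 : φ.hom.hom (τ • x) = QuotientGroup.mk τ := by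
    have := ConcreteCategory.congr_hom (φ.hom.comm τ) x
    change φ.hom.hom (τ • x) = τ • (φ.hom.hom x) at this
    rw [this, h1]
    change (QuotientGroup.mk (τ * 1) : Aut F ⧸ V.toSubgroup) = _
    rw [mul_one]
  have hinj : Function.Injective φ.hom.hom := by
    intro a b hab
    have := congrArg φ.inv.hom hab
    change (φ.hom.hom ≫ φ.inv.hom) a = (φ.hom.hom ≫ φ.inv.hom) b at this
    rw [← Action.comp_hom, Iso.hom_inv_id] at this
    exact this
  constructor
  · intro h
    rw [h, h1] at h2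
    have := QuotientGroup.eq.mp h2
    simpa using this
  · intro h
    apply hinj
    rw [h2, h1]
    apply QuotientGroup.eq.mpr
    simpa using h


/-- Every open subgroup of the fundamental group is the stabilizer of a point of a connected
object. -/
theorem exists_connected_stabilizer_eq (F : C ⥤ FintypeCat.{w}) [FiberFunctor F]
    (V : Subgroup (Aut F)) (hV : IsOpen (V : Set (Aut F))) :
    ∃ (X : C) (x : F.obj X), IsConnected X ∧ MulAction.stabilizer (Aut F) x = V := by
  let Fu : C ⥤ FintypeCat.{u} := F ⋙ FintypeCat.uSwitch.{w, u}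
  let _ : FiberFunctor Fu := FiberFunctor.comp_right _
  let f : Aut F ≃ₜ* Aut Fu :=
    autEquivAutWhiskerRight F (FintypeCat.uSwitchEquivalence.{w, u}).fullyFaithfulFunctor
  let Vu : OpenSubgroup (Aut Fu) :=
    OpenSubgroup.comap (f.symm : Aut Fu →* Aut F) f.symm.continuous ⟨V, hV⟩
  obtain ⟨X, xu, hxu⟩ := exists_stabilizer_eq_aux Fu Vu
  let x : F.obj X := (F.obj X).uSwitchEquiv xu
  have hx : MulAction.stabilizer (Aut F) x = V := by
    ext σ
    rw [MulAction.mem_stabilizer_iff]
    have h1 : σ • x = (F.obj X).uSwitchEquiv ((f σ) • xu) := by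
      change σ.hom.app X ((F.obj X).uSwitchEquiv xu) = _
      rw [FintypeCat.uSwitchEquiv_naturality]
      rfl
    have h2 : f σ ∈ MulAction.stabilizer (Aut Fu) xu ↔ σ ∈ V := by
      rw [hxu]
      change f.symm (f σ) ∈ V ↔ _
      rw [ContinuousMulEquiv.symm_apply_apply]
    rw [← h2, MulAction.mem_stabilizer_iff, h1]
    exact (Equiv.apply_eq_iff_eq _)
  obtain ⟨Y, i, y, hy, hconn, hmono⟩ := fiber_in_connected_component F X x
  refine ⟨Y, y, hconn, ?_⟩
  rw [← hx]
  ext σ
  rw [MulAction.mem_stabilizer_iff, MulAction.mem_stabilizer_iff, smul_eq_iff_of_mono F i, hy]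

end Stab


section Exact

variable {C C' C'' : Type u} [Category.{v} C] [Category.{v} C'] [Category.{v} C'']
    [GaloisCategory C] [GaloisCategory C'] [GaloisCategory C'']
    (H : C ⥤ C') (H' : C' ⥤ C'')
    (F'' : C'' ⥤ FintypeCat.{w}) [FiberFunctor F''] [FiberFunctor (H' ⋙ F'')]
    [FiberFunctor (H ⋙ (H' ⋙ F''))]

theorem ker_le_range_iff :
    (Pi1X.autWhisker H (H' ⋙ F'')).ker ≤ (Pi1X.autWhisker H' F'').range ↔
      ∀ (X' : C') (a' : (H' ⋙ F'').obj X'), IsConnected X' →
        (∃ s : ⊤_ C'' ⟶ H'.obj X', ∀ t : F''.obj (⊤_ C''), F''.map s t = a') →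
          ∃ (X : C) (Y' : C') (i : Y' ⟶ H.obj X) (q : Y' ⟶ X'), Mono i ∧ IsConnected Y' := by
  constructor
  · intro h X' a' hconn hs
    rw [← ker_le_stabilizer_iff H (H' ⋙ F'') X' a']
    exact h.trans ((range_le_stabilizer_iff H' F'' X' a').mpr hs)
  · intro h g hg
    have hclosed : IsClosed ((Pi1X.autWhisker H' F'').range : Set (Aut (H' ⋙ F''))) := by
      rw [MonoidHom.coe_range]
      exact (isCompact_range (continuous_autWhisker H' F'')).isClosed
    let R : ClosedSubgroup (Aut (H' ⋙ F'')) := ⟨(Pi1X.autWhisker H' F'').range, hclosed⟩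
    have hR := ProfiniteGrp.closedSubgroup_eq_sInf_open R
    change g ∈ (R : Subgroup (Aut (H' ⋙ F'')))
    rw [hR, Subgroup.mem_sInf]
    rintro N ⟨hNopen, hRN⟩
    obtain ⟨X', a', hconn, hstab⟩ := exists_connected_stabilizer_eq (H' ⋙ F'') N hNopen
    have h1 : (Pi1X.autWhisker H' F'').range ≤ MulAction.stabilizer (Aut (H' ⋙ F'')) a' := by
      rw [hstab]; exact hRN
    have h2 := h X' a' hconn ((range_le_stabilizer_iff H' F'' X' a').mp h1)
    rw [← ker_le_stabilizer_iff H (H' ⋙ F'') X' a', hstab] at h2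
    exact h2 hg

end Exact

end Groth.Agent.H26.Pi1
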