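import Groth.Agent.H26.Pi1
import Mathlib.CategoryTheory.Galois.GaloisObjects
import Mathlib.CategoryTheory.CofilteredSystem
import Mathlib.CategoryTheory.Limits.Constructions.FiniteProductsOfBinaryProducts

set_option autoImplicit false
set_option linter.unusedSectionVars false
set_option linter.unusedVariables false
universe u v w
open CategoryTheory PreGaloisCategory Limits

namespace Groth.Agent.H26.Pi1

section FiberUnique

variable {C : Type u} [Category.{v} C] [GaloisCategory C]
  (F' : C ⥤ FintypeCat.{w})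

/-- an empty finite type is initial -/
def isInitialOfIsEmpty (T : FintypeCat.{w}) [IsEmpty T] : IsInitial T :=
  IsInitial.ofUniqueHom (fun Y => FintypeCat.homMk (fun x => isEmptyElim x))
    (fun Y m => by ext x; exact isEmptyElim x)

/-- a functor to finite sets preserving binary coproducts sends initial objects to the empty set -/
lemma isEmpty_of_isInitial [PreservesColimitsOfShape (Discrete WalkingPair) F'] {X : C}
    (hX : IsInitial X) : IsEmpty (F'.obj X) := by
  have hc : IsColimit (BinaryCofan.mk (𝟙 X) (𝟙 X)) :=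
    BinaryCofan.isColimitMk (fun s => s.inl) (fun s => Category.id_comp _)
      (fun s => hX.hom_ext _ _)
      (fun s m h1 h2 => (Category.id_comp m).symm.trans h1)
  have hc' := mapIsColimitOfPreservesOfIsColimit F' (𝟙 X) (𝟙 X) hc
  let T : FintypeCat.{w} := FintypeCat.of (ULift.{w} Bool)
  let s : BinaryCofan (F'.obj X) (F'.obj X) :=
    BinaryCofan.mk (P := T) (FintypeCat.homMk fun _ => ⟨true⟩) (FintypeCat.homMk fun _ => ⟨false⟩)
  constructor
  intro y
  have h1 := ConcreteCategory.congr_hom (hc'.fac s ⟨WalkingPair.left⟩) y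
  have h2 := ConcreteCategory.congr_hom (hc'.fac s ⟨WalkingPair.right⟩) y
  have h3 : (⟨true⟩ : ULift.{w} Bool) = ⟨false⟩ := by
    have e1 : (hc'.desc s) (F'.map (𝟙 X) y) = (⟨true⟩ : ULift.{w} Bool) := h1
    have e2 : (hc'.desc s) (F'.map (𝟙 X) y) = (⟨false⟩ : ULift.{w} Bool) := h2
    rw [← e1, e2]
  simpa using congrArg ULift.down h3


variable [PreservesColimitsOfShape (Discrete WalkingPair) F']

lemma preservesInitial' : PreservesColimitsOfShape (Discrete.{0} PEmpty) F' := by
  have : IsEmpty (F'.obj (⊥_ C)) := isEmpty_of_isInitial F' initialIsInitial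
  have hI : IsInitial (F'.obj (⊥_ C)) := isInitialOfIsEmpty _
  have : PreservesColimit (Functor.empty.{0} C) F' :=
    preservesInitial_of_iso F' (initialIsInitial.uniqueUpToIso hI)
  exact preservesColimitsOfShape_pempty_of_preservesInitial F'

lemma preservesFiniteCoproducts' (J : Type) [Finite J] :
    PreservesColimitsOfShape (Discrete J) F' := by
  have := preservesInitial' F'
  exact PreservesFiniteCoproducts.of_preserves_binary_and_initial F' J

section Prod

variable [PreservesLimitsOfShape (Discrete WalkingPair) F']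

/-- The fiber of the binary product is the binary product of the fibers. -/
noncomputable def prodEquiv (X Y : C) :
    F'.obj (X ⨯ Y) ≃ F'.obj X × F'.obj Y :=
  (PreservesLimitPair.iso (F' ⋙ FintypeCat.incl) X Y ≪≫
  Types.binaryProductIso (F'.obj X) (F'.obj Y)).toEquiv

lemma prodEquiv_symm_fst_apply {X Y : C} (x : F'.obj X) (y : F'.obj Y) :
    F'.map prod.fst ((prodEquiv F' X Y).symm (x, y)) = x := by
  simp only [prodEquiv]
  change ((Types.binaryProductIso _ _).inv ≫ _ ≫ (F' ⋙ FintypeCat.incl).map prod.fst) _ = _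
  erw [PreservesLimitPair.iso_inv_fst, Types.binaryProductIso_inv_comp_fst]
  rfl

lemma prodEquiv_symm_snd_apply {X Y : C} (x : F'.obj X) (y : F'.obj Y) :
    F'.map prod.snd ((prodEquiv F' X Y).symm (x, y)) = y := by
  simp only [prodEquiv]
  change ((Types.binaryProductIso _ _).inv ≫ _ ≫ (F' ⋙ FintypeCat.incl).map prod.snd) _ = _
  erw [PreservesLimitPair.iso_inv_snd, Types.binaryProductIso_inv_comp_snd]
  rfl

lemma prodEquiv_apply (X Y : C) (p : F'.obj (X ⨯ Y)) :
    prodEquiv F' X Y p = (F'.map prod.fst p, F'.map prod.snd p) := by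
  obtain ⟨⟨x, y⟩, rfl⟩ := (prodEquiv F' X Y).symm.surjective p
  rw [Equiv.apply_symm_apply, prodEquiv_symm_fst_apply, prodEquiv_symm_snd_apply]

lemma prod_ext' {X Y : C} (p p' : F'.obj (X ⨯ Y))
    (h1 : F'.map prod.fst p = F'.map prod.fst p') (h2 : F'.map prod.snd p = F'.map prod.snd p') :
    p = p' := by
  apply (prodEquiv F' X Y).injective
  rw [prodEquiv_apply, prodEquiv_apply, h1, h2]

end Prod

end FiberUnique


section NatTrans

open PointedGaloisObject

variable {C : Type u} [Category.{v} C] [GaloisCategory C]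
  (F : C ⥤ FintypeCat.{w}) [FiberFunctor F] (F' : C ⥤ FintypeCat.{w})

/-- The category of pointed Galois objects is cofiltered (arbitrary universe for the fibres). -/
lemma isCofilteredOrEmpty_pointedGaloisObject : IsCofilteredOrEmpty (PointedGaloisObject F) where
  cone_objs := fun ⟨A, a, _⟩ ⟨B, b, _⟩ ↦ by
    obtain ⟨Z, f, z, hgal, hfz⟩ := exists_hom_from_galois_of_fiber F (A ⨯ B)
      <| (fiberBinaryProductEquiv F A B).symm (a, b)
    refine ⟨⟨Z, z, hgal⟩, ⟨f ≫ prod.fst, ?_⟩, ⟨f ≫ prod.snd, ?_⟩, trivial⟩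
    · simp only [F.map_comp, hfz, FintypeCat.comp_apply, fiberBinaryProductEquiv_symm_fst_apply]
    · simp only [F.map_comp, hfz, FintypeCat.comp_apply, fiberBinaryProductEquiv_symm_snd_apply]
  cone_maps := fun ⟨A, a, _⟩ ⟨B, b, _⟩ ⟨f, hf⟩ ⟨g, hg⟩ ↦ by
    obtain ⟨Z, h, z, hgal, hhz⟩ := exists_hom_from_galois_of_fiber F A a
    refine ⟨⟨Z, z, hgal⟩, ⟨h, hhz⟩, hom_ext ?_⟩
    apply evaluation_injective_of_isConnected F Z B z
    simp [hhz, hf, hg]

variable (hne : ∀ X : C, IsEmpty (F'.obj X) → Nonempty (IsInitial X))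

include hne in
lemma exists_section :
    ∃ s : ∀ A : PointedGaloisObject F, F'.obj A.obj,
      ∀ (A B : PointedGaloisObject F) (f : A ⟶ B), F'.map f.val (s A) = s B := by
  have := isCofilteredOrEmpty_pointedGaloisObject F
  let G : PointedGaloisObject F ⥤ Type w := incl F ⋙ F' ⋙ FintypeCat.incl
  have hfin : ∀ A, Finite (G.obj A) := fun A => inferInstanceAs (Finite (F'.obj A.obj))
  have hnon : ∀ A, Nonempty (G.obj A) := by
    intro A
    change Nonempty (F'.obj A.obj)
    by_contra hcon
    rw [not_nonempty_iff] at hcon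
    obtain ⟨hI⟩ := hne _ hcon
    exact IsConnected.notInitial (X := A.obj) hI
  obtain ⟨s, hs⟩ := nonempty_sections_of_finite_cofiltered_system G
  exact ⟨s, fun A B f => hs f⟩


variable {F F'} (s : ∀ A : PointedGaloisObject F, F'.obj A.obj)
  (hs : ∀ (A B : PointedGaloisObject F) (f : A ⟶ B), F'.map f.val (s A) = s B)

include hs in
/-- well-definedness -/
lemma map_section_eq {X : C} (A B : PointedGaloisObject F) (f : A.obj ⟶ X) (g : B.obj ⟶ X)
    (h : F.map f A.pt = F.map g B.pt) : F'.map f (s A) = F'.map g (s B) := by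
  have := isCofilteredOrEmpty_pointedGaloisObject F
  obtain ⟨Z, u, v, -⟩ := IsCofilteredOrEmpty.cone_objs A B
  have huv : u.val ≫ f = v.val ≫ g := by
    apply evaluation_injective_of_isConnected F Z.obj X Z.pt
    change F.map (u.val ≫ f) Z.pt = F.map (v.val ≫ g) Z.pt
    rw [F.map_comp, F.map_comp, FintypeCat.comp_apply, FintypeCat.comp_apply, u.comp, v.comp, h]
  rw [← hs Z A u, ← hs Z B v, ← FintypeCat.comp_apply, ← FintypeCat.comp_apply, ← F'.map_comp,
    ← F'.map_comp, huv]

/-- the comparison map on fibres -/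
noncomputable def phiFun (X : C) (x : F.obj X) : F'.obj X :=
  let h := exists_hom_from_galois_of_fiber F X x
  F'.map h.choose_spec.choose
    (s ⟨h.choose, h.choose_spec.choose_spec.choose, h.choose_spec.choose_spec.choose_spec.1⟩)

include hs in
lemma phiFun_eq (X : C) (A : PointedGaloisObject F) (f : A.obj ⟶ X) :
    phiFun s X (F.map f A.pt) = F'.map f (s A) := by
  let h := exists_hom_from_galois_of_fiber F X (F.map f A.pt)
  exact map_section_eq s hs
    ⟨h.choose, h.choose_spec.choose_spec.choose, h.choose_spec.choose_spec.choose_spec.1⟩ A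
    h.choose_spec.choose f h.choose_spec.choose_spec.choose_spec.2

/-- the comparison natural transformation -/
noncomputable def phi : F ⟶ F' where
  app X := FintypeCat.homMk (phiFun s X)
  naturality X Y g := by
    ext x
    obtain ⟨A, f, a, hgal, rfl⟩ := exists_hom_from_galois_of_fiber F X x
    let AP : PointedGaloisObject F := ⟨A, a, hgal⟩
    change phiFun s Y (F.map g (F.map f AP.pt)) = F'.map g (phiFun s X (F.map f AP.pt))
    have e1 : F.map g (F.map f AP.pt) = F.map (f ≫ g) AP.pt := by
      rw [F.map_comp]; rfl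
    rw [e1, phiFun_eq s hs Y AP (f ≫ g), phiFun_eq s hs X AP f, F'.map_comp]
    rfl

end NatTrans


section Graphs

variable {C : Type u} [Category.{v} C] [GaloisCategory C]
  (F : C ⥤ FintypeCat.{w}) [FiberFunctor F]

/-- For a Galois object `A` representing the fibre of `X`, the product `A ⨯ X` is the disjoint union
of the graphs of the morphisms `A ⟶ X`. -/
lemma isIso_graphs (X : C) (A : C) (a : F.obj A) [IsGalois A]
    (hbij : Function.Bijective (fun f : A ⟶ X => F.map f a)) {n : ℕ} (e : Fin n ≃ (A ⟶ X)) :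
    IsIso (Sigma.desc (fun i : Fin n => prod.lift (𝟙 A) (e i))) := by
  set m := Sigma.desc (fun i : Fin n => prod.lift (𝟙 A) (e i)) with hm
  have hιm : ∀ i, Sigma.ι (fun _ : Fin n => A) i ≫ m = prod.lift (𝟙 A) (e i) := by
    intro i; rw [hm]; exact Sigma.ι_desc _ _
  have hfst : ∀ (f : A ⟶ X) (b : F.obj A), F.map prod.fst (F.map (prod.lift (𝟙 A) f) b) = b := by
    intro f b
    rw [← FintypeCat.comp_apply, ← F.map_comp, prod.lift_fst, F.map_id]; rfl
  have hsnd : ∀ (f : A ⟶ X) (b : F.obj A),
      F.map prod.snd (F.map (prod.lift (𝟙 A) f) b) = F.map f b := by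
    intro f b
    rw [← FintypeCat.comp_apply, ← F.map_comp, prod.lift_snd]
  have hmι : ∀ (i : Fin n) (b : F.obj A),
      F.map m (F.map (Sigma.ι (fun _ : Fin n => A) i) b) = F.map (prod.lift (𝟙 A) (e i)) b := by
    intro i b
    rw [← FintypeCat.comp_apply, ← F.map_comp, hιm]
  have : IsIso (F.map m) := by
    rw [ConcreteCategory.isIso_iff_bijective]
    constructor
    · intro r1 r2 h12
      obtain ⟨⟨i⟩, b, hb⟩ := FintypeCat.jointly_surjective _ _
        (isColimitOfPreserves F (coproductIsCoproduct (fun _ : Fin n => A))) r1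
      obtain ⟨⟨j⟩, c, hc⟩ := FintypeCat.jointly_surjective _ _
        (isColimitOfPreserves F (coproductIsCoproduct (fun _ : Fin n => A))) r2
      have hb' : F.map (Sigma.ι (fun _ : Fin n => A) i) b = r1 := hb
      have hc' : F.map (Sigma.ι (fun _ : Fin n => A) j) c = r2 := hc
      rw [← hb', ← hc', hmι, hmι] at h12
      have h1 := congrArg (F.map prod.fst) h12
      rw [hfst, hfst] at h1
      subst h1
      have h2 := congrArg (F.map prod.snd) h12
      rw [hsnd, hsnd] at h2
      have h3 : e i = e j := evaluation_injective_of_isConnected F A X b h2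
      have h4 : i = j := e.injective h3
      rw [← hb', ← hc', h4]
    · intro p
      obtain ⟨σ, hσ⟩ := evaluation_aut_surjective_of_isGalois F A a (F.map prod.fst p)
      obtain ⟨g, hg⟩ := hbij.surjective (F.map prod.snd p)
      have hσ' : F.map σ.hom a = F.map prod.fst p := hσ
      have hg' : F.map g a = F.map prod.snd p := hg
      refine ⟨F.map (Sigma.ι (fun _ : Fin n => A) (e.symm (σ.inv ≫ g))) (F.map prod.fst p), ?_⟩
      rw [hmι, Equiv.apply_symm_apply]
      apply fiber_prod_ext F
      · rw [hfst]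
      · have e1 : σ.hom ≫ σ.inv ≫ g = g := Iso.hom_inv_id_assoc _ _
        rw [hsnd, ← hσ', ← hg', ← FintypeCat.comp_apply, ← F.map_comp, e1]
  exact isIso_of_reflects_iso m F

end Graphs


section Main

open PointedGaloisObject

variable {C : Type u} [Category.{v} C] [GaloisCategory C]
  (F : C ⥤ FintypeCat.{w}) [FiberFunctor F] (F' : C ⥤ FintypeCat.{w}) [PreservesFiniteLimits F']
  [PreservesColimitsOfShape (Discrete WalkingPair) F']

/-- evaluation at a point of `F' A` is bijective for `A` Galois representing the fibre of `X`. -/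
lemma bijective_eval' (X : C) (A : C) (a : F.obj A) [IsGalois A]
    (hbij : Function.Bijective (fun f : A ⟶ X => F.map f a)) (a' : F'.obj A) :
    Function.Bijective (fun f : A ⟶ X => F'.map f a') := by
  let n := Nat.card (A ⟶ X)
  let e : Fin n ≃ (A ⟶ X) := (Finite.equivFin (A ⟶ X)).symm
  set m := Sigma.desc (fun i : Fin n => prod.lift (𝟙 A) (e i)) with hm
  have hmiso : IsIso m := isIso_graphs F X A a hbij e
  have hιm : ∀ i, Sigma.ι (fun _ : Fin n => A) i ≫ m = prod.lift (𝟙 A) (e i) := by
    intro i; rw [hm]; exact Sigma.ι_desc _ _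
  have hfst : ∀ (f : A ⟶ X) (b : F'.obj A),
      F'.map prod.fst (F'.map (prod.lift (𝟙 A) f) b) = b := by
    intro f b
    rw [← FintypeCat.comp_apply, ← F'.map_comp, prod.lift_fst, F'.map_id]; rfl
  have hsnd : ∀ (f : A ⟶ X) (b : F'.obj A),
      F'.map prod.snd (F'.map (prod.lift (𝟙 A) f) b) = F'.map f b := by
    intro f b
    rw [← FintypeCat.comp_apply, ← F'.map_comp, prod.lift_snd]
  have hmι : ∀ (i : Fin n) (b : F'.obj A),
      F'.map m (F'.map (Sigma.ι (fun _ : Fin n => A) i) b) = F'.map (prod.lift (𝟙 A) (e i)) b := by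
    intro i b
    rw [← FintypeCat.comp_apply, ← F'.map_comp, hιm]
  have hbijm : Function.Bijective (F'.map m) := by
    have : IsIso (F'.map m) := inferInstance
    exact (ConcreteCategory.isIso_iff_bijective _).mp this
  have := preservesFiniteCoproducts' F' (Fin n)
  have hcol := isColimitOfPreserves F' (coproductIsCoproduct (fun _ : Fin n => A))
  constructor
  · intro f g hfg
    have hfg' : F'.map f a' = F'.map g a' := hfg
    obtain ⟨i, rfl⟩ := e.surjective f
    obtain ⟨j, rfl⟩ := e.surjective g
    have h1 : F'.map (Sigma.ι (fun _ : Fin n => A) i) a' =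
        F'.map (Sigma.ι (fun _ : Fin n => A) j) a' := by
      apply hbijm.injective
      rw [hmι, hmι]
      apply prod_ext' F'
      · rw [hfst, hfst]
      · rw [hsnd, hsnd, hfg']
    by_contra hij
    have hij' : i ≠ j := fun h => hij (by rw [h])
    let T : FintypeCat.{w} := FintypeCat.of (ULift.{w} Bool)
    let cc : Cocone (Discrete.functor (fun _ : Fin n => A) ⋙ F') :=
      { pt := T
        ι := Discrete.natTrans fun ⟨k⟩ => FintypeCat.homMk fun _ => ⟨decide (k = i)⟩ }
    have e1 := ConcreteCategory.congr_hom (hcol.fac cc ⟨i⟩) a'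
    have e2 := ConcreteCategory.congr_hom (hcol.fac cc ⟨j⟩) a'
    have e1' : (hcol.desc cc) (F'.map (Sigma.ι (fun _ : Fin n => A) i) a') =
        (⟨decide (i = i)⟩ : ULift.{w} Bool) := e1
    have e2' : (hcol.desc cc) (F'.map (Sigma.ι (fun _ : Fin n => A) j) a') =
        (⟨decide (j = i)⟩ : ULift.{w} Bool) := e2
    rw [h1, e2'] at e1'
    have := congrArg ULift.down e1'
    simp [hij'.symm] at this
  · intro x'
    obtain ⟨r, hr⟩ := hbijm.surjective ((prodEquiv F' A X).symm (a', x'))
    obtain ⟨⟨i⟩, b, hb⟩ := FintypeCat.jointly_surjective _ _ hcol r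
    have hb' : F'.map (Sigma.ι (fun _ : Fin n => A) i) b = r := hb
    rw [← hb', hmι] at hr
    have h1 := congrArg (F'.map prod.fst) hr
    rw [hfst, prodEquiv_symm_fst_apply] at h1
    have h2 := congrArg (F'.map prod.snd) hr
    rw [hsnd, prodEquiv_symm_snd_apply, h1] at h2
    exact ⟨e i, h2⟩

variable {F F'} (s : ∀ A : PointedGaloisObject F, F'.obj A.obj)
  (hs : ∀ (A B : PointedGaloisObject F) (f : A ⟶ B), F'.map f.val (s A) = s B)

include hs in
lemma bijective_phiFun (X : C) : Function.Bijective (phiFun s X) := by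
  obtain ⟨A, a, hgal, hbij⟩ := exists_galois_representative F X
  let AP : PointedGaloisObject F := ⟨A, a, hgal⟩
  have key : phiFun s X ∘ (fun f : A ⟶ X => F.map f a) = fun f : A ⟶ X => F'.map f (s AP) := by
    funext f
    exact phiFun_eq s hs X AP f
  have h1 : Function.Bijective (phiFun s X ∘ (fun f : A ⟶ X => F.map f a)) := by
    rw [key]
    exact bijective_eval' F F' X A a hbij (s AP)
  exact (Function.Bijective.of_comp_iff _ hbij).mp h1

variable (F F')

theorem nonempty_iso_of_preservesBinaryCoproducts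
    (h : ∀ X : C, IsEmpty (F'.obj X) → Nonempty (IsInitial X)) : Nonempty (F' ≅ F) := by
  obtain ⟨s, hs⟩ := exists_section F F' h
  have : ∀ X, IsIso ((phi s hs).app X) := by
    intro X
    rw [ConcreteCategory.isIso_iff_bijective]
    exact bijective_phiFun s hs X
  have : IsIso (phi s hs) := NatIso.isIso_of_isIso_app _
  exact ⟨(asIso (phi s hs)).symm⟩

end Main

end Groth.Agent.H26.Pi1
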