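import Mathlib.AlgebraicGeometry.Morphisms.Flat
import Mathlib.AlgebraicGeometry.Morphisms.QuasiCompact
import Mathlib.AlgebraicGeometry.Morphisms.UniversallyOpen
import Mathlib.AlgebraicGeometry.PullbackCarrier

set_option autoImplicit false
universe u
open CategoryTheory CategoryTheory.Limits AlgebraicGeometry

namespace Groth.Agent.H26

/-- For a quasi-compact morphism, every point in the closure of the image of a closed set is a
specialization of a point of the image. -/
theorem exists_specializes_of_mem_closure_image {X Y : Scheme.{u}} (f : X ⟶ Y) [QuasiCompact f]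
    (Z : Set X) (hZ : IsClosed Z) (y : Y) (hy : y ∈ closure (f.base '' Z)) :
    ∃ z ∈ Z, f.base z ⤳ y := by
  wlog hY : ∃ R, Y = Spec R generalizing X Y
  · obtain ⟨y₀, hy₀⟩ := Y.affineCover.covers y
    let j := Y.affineCover.f (Y.affineCover.idx y)
    have hqc : QuasiCompact (pullback.snd f j) := MorphismProperty.pullback_snd _ _ ‹_›
    have himg : (pullback.snd f j).base '' ((pullback.fst f j).base ⁻¹' Z) =
        j.base ⁻¹' (f.base '' Z) :=
      Scheme.image_preimage_eq_of_isPullback (IsPullback.of_hasPullback f j) Z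
    have hy₀' : y₀ ∈ closure ((pullback.snd f j).base '' ((pullback.fst f j).base ⁻¹' Z)) := by
      rw [himg, ← j.isOpenEmbedding.isOpenMap.preimage_closure_eq_closure_preimage j.continuous]
      exact Set.mem_preimage.mpr (by rw [hy₀]; exact hy)
    obtain ⟨z₀, hz₀, hsp⟩ := this (pullback.snd f j) ((pullback.fst f j).base ⁻¹' Z)
      (hZ.preimage (pullback.fst f j).continuous) y₀ hy₀' ⟨_, rfl⟩
    refine ⟨(pullback.fst f j).base z₀, hz₀, ?_⟩
    have := hsp.map j.continuous
    rw [hy₀] at this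
    convert this using 1
    rw [← Scheme.Hom.comp_apply, ← Scheme.Hom.comp_apply, pullback.condition]
  obtain ⟨S, rfl⟩ := hY
  wlog hX : ∃ R, X = Spec R generalizing X
  · obtain ⟨R, g, hg⟩ := compactSpace_iff_exists.mp (QuasiCompact.compactSpace_of_compactSpace f)
    have inst : QuasiCompact (g ≫ f) := HasAffineProperty.iff_of_isAffine.mpr (by infer_instance)
    have himg : (g ≫ f).base '' (g.base ⁻¹' Z) = f.base '' Z := by
      simp_rw [Scheme.Hom.comp_base, TopCat.comp_app, ← Set.image_image,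
        Set.image_preimage_eq _ hg]
    obtain ⟨z₀, hz₀, hsp⟩ := this (f := g ≫ f) (Z := g.base ⁻¹' Z) (hZ.preimage g.continuous)
      (by rw [himg]; exact hy) ⟨_, rfl⟩
    exact ⟨g.base z₀, hz₀, hsp⟩
  obtain ⟨R, rfl⟩ := hX
  obtain ⟨φ, rfl⟩ := Spec.homEquiv.symm.surjective f
  obtain ⟨I, rfl⟩ := (PrimeSpectrum.isClosed_iff_zeroLocus_ideal Z).mp hZ
  change y ∈ closure (PrimeSpectrum.comap φ.hom '' PrimeSpectrum.zeroLocus (I : Set R)) at hy
  rw [PrimeSpectrum.closure_image_comap_zeroLocus] at hy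
  obtain ⟨Q, hIQ, hQ, hQy⟩ := Ideal.exists_ideal_comap_le_prime y.asIdeal I hy
  refine ⟨⟨Q, hQ⟩, hIQ, ?_⟩
  change PrimeSpectrum.comap φ.hom ⟨Q, hQ⟩ ⤳ y
  rw [← PrimeSpectrum.le_iff_specializes]
  exact hQy


theorem isEmbedding_of_isEmbedding_pullback_snd {X Y Y' : Scheme.{u}} (f : X ⟶ Y)
    (g : Y' ⟶ Y) [QuasiCompact f] [Flat g] [Surjective g]
    (h : Topology.IsEmbedding (pullback.snd f g).base) : Topology.IsEmbedding f.base := by
  have hinj : Function.Injective f.base := by
    intro x₁ x₂ hx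
    obtain ⟨y', hy'⟩ := g.surjective (f.base x₁)
    obtain ⟨z₁, hz₁, hz₁'⟩ :=
      Scheme.Pullback.exists_preimage_pullback (f := f) (g := g) x₁ y' hy'.symm
    obtain ⟨z₂, hz₂, hz₂'⟩ := Scheme.Pullback.exists_preimage_pullback (f := f) (g := g) x₂ y'
      (hx.symm.trans hy'.symm)
    have : z₁ = z₂ := h.injective (hz₁'.trans hz₂'.symm)
    rw [← hz₁, ← hz₂, this]
  refine ⟨⟨le_antisymm f.continuous.le_induced ?_⟩, hinj⟩
  intro U hU
  rw [isOpen_induced_iff]
  refine ⟨(closure (f.base '' Uᶜ))ᶜ, isClosed_closure.isOpen_compl, ?_⟩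
  ext x
  simp only [Set.mem_preimage, Set.mem_compl_iff]
  constructor
  · intro hx
    by_contra hxU
    exact hx (subset_closure ⟨x, hxU, rfl⟩)
  · intro hxU hx
    obtain ⟨z, hz, hsp⟩ := exists_specializes_of_mem_closure_image f Uᶜ hU.isClosed_compl _ hx
    obtain ⟨y', hy'⟩ := g.surjective (f.base x)
    have hgen : GeneralizingMap g.base := Flat.generalizingMap g
    obtain ⟨c', hc', hgc'⟩ := hgen (a := y') (b := f.base z) (by rw [hy']; exact hsp)
    obtain ⟨w, hw, hw'⟩ :=
      Scheme.Pullback.exists_preimage_pullback (f := f) (g := g) z c' hgc'.symm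
    obtain ⟨w', hw'1, hw'2⟩ :=
      Scheme.Pullback.exists_preimage_pullback (f := f) (g := g) x y' hy'.symm
    have hsp' : w ⤳ w' := by
      rw [← h.isInducing.specializes_iff, hw', hw'2]
      exact hc'
    have hcl : IsClosed ((pullback.fst f g).base ⁻¹' Uᶜ) :=
      hU.isClosed_compl.preimage (pullback.fst f g).continuous
    have hwZ : w ∈ (pullback.fst f g).base ⁻¹' Uᶜ := by
      rw [Set.mem_preimage, hw]; exact hz
    have hw'Z : w' ∈ (pullback.fst f g).base ⁻¹' Uᶜ := hsp'.mem_closed hcl hwZ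
    rw [Set.mem_preimage, hw'1] at hw'Z
    exact hw'Z hxU

end Groth.Agent.H26
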