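import Mathlib
import Groth.Prelude.Def_CAlg
import Groth.Agent.H29.RegFree
import Groth.Agent.H29.CM
import Groth.Agent.H41.AcyclicLemma
import Groth.Agent.Lead.RegularLocal

/-!
# Cohen–Macaulay modules with full support over regular local rings are free (helper26)
-/

set_option autoImplicit false
set_option linter.style.haveILetI false
set_option linter.unusedSectionVars false
universe u

namespace Groth.Agent.H26.RegCMFree

open IsLocalRing

/-- a finite Cohen–Macaulay module over a regular local ring containing an element with zero
annihilator is free -/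
theorem free_of_isCohenMacaulayModule (R : Type u) [CommRing R] [IsRegularLocalRing R]
    (M : Type u) [AddCommGroup M] [Module R M] [Module.Finite R M]
    (hCM : LocCoh.IsCohenMacaulayModule R M) (m₀ : M) (hm₀ : ∀ r : R, r • m₀ = 0 → r = 0) :
    Module.Free R M := by
  have hfin : ringKrullDim R ≠ ⊤ := ringKrullDim_ne_top
  have hbot : ringKrullDim R ≠ ⊥ := ringKrullDim_ne_bot
  obtain ⟨d, hd⟩ : ∃ d : ℕ, ringKrullDim R = d := by
    generalize ringKrullDim R = D at hfin hbot
    induction D using WithBot.recBotCoe with
    | bot => exact absurd rfl hbot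
    | coe n =>
      induction n using ENat.recTopCoe with
      | top => exact absurd rfl hfin
      | coe n => exact ⟨n, rfl⟩
  -- support dimension
  have hsd : Module.supportDim R M = ringKrullDim R := by
    apply le_antisymm (Module.supportDim_le_ringKrullDim R M)
    rw [← Module.supportDim_self_eq_ringKrullDim]
    refine Module.supportDim_le_of_injective (LinearMap.toSpanSingleton R M m₀) ?_
    rw [injective_iff_map_eq_zero]
    intro r hr
    exact hm₀ r (by simpa [LinearMap.toSpanSingleton_apply] using hr)
  have hdepth : LocCoh.depth R M = d := by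
    unfold LocCoh.IsCohenMacaulayModule at hCM
    rw [hsd, hd] at hCM
    have : ((d : ℕ∞) : WithBot ℕ∞) = ((LocCoh.depth R M : ℕ∞) : WithBot ℕ∞) := hCM
    exact_mod_cast this.symm
  exact Groth.Agent.H29.RegFree.free_of_depth_eq_dim d R hd M hdepth

/-- a nonzero finite free module over a regular local ring is a Cohen–Macaulay module -/
theorem isCohenMacaulayModule_of_free (R : Type u) [CommRing R] [IsRegularLocalRing R]
    (M : Type u) [AddCommGroup M] [Module R M] [Module.Finite R M] [Module.Free R M]
    [Nontrivial M] : LocCoh.IsCohenMacaulayModule R M := by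
  haveI : IsDomain R := Groth.Agent.Lead.RLR.isDomain R
  have hfin : ringKrullDim R ≠ ⊤ := ringKrullDim_ne_top
  have hbot : ringKrullDim R ≠ ⊥ := ringKrullDim_ne_bot
  obtain ⟨d, hd⟩ : ∃ d : ℕ, ringKrullDim R = d := by
    generalize ringKrullDim R = D at hfin hbot
    induction D using WithBot.recBotCoe with
    | bot => exact absurd rfl hbot
    | coe n =>
      induction n using ENat.recTopCoe with
      | top => exact absurd rfl hfin
      | coe n => exact ⟨n, rfl⟩
  have hsupp : Module.support R M = Set.univ := Module.support_of_noZeroSMulDivisors
  have hsd : Module.supportDim R M = ringKrullDim R := by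
    unfold Module.supportDim
    rw [hsupp]
    exact Order.krullDim_eq_of_orderIso (OrderIso.Set.univ)
  unfold LocCoh.IsCohenMacaulayModule
  apply le_antisymm
  · rw [hsd, hd]
    have h1 : LocCoh.depth R R = d := Groth.Agent.H29.RegFree.depth_eq_of_regular R d hd
    have h2 := Groth.Agent.H41.AcyclicLemma.le_depth_of_free (A := R) M d (le_of_eq h1.symm)
    exact_mod_cast h2
  · exact Groth.Agent.H29.CML.depth_le_supportDim M

end Groth.Agent.H26.RegCMFree
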