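import Groth.Agent.H26.RegCMFree
import Groth.Agent.H67.FlatLocFree
import Groth.Agent.H44.FiniteSections
import Groth.Agent.H8.AffineLocal

/-!
# Coherent Cohen–Macaulay modules with full support on a regular scheme are locally free (helper26)
-/

set_option autoImplicit false
set_option linter.style.haveILetI false
set_option linter.unusedSectionVars false
universe u
open CategoryTheory CategoryTheory.Limits AlgebraicGeometry TopologicalSpace Opposite

namespace Groth.Agent.H26.RegCMFreeSch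

open Groth.Agent.H8

variable {X : Scheme.{u}}

set_option backward.isDefEq.respectTransparency false in
/-- if the module has full support and the local ring at `x` is a domain, then some element of the
stalk at `x` has zero annihilator -/
theorem exists_faithful_element (F : X.Modules) [F.IsQuasicoherent]
    [SheafOfModules.IsFiniteType (R := X.ringCatSheaf) F]
    (hsupp : CohB1.support F = Set.univ) (x : X) [IsDomain (X.presheaf.stalk x)] :
    ∃ m₀ : F.presheaf.stalk x, ∀ r : X.presheaf.stalk x, r • m₀ = 0 → r = 0 := by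
  classical
  obtain ⟨V, hV, hxV, -⟩ := Opens.isBasis_iff_nbhd.1 X.isBasis_affineOpens
    (show x ∈ (⊤ : X.Opens) from trivial)
  haveI : Module.Finite Γ(X, V) Γ(F, V) := Groth.Agent.H44.finite_sections_of_isFiniteType F hV
  letI : Algebra Γ(X, V) (X.presheaf.stalk x) :=
    TopCat.Presheaf.algebra_section_stalk X.presheaf ⟨x, hxV⟩
  haveI hloc : IsLocalization.AtPrime (X.presheaf.stalk x) (hV.primeIdealOf ⟨x, hxV⟩).asIdeal :=
    hV.isLocalization_stalk ⟨x, hxV⟩
  letI := stalkModule F hxV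
  haveI : IsScalarTower Γ(X, V) (X.presheaf.stalk x) (F.presheaf.stalk x) :=
    IsScalarTower.of_algebraMap_smul (fun r m => rfl)
  haveI hlm := isLocalizedModule_germₗ F hV hxV
  set p := (hV.primeIdealOf ⟨x, hxV⟩).asIdeal with hp
  by_contra hcon
  push Not at hcon
  -- generators
  obtain ⟨S, hS⟩ := (Module.Finite.fg_top : (⊤ : Submodule Γ(X, V) Γ(F, V)).FG)
  choose r hr hr0 using fun n : Γ(F, V) => hcon (germₗ F hxV n)
  -- the product of the chosen annihilators
  let ρ : X.presheaf.stalk x := ∏ n ∈ S, r n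
  have hρ0 : ρ ≠ 0 := Finset.prod_ne_zero_iff.mpr (fun n _ => hr0 n)
  have hρ : ∀ n ∈ S, ρ • germₗ F hxV n = 0 := by
    intro n hn
    have : ρ = (∏ k ∈ S.erase n, r k) * r n := by
      rw [Finset.prod_erase_mul S r hn]
    rw [this, mul_smul, hr n, smul_zero]
  obtain ⟨g, s, hgs⟩ := IsLocalization.exists_mk'_eq p.primeCompl ρ
  have hspec : ρ * algebraMap Γ(X, V) (X.presheaf.stalk x) s = algebraMap _ _ g := by
    rw [← hgs]
    exact IsLocalization.mk'_spec _ g s
  have hsu : IsUnit (algebraMap Γ(X, V) (X.presheaf.stalk x) s) :=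
    IsLocalization.map_units _ s
  have hg0 : algebraMap Γ(X, V) (X.presheaf.stalk x) g ≠ 0 := by
    intro h0
    rw [h0] at hspec
    exact hρ0 ((hsu.mul_left_eq_zero).mp hspec)
  -- `g` kills the germs of the generators
  have hgk : ∀ n ∈ S, germₗ F hxV (g • n) = 0 := by
    intro n hn
    rw [map_smul, ← algebraMap_smul (X.presheaf.stalk x) g, ← hspec, mul_smul, smul_comm,
      hρ n hn, smul_zero]
  -- hence some `t ∉ p` with `t g` killing all generators
  have hex : ∀ n ∈ S, ∃ t : p.primeCompl, t • (g • n) = 0 := by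
    intro n hn
    have := (IsLocalizedModule.eq_zero_iff p.primeCompl (germₗ F hxV)).mp (hgk n hn)
    exact this
  choose! t ht using hex
  let τ : Γ(X, V) := ∏ n ∈ S, (t n : Γ(X, V))
  have hτp : τ ∈ p.primeCompl := Submonoid.prod_mem _ (fun n _ => (t n).2)
  have hτ : ∀ n ∈ S, (τ * g) • n = 0 := by
    intro n hn
    have h1 : τ = (∏ k ∈ S.erase n, (t k : Γ(X, V))) * (t n : Γ(X, V)) := by
      rw [Finset.prod_erase_mul S (fun k => (t k : Γ(X, V))) hn]
    rw [h1, mul_assoc, mul_smul, mul_smul]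
    have := ht n hn
    rw [Submonoid.smul_def] at this
    rw [this, smul_zero]
  have hkill : ∀ n : Γ(F, V), (τ * g) • n = 0 := by
    intro n
    have hn : n ∈ Submodule.span Γ(X, V) (S : Set Γ(F, V)) := hS ▸ Submodule.mem_top
    refine Submodule.span_induction (p := fun n _ => (τ * g) • n = 0) ?_ ?_ ?_ ?_ hn
    · intro n hn
      exact hτ n hn
    · exact smul_zero _
    · intro a b _ _ ha hb
      rw [smul_add, ha, hb, add_zero]
    · intro c a _ ha
      rw [smul_comm, ha, smul_zero]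
  -- `τ g` is not nilpotent
  have hnil : ¬ IsNilpotent (τ * g) := by
    rintro ⟨k, hk⟩
    have h1 := congrArg (algebraMap Γ(X, V) (X.presheaf.stalk x)) hk
    rw [map_pow, map_mul, map_zero] at h1
    exact pow_ne_zero k (mul_ne_zero
      (IsLocalization.map_units (X.presheaf.stalk x) ⟨τ, hτp⟩).ne_zero hg0) h1
  -- a prime not containing `τ g`
  obtain ⟨q₀, hq₀, hnot⟩ : ∃ q₀ : Ideal Γ(X, V), q₀.IsPrime ∧ τ * g ∉ q₀ := by
    by_contra hall
    push Not at hall
    apply hnil
    rw [← mem_nilradical, nilradical_eq_sInf, Ideal.mem_sInf]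
    intro J hJ
    exact hall J hJ
  let q' : PrimeSpectrum Γ(X, V) := ⟨q₀, hq₀⟩
  have hyV : hV.fromSpec q' ∈ V := fromSpec_mem hV q'
  have hprime : hV.primeIdealOf ⟨hV.fromSpec q', hyV⟩ = q' := primeIdealOf_fromSpec hV q'
  -- the stalk at the corresponding point vanishes
  have hsub : Subsingleton (F.presheaf.stalk (hV.fromSpec q')) := by
    letI := stalkModule F hyV
    haveI hlm' := isLocalizedModule_germₗ F hV hyV
    have hmem : τ * g ∈ (hV.primeIdealOf ⟨hV.fromSpec q', hyV⟩).asIdeal.primeCompl := by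
      rw [hprime]
      exact hnot
    refine ⟨fun a b => ?_⟩
    have key : ∀ z : F.presheaf.stalk (hV.fromSpec q'), z = 0 := by
      intro z
      obtain ⟨⟨n, s⟩, hns⟩ := IsLocalizedModule.surj
        (hV.primeIdealOf ⟨hV.fromSpec q', hyV⟩).asIdeal.primeCompl (germₗ F hyV) z
      have hu := IsLocalizedModule.map_units (germₗ F hyV)
        (⟨τ * g, hmem⟩ : (hV.primeIdealOf ⟨hV.fromSpec q', hyV⟩).asIdeal.primeCompl)
      have hus := IsLocalizedModule.map_units (germₗ F hyV) s
      rw [Module.End.isUnit_iff] at hu hus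
      apply hu.1
      apply hus.1
      simp only [Module.algebraMap_end_apply, smul_zero]
      rw [smul_comm]
      have h1 : (s : Γ(X, V)) • z = germₗ F hyV n := hns
      rw [h1, ← map_smul, hkill n, map_zero]
    rw [key a, key b]
  have hy : hV.fromSpec q' ∈ CohB1.support F := hsupp ▸ Set.mem_univ _
  exact hy hsub

set_option backward.isDefEq.respectTransparency false in
/-- the stalk of a module free of rank `n` near `x` has a basis indexed by `Fin n` -/
theorem nonempty_basis_stalk (F : X.Modules) [F.IsQuasicoherent] {W : X.Opens} {n : ℕ}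
    (e : F.restrict W.ι ≅ FlatMod.freeMod (W : Scheme.{u}) n) {x : X} (hx : x ∈ W) :
    Nonempty (Module.Basis (Fin n) (X.presheaf.stalk x) (F.presheaf.stalk x)) := by
  obtain ⟨V, hV, hxV, hVW⟩ := Opens.isBasis_iff_nbhd.1 X.isBasis_affineOpens hx
  obtain ⟨b⟩ := Groth.Agent.H44.nonempty_basis_of_iso_freeMod F hV hVW e
  letI : Algebra Γ(X, V) (X.presheaf.stalk x) :=
    TopCat.Presheaf.algebra_section_stalk X.presheaf ⟨x, hxV⟩
  haveI hloc : IsLocalization.AtPrime (X.presheaf.stalk x) (hV.primeIdealOf ⟨x, hxV⟩).asIdeal :=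
    hV.isLocalization_stalk ⟨x, hxV⟩
  letI := stalkModule F hxV
  haveI : IsScalarTower Γ(X, V) (X.presheaf.stalk x) (F.presheaf.stalk x) :=
    IsScalarTower.of_algebraMap_smul (fun r m => rfl)
  haveI hlm := isLocalizedModule_germₗ F hV hxV
  exact ⟨b.ofIsLocalizedModule (X.presheaf.stalk x)
    (hV.primeIdealOf ⟨x, hxV⟩).asIdeal.primeCompl (germₗ F hxV)⟩

/-- **(⇒)** -/
theorem exists_free_nhds_of_cm [IsLocallyNoetherian X]
    (hreg : ∀ x : X, IsRegularLocalRing (X.presheaf.stalk x)) (F : X.Modules) (hF : Coh.IsCoh F)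
    (hsupp : CohB1.support F = Set.univ)
    (hCM : ∀ x : X, LocCoh.IsCohenMacaulayModule (X.presheaf.stalk x) ↑(F.presheaf.stalk x))
    (x : X) : ∃ (U : X.Opens) (n : ℕ), x ∈ U ∧ 0 < n ∧
      Nonempty (F.restrict U.ι ≅ FlatMod.freeMod (↑U) n) := by
  haveI : F.IsQuasicoherent := hF.1
  haveI : SheafOfModules.IsFiniteType (R := X.ringCatSheaf) F := hF.2
  haveI := hreg x
  haveI : IsDomain (X.presheaf.stalk x) := Groth.Agent.Lead.RLR.isDomain _
  obtain ⟨m₀, hm₀⟩ := exists_faithful_element F hsupp x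
  obtain ⟨V, hV, hxV, -⟩ := Opens.isBasis_iff_nbhd.1 X.isBasis_affineOpens
    (show x ∈ (⊤ : X.Opens) from trivial)
  haveI : Module.Finite Γ(X, V) Γ(F, V) := Groth.Agent.H44.finite_sections_of_isFiniteType F hV
  haveI : IsNoetherianRing Γ(X, V) := IsLocallyNoetherian.component_noetherian ⟨V, hV⟩
  haveI : Module.FinitePresentation Γ(X, V) Γ(F, V) := Module.finitePresentation_of_finite _ _
  haveI : Module.Finite (X.presheaf.stalk x) (F.presheaf.stalk x) :=
    Groth.Agent.H67.FreeLocus.finite_stalk' F hV hxV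
  have hfree : Module.Free (X.presheaf.stalk x) (F.presheaf.stalk x) :=
    Groth.Agent.H26.RegCMFree.free_of_isCohenMacaulayModule _ _ (hCM x) m₀ hm₀
  obtain ⟨U, n, hxU, ⟨e⟩⟩ :=
    Groth.Agent.H67.FreeLocus.exists_free_nhds_of_free_stalk F hV hxV hfree
  refine ⟨U, n, hxU, ?_, ⟨e⟩⟩
  obtain ⟨b⟩ := nonempty_basis_stalk F e hxU
  rcases Nat.eq_zero_or_pos n with rfl | hn
  · exfalso
    have h0 : m₀ = 0 := by
      apply b.repr.injective
      ext i
      exact i.elim0
    have h1 := hm₀ 1 (by rw [h0, smul_zero])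
    exact one_ne_zero h1
  · exact hn

/-- **(⇐)** -/
theorem cm_of_free_nhds (hreg : ∀ x : X, IsRegularLocalRing (X.presheaf.stalk x))
    (F : X.Modules) (hF : Coh.IsCoh F)
    (h : ∀ x : X, ∃ (U : X.Opens) (n : ℕ), x ∈ U ∧ 0 < n ∧
      Nonempty (F.restrict U.ι ≅ FlatMod.freeMod (↑U) n)) :
    CohB1.support F = Set.univ ∧
      ∀ x : X, LocCoh.IsCohenMacaulayModule (X.presheaf.stalk x) ↑(F.presheaf.stalk x) := by
  haveI : F.IsQuasicoherent := hF.1
  have key : ∀ x : X, Nontrivial (F.presheaf.stalk x) ∧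
      LocCoh.IsCohenMacaulayModule (X.presheaf.stalk x) ↑(F.presheaf.stalk x) := by
    intro x
    obtain ⟨U, n, hxU, hn, ⟨e⟩⟩ := h x
    obtain ⟨b⟩ := nonempty_basis_stalk F e hxU
    haveI := hreg x
    haveI : Module.Free (X.presheaf.stalk x) (F.presheaf.stalk x) := Module.Free.of_basis b
    haveI : Module.Finite (X.presheaf.stalk x) (F.presheaf.stalk x) := Module.Finite.of_basis b
    haveI : Nontrivial (F.presheaf.stalk x) := by
      exact ⟨⟨b ⟨0, hn⟩, 0, b.ne_zero ⟨0, hn⟩⟩⟩
    exact ⟨inferInstance,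
      Groth.Agent.H26.RegCMFree.isCohenMacaulayModule_of_free _ _⟩
  refine ⟨?_, fun x => (key x).2⟩
  ext x
  simp only [Set.mem_univ, iff_true]
  exact not_subsingleton_iff_nontrivial.mpr (key x).1

end Groth.Agent.H26.RegCMFreeSch
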