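import Mathlib
import Groth.Agent.Lead.RegularLocal4

/-! Regular quotients: `A/J` regular ⟹ (`A` regular ↔ `J` generated by a regular sequence). -/

set_option autoImplicit false
universe u

open IsLocalRing RingTheory.Sequence

namespace Groth.Agent.H26

lemma ofList_ofFn {R : Type*} [CommRing R] {n : ℕ} (f : Fin n → R) :
    Ideal.ofList (List.ofFn f) = Ideal.span (Set.range f) := by
  unfold Ideal.ofList
  congr 1
  ext r
  simp [List.mem_ofFn]

/-- Lifting regularity along a regular sequence. -/
theorem isRegularLocalRing_of_quotient_ofList (n : ℕ) : ∀ (A : Type u) [CommRing A]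
    [IsNoetherianRing A] [IsLocalRing A] (rs : List A), rs.length = n → IsRegular A rs →
    IsRegularLocalRing (A ⧸ Ideal.ofList rs) → IsRegularLocalRing A := by
  induction n with
  | zero =>
    intro A _ _ _ rs hlen _ hq
    have : rs = [] := List.length_eq_zero_iff.mp hlen
    subst this
    rw [Ideal.ofList_nil] at hq
    exact IsRegularLocalRing.of_ringEquiv (RingEquiv.quotientBot A)
  | succ n ih =>
    intro A _ _ _ rs hlen hreg hq
    obtain ⟨a, rs', rfl⟩ : ∃ a rs', rs = a :: rs' := by
      cases rs with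
      | nil => simp at hlen
      | cons a rs' => exact ⟨a, rs', rfl⟩
    have hlen' : rs'.length = n := by simpa using hlen
    have hJne : Ideal.ofList (a :: rs') ≠ ⊤ := by
      intro h
      have : Nontrivial (A ⧸ Ideal.ofList (a :: rs')) := hq.toIsLocalRing.toNontrivial
      exact (Ideal.Quotient.nontrivial_iff.mp this) h
    have haJ : a ∈ Ideal.ofList (a :: rs') := Ideal.subset_span (List.mem_cons_self)
    have ham : a ∈ maximalIdeal A := IsLocalRing.le_maximalIdeal hJne haJ
    rw [Groth.Agent.Lead.RLR.isRegular_cons_iff_quotient] at hreg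
    obtain ⟨hareg, hreg'⟩ := hreg
    have hspan_ne : Ideal.span {a} ≠ ⊤ := fun h => by
      have : a ∈ maximalIdeal A := ham
      rw [Ideal.span_singleton_eq_top] at h
      exact (IsLocalRing.mem_maximalIdeal a).mp this h
    have : IsLocalRing (A ⧸ Ideal.span {a}) :=
      Groth.Agent.Lead.RLR.isLocalRing_quotient A _ hspan_ne
    -- quotient of quotient
    have hmap : Ideal.ofList (rs'.map (Ideal.Quotient.mk (Ideal.span {a}))) =
        (Ideal.ofList rs').map (Ideal.Quotient.mk (Ideal.span {a})) := (Ideal.map_ofList _ _).symm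
    have hsup : Ideal.span {a} ⊔ Ideal.ofList rs' = Ideal.ofList (a :: rs') := by
      rw [Ideal.ofList_cons]
    let e1 : ((A ⧸ Ideal.span {a}) ⧸ (Ideal.ofList rs').map (Ideal.Quotient.mk (Ideal.span {a})))
        ≃+* A ⧸ (Ideal.span {a} ⊔ Ideal.ofList rs') := DoubleQuot.quotQuotEquivQuotSup _ _
    let e2 : A ⧸ (Ideal.span {a} ⊔ Ideal.ofList rs') ≃+* A ⧸ Ideal.ofList (a :: rs') :=
      Ideal.quotEquivOfEq hsup
    have hq' : IsRegularLocalRing ((A ⧸ Ideal.span {a}) ⧸
        Ideal.ofList (rs'.map (Ideal.Quotient.mk (Ideal.span {a})))) := by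
      rw [hmap]
      exact IsRegularLocalRing.of_ringEquiv (e1.trans e2).symm
    have : IsRegularLocalRing (A ⧸ Ideal.span {a}) :=
      ih (A ⧸ Ideal.span {a}) _ (by simpa using hlen') hreg' hq'
    refine Groth.Agent.Lead.RLR.of_quotient_regular A a ham ?_
    rw [mem_nonZeroDivisors_iff_right]
    intro y hy
    apply hareg
    simpa [smul_eq_mul, mul_comm] using hy

/-- The regular-ideal characterization. -/
theorem isRegularLocalRing_iff_exists_regular (A : Type u) [CommRing A] [IsNoetherianRing A]
    [IsLocalRing A] (J : Ideal A) [IsRegularLocalRing (A ⧸ J)] :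
    IsRegularLocalRing A ↔ ∃ rs : List A, IsRegular A rs ∧ Ideal.ofList rs = J := by
  constructor
  · intro hA
    obtain ⟨d, hd, -⟩ := Groth.Agent.Lead.RLR.exists_ringKrullDim_eq A
    obtain ⟨x, c, hc, hx, hJ⟩ := Groth.Agent.Lead.RLR.exists_generators A d hd J
    have hreg := Groth.Agent.Lead.RLR.isRegular_ofFn A d hd x hx
    refine ⟨(List.ofFn x).take c, ?_, ?_⟩
    · apply RingTheory.Sequence.IsRegular.of_isWeaklyRegular_of_mem_maximalIdeal
      · intro r hr
        have hr' : r ∈ List.ofFn x := List.mem_of_mem_take hr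
        obtain ⟨i, rfl⟩ := (List.mem_ofFn' x r).mp hr'
        rw [← hx]
        exact Ideal.subset_span ⟨i, rfl⟩
      · have h1 := hreg.toIsWeaklyRegular
        rw [← List.take_append_drop c (List.ofFn x), isWeaklyRegular_append_iff] at h1
        exact h1.1
    · rw [← Fin.ofFn_take_eq_take_ofFn hc x, ofList_ofFn, hJ]
      rfl
  · rintro ⟨rs, hreg, rfl⟩
    exact isRegularLocalRing_of_quotient_ofList rs.length A rs rfl hreg inferInstance

end Groth.Agent.H26
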