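import Mathlib.RingTheory.LocalProperties.ProjectiveDimension
import Mathlib.RingTheory.Spectrum.Prime.FreeLocus
import Groth.Agent.Lead.RegularGlDim

/-!
# Finite modules over a regular Noetherian ring have finite projective dimension
-/

set_option autoImplicit false
universe u
open CategoryTheory

namespace Groth.Agent.H26

section locus

variable {R : Type u} [CommRing R] [IsNoetherianRing R]

/-- the locus where the projective dimension is `≤ n` -/
def pdLocus (n : ℕ) (M : ModuleCat.{u} R) : Set (PrimeSpectrum R) :=
  {p | HasProjectiveDimensionLE (M.localizedModule p.asIdeal.primeCompl) n}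

omit [IsNoetherianRing R] in
theorem pdLocus_zero (M : ModuleCat.{u} R) [Module.Finite R M] :
    pdLocus 0 M = Module.freeLocus R M := by
  ext p
  have hfin : Module.Finite (Localization.AtPrime p.asIdeal)
      (M.localizedModule p.asIdeal.primeCompl) :=
    Module.Finite.of_isLocalizedModule p.asIdeal.primeCompl
      (M.localizedModuleMkLinearMap p.asIdeal.primeCompl)
  rw [Module.mem_freeLocus_of_isLocalization p (Localization.AtPrime p.asIdeal)
    (M.localizedModule p.asIdeal.primeCompl) (M.localizedModuleMkLinearMap p.asIdeal.primeCompl)]
  change HasProjectiveDimensionLE (M.localizedModule p.asIdeal.primeCompl) 0 ↔ _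
  simp only [HasProjectiveDimensionLE, zero_add, ← projective_iff_hasProjectiveDimensionLT_one]
  rw [← IsProjective.iff_projective]
  constructor
  · intro h
    exact Module.free_of_flat_of_isLocalRing
  · intro h
    exact Module.Projective.of_free

theorem isOpen_pdLocus (n : ℕ) (M : ModuleCat.{u} R) [Module.Finite R M] :
    IsOpen (pdLocus n M) := by
  induction n generalizing M with
  | zero =>
    rw [pdLocus_zero]
    have : Module.FinitePresentation R M := Module.finitePresentation_of_finite R M
    exact Module.isOpen_freeLocus
  | succ n ih =>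
    rcases Module.exists_finite_presentation R M with ⟨P, _, _, _, _, f, surjf⟩
    let S := f.shortComplexKer
    have S_exact := LinearMap.shortExact_shortComplexKer surjf
    have proj := ModuleCat.projective_of_categoryTheory_projective S.X₂
    let Sp (p : PrimeSpectrum R) :=
      S.map (ModuleCat.localizedModuleFunctor p.asIdeal.primeCompl)
    have Sp_exact (p : PrimeSpectrum R) : (Sp p).ShortExact :=
      S_exact.map_of_exact (ModuleCat.localizedModuleFunctor p.asIdeal.primeCompl)
    have projp (p : PrimeSpectrum R) : Projective (Sp p).X₂ :=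
      (ModuleCat.localizedModuleFunctor.{u} p.asIdeal.primeCompl).projective_obj_of_projective proj
    have heq : pdLocus (n + 1) M = pdLocus n (ModuleCat.of R (LinearMap.ker f)) := by
      ext p
      exact (Sp_exact p).hasProjectiveDimensionLT_X₃_iff n (projp p)
    rw [heq]
    exact ih (ModuleCat.of R (LinearMap.ker f))

end locus

/-- S5165 -/
theorem exists_hasProjectiveDimensionLE (A : Type u) [CommRing A] [IsRegularRing A] (M : Type u)
    [AddCommGroup M] [Module A M] [Module.Finite A M] :
    ∃ d : ℕ, HasProjectiveDimensionLE (ModuleCat.of A M) d := by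
  have hcover : ∀ p : PrimeSpectrum A, ∃ n, p ∈ pdLocus n (ModuleCat.of A M) := by
    intro p
    obtain ⟨d, hd, -⟩ :=
      Groth.Agent.Lead.RLR.exists_ringKrullDim_eq (Localization.AtPrime p.asIdeal)
    exact ⟨d, Groth.Agent.Lead.RLR.hasProjectiveDimensionLT (Localization.AtPrime p.asIdeal) d hd _⟩
  have hmono : Monotone (fun n => pdLocus n (ModuleCat.of A M)) := by
    intro n m hnm p hp
    have : HasProjectiveDimensionLT
        ((ModuleCat.of A M).localizedModule p.asIdeal.primeCompl) (n + 1) := hp
    exact hasProjectiveDimensionLT_of_ge _ (n + 1) (m + 1) (by omega)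
  obtain ⟨n, hn⟩ := isCompact_univ.elim_directed_cover
    (fun n => pdLocus n (ModuleCat.of A M)) (fun n => isOpen_pdLocus n _)
    (by
      intro p _
      rw [Set.mem_iUnion]
      exact hcover p) hmono.directed_le
  exact ⟨n, (ModuleCat.hasProjectiveDimensionLE_iff_forall_primeSpectrum n _).mpr
    (fun p => hn (Set.mem_univ p))⟩

end Groth.Agent.H26
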