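import Mathlib
import Groth.Prelude.Def_DDual2
import Groth.Agent.H26.ExtEvVan7
import Groth.Agent.H26.FlatBCDual3
import Groth.Agent.H2.DualCx.Depth

/-!
# Bass-type vanishing: `Ext^i(k, R) = 0` for `i > d` implies `Ext^i(M, R) = 0` for `i > d` and all
finite `M` over a Noetherian local ring (helper26)
-/

set_option autoImplicit false
set_option linter.unusedSectionVars false
set_option linter.style.haveILetI false

universe u

open CategoryTheory Limits Pretriangulated DerivedCategory IsLocalRing

namespace Groth.Agent.H26.ResDual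

attribute [local instance] HasDerivedCategory.standard

open Groth.Agent.H2.DualCx Groth.Agent.H26.ExtEvVan

variable {A : Type u} [CommRing A] [IsNoetherianRing A] (W : Dual.D A)

/-- vanishing of `Hom(M[0], W[i])` for `i > d` -/
def VA (d : ℤ) (M : Type u) [AddCommGroup M] [Module A M] : Prop :=
  ∀ i : ℤ, d < i → Subsingleton (T W i M)

variable {W}

theorem VA.of_linearEquiv {d : ℤ} {M N : Type u} [AddCommGroup M] [Module A M] [AddCommGroup N]
    [Module A N] (e : M ≃ₗ[A] N) (h : VA W d M) : VA W d N := by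
  intro i hi
  haveI := h i hi
  exact (congr W i e).toEquiv.subsingleton

theorem VA.of_subsingleton (d : ℤ) (M : Type u) [AddCommGroup M] [Module A M] [Subsingleton M] :
    VA W d M := fun i _ => subsingleton_of_subsingleton W i

theorem VA.of_ses {d : ℤ} {N₁ N₂ N₃ : Type u} [AddCommGroup N₁] [Module A N₁] [AddCommGroup N₂]
    [Module A N₂] [AddCommGroup N₃] [Module A N₃] (φ : N₁ →ₗ[A] N₂) (ψ : N₂ →ₗ[A] N₃)
    (hφ : Function.Injective φ) (hψ : Function.Surjective ψ) (hex : Function.Exact φ ψ)
    (h₁ : VA W d N₁) (h₃ : VA W d N₃) : VA W d N₂ := by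
  intro i hi
  exact subsingleton_mid W (sc_shortExact φ ψ hφ hψ hex) i (h₁ i hi) (h₃ i hi)

/-- vanishing for all finite modules killed by `J` from the prime quotients above `J` -/
theorem VA.of_le_annihilator {d : ℤ} (J : Ideal A)
    (hq : ∀ q : PrimeSpectrum A, J ≤ q.asIdeal → VA W d (A ⧸ q.asIdeal))
    (M : Type u) [AddCommGroup M] [Module A M] [Module.Finite A M]
    (hJ : J ≤ Module.annihilator A M) : VA W d M := by
  refine induction_of_le_annihilator J (fun N _ _ => VA W d N) ?_ ?_ ?_ M hJ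
  · intro N _ _ _
    exact VA.of_subsingleton d N
  · intro N _ _ q hJq e
    exact VA.of_linearEquiv e.symm (hq q hJq)
  · intro N₁ N₂ N₃ _ _ _ _ _ _ φ ψ hφ hψ hex h₁ h₃
    exact VA.of_ses φ ψ hφ hψ hex h₁ h₃

variable [IsLocalRing A]

/-- Nakayama: a finite module on which some `f ∈ 𝔪` acts surjectively is zero -/
theorem subsingleton_of_smul_surjective (N : Type*) [AddCommGroup N] [Module A N]
    [Module.Finite A N] (f : A) (hf : f ∈ maximalIdeal A)
    (h : ∀ t : N, ∃ s : N, t = f • s) : Subsingleton N := by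
  have h1 : (⊤ : Submodule A N) = ⊥ := by
    refine Submodule.eq_bot_of_le_smul_of_le_jacobson_bot (maximalIdeal A) ⊤ Module.Finite.fg_top
      ?_ ?_
    · intro t _
      obtain ⟨s, rfl⟩ := h t
      exact Submodule.smul_mem_smul hf Submodule.mem_top
    · rw [IsLocalRing.jacobson_eq_maximalIdeal ⊥ bot_ne_top]
  exact (Submodule.subsingleton_iff A).mp (subsingleton_of_bot_eq_top h1.symm)

/-- the step at a non-maximal prime -/
theorem VA.step {d : ℤ} (a : ℤ) (hGE : W.IsGE a)
    (hfin : ∀ i : ℤ, Module.Finite A (Dual.HD A W i))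
    (p : PrimeSpectrum A)
    (IH : ∀ q : PrimeSpectrum A, p < q → VA W d (A ⧸ q.asIdeal))
    (hp : p.asIdeal ≠ maximalIdeal A) : VA W d (A ⧸ p.asIdeal) := by
  haveI := p.2
  have hlt : p.asIdeal < maximalIdeal A :=
    lt_of_le_of_ne (IsLocalRing.le_maximalIdeal p.2.ne_top) hp
  obtain ⟨f, hfm, hfp⟩ := SetLike.exists_of_lt hlt
  let J : Ideal A := p.asIdeal ⊔ Ideal.span {f}
  have hJ : ∀ q : PrimeSpectrum A, J ≤ q.asIdeal → p < q := by
    intro q hq
    have h1 : p.asIdeal ≤ q.asIdeal := le_trans le_sup_left hq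
    have h2 : f ∈ q.asIdeal := hq (Ideal.mem_sup_right (Ideal.subset_span rfl))
    refine lt_of_le_of_ne h1 ?_
    intro heq
    subst heq
    exact hfp h2
  have hAJ : VA W d (A ⧸ J) :=
    VA.of_le_annihilator J (fun q hq => IH q (hJ q hq)) (A ⧸ J)
      (by rw [Ideal.annihilator_quotient])
  intro i hi
  haveI : Module.Finite A (T W i (A ⧸ p.asIdeal)) :=
    finite_T W a (fun M _ _ j hj => Groth.Agent.H26.FlatBCDual.subsingleton_T_of_isGE W a hGE M j hj)
      hfin i (A ⧸ p.asIdeal)
  refine subsingleton_of_smul_surjective (T W i (A ⧸ p.asIdeal)) f hfm (fun t => ?_)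
  have hS := sc_shortExact (mulf p.asIdeal f) (quotf p.asIdeal f)
    (mulf_injective p.asIdeal f hfp) (quotf_surjective p.asIdeal f)
    (exact_mulf_quotf p.asIdeal f)
  obtain ⟨g, hg⟩ := exists_extend W hS i (i + 1) rfl (hAJ (i + 1) (by omega)) t
  refine ⟨g, ?_⟩
  rw [hg]
  exact precomp_smul_id W i f g

/-- **Bass-type vanishing.** -/
theorem VA.of_residue {d : ℤ} (a : ℤ) (hGE : W.IsGE a)
    (hfin : ∀ i : ℤ, Module.Finite A (Dual.HD A W i))
    (hk : VA W d (ResidueField A))
    (M : Type u) [AddCommGroup M] [Module A M] [Module.Finite A M] : VA W d M := by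
  haveI : WellFoundedGT (PrimeSpectrum A) :=
    StrictMono.wellFoundedGT (f := PrimeSpectrum.asIdeal) (fun _ _ h => h)
  have hprime : ∀ p : PrimeSpectrum A, VA W d (A ⧸ p.asIdeal) := by
    intro p
    induction p using WellFoundedGT.induction with
    | ind p IH =>
      by_cases hp : p.asIdeal = maximalIdeal A
      · have e : ResidueField A ≃ₗ[A] A ⧸ p.asIdeal :=
          (quotEquivResidue (A := A)).symm.trans (Submodule.quotEquivOfEq _ _ hp.symm)
        exact VA.of_linearEquiv e hk
      · exact VA.step a hGE hfin p IH hp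
  exact VA.of_le_annihilator ⊥ (fun q _ => hprime q) M bot_le

end Groth.Agent.H26.ResDual
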