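import Mathlib
import Groth.Agent.H10.BD8

/-!
# A Nakayama five lemma for reflexivity (helper26)

If `0 → K --x--> K → K'' → 0` is exact with `x` in the maximal ideal, `K''` is `I`-reflexive and the
cohomology modules of `K` and `DD K` are finite, then `K` is `I`-reflexive.
-/

set_option autoImplicit false
set_option linter.unusedSectionVars false
set_option linter.style.haveILetI false

universe u

open CategoryTheory CategoryTheory.Limits CochainComplex CochainComplex.HomComplex HomologicalComplex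
open IsLocalRing

namespace Groth.Agent.H26.ResDual

open Groth.Agent.H10.BD Groth.Agent.H84.RHom

section Chase

variable {A : Type u} [CommRing A] [IsLocalRing A] [IsNoetherianRing A]
variable {F F'' Fm Fp G G'' Gm Gp : Type*} [AddCommGroup F] [Module A F] [AddCommGroup F'']
  [Module A F''] [AddCommGroup Fm] [Module A Fm] [AddCommGroup Fp] [Module A Fp]
  [AddCommGroup G] [Module A G] [AddCommGroup G''] [Module A G''] [AddCommGroup Gm] [Module A Gm]
  [AddCommGroup Gp] [Module A Gp]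

theorem injective_of_chase (x : A) (hx : x ∈ maximalIdeal A) [Module.Finite A F]
    (g : F →ₗ[A] F'') (δ : Fm →ₗ[A] F) (g' : G →ₗ[A] G'') (δ' : Gm →ₗ[A] G)
    (φ : F →ₗ[A] G) (ψ : F'' →ₗ[A] G'') (ψm : Fm →ₗ[A] Gm)
    (h1 : ∀ p, g p = 0 → ∃ p', p = x • p')
    (h2 : ∀ q : G, x • q = 0 → ∃ s', δ' s' = q)
    (h3 : ∀ s, x • δ s = 0)
    (c1 : ∀ p, g' (φ p) = ψ (g p))
    (c2 : ∀ s, φ (δ s) = δ' (ψm s))
    (hψ : Function.Injective ψ) (hψm : Function.Surjective ψm) : Function.Injective φ := by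
  rw [← LinearMap.ker_eq_bot]
  refine Submodule.eq_bot_of_le_smul_of_le_jacobson_bot (maximalIdeal A) _
    (IsNoetherian.noetherian _) ?_ ?_
  · intro p hp
    rw [LinearMap.mem_ker] at hp
    have hg : g p = 0 := by
      apply hψ
      rw [← c1, hp, map_zero, map_zero]
    obtain ⟨p', rfl⟩ := h1 p hg
    have h4 : x • φ p' = 0 := by rw [← map_smul, hp]
    obtain ⟨s', hs'⟩ := h2 _ h4
    obtain ⟨s, rfl⟩ := hψm s'
    have h5 : p' - δ s ∈ LinearMap.ker φ := by
      rw [LinearMap.mem_ker, map_sub, c2, hs', sub_self]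
    have h6 : x • p' = x • (p' - δ s) := by
      rw [smul_sub, h3, sub_zero]
    rw [h6]
    exact Submodule.smul_mem_smul hx h5
  · rw [IsLocalRing.jacobson_eq_maximalIdeal ⊥ bot_ne_top]

theorem surjective_of_chase (x : A) (hx : x ∈ maximalIdeal A) [Module.Finite A G]
    (g : F →ₗ[A] F'') (δ : F'' →ₗ[A] Fp) (g' : G →ₗ[A] G'') (δ' : G'' →ₗ[A] Gp)
    (φ : F →ₗ[A] G) (ψ : F'' →ₗ[A] G'') (φp : Fp →ₗ[A] Gp)
    (h1 : ∀ r, δ r = 0 → ∃ p, g p = r)
    (h2 : ∀ q, g' q = 0 → ∃ q', q = x • q')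
    (h3 : ∀ q, δ' (g' q) = 0)
    (c1 : ∀ p, g' (φ p) = ψ (g p))
    (c2 : ∀ r, φp (δ r) = δ' (ψ r))
    (hψ : Function.Surjective ψ) (hφp : Function.Injective φp) : Function.Surjective φ := by
  rw [← LinearMap.range_eq_top, eq_top_iff]
  refine Submodule.le_of_le_smul_of_le_jacobson_bot (I := maximalIdeal A) Module.Finite.fg_top
    (by rw [IsLocalRing.jacobson_eq_maximalIdeal ⊥ bot_ne_top]) ?_
  intro q _
  obtain ⟨r, hr⟩ := hψ (g' q)
  have h4 : δ r = 0 := by
    apply hφp
    rw [c2, hr, h3, map_zero]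
  obtain ⟨p, rfl⟩ := h1 r h4
  have h5 : g' (q - φ p) = 0 := by
    rw [map_sub, c1, hr, sub_self]
  obtain ⟨q', hq'⟩ := h2 _ h5
  have h6 : q = φ p + x • q' := by
    rw [← hq']
    abel
  rw [h6]
  exact Submodule.add_mem_sup (LinearMap.mem_range_self φ p)
    (Submodule.smul_mem_smul hx Submodule.mem_top)

end Chase

section Smul

variable {A : Type u} [CommRing A] (I : DRing.Cx A)

lemma homologyMap_smul' {K L : DRing.Cx A} (a : A) (f : K ⟶ L) (i : ℤ) :
    homologyMap (a • f) i = a • homologyMap f i := by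
  have h : (shortComplexFunctor (ModuleCat.{u} A) (ComplexShape.up ℤ) i).map (a • f) =
      a • (shortComplexFunctor (ModuleCat.{u} A) (ComplexShape.up ℤ) i).map f := by
    ext <;> rfl
  change ShortComplex.homologyMap
    ((shortComplexFunctor (ModuleCat.{u} A) (ComplexShape.up ℤ) i).map (a • f)) = _
  rw [h, ShortComplex.homologyMap_smul]
  rfl

lemma Dmap_smul {K K' : DRing.Cx A} (a : A) (f : K ⟶ K') : Dmap I (a • f) = a • Dmap I f := by
  ext p (z : Cochain K' I p)
  change (Cochain.ofHom (a • f)).comp z (zero_add p) = a • (Cochain.ofHom f).comp z (zero_add p)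
  refine Cochain.ext _ _ (fun i j hij => ?_)
  rw [Cochain.zero_cochain_comp_v, Cochain.ofHom_v, Cochain.smul_v, Cochain.zero_cochain_comp_v,
    Cochain.ofHom_v]
  simp

lemma DDmap_smul {K K' : DRing.Cx A} (a : A) (f : K ⟶ K') : DDmap I (a • f) = a • DDmap I f := by
  rw [DDmap, Dmap_smul, Dmap_smul]

end Smul

end Groth.Agent.H26.ResDual
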