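import Mathlib
import Groth.Agent.H26.ResDual2

/-!
# The Nakayama step for reflexivity (helper26)
-/

set_option autoImplicit false
set_option linter.unusedSectionVars false
set_option linter.style.haveILetI false

universe u

open CategoryTheory CategoryTheory.Limits CochainComplex CochainComplex.HomComplex HomologicalComplex
open IsLocalRing

namespace Groth.Agent.H26.ResDual

open Groth.Agent.H10.BD Groth.Agent.H84.RHom

variable {A : Type u} [CommRing A] [IsLocalRing A] [IsNoetherianRing A] {I : DRing.Cx A}
  [∀ q, Injective (I.X q)]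

lemma refl_iff_bijective (K : DRing.Cx A) :
    Refl I K ↔ ∀ j : ℤ, Function.Bijective (homologyMap (evc I K) j).hom := by
  rw [refl_iff_forall]
  refine forall_congr' (fun j => ?_)
  rw [ReflAt, quasiIsoAt_iff_isIso_homologyMap, ConcreteCategory.isIso_iff_bijective]

theorem refl_of_smul_ses (x : A) (hx : x ∈ maximalIdeal A) (K K'' : DRing.Cx A) (g : K ⟶ K'')
    (w : (x • 𝟙 K) ≫ g = 0) (hS : (ShortComplex.mk (x • 𝟙 K) g w).ShortExact)
    (hK'' : Refl I K'')
    (hfin : ∀ j : ℤ, Module.Finite A (K.homology j))
    (hfin' : ∀ j : ℤ, Module.Finite A ((Dc I (Dc I K)).homology j)) : Refl I K := by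
  have hS' := DDS_shortExact (I := I) _ hS
  have hSf : ∀ j, homologyMap (x • 𝟙 K) j = x • 𝟙 _ := by
    intro j
    rw [homologyMap_smul', homologyMap_id]
  have hS'f : ∀ j, homologyMap (DDmap I (x • 𝟙 K)) j = x • 𝟙 _ := by
    intro j
    rw [DDmap_smul, DDmap_id, homologyMap_smul', homologyMap_id]
  have hψ := (refl_iff_bijective K'').1 hK''
  have c1 : ∀ j, homologyMap (evc I K) j ≫ homologyMap (DDmap I g) j =
      homologyMap g j ≫ homologyMap (evc I K'') j := by
    intro j
    rw [← homologyMap_comp, ← homologyMap_comp, evc_naturality I g]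
  have hinj : ∀ j, Function.Injective (homologyMap (evc I K) j).hom := by
    intro j
    have hrel : (ComplexShape.up ℤ).Rel (j - 1) j := by simp
    haveI := hfin j
    refine injective_of_chase x hx (homologyMap g j).hom (hS.δ (j - 1) j hrel).hom
      (homologyMap (DDmap I g) j).hom (hS'.δ (j - 1) j hrel).hom _
      (homologyMap (evc I K'') j).hom (homologyMap (evc I K'') (j - 1)).hom
      ?_ ?_ ?_ ?_ ?_ (hψ j).1 (hψ (j - 1)).2
    · intro p hp
      have h := (ShortComplex.moduleCat_exact_iff _).1 (hS.homology_exact₂ j) p hp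
      obtain ⟨p', hp'⟩ := h
      refine ⟨p', ?_⟩
      rw [← hp']
      change (homologyMap (x • 𝟙 K) j).hom p' = _
      rw [hSf]
      rfl
    · intro q hq
      refine (ShortComplex.moduleCat_exact_iff _).1 (hS'.homology_exact₁ (j - 1) j hrel) q ?_
      change (homologyMap (DDmap I (x • 𝟙 K)) j).hom q = 0
      rw [hS'f]
      exact hq
    · intro s
      have h := hS.δ_comp (j - 1) j hrel
      change hS.δ (j - 1) j hrel ≫ homologyMap (x • 𝟙 K) j = 0 at h
      rw [hSf, Linear.comp_smul, Category.comp_id] at h
      have := congrArg (fun f => f.hom s) h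
      exact this
    · intro p
      have := congrArg (fun f => f.hom p) (c1 j)
      exact this
    · intro s
      have h := HomologySequence.δ_naturality (evS I (ShortComplex.mk (x • 𝟙 K) g w)) hS hS'
        (j - 1) j hrel
      have := congrArg (fun f => f.hom s) h
      exact this
  rw [refl_iff_bijective]
  intro j
  refine ⟨hinj j, ?_⟩
  have hrel : (ComplexShape.up ℤ).Rel j (j + 1) := by simp
  haveI := hfin' j
  refine surjective_of_chase x hx (homologyMap g j).hom (hS.δ j (j + 1) hrel).hom
    (homologyMap (DDmap I g) j).hom (hS'.δ j (j + 1) hrel).hom _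
    (homologyMap (evc I K'') j).hom (homologyMap (evc I K) (j + 1)).hom
    ?_ ?_ ?_ ?_ ?_ (hψ j).2 (hinj (j + 1))
  · intro r hr
    exact (ShortComplex.moduleCat_exact_iff _).1 (hS.homology_exact₃ j (j + 1) hrel) r hr
  · intro q hq
    have h := (ShortComplex.moduleCat_exact_iff _).1 (hS'.homology_exact₂ j) q hq
    obtain ⟨q', hq'⟩ := h
    refine ⟨q', ?_⟩
    rw [← hq']
    change (homologyMap (DDmap I (x • 𝟙 K)) j).hom q' = _
    rw [hS'f]
    rfl
  · intro q
    have h := hS'.comp_δ j (j + 1) hrel
    have := congrArg (fun f => f.hom q) h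
    exact this
  · intro p
    have := congrArg (fun f => f.hom p) (c1 j)
    exact this
  · intro r
    have h := HomologySequence.δ_naturality (evS I (ShortComplex.mk (x • 𝟙 K) g w)) hS hS'
      j (j + 1) hrel
    have := congrArg (fun f => f.hom r) h
    exact this

end Groth.Agent.H26.ResDual
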