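import Mathlib
import Groth.Agent.H26.ResDual1
import Groth.Agent.H26.ResDual3
import Groth.Agent.H10.BD9

/-!
# Reflexivity of the residue field implies reflexivity of all finite modules (helper26)
-/

set_option autoImplicit false
set_option linter.unusedSectionVars false
set_option linter.style.haveILetI false

universe u

open CategoryTheory CategoryTheory.Limits CochainComplex CochainComplex.HomComplex HomologicalComplex
open IsLocalRing DerivedCategory

namespace Groth.Agent.H26.ResDual

open Groth.Agent.H10.BD Groth.Agent.H84.RHom Groth.Agent.H2.DualCx Groth.Agent.H26.ExtEvVan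

attribute [local instance] HasDerivedCategory.standard

section Fin

variable {A : Type u} [CommRing A] [IsNoetherianRing A] {I : DRing.Cx A} {a b : ℤ}

lemma finite_homology_iff (X : DRing.Cx A) (j : ℤ) :
    Module.Finite A (X.homology j) ↔ Module.Finite A (Dual.HD A (Q.obj X) j) := by
  let e : Dual.HD A (Q.obj X) j ≃ₗ[A] X.homology j :=
    ((homologyFunctorFactors (ModuleCat.{u} A) j).app X).toLinearEquiv
  exact ⟨fun h => Module.Finite.equiv e.symm, fun h => Module.Finite.equiv e⟩

lemma finite_homology_Dc (hI : BInj I a b)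
    (hIfin : ∀ i : ℤ, Module.Finite A (Dual.HD A (Q.obj I) i)) (X : DRing.Cx A)
    (hX : ∀ i : ℤ, Module.Finite A (X.homology i)) (j : ℤ) :
    Module.Finite A ((Dc I X).homology j) := by
  have := hI.isKInjective
  have e := Groth.Agent.H9.RH.homologyEquiv X I j
  have : Module.Finite A (Q.obj X ⟶ (Q.obj I)⟦j⟧) :=
    Groth.Agent.H28.ExtFinite.finite_hom_of_injAmp (Q.obj X) (Q.obj I)
      (fun q => (finite_homology_iff X q).1 (hX q)) hIfin a b
      ⟨I, hI.vanishes, hI.injective, ⟨Iso.refl _⟩⟩ j
  exact Module.Finite.equiv e.symm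

lemma finite_homology_sg (M : ModuleCat.{u} A) [Module.Finite A M] (j : ℤ) :
    Module.Finite A ((sg M).homology j) := by
  by_cases hj : j = 0
  · subst hj
    exact Module.Finite.equiv
      (HomologicalComplex.singleObjHomologySelfIso (ComplexShape.up ℤ) 0 M).toLinearEquiv.symm
  · have hz : IsZero ((sg M).homology j) := by
      rw [← exactAt_iff_isZero_homology]
      exact ShortComplex.exact_of_isZero_X₂ _
        (HomologicalComplex.isZero_single_obj_X (ComplexShape.up ℤ) 0 M j hj)
    have : Subsingleton ((sg M).homology j) := ModuleCat.subsingleton_of_isZero hz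
    infer_instance

end Fin

section Single

variable {A : Type u} [CommRing A]

lemma single_map_smul_id (M : ModuleCat.{u} A) (x : A) :
    (HomologicalComplex.single (ModuleCat.{u} A) (ComplexShape.up ℤ) 0).map (x • 𝟙 M) =
      x • 𝟙 (sg M) := by
  apply HomologicalComplex.from_single_hom_ext
  rw [HomologicalComplex.single_map_f_self]
  simp

lemma shortExact_mk_of_eq {C : Type*} [Category C] [Abelian C] (S : ShortComplex C)
    (hS : S.ShortExact) (f' : S.X₁ ⟶ S.X₂) (h : S.f = f') :
    (ShortComplex.mk f' S.g (by rw [← h]; exact S.zero)).ShortExact := by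
  subst h
  exact hS

end Single

section Main

variable {A : Type u} [CommRing A] [IsLocalRing A] [IsNoetherianRing A] {I : DRing.Cx A} {a b : ℤ}
  (hI : BInj I a b) (hIfin : ∀ i : ℤ, Module.Finite A (Dual.HD A (Q.obj I) i))

include hI

lemma refl_sg_of_iso {M N : ModuleCat.{u} A} (e : M ≅ N) (h : Refl I (sg M)) : Refl I (sg N) := by
  have := hI.isKInjective
  have : IsIso ((HomologicalComplex.single (ModuleCat.{u} A) (ComplexShape.up ℤ) 0).map e.hom) :=
    inferInstance
  exact (refl_iff_of_quasiIso I
    ((HomologicalComplex.single (ModuleCat.{u} A) (ComplexShape.up ℤ) 0).map e.hom)).1 h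

/-- reflexivity for all finite modules killed by `J` from the prime quotients above `J` -/
theorem refl_sg_of_le_annihilator (J : Ideal A)
    (hq : ∀ q : PrimeSpectrum A, J ≤ q.asIdeal → Refl I (sg (ModuleCat.of A (A ⧸ q.asIdeal))))
    (M : Type u) [AddCommGroup M] [Module A M] [Module.Finite A M]
    (hJ : J ≤ Module.annihilator A M) : Refl I (sg (ModuleCat.of A M)) := by
  have := hI.injective_X
  refine induction_of_le_annihilator J (fun N _ _ => Refl I (sg (ModuleCat.of A N))) ?_ ?_ ?_ M hJ
  · intro N _ _ _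
    exact refl_of_isZero I (isZero_sg (ModuleCat.isZero_of_subsingleton _))
  · intro N _ _ q hJq e
    exact refl_sg_of_iso hI e.symm.toModuleIso (hq q hJq)
  · intro N₁ N₂ N₃ _ _ _ _ _ _ φ ψ hφ hψ hex h₁ h₃
    exact refl_X₂ I (sgS (sc φ ψ hex)) (sgS_shortExact _ (sc_shortExact φ ψ hφ hψ hex)) h₁ h₃

include hIfin

/-- the step at a non-maximal prime -/
theorem refl_sg_step (p : PrimeSpectrum A)
    (IH : ∀ q : PrimeSpectrum A, p < q → Refl I (sg (ModuleCat.of A (A ⧸ q.asIdeal))))
    (hp : p.asIdeal ≠ maximalIdeal A) : Refl I (sg (ModuleCat.of A (A ⧸ p.asIdeal))) := by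
  have := hI.injective_X
  haveI := p.2
  have hlt : p.asIdeal < maximalIdeal A :=
    lt_of_le_of_ne (IsLocalRing.le_maximalIdeal p.2.ne_top) hp
  obtain ⟨f, hfm, hfp⟩ := SetLike.exists_of_lt hlt
  let J : Ideal A := p.asIdeal ⊔ Ideal.span {f}
  have hJ : ∀ q : PrimeSpectrum A, J ≤ q.asIdeal → p < q := by
    intro q hq
    have h1 : p.asIdeal ≤ q.asIdeal := le_trans le_sup_left hq
    have h2 : f ∈ q.asIdeal := hq (Ideal.mem_sup_right (Ideal.subset_span rfl))
    refine lt_of_le_of_ne h1 ?_
    intro heq
    subst heq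
    exact hfp h2
  have hAJ : Refl I (sg (ModuleCat.of A (A ⧸ J))) :=
    refl_sg_of_le_annihilator hI J (fun q hq => IH q (hJ q hq)) (A ⧸ J)
      (by rw [Ideal.annihilator_quotient])
  have hS := sgS_shortExact _ (sc_shortExact (mulf p.asIdeal f) (quotf p.asIdeal f)
    (mulf_injective p.asIdeal f hfp) (quotf_surjective p.asIdeal f)
    (exact_mulf_quotf p.asIdeal f))
  have hfeq : (sgS (sc (mulf p.asIdeal f) (quotf p.asIdeal f) (exact_mulf_quotf p.asIdeal f))).f =
      f • 𝟙 (sg (ModuleCat.of A (A ⧸ p.asIdeal))) := by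
    rw [← single_map_smul_id]
    rfl
  have hS' := shortExact_mk_of_eq _ hS _ hfeq
  have hfinK : ∀ j : ℤ, Module.Finite A ((sg (ModuleCat.of A (A ⧸ p.asIdeal))).homology j) :=
    fun j => finite_homology_sg _ j
  refine refl_of_smul_ses f hfm _ _ _ _ hS' hAJ hfinK ?_
  exact finite_homology_Dc hI hIfin _ (finite_homology_Dc hI hIfin _ hfinK)

/-- **Reflexivity of all finite modules from reflexivity of the residue field.** -/
theorem refl_sg_of_residue (hk : Refl I (sg (ModuleCat.of A (ResidueField A))))
    (M : Type u) [AddCommGroup M] [Module A M] [Module.Finite A M] :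
    Refl I (sg (ModuleCat.of A M)) := by
  haveI : WellFoundedGT (PrimeSpectrum A) :=
    StrictMono.wellFoundedGT (f := PrimeSpectrum.asIdeal) (fun _ _ h => h)
  have hprime : ∀ p : PrimeSpectrum A, Refl I (sg (ModuleCat.of A (A ⧸ p.asIdeal))) := by
    intro p
    induction p using WellFoundedGT.induction with
    | ind p IH =>
      by_cases hp : p.asIdeal = maximalIdeal A
      · have e : ResidueField A ≃ₗ[A] A ⧸ p.asIdeal :=
          (quotEquivResidue (A := A)).symm.trans (Submodule.quotEquivOfEq _ _ hp.symm)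
        exact refl_sg_of_iso hI e.toModuleIso hk
      · exact refl_sg_step hI hIfin p IH hp
  exact refl_sg_of_le_annihilator hI ⊥ (fun q _ => hprime q) M bot_le

end Main

end Groth.Agent.H26.ResDual
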