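import Mathlib

/-!
# Elementwise descriptions of injectivity / bijectivity of maps on cohomology of complexes of modules
(helper26)
-/

set_option autoImplicit false
set_option linter.unusedSectionVars false

universe u

open CategoryTheory CategoryTheory.Limits

namespace Groth.Agent.H26.ResDual

variable {A : Type u} [CommRing A]

section SC

variable {S₁ S₂ : ShortComplex (ModuleCat.{u} A)} (ψ : S₁ ⟶ S₂)

/-- the concrete description of the map on homology -/
theorem sc_homologyMap_conj :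
    ∃ (e₁ : S₁.homology ≅ S₁.moduleCatLeftHomologyData.H)
      (e₂ : S₂.homology ≅ S₂.moduleCatLeftHomologyData.H)
      (γ : ShortComplex.LeftHomologyMapData ψ S₁.moduleCatLeftHomologyData
        S₂.moduleCatLeftHomologyData),
      ShortComplex.homologyMap ψ = e₁.hom ≫ γ.φH ≫ e₂.inv := by
  let γ : ShortComplex.LeftHomologyMapData ψ S₁.moduleCatLeftHomologyData
    S₂.moduleCatLeftHomologyData := default
  exact ⟨S₁.moduleCatLeftHomologyData.homologyIso, S₂.moduleCatLeftHomologyData.homologyIso, γ,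
    γ.homologyMap_eq⟩

theorem sc_injective_iff :
    Function.Injective (ShortComplex.homologyMap ψ).hom ↔
      ∀ z : S₁.X₂, S₁.g z = 0 → (∃ w : S₂.X₁, S₂.f w = ψ.τ₂ z) → ∃ w' : S₁.X₁, S₁.f w' = z := by
  obtain ⟨e₁, e₂, γ, hγ⟩ := sc_homologyMap_conj ψ
  let h₁ := S₁.moduleCatLeftHomologyData
  let h₂ := S₂.moduleCatLeftHomologyData
  have commπ : ∀ k : h₁.K, γ.φH (h₁.π k) = h₂.π (γ.φK k) := by
    intro k
    have := congrArg (fun f => f k) (ModuleCat.hom_ext_iff.1 γ.commπ)
    simp only [ModuleCat.hom_comp, LinearMap.comp_apply] at this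
    exact this
  have commi : ∀ k : h₁.K, h₂.i (γ.φK k) = ψ.τ₂ (h₁.i k) := by
    intro k
    have := congrArg (fun f => f k) (ModuleCat.hom_ext_iff.1 γ.commi)
    simp only [ModuleCat.hom_comp, LinearMap.comp_apply] at this
    exact this
  have π₁surj : ∀ x : h₁.H, ∃ k : h₁.K, h₁.π k = x :=
    Submodule.mkQ_surjective (LinearMap.range S₁.moduleCatToCycles)
  have π₁zero : ∀ k : LinearMap.ker S₁.g.hom,
      h₁.π k = 0 ↔ k ∈ LinearMap.range S₁.moduleCatToCycles := by
    intro k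
    change (LinearMap.range S₁.moduleCatToCycles).mkQ k = 0 ↔ _
    rw [Submodule.mkQ_apply, Submodule.Quotient.mk_eq_zero]
  have π₂zero : ∀ k : LinearMap.ker S₂.g.hom,
      h₂.π k = 0 ↔ k ∈ LinearMap.range S₂.moduleCatToCycles := by
    intro k
    change (LinearMap.range S₂.moduleCatToCycles).mkQ k = 0 ↔ _
    rw [Submodule.mkQ_apply, Submodule.Quotient.mk_eq_zero]
  have hiff : Function.Injective (ShortComplex.homologyMap ψ).hom ↔
      Function.Injective γ.φH.hom := by
    rw [hγ]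
    have he₁ : Function.Bijective e₁.hom.hom :=
      (ConcreteCategory.isIso_iff_bijective e₁.hom).1 inferInstance
    have he₂ : Function.Bijective e₂.inv.hom :=
      (ConcreteCategory.isIso_iff_bijective e₂.inv).1 inferInstance
    have : (e₁.hom ≫ γ.φH ≫ e₂.inv).hom = e₂.inv.hom ∘ₗ γ.φH.hom ∘ₗ e₁.hom.hom := rfl
    rw [this, LinearMap.coe_comp, LinearMap.coe_comp]
    constructor
    · intro h
      have h1 := (Function.Injective.of_comp_iff he₂.1 _).1 h
      exact (Function.Injective.of_comp_iff' _ he₁).1 h1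
    · intro h
      exact he₂.1.comp (h.comp he₁.1)
  rw [hiff]
  constructor
  · intro hinj z hz ⟨w, hw⟩
    let k : h₁.K := ⟨z, hz⟩
    have h0 : γ.φH (h₁.π k) = 0 := by
      rw [commπ, π₂zero]
      refine ⟨w, Subtype.ext ?_⟩
      change S₂.f w = h₂.i (γ.φK k)
      rw [commi, hw]
      rfl
    have h1 : h₁.π k = 0 := hinj (by rw [h0, map_zero])
    obtain ⟨w', hw'⟩ := (π₁zero k).1 h1
    exact ⟨w', congrArg Subtype.val hw'⟩
  · intro hinj
    rw [injective_iff_map_eq_zero]
    intro x hx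
    obtain ⟨k, rfl⟩ := π₁surj x
    have hx' : γ.φH (h₁.π k) = 0 := hx
    rw [commπ] at hx'
    obtain ⟨w, hw⟩ := (π₂zero _).mp hx'
    have hw' : S₂.f w = ψ.τ₂ (h₁.i k) := by
      rw [← commi, ← hw]
      rfl
    obtain ⟨w', hw''⟩ := hinj (h₁.i k) k.2 ⟨w, hw'⟩
    exact (π₁zero _).mpr ⟨w', Subtype.ext hw''⟩

theorem sc_surjective_iff :
    Function.Surjective (ShortComplex.homologyMap ψ).hom ↔
      ∀ y : S₂.X₂, S₂.g y = 0 →
        ∃ z : S₁.X₂, S₁.g z = 0 ∧ ∃ w : S₂.X₁, y = ψ.τ₂ z + S₂.f w := by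
  obtain ⟨e₁, e₂, γ, hγ⟩ := sc_homologyMap_conj ψ
  let h₁ := S₁.moduleCatLeftHomologyData
  let h₂ := S₂.moduleCatLeftHomologyData
  have commπ : ∀ k : h₁.K, γ.φH (h₁.π k) = h₂.π (γ.φK k) := by
    intro k
    have := congrArg (fun f => f k) (ModuleCat.hom_ext_iff.1 γ.commπ)
    simp only [ModuleCat.hom_comp, LinearMap.comp_apply] at this
    exact this
  have commi : ∀ k : h₁.K, h₂.i (γ.φK k) = ψ.τ₂ (h₁.i k) := by
    intro k
    have := congrArg (fun f => f k) (ModuleCat.hom_ext_iff.1 γ.commi)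
    simp only [ModuleCat.hom_comp, LinearMap.comp_apply] at this
    exact this
  have π₁surj : ∀ x : h₁.H, ∃ k : h₁.K, h₁.π k = x :=
    Submodule.mkQ_surjective (LinearMap.range S₁.moduleCatToCycles)
  have π₂surj : ∀ x : h₂.H, ∃ k : h₂.K, h₂.π k = x :=
    Submodule.mkQ_surjective (LinearMap.range S₂.moduleCatToCycles)
  have π₂zero : ∀ k : LinearMap.ker S₂.g.hom,
      h₂.π k = 0 ↔ k ∈ LinearMap.range S₂.moduleCatToCycles := by
    intro k
    change (LinearMap.range S₂.moduleCatToCycles).mkQ k = 0 ↔ _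
    rw [Submodule.mkQ_apply, Submodule.Quotient.mk_eq_zero]
  have hiff : Function.Surjective (ShortComplex.homologyMap ψ).hom ↔
      Function.Surjective γ.φH.hom := by
    rw [hγ]
    have he₁ : Function.Bijective e₁.hom.hom :=
      (ConcreteCategory.isIso_iff_bijective e₁.hom).1 inferInstance
    have he₂ : Function.Bijective e₂.inv.hom :=
      (ConcreteCategory.isIso_iff_bijective e₂.inv).1 inferInstance
    have : (e₁.hom ≫ γ.φH ≫ e₂.inv).hom = e₂.inv.hom ∘ₗ γ.φH.hom ∘ₗ e₁.hom.hom := rfl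
    rw [this, LinearMap.coe_comp, LinearMap.coe_comp]
    constructor
    · intro h
      have h1 := (Function.Surjective.of_comp_iff' he₂ _).1 h
      exact (Function.Surjective.of_comp_iff _ he₁.2).1 h1
    · intro h
      exact he₂.2.comp (h.comp he₁.2)
  rw [hiff]
  constructor
  · intro hsurj y hy
    let k₂ : h₂.K := ⟨y, hy⟩
    obtain ⟨x, hx⟩ := hsurj (h₂.π k₂)
    obtain ⟨k₁, rfl⟩ := π₁surj x
    have hx' : γ.φH (h₁.π k₁) = h₂.π k₂ := hx
    rw [commπ] at hx'
    have h0 : h₂.π (k₂ - γ.φK k₁) = 0 := by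
      rw [map_sub, hx', sub_self]
    obtain ⟨w, hw⟩ := (π₂zero _).1 h0
    refine ⟨h₁.i k₁, k₁.2, w, ?_⟩
    have hw' : S₂.f w = y - h₂.i (γ.φK k₁) := congrArg Subtype.val hw
    rw [commi] at hw'
    rw [hw']
    abel
  · intro hsurj y
    obtain ⟨k₂, rfl⟩ := π₂surj y
    obtain ⟨z, hz, w, hw⟩ := hsurj k₂.1 k₂.2
    let k₁ : h₁.K := ⟨z, hz⟩
    refine ⟨h₁.π k₁, ?_⟩
    change γ.φH (h₁.π k₁) = _
    rw [commπ]
    have : h₂.π (k₂ - γ.φK k₁) = 0 := by
      refine (π₂zero _).mpr ⟨w, Subtype.ext ?_⟩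
      change S₂.f w = k₂.1 - h₂.i (γ.φK k₁)
      rw [commi, hw]
      change _ = ψ.τ₂ z + S₂.f w - ψ.τ₂ z
      abel
    rw [map_sub, sub_eq_zero] at this
    exact this.symm

end SC

section Cx

open HomologicalComplex

variable {X Y : CochainComplex (ModuleCat.{u} A) ℤ} (φ : X ⟶ Y) (i j k : ℤ)
  (hij : i + 1 = j) (hjk : j + 1 = k)

include hij hjk

theorem cx_homologyMap_conj :
    ∃ (e₁ : X.homology j ≅ (X.sc' i j k).homology) (e₂ : Y.homology j ≅ (Y.sc' i j k).homology),
      homologyMap φ j = e₁.hom ≫ ShortComplex.homologyMap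
        ((shortComplexFunctor' (ModuleCat.{u} A) (ComplexShape.up ℤ) i j k).map φ) ≫ e₂.inv := by
  have hi : (ComplexShape.up ℤ).prev j = i := ComplexShape.prev_eq' _ hij
  have hk : (ComplexShape.up ℤ).next j = k := ComplexShape.next_eq' _ hjk
  refine ⟨ShortComplex.homologyMapIso (X.isoSc' i j k hi hk),
    ShortComplex.homologyMapIso (Y.isoSc' i j k hi hk), ?_⟩
  change ShortComplex.homologyMap
      ((shortComplexFunctor (ModuleCat.{u} A) (ComplexShape.up ℤ) j).map φ) =
    ShortComplex.homologyMap (X.isoSc' i j k hi hk).hom ≫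
      ShortComplex.homologyMap
        ((shortComplexFunctor' (ModuleCat.{u} A) (ComplexShape.up ℤ) i j k).map φ) ≫
      ShortComplex.homologyMap (Y.isoSc' i j k hi hk).inv
  rw [← ShortComplex.homologyMap_comp, ← ShortComplex.homologyMap_comp]
  congr 1
  rw [← Category.assoc, Iso.eq_comp_inv]
  exact ((natIsoSc' (ModuleCat.{u} A) (ComplexShape.up ℤ) i j k hi hk).hom.naturality φ)

theorem cx_injective_iff :
    Function.Injective (homologyMap φ j).hom ↔
      ∀ z : X.X j, X.d j k z = 0 → (∃ w : Y.X i, Y.d i j w = φ.f j z) →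
        ∃ w' : X.X i, X.d i j w' = z := by
  obtain ⟨e₁, e₂, h⟩ := cx_homologyMap_conj φ i j k hij hjk
  refine Iff.trans ?_
    (sc_injective_iff ((shortComplexFunctor' (ModuleCat.{u} A) (ComplexShape.up ℤ) i j k).map φ))
  rw [h]
  have he₁ : Function.Bijective e₁.hom.hom :=
    (ConcreteCategory.isIso_iff_bijective e₁.hom).1 inferInstance
  have he₂ : Function.Bijective e₂.inv.hom :=
    (ConcreteCategory.isIso_iff_bijective e₂.inv).1 inferInstance
  have : ∀ (m : (X.sc' i j k).homology ⟶ (Y.sc' i j k).homology),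
      (e₁.hom ≫ m ≫ e₂.inv).hom = e₂.inv.hom ∘ₗ m.hom ∘ₗ e₁.hom.hom := fun _ => rfl
  rw [this, LinearMap.coe_comp, LinearMap.coe_comp]
  constructor
  · intro h
    have h1 := (Function.Injective.of_comp_iff he₂.1 _).1 h
    exact (Function.Injective.of_comp_iff' _ he₁).1 h1
  · intro h
    exact he₂.1.comp (h.comp he₁.1)

theorem cx_surjective_iff :
    Function.Surjective (homologyMap φ j).hom ↔
      ∀ y : Y.X j, Y.d j k y = 0 →
        ∃ z : X.X j, X.d j k z = 0 ∧ ∃ w : Y.X i, y = φ.f j z + Y.d i j w := by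
  obtain ⟨e₁, e₂, h⟩ := cx_homologyMap_conj φ i j k hij hjk
  refine Iff.trans ?_
    (sc_surjective_iff ((shortComplexFunctor' (ModuleCat.{u} A) (ComplexShape.up ℤ) i j k).map φ))
  rw [h]
  have he₁ : Function.Bijective e₁.hom.hom :=
    (ConcreteCategory.isIso_iff_bijective e₁.hom).1 inferInstance
  have he₂ : Function.Bijective e₂.inv.hom :=
    (ConcreteCategory.isIso_iff_bijective e₂.inv).1 inferInstance
  have : ∀ (m : (X.sc' i j k).homology ⟶ (Y.sc' i j k).homology),
      (e₁.hom ≫ m ≫ e₂.inv).hom = e₂.inv.hom ∘ₗ m.hom ∘ₗ e₁.hom.hom := fun _ => rfl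
  rw [this, LinearMap.coe_comp, LinearMap.coe_comp]
  constructor
  · intro h
    have h1 := (Function.Surjective.of_comp_iff' he₂ _).1 h
    exact (Function.Surjective.of_comp_iff _ he₁.2).1 h1
  · intro h
    exact he₂.2.comp (h.comp he₁.2)

end Cx

end Groth.Agent.H26.ResDual
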