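import Mathlib
import Groth.Agent.H26.ResDual4
import Groth.Agent.H26.ResDual5
import Groth.Agent.H26.ExtEvVan1
import Groth.Agent.H9.DCF.Heart

/-!
# Reflexivity of the residue field when `Ext^•(k, I)` is `k` in a single degree (helper26)
-/

set_option autoImplicit false
set_option linter.unusedSectionVars false
set_option linter.style.haveILetI false

universe u

open CategoryTheory CategoryTheory.Limits CochainComplex CochainComplex.HomComplex HomologicalComplex
open IsLocalRing DerivedCategory

namespace Groth.Agent.H26.ResDual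

open Groth.Agent.H10.BD Groth.Agent.H84.RHom Groth.Agent.H2.DualCx Groth.Agent.H30.KInjCls

attribute [local instance] HasDerivedCategory.standard

variable {A : Type u} [CommRing A] [IsLocalRing A]

/-- the residue field as an object of `ModuleCat` -/
noncomputable abbrev kap (A : Type u) [CommRing A] [IsLocalRing A] : ModuleCat.{u} A :=
  ModuleCat.of A (ResidueField A)

/-- the residue field in degree `0` -/
noncomputable abbrev Kk (A : Type u) [CommRing A] [IsLocalRing A] : DRing.Cx A :=
  (CochainComplex.singleFunctor (ModuleCat.{u} A) 0).obj (kap A)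

/-- the unit of the residue field in degree `0` -/
noncomputable def one1 : (Kk A).X 0 :=
  (HomologicalComplex.singleObjXSelf (ComplexShape.up ℤ) 0 (kap A)).inv.hom (1 : ResidueField A)

lemma smul_residue_eq_zero (a : A) (ha : a ∈ maximalIdeal A) (x : ResidueField A) : a • x = 0 := by
  obtain ⟨b, rfl⟩ := Ideal.Quotient.mk_surjective x
  rw [Algebra.smul_def]
  change (Ideal.Quotient.mk (maximalIdeal A) a) * (Ideal.Quotient.mk (maximalIdeal A) b) = 0
  rw [Ideal.Quotient.eq_zero_iff_mem.2 ha, zero_mul]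

lemma smul_hom_eq_zero {N : ModuleCat.{u} A} (φ : kap A ⟶ N) (a : A) (ha : a ∈ maximalIdeal A) :
    a • φ = 0 := by
  ext x
  change a • φ.hom x = 0
  rw [← map_smul, smul_residue_eq_zero a ha, map_zero]

lemma smul_fromSingleMk {L : DRing.Cx A} {q : ℤ} (φ : kap A ⟶ L.X q) {n : ℤ} (h : 0 + n = q)
    (a : A) :
    a • (Cochain.fromSingleMk φ h : Cochain (Kk A) L n) = Cochain.fromSingleMk (a • φ) h := by
  refine Cochain.ext _ _ (fun p q' hpq => ?_)
  by_cases hp : p = 0
  · subst hp
    obtain rfl : q' = q := by omega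
    rw [Cochain.smul_v, Cochain.fromSingleMk_v, Cochain.fromSingleMk_v, Linear.comp_smul]
    rfl
  · rw [Cochain.smul_v, Cochain.fromSingleMk_v_eq_zero _ _ _ _ _ hp,
      Cochain.fromSingleMk_v_eq_zero _ _ _ _ _ hp, smul_zero]

lemma smul_one1_surjective (z : (Kk A).X 0) : ∃ a : A, z = a • one1 := by
  let e := (HomologicalComplex.singleObjXSelf (ComplexShape.up ℤ) 0 (kap A))
  obtain ⟨a, ha⟩ := Ideal.Quotient.mk_surjective (e.hom.hom z)
  refine ⟨a, ?_⟩
  have h1 : e.inv.hom (e.hom.hom z) = z := by
    rw [← LinearMap.comp_apply, ← ModuleCat.hom_comp, e.hom_inv_id]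
    rfl
  have h2 : (e.hom.hom z : ResidueField A) = a • (1 : ResidueField A) := by
    rw [← ha, Algebra.smul_def, mul_one]
    rfl
  calc z = e.inv.hom (e.hom.hom z) := h1.symm
    _ = e.inv.hom (a • (1 : ResidueField A)) := by rw [h2]
    _ = _ := map_smul _ _ _

lemma smul_one1_eq_zero (a : A) (ha : a ∈ maximalIdeal A) : a • (one1 : (Kk A).X 0) = 0 := by
  let e := (HomologicalComplex.singleObjXSelf (ComplexShape.up ℤ) 0 (kap A))
  have h : a • (one1 : (Kk A).X 0) = e.inv.hom (a • (1 : ResidueField A)) :=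
    (map_smul e.inv.hom a (1 : ResidueField A)).symm
  rw [h, smul_residue_eq_zero a ha]
  exact map_zero _

section NZ

variable {I : DRing.Cx A} {a b : ℤ} (hI : BInj I a b) (d : ℤ)
  (α : Q.obj (Kk A) ⟶ (Q.obj I)⟦d⟧) (hα : α ≠ 0)

include hI hα

/-- the evaluation at `1` is not a coboundary in the double dual -/
theorem evc_one1_not_coboundary (w : Cochain (Dc I (Kk A)) I (-1))
    (hw : δ (-1) 0 w = evCochain I (Kk A) 0 one1) : False := by
  have hKI := hI.isKInjective
  obtain ⟨φ, hφ, hcls⟩ := cls_surjective (L := I) (X := kap A) (q := d) (d + 1) rfl α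
  let c : Cochain (Kk A) I d := Cochain.fromSingleMk φ (zero_add d)
  have hδc : δ d (d + 1) c = 0 := by
    rw [Cochain.δ_fromSingleMk φ (zero_add d) (d + 1) (d + 1) (zero_add _), hφ,
      Cochain.fromSingleMk_zero]
  -- evaluate at `c`
  let y : I.X (d - 1) := (w.v d (d - 1) (by omega)).hom c
  have hdc : ((Dc I (Kk A)).d d (d + 1)).hom c = 0 := hδc
  have h1a : ((δ (-1) 0 w).v d d (by omega)).hom c = (I.d (d - 1) d).hom y := by
    rw [δ_v_apply I (Dc I (Kk A)) (-1) 0 (by omega) w d d (by omega) (d - 1) (d + 1)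
      (by omega) rfl c, hdc, map_zero, smul_zero]
    exact add_zero _
  have h2 : (c.v 0 d (by omega)).hom one1 = φ.hom (1 : ResidueField A) := by
    change ((Cochain.fromSingleMk φ (zero_add d)).v 0 d (zero_add d)).hom one1 = _
    rw [Cochain.fromSingleMk_v]
    let e := (HomologicalComplex.singleObjXSelf (ComplexShape.up ℤ) 0 (kap A))
    change (e.hom ≫ φ).hom (e.inv.hom (1 : ResidueField A)) = _
    rw [← LinearMap.comp_apply, ← ModuleCat.hom_comp, Iso.inv_hom_id_assoc]
  have h3 : ((evCochain I (Kk A) 0 one1).v d d (by omega)).hom c = φ.hom (1 : ResidueField A) := by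
    rw [evCochain_v_apply, h2, zero_mul, Int.negOnePow_zero, one_smul]
  have h1 : φ.hom (1 : ResidueField A) = (I.d (d - 1) d).hom y := by
    rw [← h3, ← h1a]
    exact (congrArg (fun (t : Cochain (Dc I (Kk A)) I 0) => (t.v d d (by omega)).hom c) hw).symm
  -- `y` is killed by the maximal ideal
  have hy : ∀ r ∈ maximalIdeal A, r • y = 0 := by
    intro r hr
    change r • (w.v d (d - 1) (by omega)).hom c = 0
    rw [← map_smul]
    have : r • c = 0 := by
      change r • (Cochain.fromSingleMk φ (zero_add d) : Cochain (Kk A) I d) = 0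
      rw [smul_fromSingleMk, smul_hom_eq_zero φ r hr, Cochain.fromSingleMk_zero]
    change (w.v d (d - 1) (by omega)).hom (r • c) = 0
    rw [this]
    exact map_zero _
  let g₀ : ResidueField A →ₗ[A] I.X (d - 1) :=
    Submodule.liftQ (maximalIdeal A) (LinearMap.toSpanSingleton A _ y) (by
      intro r hr
      rw [LinearMap.mem_ker, LinearMap.toSpanSingleton_apply]
      exact hy r hr)
  have hg : ModuleCat.ofHom g₀ ≫ I.d (d - 1) d = φ := by
    ext x
    obtain ⟨r, rfl⟩ := Ideal.Quotient.mk_surjective x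
    have hg₀ : g₀ (Ideal.Quotient.mk (maximalIdeal A) r) = r • y := rfl
    change (I.d (d - 1) d).hom (g₀ (Ideal.Quotient.mk (maximalIdeal A) r)) = φ.hom _
    rw [hg₀, map_smul, ← h1, ← map_smul]
    congr 1
    rw [Algebra.smul_def, mul_one]
    rfl
  have h0 : cls (L := I) (d + 1) rfl φ hφ = 0 :=
    (cls_eq_zero_iff (d + 1) rfl φ hφ (d - 1) (by omega)).2 ⟨ModuleCat.ofHom g₀, hg⟩
  exact hα (hcls ▸ h0)

/-- the biduality map of the residue field is injective on `H^0` -/
theorem injective_homologyMap_evc_Kk :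
    Function.Injective (homologyMap (evc I (Kk A)) 0).hom := by
  rw [cx_injective_iff (evc I (Kk A)) (-1) 0 1 (by omega) (by omega)]
  intro z _ ⟨w, hw⟩
  refine ⟨0, ?_⟩
  rw [map_zero]
  by_contra hz
  obtain ⟨r, rfl⟩ := smul_one1_surjective z
  have hr : r ∉ maximalIdeal A := by
    intro hr
    exact hz (smul_one1_eq_zero r hr).symm
  have hu : IsUnit r := by
    by_contra h
    exact hr ((IsLocalRing.mem_maximalIdeal r).2 h)
  obtain ⟨u, rfl⟩ := hu
  have key : ∀ (w' : Cochain (Dc I (Kk A)) I (-1)),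
      δ (-1) 0 w' = evCochain I (Kk A) 0 ((u : A) • one1) → False := by
    intro w' hw'
    refine evc_one1_not_coboundary hI d α hα ((↑u⁻¹ : A) • w') ?_
    rw [δ_smul, hw', ← evLin_apply, map_smul, smul_smul, Units.inv_mul, one_smul, evLin_apply]
  exact key w hw

end NZ

end Groth.Agent.H26.ResDual
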