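import Mathlib
import Groth.Agent.H26.ResDual6
import Groth.Agent.H26.FlatBCDual

/-!
# Reflexivity of the residue field (helper26)
-/

set_option autoImplicit false
set_option linter.unusedSectionVars false
set_option linter.style.haveILetI false

universe u

open CategoryTheory CategoryTheory.Limits CochainComplex CochainComplex.HomComplex HomologicalComplex
open IsLocalRing DerivedCategory

namespace Groth.Agent.H26.ResDual

open Groth.Agent.H10.BD Groth.Agent.H84.RHom Groth.Agent.H2.DualCx Groth.Agent.H30.KInjCls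

attribute [local instance] HasDerivedCategory.standard

variable {A : Type u} [CommRing A] [IsLocalRing A]

instance isSimpleModule_residueField : IsSimpleModule A (ResidueField A) :=
  isSimpleModule_iff_quot_maximal.2 ⟨maximalIdeal A, inferInstance, ⟨LinearEquiv.refl A _⟩⟩

variable {I : DRing.Cx A} {a b : ℤ} (hI : BInj I a b) (d : ℤ)
  (hvan : ∀ i : ℤ, i ≠ d → Subsingleton (Q.obj (Kk A) ⟶ (Q.obj I)⟦i⟧))
  (hd : Nonempty ((Q.obj (Kk A) ⟶ (Q.obj I)⟦d⟧) ≃ₗ[A] ResidueField A))

include hI hvan in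
lemma subsingleton_homology_Dc_Kk (j : ℤ) (hj : j ≠ d) :
    Subsingleton ((Dc I (Kk A)).homology j) := by
  have := hI.isKInjective
  have := hvan j hj
  exact (Groth.Agent.H9.RH.homologyEquiv (Kk A) I j).toEquiv.subsingleton

include hI hd in
lemma nonempty_homology_Dc_Kk_equiv :
    Nonempty ((Dc I (Kk A)).homology d ≃ₗ[A] ResidueField A) := by
  have := hI.isKInjective
  obtain ⟨e⟩ := hd
  exact ⟨(Groth.Agent.H9.RH.homologyEquiv (Kk A) I d).trans e⟩

include hI hvan hd in
lemma nonempty_Q_Dc_Kk_iso : Nonempty (Q.obj (Dc I (Kk A)) ≅ (Q.obj (Kk A))⟦-d⟧) := by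
  let V := Dc I (Kk A)
  have hsub : ∀ j : ℤ, j ≠ d → Subsingleton (Dual.HD A (Q.obj V) j) := by
    intro j hj
    have : Subsingleton ((HomologicalComplex.homologyFunctor (ModuleCat.{u} A)
        (ComplexShape.up ℤ) j).obj V) := subsingleton_homology_Dc_Kk hI d hvan j hj
    exact ((homologyFunctorFactors (ModuleCat.{u} A) j).app V).toLinearEquiv.toEquiv.subsingleton
  haveI : (Q.obj V).IsGE d :=
    Groth.Agent.H26.FlatBCDual.isGE_of_vanishing _ d (fun i hi => hsub i (by omega))
  haveI : (Q.obj V).IsLE d :=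
    Groth.Agent.H26.FlatBCDual.isLE_of_vanishing _ d (fun i hi => hsub i (by omega))
  obtain ⟨M, ⟨e⟩, ⟨e'⟩⟩ := Groth.Agent.H9.DCF.nonempty_iso_single_shift (Q.obj V) d
  obtain ⟨ek⟩ := nonempty_homology_Dc_Kk_equiv hI d hd
  let eM : M ≅ kap A := e' ≪≫ (homologyFunctorFactors (ModuleCat.{u} A) d).app V ≪≫ ek.toModuleIso
  exact ⟨e ≪≫ (CategoryTheory.shiftFunctor (Dual.D A) (-d)).mapIso
    ((DerivedCategory.singleFunctor (ModuleCat.{u} A) 0).mapIso eM ≪≫
      (singleFunctorIsoCompQ (ModuleCat.{u} A) 0).app (kap A))⟩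

include hI hvan hd in
lemma nonempty_homology_DDc_Kk_equiv (n m : ℤ) (hm : m = n + d) :
    Nonempty ((Dc I (Dc I (Kk A))).homology n ≃ₗ[A] (Q.obj (Kk A) ⟶ (Q.obj I)⟦m⟧)) := by
  have := hI.isKInjective
  obtain ⟨e⟩ := nonempty_Q_Dc_Kk_iso hI d hvan hd
  exact ⟨(Groth.Agent.H9.RH.homologyEquiv (Dc I (Kk A)) I n).trans
    ((Linear.homCongr A e (Iso.refl _)).trans
      (Groth.Agent.H26.ExtEvVan.shiftEquiv (W := Q.obj I) (Q.obj (Kk A)) (-d) n m (by omega)))⟩

include hI hvan hd in
/-- **The residue field is reflexive.** -/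
theorem refl_Kk [IsNoetherianRing A] : Refl I (Kk A) := by
  have := hI.injective_X
  rw [refl_iff_bijective]
  intro n
  by_cases hn : n = 0
  · subst hn
    obtain ⟨e⟩ := hd
    have hα : ∃ α : Q.obj (Kk A) ⟶ (Q.obj I)⟦d⟧, α ≠ 0 :=
      ⟨e.symm 1, fun h => one_ne_zero ((LinearEquiv.map_eq_zero_iff e.symm).1 h)⟩
    obtain ⟨α, hα⟩ := hα
    have hinj := injective_homologyMap_evc_Kk hI d α hα
    obtain ⟨e2⟩ := nonempty_homology_DDc_Kk_equiv hI d hvan ⟨e⟩ 0 d (by omega)
    haveI : IsSimpleModule A ((Dc I (Dc I (Kk A))).homology 0) :=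
      (LinearEquiv.isSimpleModule_iff (e2.trans e)).2 inferInstance
    haveI : IsSimpleModule A ((Kk A).homology 0) :=
      (LinearEquiv.isSimpleModule_iff
        (HomologicalComplex.singleObjHomologySelfIso (ComplexShape.up ℤ) 0
          (kap A)).toLinearEquiv).2 inferInstance
    refine LinearMap.bijective_of_ne_zero ?_
    intro h0
    haveI := IsSimpleModule.nontrivial A ((Kk A).homology 0)
    obtain ⟨x, hx⟩ := exists_ne (0 : (Kk A).homology 0)
    apply hx
    apply hinj
    rw [h0, LinearMap.zero_apply, LinearMap.zero_apply]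
  · have h1 : Subsingleton ((Kk A).homology n) := by
      have hz : IsZero ((Kk A).homology n) := by
        rw [← exactAt_iff_isZero_homology]
        exact ShortComplex.exact_of_isZero_X₂ _
          (HomologicalComplex.isZero_single_obj_X (ComplexShape.up ℤ) 0 (kap A) n hn)
      exact ModuleCat.subsingleton_of_isZero hz
    have h2 : Subsingleton ((Dc I (Dc I (Kk A))).homology n) := by
      obtain ⟨e2⟩ := nonempty_homology_DDc_Kk_equiv hI d hvan hd n (n + d) rfl
      have := hvan (n + d) (by omega)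
      exact e2.toEquiv.subsingleton
    exact ⟨Function.injective_of_subsingleton _, Function.surjective_to_subsingleton _⟩

end Groth.Agent.H26.ResDual
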