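import Mathlib
import Groth.Agent.H26.ResDual5
import Groth.Agent.H10.BD9

/-!
# Converse of `refl_S0`: reflexivity of `A[0]` gives `A ≃ End(I)` and `Ext^n(I, I) = 0` (helper26)
-/

set_option autoImplicit false
set_option linter.unusedSectionVars false
set_option linter.style.haveILetI false

universe u

open CategoryTheory CategoryTheory.Limits CochainComplex CochainComplex.HomComplex HomologicalComplex
open DerivedCategory

namespace Groth.Agent.H26.ResDual

open Groth.Agent.H10.BD Groth.Agent.H84.RHom Groth.Agent.H30.KInjCls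

attribute [local instance] HasDerivedCategory.standard

variable {A : Type u} [CommRing A] {I : DRing.Cx A} {a b : ℤ}

lemma refl_iff_bijective' (K : DRing.Cx A) :
    Refl I K ↔ ∀ j : ℤ, Function.Bijective (homologyMap (evc I K) j).hom := by
  rw [refl_iff_forall]
  refine forall_congr' (fun j => ?_)
  rw [ReflAt, quasiIsoAt_iff_isIso_homologyMap, ConcreteCategory.isIso_iff_bijective]

lemma one0_smul_eq_zero (c : A) (h : c • (one0 : (S0 A).X 0) = 0) : c = 0 := by
  let e := (HomologicalComplex.singleObjXSelf (ComplexShape.up ℤ) 0 (ModuleCat.of A A))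
  have h1 : c • (one0 : (S0 A).X 0) = e.inv.hom c := by
    have := (map_smul e.inv.hom c (1 : A)).symm
    rw [smul_eq_mul, mul_one] at this
    exact this
  have h2 : e.inv.hom c = e.inv.hom 0 := by
    rw [← h1, h]
    exact (map_zero _).symm
  have hinj : Function.Injective e.inv.hom :=
    ((ConcreteCategory.isIso_iff_bijective e.inv).1 inferInstance).1
  exact hinj h2

variable (hI : BInj I a b) (h : Refl I (S0 A))

include hI h

theorem toEnd_injective_of_refl_S0 :
    Function.Injective (fun x : A => x • 𝟙 (Q.obj I)) := by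
  have hKI := hI.isKInjective
  have hinj := (cx_injective_iff (evc I (S0 A)) (-1) 0 1 (by omega) (by omega)).1
    (((refl_iff_bijective' (S0 A)).1 h) 0).1
  have key : ∀ c : A, c • 𝟙 (Q.obj I) = 0 → c = 0 := by
    intro c hc
    have h0 : toD (Dc I (S0 A)) I 0 (cocA I c) = 0 := by
      rw [toD_cocA, smul_u₁_eq, hc, zero_comp, comp_zero]
    rw [toD_eq_zero_iff, mem_coboundaries_iff _ (-1) (by omega)] at h0
    obtain ⟨w, hw⟩ := h0
    rw [cocA_coe] at hw
    obtain ⟨w', hw'⟩ := hinj (c • one0) (by rw [S0_d]; rfl) ⟨w, hw⟩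
    rw [S0_d] at hw'
    exact one0_smul_eq_zero c hw'.symm
  intro c c' hcc'
  replace hcc' : c • 𝟙 (Q.obj I) = c' • 𝟙 (Q.obj I) := hcc'
  have := key (c - c') (by rw [sub_smul]; exact sub_eq_zero.2 hcc')
  exact sub_eq_zero.1 this

theorem toEnd_surjective_of_refl_S0 :
    Function.Surjective (fun x : A => x • 𝟙 (Q.obj I)) := by
  have hKI := hI.isKInjective
  have hsurj := (cx_surjective_iff (evc I (S0 A)) (-1) 0 1 (by omega) (by omega)).1
    (((refl_iff_bijective' (S0 A)).1 h) 0).2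
  intro f
  obtain ⟨yc, hyc⟩ := toD_surjective (Dc I (S0 A)) I 0 (Q.map (lam I) ≫ f ≫ u₀ I)
  have hy : δ 0 1 (yc : Cochain (Dc I (S0 A)) I 0) = 0 := Cocycle.δ_eq_zero yc 1
  obtain ⟨z, -, w, hw⟩ := hsurj (yc : Cochain (Dc I (S0 A)) I 0) hy
  obtain ⟨c, rfl⟩ := exists_smul_one0 z
  refine ⟨c, ?_⟩
  change c • 𝟙 (Q.obj I) = f
  have hw' : (yc : Cochain (Dc I (S0 A)) I 0) =
      evCochain I (S0 A) 0 (c • one0) + δ (-1) 0 (w : Cochain (Dc I (S0 A)) I (-1)) := hw
  have h2 : toD _ I 0 (yc - cocA I c) = 0 := by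
    rw [toD_eq_zero_iff, mem_coboundaries_iff _ (-1) (by omega)]
    refine ⟨w, ?_⟩
    change δ (-1) 0 (w : Cochain (Dc I (S0 A)) I (-1)) =
      (yc : Cochain (Dc I (S0 A)) I 0) - evCochain I (S0 A) 0 (c • one0)
    rw [hw']
    abel
  have h3 : toD _ I 0 yc = toD _ I 0 (cocA I c) := by
    have := map_sub (toDHom (Dc I (S0 A)) I 0) yc (cocA I c)
    change toD _ I 0 (yc - cocA I c) = toD _ I 0 yc - toD _ I 0 (cocA I c) at this
    rw [h2] at this
    exact (sub_eq_zero.1 this.symm)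
  rw [hyc, toD_cocA, smul_u₁_eq] at h3
  have h4 := (cancel_epi (Q.map (lam I))).1 h3
  exact ((cancel_mono (u₀ I)).1 h4).symm

theorem ext_self_subsingleton_of_refl_S0 (n : ℤ) (hn : n ≠ 0) :
    Subsingleton (Q.obj I ⟶ (Q.obj I)⟦n⟧) := by
  have hKI := hI.isKInjective
  have hsurj := (cx_surjective_iff (evc I (S0 A)) (n - 1) n (n + 1) (by omega) rfl).1
    (((refl_iff_bijective' (S0 A)).1 h) n).2
  have key : ∀ f : Q.obj I ⟶ (Q.obj I)⟦n⟧, f = 0 := by
    intro f
    obtain ⟨yc, hyc⟩ := toD_surjective (Dc I (S0 A)) I n (Q.map (lam I) ≫ f)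
    have hy : δ n (n + 1) (yc : Cochain (Dc I (S0 A)) I n) = 0 := Cocycle.δ_eq_zero yc (n + 1)
    obtain ⟨z, -, w, hw⟩ := hsurj (yc : Cochain (Dc I (S0 A)) I n) hy
    have hz : IsZero ((S0 A).X n) := HomologicalComplex.isZero_single_obj_X _ _ _ _ hn
    have : Subsingleton ((S0 A).X n) := ModuleCat.subsingleton_of_isZero hz
    obtain rfl : z = 0 := Subsingleton.elim _ _
    have hw' : (yc : Cochain (Dc I (S0 A)) I n) =
        δ (n - 1) n (w : Cochain (Dc I (S0 A)) I (n - 1)) := by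
      rw [map_zero, zero_add] at hw
      exact hw
    have h2 : toD _ I n yc = 0 := by
      rw [toD_eq_zero_iff, mem_coboundaries_iff _ (n - 1) (by omega)]
      exact ⟨w, hw'.symm⟩
    rw [hyc] at h2
    exact (cancel_epi (Q.map (lam I))).1 (h2.trans comp_zero.symm)
  exact ⟨fun f g => by rw [key f, key g]⟩

end Groth.Agent.H26.ResDual
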