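import Mathlib
import Groth.Agent.H26.ResDual7
import Groth.Agent.H26.ResDual8
import Groth.Agent.H2.DualCx.EndTransfer

/-!
# `Ext^•(k, R)` equal to `k` in a single degree implies `R` dualizing (helper26)
-/

set_option autoImplicit false
set_option linter.unusedSectionVars false
set_option linter.style.haveILetI false

universe u

open CategoryTheory CategoryTheory.Limits CochainComplex CochainComplex.HomComplex HomologicalComplex
open IsLocalRing DerivedCategory

namespace Groth.Agent.H26.ResDual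

open Groth.Agent.H10.BD Groth.Agent.H84.RHom Groth.Agent.H2.DualCx Groth.Agent.H30.KInjCls

attribute [local instance] HasDerivedCategory.standard

variable {A : Type u} [CommRing A] [IsLocalRing A] [IsNoetherianRing A]

theorem main (R : Dual.D A) (hfin : ∀ i : ℤ, Module.Finite A (Dual.HD A R i))
    (hbdd : ∃ a : ℤ, ∀ i : ℤ, i < a → Subsingleton (Dual.HD A R i)) (d : ℤ)
    (hvan : ∀ i : ℤ, i ≠ d → Subsingleton (Dual.inD A (ResidueField A) ⟶ R⟦i⟧))
    (hd : Nonempty ((Dual.inD A (ResidueField A) ⟶ R⟦d⟧) ≃ₗ[A] ResidueField A)) :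
    Dual.IsDualizing A R := by
  obtain ⟨a, ha⟩ := hbdd
  have hGE : R.IsGE a := Groth.Agent.H26.FlatBCDual.isGE_of_vanishing R a ha
  -- finite injective dimension
  have hVA : ∀ (M : Type u) [AddCommGroup M] [Module A M] [Module.Finite A M], VA R d M :=
    fun M _ _ _ => VA.of_residue a hGE hfin (fun i hi => hvan i (ne_of_gt hi)) M
  have hamp : DRing.HasInjAmplitudeIn A a d R := by
    refine Groth.Agent.H35.hasInjAmplitudeIn_of_ext_vanishing R a d (fun J i hi => ?_)
    rcases hi with hi | hi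
    · exact Groth.Agent.H26.FlatBCDual.subsingleton_T_of_isGE R a hGE (A ⧸ J) i hi
    · exact hVA (A ⧸ J) i hi
  obtain ⟨I, hIv, hIinj, ⟨eI⟩⟩ := hamp
  have hI : BInj I a d := ⟨hIv, hIinj⟩
  have hIfin : ∀ i : ℤ, Module.Finite A (Dual.HD A (Q.obj I) i) := by
    intro i
    haveI := hfin i
    exact Module.Finite.equiv
      ((DerivedCategory.homologyFunctor (ModuleCat.{u} A) i).mapIso eI).toLinearEquiv.symm
  -- transport the hypotheses on the residue field
  let ek : Q.obj (Kk A) ≅ Dual.inD A (ResidueField A) :=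
    ((singleFunctorIsoCompQ (ModuleCat.{u} A) 0).app (kap A)).symm
  let eh : ∀ i : ℤ, (Q.obj (Kk A) ⟶ (Q.obj I)⟦i⟧) ≃ₗ[A]
      (Dual.inD A (ResidueField A) ⟶ R⟦i⟧) :=
    fun i => Linear.homCongr A ek ((CategoryTheory.shiftFunctor (Dual.D A) i).mapIso eI)
  have hvan' : ∀ i : ℤ, i ≠ d → Subsingleton (Q.obj (Kk A) ⟶ (Q.obj I)⟦i⟧) := by
    intro i hi
    haveI := hvan i hi
    exact (eh i).toEquiv.subsingleton
  have hd' : Nonempty ((Q.obj (Kk A) ⟶ (Q.obj I)⟦d⟧) ≃ₗ[A] ResidueField A) := by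
    obtain ⟨e⟩ := hd
    exact ⟨(eh d).trans e⟩
  -- reflexivity
  have hk : Refl I (Kk A) := refl_Kk hI d hvan' hd'
  have hA : Refl I (S0 A) := refl_sg_of_residue hI hIfin hk A
  have hEnd := Groth.Agent.H2.EndTransfer.bijective_smul_id_of_iso (R := A) eI
    ⟨toEnd_injective_of_refl_S0 hI hA, toEnd_surjective_of_refl_S0 hI hA⟩
  refine ⟨inferInstance, ⟨a, d, ?_⟩, hfin, hEnd, ?_⟩
  · intro M _ _ i hi
    have := Groth.Agent.H35.subsingleton_hom_shift_of_injective_amplitude I a d hIv hIinj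
      (ModuleCat.of A M) i hi
    exact (Linear.homCongr A (Iso.refl (Dual.inD A M))
      ((CategoryTheory.shiftFunctor (Dual.D A) i).mapIso eI)).symm.toEquiv.subsingleton
  · intro i hi
    have := ext_self_subsingleton_of_refl_S0 hI hA i hi
    exact (Linear.homCongr A eI
      ((CategoryTheory.shiftFunctor (Dual.D A) i).mapIso eI)).symm.toEquiv.subsingleton

end Groth.Agent.H26.ResDual
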