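import Mathlib
import Groth.Prelude.Def_EGA4b
import Groth.Agent.H14.RkFlatAscent
import Groth.Agent.H14.RkDescent
import Groth.Agent.H47.SmoothRegular
import Groth.Agent.Lead.RegularLocalization

/-!
# `(R_k)` along smooth maps
-/

set_option autoImplicit false
set_option linter.style.haveILetI false
set_option linter.unusedSectionVars false
set_option linter.unusedVariables false
universe u

open IsLocalRing TensorProduct

namespace Groth.Agent.H26.RkSmooth

/-- A regular local ring satisfies `(R_k)` for all `k`. -/
theorem hasRk_of_isRegularLocalRing (k : ℕ) (F : Type u) [CommRing F] [IsRegularLocalRing F] :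
    LocCoh.HasRk k F := by
  intro P hP _
  exact Groth.Agent.Lead.RLR.isRegularLocalRing_localization F P

set_option backward.isDefEq.respectTransparency false in
/-- The fibre local rings of a map with regular fibre rings are regular local rings. -/
theorem fibLocRing_regular (R S : Type u) [CommRing R] [CommRing S] [Algebra R S]
    (h : ∀ (p : Ideal R) [p.IsPrime], IsRegularRing (p.Fiber S))
    (r : Ideal S) [hr : r.IsPrime] : IsRegularLocalRing (EGA4.FibLocRing R S r) := by
  set p : Ideal R := r.under R with hp
  have hpp : p.IsPrime := inferInstance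
  let q0 := PrimeSpectrum.preimageEquivFiber R S ⟨p, hpp⟩ ⟨⟨r, hr⟩, rfl⟩
  have hq0 : q0.asIdeal.comap (Algebra.TensorProduct.includeRight (R := R) (A := p.ResidueField)
      (B := S)) = r := by
    have := (PrimeSpectrum.preimageEquivFiber R S ⟨p, hpp⟩).left_inv ⟨⟨r, hr⟩, rfl⟩
    exact congrArg (fun x => x.1.asIdeal) this
  have hgen : ∀ (r' : Ideal S) (hr' : r'.IsPrime),
      q0.asIdeal.comap (Algebra.TensorProduct.includeRight (R := R) (A := p.ResidueField)
        (B := S)) = r' → r'.comap (algebraMap R S) = p →
      IsRegularLocalRing (EGA4.FibLocRing R S r') := by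
    intro r' hr' e hcomap
    subst e
    haveI := h p
    have h1 : IsRegularLocalRing (Localization.AtPrime q0.asIdeal) := inferInstance
    let e1 := (Ideal.Fiber.algEquivAux₂ p q0.asIdeal).toRingEquiv
    have hI : (p.map (algebraMap R S)).map (algebraMap S (Localization.AtPrime (q0.asIdeal.comap
        (Algebra.TensorProduct.includeRight (R := R) (A := p.ResidueField) (B := S))))) =
        ((q0.asIdeal.comap (Algebra.TensorProduct.includeRight (R := R) (A := p.ResidueField)
          (B := S))).comap (algebraMap R S)).map (algebraMap R (Localization.AtPrime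
          (q0.asIdeal.comap (Algebra.TensorProduct.includeRight (R := R) (A := p.ResidueField)
            (B := S))))) := by
      rw [hcomap, Ideal.map_map, ← IsScalarTower.algebraMap_eq]
    let e2 := e1.trans (Ideal.quotEquivOfEq hI)
    exact @IsRegularLocalRing.of_ringEquiv _ _ h1 _ _ e2
  exact hgen r hr hq0 rfl

/-- `(R_k)` ascends along flat maps of Noetherian rings with regular fibre rings. -/
theorem hasRk_of_flat_of_regular_fibres (k : ℕ) (A B : Type u) [CommRing A] [CommRing B]
    [IsNoetherianRing A] [IsNoetherianRing B] [Algebra A B] [Module.Flat A B]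
    (hfib : ∀ (p : Ideal A) [p.IsPrime], IsRegularRing (p.Fiber B)) (hA : LocCoh.HasRk k A) :
    LocCoh.HasRk k B := by
  intro q hq hqk
  have hle : (q.comap (algebraMap A B)).height ≤ q.height := by
    haveI : q.LiesOver (q.comap (algebraMap A B)) := ⟨rfl⟩
    rw [Ideal.height_eq_height_add_of_liesOver_of_hasGoingDown (q.comap (algebraMap A B)) q]
    exact le_self_add
  haveI : IsRegularLocalRing (Localization.AtPrime (q.comap (algebraMap A B))) :=
    hA _ (hle.trans hqk)
  haveI := fibLocRing_regular A B hfib q
  exact Groth.Agent.H14.isRegularLocalRing_localization_of_flat A B q k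
    (hasRk_of_isRegularLocalRing k _) hqk

/-- `(R_k)` along smooth maps. -/
theorem hasRk_smooth (A B : Type u) [CommRing A] [CommRing B] [IsNoetherianRing A]
    [IsNoetherianRing B] [Algebra A B] [Algebra.Smooth A B] (k : ℕ) :
    (LocCoh.HasRk k A → LocCoh.HasRk k B) ∧
    (Module.FaithfullyFlat A B → LocCoh.HasRk k B → LocCoh.HasRk k A) := by
  constructor
  · intro hA
    haveI : Module.Flat A B := inferInstance
    refine hasRk_of_flat_of_regular_fibres k A B (fun p hp => ?_) hA
    haveI : IsRegularRing p.ResidueField := inferInstance
    exact Groth.Agent.H47.isRegularRing_of_smooth p.ResidueField (p.Fiber B)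
  · intro hff hB
    exact (Groth.Agent.H14.hasRk_of_faithfullyFlat k A B hB).2

end Groth.Agent.H26.RkSmooth
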