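import Groth.Agent.H26.UEE3
import Mathlib.CategoryTheory.Sites.Sheafification
import Mathlib.CategoryTheory.Sites.Limits
import Mathlib.CategoryTheory.Sites.LocallySurjective
import Mathlib.CategoryTheory.Sites.RegularEpi
import Mathlib.CategoryTheory.Limits.Types.Pullbacks

set_option autoImplicit false
open CategoryTheory CategoryTheory.Limits Opposite
universe w v₁ u₁

namespace Groth.Agent.H26

variable {C : Type u₁} [Category.{v₁} C] (J : GrothendieckTopology C)

/-- Evaluating a pullback square of sheaves of types at an object gives a pullback of types. -/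
lemma sheaf_isPullback_app {X' X Y' Y : Sheaf J (Type w)} {f' : X' ⟶ Y'} {i₁ : X' ⟶ X}
    {i₂ : Y' ⟶ Y} {f : X ⟶ Y} (h : IsPullback f' i₁ i₂ f) (U : Cᵒᵖ) :
    IsPullback (f'.hom.app U) (i₁.hom.app U) (i₂.hom.app U) (f.hom.app U) := by
  have h1 := h.map (sheafToPresheaf J (Type w))
  exact h1.map ((evaluation Cᵒᵖ (Type w)).obj U)

lemma sheaf_isLocallySurjective_of_isPullback {X' X Y' Y : Sheaf J (Type w)} {f' : X' ⟶ Y'}
    {i₁ : X' ⟶ X} {i₂ : Y' ⟶ Y} {f : X ⟶ Y} (h : IsPullback f' i₁ i₂ f)
    [Sheaf.IsLocallySurjective f] : Sheaf.IsLocallySurjective f' := by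
  refine ⟨fun {U} s => ?_⟩
  refine J.superset_covering ?_ (Presheaf.imageSieve_mem J f.hom (i₂.hom.app _ s))
  intro V g hg
  obtain ⟨x, hx⟩ := hg
  have hsq := sheaf_isPullback_app J h (op V)
  have hx' : (i₂.hom.app (op V)) (Y'.obj.map g.op s) = (f.hom.app (op V)) x := by
    rw [hx]
    exact (ConcreteCategory.congr_hom (i₂.hom.naturality g.op) s)
  obtain ⟨x', h1, h2⟩ := Types.exists_of_isPullback hsq _ _ hx'
  exact ⟨x', h1⟩

/-- In sheaves of types (with sheafification), epimorphisms are universal effective epis. -/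
lemma sheaf_UEE_of_epi [HasSheafify J (Type w)] {X Y : Sheaf J (Type w)} (f : X ⟶ Y) [Epi f] :
    UEE f := by
  intro X' Y' i₁ i₂ f' h
  have : Sheaf.IsLocallySurjective f := (Sheaf.isLocallySurjective_iff_epi f).2 inferInstance
  have : Sheaf.IsLocallySurjective f' := sheaf_isLocallySurjective_of_isPullback J h
  have : Epi f' := inferInstance
  have : IsRegularEpi f' := IsRegularEpiCategory.regularEpiOfEpi f'
  infer_instance

end Groth.Agent.H26
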