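import Groth.Agent.H26.Shf
import Groth.Agent.H26.EqRelFun

set_option autoImplicit false
open CategoryTheory CategoryTheory.Limits Opposite
universe w v₁ u₁

namespace Groth.Agent.H26

variable {C : Type u₁} [Category.{v₁} C] (J : GrothendieckTopology C) [HasSheafify J (Type w)]

lemma jointlyMono₂_sheafToPresheaf {R X : Sheaf J (Type w)} (p₁ p₂ : R ⟶ X)
    [JointlyMono₂ p₁ p₂] :
    JointlyMono₂ ((sheafToPresheaf J (Type w)).map p₁) ((sheafToPresheaf J (Type w)).map p₂) where
  right_cancellation W a b h₁ h₂ := by
    let adj := sheafificationAdjunction J (Type w)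
    apply (adj.homEquiv W R).symm.injective
    apply JointlyMono₂.right_cancellation (p₁ := p₁) (p₂ := p₂)
    · rw [← adj.homEquiv_naturality_right_symm, ← adj.homEquiv_naturality_right_symm, h₁]
    · rw [← adj.homEquiv_naturality_right_symm, ← adj.homEquiv_naturality_right_symm, h₂]

/-- The image of an equivalence relation of sheaves in presheaves. -/
noncomputable def equivalenceRelationSheafToPresheaf {R X : Sheaf J (Type w)} {p₁ p₂ : R ⟶ X}
    (e : EquivalenceRelation p₁ p₂) :
    EquivalenceRelation ((sheafToPresheaf J (Type w)).map p₁)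
      ((sheafToPresheaf J (Type w)).map p₂) :=
  have : JointlyMono₂ p₁ p₂ := e.toJointlyMono₂
  have := jointlyMono₂_sheafToPresheaf J p₁ p₂
  { toReflexiveRelation := e.toReflexiveRelation.map (sheafToPresheaf J (Type w))
    s := (e.toSymmetricRelation.map (sheafToPresheaf J (Type w))).s
    symmetry₁ := (e.toSymmetricRelation.map (sheafToPresheaf J (Type w))).symmetry₁
    symmetry₂ := (e.toSymmetricRelation.map (sheafToPresheaf J (Type w))).symmetry₂
    c := (e.toTransitiveRelation.map (sheafToPresheaf J (Type w))).c
    isLimit := (e.toTransitiveRelation.map (sheafToPresheaf J (Type w))).isLimit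
    t := (e.toTransitiveRelation.map (sheafToPresheaf J (Type w))).t
    transitivity₁ := (e.toTransitiveRelation.map (sheafToPresheaf J (Type w))).transitivity₁
    transitivity₂ := (e.toTransitiveRelation.map (sheafToPresheaf J (Type w))).transitivity₂ }

theorem sheaf_isUEER {R X : Sheaf J (Type w)} (p₁ p₂ : R ⟶ X) [he : IsEquivalenceRelation p₁ p₂] :
    IsUniversallyEffectiveEquivalenceRelation p₁ p₂ := by
  obtain ⟨e⟩ := he.nonempty_equivalenceRelation
  let ι := sheafToPresheaf J (Type w)
  let a := presheafToSheaf J (Type w)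
  let adj := sheafificationAdjunction J (Type w)
  have he' : IsEquivalenceRelation (ι.map p₁) (ι.map p₂) :=
    (equivalenceRelationSheafToPresheaf J e).isEquivalenceRelation
  obtain ⟨e'⟩ := (functor_isUEER (ι.map p₁) (ι.map p₂)).nonempty_universallyEffectiveEquivalenceRelation
  have h3 : IsPullback (a.map (ι.map p₁)) (a.map (ι.map p₂)) (a.map e'.π) (a.map e'.π) :=
    e'.isKernelPair.map a
  have hε : ∀ Y : Sheaf J (Type w), IsIso (adj.counit.app Y) := fun Y => inferInstance
  let π : X ⟶ a.obj e'.B := inv (adj.counit.app X) ≫ a.map e'.π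
  have hk : IsKernelPair π p₁ p₂ := by
    refine IsPullback.of_iso h3 (asIso (adj.counit.app R)) (asIso (adj.counit.app X))
      (asIso (adj.counit.app X)) (Iso.refl _) ?_ ?_ ?_ ?_
    · exact adj.counit.naturality p₁
    · exact adj.counit.naturality p₂
    · simp [π]
    · simp [π]
  have : Epi e'.π := by
    have := (UEE.effectiveEpi e'.universally_effectiveEpi_π)
    infer_instance
  have : Epi (a.map e'.π) := inferInstance
  have : Epi π := epi_comp _ _
  exact isUEER_of_isKernelPair e π hk (sheaf_UEE_of_epi J π)

end Groth.Agent.H26
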