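import Mathlib
import Groth.Prelude.Def_DDual2
import Groth.Prelude.Def_DualSh
import Groth.Agent.H26.CoextBC14
import Groth.Agent.H26.BidualPerf2
import Groth.Agent.H2.DualCx.LocalCM

/-!
# Properties (a), (b), (c) of `ω_{A/R} = φ^!(R)` for `φ : R → A` flat of finite type (helper26)
-/

set_option autoImplicit false
set_option linter.unusedSectionVars false
set_option linter.style.haveILetI false
set_option linter.overlappingInstances false

universe u

open CategoryTheory Limits Pretriangulated DerivedCategory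

namespace Groth.Agent.H26.CoextBC

open Groth.Agent.H26.FlatBCHom Groth.Agent.H26.FlatBCDual Groth.Agent.H2.DualCx
open Groth.Agent.H28.ShriekTools Groth.Agent.H35.PolyTor Groth.Agent.H35.KF Groth.Agent.H35.RelPC

attribute [local instance] HasDerivedCategory.standard

section Main

variable (R A : Type u) [CommRing R] [CommRing A] [IsNoetherianRing R] [IsNoetherianRing A]
  [Algebra R A] [Module.Flat R A]

set_option maxHeartbeats 1600000 in
/-- parts (a), (b), (c) of S1801 -/
theorem shriekVia_self_abc (n : ℕ) (ψ : MvPolynomial (Fin n) R →ₐ[R] A)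
    (hψ : Function.Surjective ψ) [DRing.HasLBaseChange (algebraMap R (MvPolynomial (Fin n) R))]
    (Rψ : Dual.D (MvPolynomial (Fin n) R) ⥤ Dual.D A) (adj : DRing.restrictD ψ.toRingHom ⊣ Rψ) :
    (∃ a b : ℤ, ∀ i : ℤ, (i < a ∨ b < i) →
        Subsingleton (Dual.HD A (Dual2.shriekVia n Rψ (Dual.inD R R)) i)) ∧
      (∀ i : ℤ, Module.Finite A (Dual.HD A (Dual2.shriekVia n Rψ (Dual.inD R R)) i)) ∧
      DRing.HasFiniteTorDimCx R
        ((DRing.restrictD (algebraMap R A)).obj (Dual2.shriekVia n Rψ (Dual.inD R R))) ∧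
      (Function.Bijective (fun a : A => a • CategoryTheory.CategoryStruct.id
          (Dual2.shriekVia n Rψ (Dual.inD R R))) ∧
        ∀ i : ℤ, i ≠ 0 → Subsingleton (Dual2.shriekVia n Rψ (Dual.inD R R) ⟶
          (Dual2.shriekVia n Rψ (Dual.inD R R))⟦i⟧)) := by
  have hrel := isRelPerfect_shriekVia_self R A n ψ hψ Rψ adj
  letI algPA : Algebra (MvPolynomial (Fin n) R) A := ψ.toRingHom.toAlgebra
  haveI t3 : IsScalarTower R (MvPolynomial (Fin n) R) A :=
    IsScalarTower.of_algebraMap_eq (fun r => (ψ.commutes r).symm)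
  haveI fin : Module.Finite (MvPolynomial (Fin n) R) A :=
    Module.Finite.of_surjective (Algebra.linearMap (MvPolynomial (Fin n) R) A) hψ
  have hperf : DRing.IsPerfectModule (MvPolynomial (Fin n) R) A :=
    isPerfectModule_of_flat R A n ψ hψ
  let K : Dual.D (MvPolynomial (Fin n) R) :=
    (DRing.LBaseChange (algebraMap R (MvPolynomial (Fin n) R))).obj (Dual.inD R R)
  let eK : K ≅ Dual.inD (MvPolynomial (Fin n) R) (MvPolynomial (Fin n) R) :=
    (lbcIso (A := R) (B := MvPolynomial (Fin n) R)).app _ ≪≫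
      LBSelfIso (S := R) (MvPolynomial (Fin n) R)
  have eR : Rψ ≅ RR (MvPolynomial (Fin n) R) A :=
    adj.rightAdjointUniq (adjRR (MvPolynomial (Fin n) R) A)
  let Y : Dual.D A := Rψ.obj K
  let Y₀ : Dual.D A := (RR (MvPolynomial (Fin n) R) A).obj
    (Dual.inD (MvPolynomial (Fin n) R) (MvPolynomial (Fin n) R))
  let eY : Y ≅ Y₀ := eR.app K ≪≫ (RR (MvPolynomial (Fin n) R) A).mapIso eK
  let X : Dual.D (MvPolynomial (Fin n) R) :=
    (DRing.restrictD (algebraMap (MvPolynomial (Fin n) R) A)).obj Y₀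
  have hX : DRing.IsPerfect (MvPolynomial (Fin n) R) X := isPerfect_restrict_RR_self A hperf
  refine ⟨?_, ?_, hrel.2, ?_⟩
  · -- bounded cohomology
    obtain ⟨E, a, b, hE, -, ⟨e⟩⟩ := hX
    refine ⟨a - n, b - n, fun i hi => ?_⟩
    have h1 : IsZero ((DerivedCategory.homologyFunctor
        (ModuleCat.{u} (MvPolynomial (Fin n) R)) ((n : ℤ) + i)).obj X) :=
      IsZero.of_iso (Groth.Agent.H28.PCohCore.isZero_homology_of_isZero_X E ((n : ℤ) + i)
          (hE _ (by omega)))
        ((DerivedCategory.homologyFunctor _ ((n : ℤ) + i)).mapIso e.symm ≪≫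
          Groth.Agent.H28.PCohDer.homologyQIso E ((n : ℤ) + i))
    have h2 := isZero_HD_of_isZero_HD_restrict (S := MvPolynomial (Fin n) R) Y₀ ((n : ℤ) + i) h1
    have h3 : IsZero ((DerivedCategory.homologyFunctor (ModuleCat.{u} A) ((n : ℤ) + i)).obj Y) :=
      IsZero.of_iso h2 ((DerivedCategory.homologyFunctor _ ((n : ℤ) + i)).mapIso eY)
    have h4 : Subsingleton (Dual.HD A Y ((n : ℤ) + i)) :=
      ModuleCat.subsingleton_of_isZero h3
    exact (HDShiftEquiv Y (n : ℤ) i).toEquiv.subsingleton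
  · -- finite cohomology
    intro i
    haveI : K.IsGE 0 := TStructure.t.isGE_of_iso eK.symm 0
    have hKfin : ∀ j : ℤ, Module.Finite (MvPolynomial (Fin n) R)
        (Dual.HD (MvPolynomial (Fin n) R) K j) := by
      intro j
      have := Groth.Agent.H28.DualSelf.finite_HD_inD (A := MvPolynomial (Fin n) R)
        (MvPolynomial (Fin n) R) j
      exact Module.Finite.equiv
        ((DerivedCategory.homologyFunctor _ j).mapIso eK).toLinearEquiv.symm
    have := Groth.Agent.H28.RestrAdj.finite_HD_rightAdjoint Rψ adj K 0 hKfin ((n : ℤ) + i)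
    exact Module.Finite.equiv (HDShiftEquiv Y (n : ℤ) i).symm
  · -- endomorphisms
    exact Groth.Agent.H26.BidualPerf.toEnd_bijective_and_ext_self_subsingleton_shift Y (n : ℤ)
      (Groth.Agent.H26.BidualPerf.toEnd_bijective_and_ext_self_subsingleton hperf Rψ adj K eK)

end Main

end Groth.Agent.H26.CoextBC
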