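import Mathlib
import Groth.Agent.H10.RH0
import Groth.Agent.H10.RH5
import Groth.Agent.H10.RHM11
import Groth.Agent.H45.MultiDer.BaseCmp
import Groth.Agent.H45.MultiDer.KFAcyclic
import Groth.Agent.H35.LTensorCxLib
import Groth.Agent.H5.LBaseChangeAdj

/-!
# `RHom_P(A, K ⊗^L_R P)[n] ≅ (K ⊗^L_R A) ⊗^L_A W` for `A` perfect over `P` (helper26)

Here `W` is a complex representing `RHom_P(A, P)[n]`.  Built on helper10's
`RHomRel ψ ≅ - ⊗^L_P RHomRel ψ (P)` (S13895) and helper45's computation of the derived functors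
on K-flat complexes.
-/

set_option autoImplicit false
set_option linter.style.haveILetI false
universe u
open CategoryTheory CategoryTheory.Limits MonoidalCategory
attribute [local instance] HasDerivedCategory.standard

namespace Groth.Agent.H26.ShriekTensor

open Groth.Agent.H45.MultiDer.DTenC Groth.Agent.H45.MultiDer DTen DerivedCategory

section General

variable {R A : Type u} [CommRing R] [CommRing A] (φ : R →+* A)

/-- the mixed derived tensor product exists -/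
theorem hasLTenMix : DTen.HasLTenMix φ :=
  Groth.Agent.H10.RH.hasLeftDerivedFunctor₂ (hyp R) (hypTop A) (DTen.mix₂ φ) (mix₂_inverts_he φ)
    (fun P P' f h₁ _ h₁' _ hf₁ hf₂ => by
      have := quasiIso_extCx_map φ f.1 h₁ h₁'
      have : QuasiIso ((DTen.extCx φ).map f.1 ▷ P.2 ≫ (DTen.extCx φ).obj P'.1 ◁ f.2) :=
        quasiIso_tensor_of_kflat_left _ _ (isKFlat_extCx φ h₁) (isKFlat_extCx φ h₁')
      exact (DerivedCategory.isIso_Q_map_iff_quasiIso _ _).2 this)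

/-- derived base change is computed termwise on K-flat complexes -/
noncomputable def lbcKFlatIso [DRing.HasLBaseChange φ] (F : DRing.Cx R) (hF : DRing.IsKFlat R F) :
    (DRing.LBaseChange φ).obj (Q.obj F) ≅ Q.obj ((DTen.extCx φ).obj F) :=
  haveI := isIso_αext_app φ F hF
  ((Groth.Agent.H5.LBaseChangeAdj.adj φ).leftAdjointUniq (adjD φ)).app (Q.obj F) ≪≫
    asIso ((αext φ).app F)

section Comp

variable {P : Type u} [CommRing P] (ι : R →+* P) (ψ : P →+* A)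

/-- termwise extension of scalars along a composition -/
noncomputable def extCxCompIso (hφ : φ = ψ.comp ι) (F : DRing.Cx R) :
    (DTen.extCx ψ).obj ((DTen.extCx ι).obj F) ≅ (DTen.extCx φ).obj F := by
  subst hφ
  exact ((NatIso.mapHomologicalComplex (ModuleCat.extendScalarsComp.{u, u} ι ψ)
    (ComplexShape.up ℤ)).app F).symm

end Comp

/-- `E ⊗ (W⟦y⟧) ≅ (E ⊗ W)⟦y⟧` for complexes of modules -/
noncomputable def tensorShiftIso (E W : DRing.Cx A) (y : ℤ) : E ⊗ (W⟦y⟧) ≅ (E ⊗ W)⟦y⟧ :=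
  CochainComplex.mapBifunctorShift₂Iso E W (curriedTensor (ModuleCat.{u} A)) y

/-- `(Q (E ⊗ W⟦-n⟧))⟦n⟧ ≅ Q (E ⊗ W)` -/
noncomputable def QtensorShiftIso (E W : DRing.Cx A) (n : ℤ) :
    (Q.obj (E ⊗ (W⟦-n⟧)))⟦n⟧ ≅ Q.obj (E ⊗ W) :=
  ((Q.commShiftIso n).app (E ⊗ (W⟦-n⟧))).symm ≪≫
    Q.mapIso ((tensorShiftIso E (W⟦-n⟧) n).symm ≪≫
      (tensorLeft E).mapIso ((shiftFunctorCompIsoId (DRing.Cx A) (-n) n (by omega)).app W))

end General

section Main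

variable {R P A : Type u} [CommRing R] [CommRing P] [CommRing A]

/-- **`RHom_P(A, K ⊗^L_R P)[n] ≅ (K ⊗^L_R A) ⊗^L_A W`** for `A` perfect over `P`, where `W` is a
complex of `A`-modules representing `RHom_P(A, R ⊗^L_R P)[n]`. -/
theorem nonempty_shriek_iso_LTensorCx
    (ι : R →+* P) (ψ : P →+* A) (φ : R →+* A) (hφ : φ = ψ.comp ι)
    [DRing.HasLBaseChange ι] [DRing.HasLBaseChange φ]
    (hA : DRing.IsPerfect P ((DRing.restrictD ψ).obj (DTen.unit A)))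
    (Rψ : Dual.D P ⥤ Dual.D A) (adj : DRing.restrictD ψ ⊣ Rψ)
    (n : ℤ) (W : DRing.Cx A) [DRing.HasLTensorCx A W]
    (eu : (DRing.LBaseChange ι).obj (Dual.inD R R) ≅ DTen.unit P)
    (hW : DRing.toD W ≅ (Rψ.obj ((DRing.LBaseChange ι).obj (Dual.inD R R)))⟦n⟧)
    (K : Dual.D R) :
    Nonempty ((Rψ.obj ((DRing.LBaseChange ι).obj K))⟦n⟧ ≅
      (DRing.LTensorCx A W).obj ((DRing.LBaseChange φ).obj K)) := by
  haveI : DTen.HasRHomRel ψ := ⟨⟨Rψ, ⟨adj⟩⟩⟩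
  haveI := hasLTenMix ψ
  haveI := Groth.Agent.H10.RH.hasLTen P
  haveI := Groth.Agent.H10.RH.hasLTen₃ P
  haveI := Groth.Agent.H10.RH.isSymMonoidal P
  obtain ⟨e₂⟩ := Groth.Agent.H10.RH.nonempty_RHomRel_iso ψ hA
  let e₁ : Rψ ≅ DTen.RHomRel ψ := adj.rightAdjointUniq (DTen.relAdj ψ)
  obtain ⟨F, hF, ⟨eF⟩⟩ := exists_kflat_rep K
  let G : DRing.Cx P := (DTen.extCx ι).obj F
  have hG : DRing.IsKFlat P G := isKFlat_extCx ι hF
  let eM : (DRing.LBaseChange ι).obj K ≅ Q.obj G :=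
    (DRing.LBaseChange ι).mapIso eF.symm ≪≫ lbcKFlatIso ι F hF
  let W₀ : DRing.Cx A := W⟦-n⟧
  let ω₀ : Dual.D A := (DTen.RHomRel ψ).obj (DTen.unit P)
  let eW : Q.obj W₀ ≅ ω₀ :=
    (Q.commShiftIso (-n)).app W ≪≫ (shiftFunctor (Dual.D A) (-n)).mapIso hW ≪≫
      (shiftFunctorCompIsoId (Dual.D A) n (-n) (by omega)).app _ ≪≫ e₁.app _ ≪≫
      (DTen.RHomRel ψ).mapIso eu
  let E : DRing.Cx A := (DTen.extCx φ).obj F
  have hE : DRing.IsKFlat A E := isKFlat_extCx φ hF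
  haveI := isIso_εMix ψ G W₀ hG
  let i1 : Rψ.obj ((DRing.LBaseChange ι).obj K) ≅ (DTen.LTenMix ψ).obj (Q.obj G, Q.obj W₀) :=
    e₁.app _ ≪≫ e₂.app _ ≪≫ (DTen.LTenMix ψ).mapIso (Iso.prod eM eW.symm)
  let i2 : (DTen.LTenMix ψ).obj (Q.obj G, Q.obj W₀) ≅ Q.obj ((DTen.extCx ψ).obj G ⊗ W₀) :=
    asIso ((DTen.εMix ψ).app (G, W₀))
  let i3 : Q.obj ((DTen.extCx ψ).obj G ⊗ W₀) ≅ Q.obj (E ⊗ W₀) :=
    Q.mapIso ((tensorRight W₀).mapIso (extCxCompIso φ ι ψ hφ F))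
  let i4 : (Q.obj (E ⊗ W₀))⟦n⟧ ≅ Q.obj (E ⊗ W) := QtensorShiftIso E W n
  let i5 : (DRing.LTensorCx A W).obj ((DRing.LBaseChange φ).obj K) ≅ Q.obj (E ⊗ W) :=
    (DRing.LTensorCx A W).mapIso ((DRing.LBaseChange φ).mapIso eF.symm ≪≫ lbcKFlatIso φ F hF) ≪≫
      Groth.Agent.H35.LT.LTensorCxIso W E hE
  exact ⟨(shiftFunctor (Dual.D A) n).mapIso (i1 ≪≫ i2 ≪≫ i3) ≪≫ i4 ≪≫ i5.symm⟩

end Main

end Groth.Agent.H26.ShriekTensor
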