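import Mathlib
import Groth.Prelude.Def_DDual2
import Groth.Prelude.Def_CAlg
import Groth.Agent.H26.FlatBCDual13
import Groth.Agent.H28.DualShift

/-!
# The degree of `Ext(κ, ω ⊗ C)` along a flat local homomorphism (helper26)

`nontrivial_T_LB_of_closedFibre`: `R → C` a flat local homomorphism of Noetherian local rings,
`ω` dualizing over `R` with `Hom(κ_R[0], ω[d]) ≠ 0`, `ω ⊗ C` dualizing over `C`, and the closed
fibre `C/m_R C` of dimension `m`: then `Hom(κ_C[0], (ω ⊗ C)[d + m]) ≠ 0`.
-/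

set_option autoImplicit false
set_option linter.unusedSectionVars false
set_option linter.style.haveILetI false
set_option linter.overlappingInstances false

universe u

open CategoryTheory Limits Pretriangulated DerivedCategory TensorProduct

namespace Groth.Agent.H26.SmoothExtDeg

open Groth.Agent.H26.FlatBCHom Groth.Agent.H26.FlatBCDual

attribute [local instance] HasDerivedCategory.standard
attribute [local instance] homModuleA

section Local

variable {F : Type u} [CommRing F] [IsNoetherianRing F] [IsLocalRing F]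

open IsLocalRing in
/-- over a Noetherian local ring `F` of dimension `m` with `F[0]` dualizing,
`Hom(κ[0], F[0][m]) ≠ 0` -/
theorem nontrivial_T_residue_self (m : ℕ) (hm : ringKrullDim F = m)
    (h : Dual.IsDualizing F (Dual.inD F F)) :
    Nontrivial (Dual.inD F (F ⧸ maximalIdeal F) ⟶ (Dual.inD F F)⟦(m : ℤ)⟧) := by
  obtain ⟨s, hs0, ⟨hs1⟩⟩ := Groth.Agent.H2.DualCx.residue_ext F (Dual.inD F F) h (maximalIdeal F)
  have hsm : s = m := by
    by_contra hne
    haveI := subsingleton_T_residue_self m hm h s hne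
    haveI : Nontrivial (F ⧸ maximalIdeal F) :=
      Ideal.Quotient.nontrivial_iff.mpr (Ideal.IsPrime.ne_top inferInstance)
    exact not_subsingleton (F ⧸ maximalIdeal F) hs1.symm.toEquiv.subsingleton
  subst hsm
  haveI : Nontrivial (F ⧸ maximalIdeal F) :=
    Ideal.Quotient.nontrivial_iff.mpr (Ideal.IsPrime.ne_top inferInstance)
  exact hs1.toEquiv.nontrivial

end Local

section Main

variable {R C : Type u} [CommRing R] [CommRing C] [Algebra R C] [Module.Flat R C]
  [IsNoetherianRing R] [IsNoetherianRing C] [IsLocalRing R] [IsLocalRing C]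
  [IsLocalHom (algebraMap R C)]

open IsLocalRing in
theorem nontrivial_T_LB_of_closedFibre (ω : Dual.D R) (hω : Dual.IsDualizing R ω)
    (hC : Dual.IsDualizing C ((LB R C).obj ω)) (d : ℤ)
    (hd : Nontrivial (Dual.inD R (R ⧸ maximalIdeal R) ⟶ ω⟦d⟧))
    (m : ℕ) (hm : ringKrullDim (C ⧸ (maximalIdeal R).map (algebraMap R C)) = m) :
    Nontrivial (Dual.inD C (C ⧸ maximalIdeal C) ⟶ ((LB R C).obj ω)⟦d + (m : ℤ)⟧) := by
  set I₀ := (maximalIdeal R).map (algebraMap R C) with hI₀
  set F := C ⧸ I₀ with hF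
  set W := (LB R C).obj ω with hW
  obtain ⟨a, b₀, hGE, hLE, -⟩ := exists_bounds ω hω
  have hle : I₀ ≤ maximalIdeal C :=
    ((local_hom_TFAE (algebraMap R C)).out 0 2 rfl rfl).mp inferInstance
  haveI : Nontrivial F := Ideal.Quotient.nontrivial_iff.mpr
    (fun h => (Ideal.IsPrime.ne_top inferInstance : maximalIdeal C ≠ ⊤) (top_le_iff.mp (h ▸ hle)))
  haveI : IsLocalRing F := IsLocalRing.of_surjective' (Ideal.Quotient.mk I₀)
    Ideal.Quotient.mk_surjective
  haveI : Module.FaithfullyFlat R C := Module.FaithfullyFlat.of_flat_of_isLocalHom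
  obtain ⟨s, h0, h1⟩ := exists_T_closedFibre (C := C) ω hω
  have hs : s = d := by
    by_contra hne
    haveI := h0 d (fun h => hne h.symm)
    have e := TQuotEquiv (C := C) ω a b₀ hGE hLE (maximalIdeal R) d
    haveI : Nontrivial (C ⊗[R] (Dual.inD R (R ⧸ maximalIdeal R) ⟶ ω⟦d⟧)) :=
      (Module.FaithfullyFlat.nontrivial_tensorProduct_iff_right R C).mpr hd
    exact not_subsingleton _ e.symm.toEquiv.subsingleton
  subst hs
  obtain ⟨e⟩ := nonempty_RRc_iso_single (C := C) (F := F) Ideal.Quotient.mk_surjective W s h0 h1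
  have hV : Dual.IsDualizing F ((Groth.Agent.H28.CoextModel.RRc (A := C) (B := F)).obj W) :=
    Groth.Agent.H28.DualFinite.isDualizing_rightAdjoint _
      (Groth.Agent.H28.CoextModel.adj' (A := C) (B := F)) _ hC
  -- `(single s F)[s] ≅ F[0]`
  let eS : ((DerivedCategory.singleFunctor (ModuleCat.{u} F) s).obj (ModuleCat.of F F))⟦s⟧ ≅
      Dual.inD F F :=
    ((DerivedCategory.singleFunctors (ModuleCat.{u} F)).shiftIso s 0 s (by simp)).app
      (ModuleCat.of F F)
  have h3 : Dual.IsDualizing F (Dual.inD F F) :=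
    isDualizing_of_iso ((shiftFunctor (Dual.D F) s).mapIso e ≪≫ eS)
      (Groth.Agent.H28.DualShift.isDualizing_shift _ hV s)
  haveI hnt := nontrivial_T_residue_self (F := F) m hm h3
  -- step 1: transport to `(RRc W)[s + m]`
  let iso1 : ((Groth.Agent.H28.CoextModel.RRc (A := C) (B := F)).obj W)⟦s + (m : ℤ)⟧ ≅
      (Dual.inD F F)⟦(m : ℤ)⟧ :=
    (shiftFunctorAdd' (Dual.D F) s (m : ℤ) (s + (m : ℤ)) rfl).app _ ≪≫
      (shiftFunctor (Dual.D F) (m : ℤ)).mapIso ((shiftFunctor (Dual.D F) s).mapIso e ≪≫ eS)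
  haveI h4 : Nontrivial (Dual.inD F (F ⧸ maximalIdeal F) ⟶
      ((Groth.Agent.H28.CoextModel.RRc (A := C) (B := F)).obj W)⟦s + (m : ℤ)⟧) :=
    (Iso.homCongr (Iso.refl (Dual.inD F (F ⧸ maximalIdeal F))) iso1).nontrivial
  -- step 2: adjunction
  haveI h5 : Nontrivial (Dual.inD C (F ⧸ maximalIdeal F) ⟶ W⟦s + (m : ℤ)⟧) :=
    (adjT (C := C) (F := F) W (F ⧸ maximalIdeal F) (s + (m : ℤ))).symm.nontrivial
  -- step 3: identify the residue fields
  have hmax : maximalIdeal F = (maximalIdeal C).map (Ideal.Quotient.mk I₀) := by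
    symm
    apply IsLocalRing.eq_maximalIdeal
    rcases Ideal.map_eq_top_or_isMaximal_of_surjective (Ideal.Quotient.mk I₀)
      Ideal.Quotient.mk_surjective (inferInstance : (maximalIdeal C).IsMaximal) with h | h
    · exfalso
      have h2 : maximalIdeal C = ⊤ := by
        have := congrArg (Ideal.comap (Ideal.Quotient.mk I₀)) h
        rwa [Ideal.comap_map_of_surjective _ Ideal.Quotient.mk_surjective, Ideal.comap_top,
          ← RingHom.ker_eq_comap_bot, Ideal.mk_ker, sup_eq_left.mpr hle] at this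
      exact (Ideal.IsPrime.ne_top inferInstance : maximalIdeal C ≠ ⊤) h2
    · exact h
  let eM1 : (F ⧸ maximalIdeal F) ≃ₗ[C] (F ⧸ (maximalIdeal C).map (Ideal.Quotient.mk I₀)) :=
    (Submodule.quotEquivOfEq _ _ hmax).restrictScalars C
  let eM : (F ⧸ maximalIdeal F) ≃ₗ[C] (C ⧸ maximalIdeal C) :=
    eM1 ≪≫ₗ (DoubleQuot.quotQuotEquivQuotOfLEₐ C hle).toLinearEquiv
  exact (Groth.Agent.H2.DualCx.congr W (s + (m : ℤ)) eM).toEquiv.nontrivial

end Main

end Groth.Agent.H26.SmoothExtDeg
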