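import Mathlib
import Groth.Prelude.Def_FlatCA
import Groth.Agent.H17.DimIneq
import Groth.Agent.H49.FibreDimRing
import Groth.Agent.S2768

/-!
# The dimension of the local rings of the fibres of a smooth ring map (helper26)

`ringKrullDim_fibre_of_smooth`: `A → B` smooth of relative dimension `n`, `q` a prime of `B` over
`p`, `t = trdeg κ(q)/κ(p)`: then `dim (B_q / p B_q) = n - t`.
-/

set_option autoImplicit false
set_option linter.style.haveILetI false
universe u
open TensorProduct AlgebraicGeometry CategoryTheory

namespace Groth.Agent.H26.SmoothExtDeg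

theorem trdeg_quotient_eq (A B : Type u) [CommRing A] [CommRing B] [Algebra A B]
    (p : Ideal A) [p.IsPrime] (q : Ideal B) [q.IsPrime] [hq : q.LiesOver p] :
    @Algebra.trdeg p.ResidueField q.ResidueField _ _
      (Ideal.ResidueField.mapₐ p q (Algebra.ofId A B) hq.over).toRingHom.toAlgebra =
    Algebra.trdeg (A ⧸ p) (B ⧸ q) := by
  letI alg : Algebra p.ResidueField q.ResidueField :=
    (Ideal.ResidueField.mapₐ p q (Algebra.ofId A B) hq.over).toRingHom.toAlgebra
  letI : Algebra (A ⧸ p) q.ResidueField :=
    ((algebraMap p.ResidueField q.ResidueField).comp (algebraMap (A ⧸ p) p.ResidueField)).toAlgebra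
  haveI : IsScalarTower (A ⧸ p) p.ResidueField q.ResidueField := IsScalarTower.of_algebraMap_eq' rfl
  haveI : IsScalarTower (A ⧸ p) (B ⧸ q) q.ResidueField := by
    refine IsScalarTower.of_algebraMap_eq ?_
    intro x
    obtain ⟨a, rfl⟩ := Ideal.Quotient.mk_surjective x
    change (Ideal.ResidueField.mapₐ p q (Algebra.ofId A B) hq.over)
      (algebraMap (A ⧸ p) p.ResidueField (Ideal.Quotient.mk p a)) = _
    rw [Ideal.algebraMap_quotient_residueField_mk, Ideal.Quotient.algebraMap_mk_of_liesOver,
      Ideal.algebraMap_quotient_residueField_mk]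
    simp only [AlgHom.commutes]
    exact IsScalarTower.algebraMap_apply A B q.ResidueField a
  exact Groth.Agent.H17.DimIneq.trdeg_eq_of_square (A ⧸ p) (B ⧸ q) p.ResidueField q.ResidueField

theorem ringKrullDim_quotient_eq_height (A B : Type u) [CommRing A] [CommRing B] [Algebra A B]
    (p : Ideal A) [p.IsPrime] (Q : Ideal (p.Fiber B)) [Q.IsPrime] (q : Ideal B) [q.IsPrime]
    (hQ : Q.comap (Algebra.TensorProduct.includeRight : B →ₐ[A] p.Fiber B).toRingHom = q) :
    ringKrullDim (Localization.AtPrime q ⧸ p.map (algebraMap A (Localization.AtPrime q))) =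
      (Q.height : WithBot ℕ∞) := by
  subst hQ
  set r := Q.comap (Algebra.TensorProduct.includeRight (R := A) (A := p.ResidueField) (B := B))
    with hr
  have hrp : r.LiesOver p := inferInstance
  letI := Localization.AtPrime.algebraOfLiesOver p r
  have e := Ideal.Fiber.localizationAlgEquivQuotient p Q
  rw [← IsLocalization.AtPrime.ringKrullDim_eq_height Q (Localization.AtPrime Q)]
  exact (ringKrullDim_eq_of_ringEquiv e.toRingEquiv).symm

theorem finitePresentation_of_smoothRelDim (n : ℕ) (R D : Type u) [CommRing R] [CommRing D]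
    [Algebra R D] (h : FlatCA.SmoothRelDim n R D) : Algebra.FinitePresentation R D := by
  haveI : SmoothOfRelativeDimension n (Spec.map (CommRingCat.ofHom (algebraMap R D))) := h
  haveI : Smooth (Spec.map (CommRingCat.ofHom (algebraMap R D))) :=
    SmoothOfRelativeDimension.smooth n _
  haveI : LocallyOfFinitePresentation (Spec.map (CommRingCat.ofHom (algebraMap R D))) :=
    inferInstance
  have h1 := (HasRingHomProperty.Spec_iff (P := @LocallyOfFinitePresentation)).mp this
  exact RingHom.finitePresentation_algebraMap.mp h1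

theorem smooth_of_smoothRelDim (n : ℕ) (R D : Type u) [CommRing R] [CommRing D]
    [Algebra R D] (h : FlatCA.SmoothRelDim n R D) : Algebra.Smooth R D := by
  haveI : SmoothOfRelativeDimension n (Spec.map (CommRingCat.ofHom (algebraMap R D))) := h
  haveI : Smooth (Spec.map (CommRingCat.ofHom (algebraMap R D))) :=
    SmoothOfRelativeDimension.smooth n _
  have h1 := (HasRingHomProperty.Spec_iff (P := @Smooth)).mp this
  exact RingHom.smooth_algebraMap.mp h1

/-- the dimension of the local ring of the fibre of a smooth map of relative dimension `n` at a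
point with residual transcendence degree `t` is `n - t` -/
theorem ringKrullDim_fibre_of_smooth (A B : Type u) [CommRing A] [CommRing B] [Algebra A B]
    (n : ℕ) (hs : FlatCA.SmoothRelDim n A B) (p : Ideal A) [p.IsPrime] (q : Ideal B) [q.IsPrime]
    [hq : q.LiesOver p] (t : ℕ)
    (ht : @Algebra.trdeg p.ResidueField q.ResidueField _ _
      (Ideal.ResidueField.mapₐ p q (Algebra.ofId A B) hq.over).toRingHom.toAlgebra =
        (t : Cardinal.{u})) :
    ∃ m : ℕ, m + t = n ∧
      ringKrullDim (Localization.AtPrime q ⧸ p.map (algebraMap A (Localization.AtPrime q))) =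
        (m : WithBot ℕ∞) := by
  haveI : SmoothOfRelativeDimension n (Spec.map (CommRingCat.ofHom (algebraMap A B))) := hs
  haveI := finitePresentation_of_smoothRelDim n A B hs
  haveI : Algebra.FiniteType A B := inferInstance
  let e := PrimeSpectrum.primesOverOrderIsoFiber A B p
  let Q := e ⟨q, ⟨inferInstance, inferInstance⟩⟩
  have hQ : Q.asIdeal.comap (Algebra.TensorProduct.includeRight :
      B →ₐ[A] p.Fiber B).toRingHom = q := by
    have := PrimeSpectrum.coe_primesOverOrderIsoFiber_symm_apply (R := A) (S := B) (p := p) Q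
    rw [OrderIso.symm_apply_apply] at this
    exact this.symm
  haveI : Q.asIdeal.IsPrime := Q.2
  have h1 := Groth.Agent.S2768.result n (Spec.map (CommRingCat.ofHom (algebraMap A B)))
    (show ↥(Spec (CommRingCat.of B)) from (⟨q, inferInstance⟩ : PrimeSpectrum B))
  have h2 := Groth.Agent.H49.FibreDimRing.fibreDimAt_SpecMap A B ⟨p, inferInstance⟩ Q
    ⟨q, inferInstance⟩ hQ
  obtain ⟨r, hr, hl⟩ := Groth.Agent.H17.DimIneq.localDim_fiber_eq A B p q Q hQ
  have hrt : r = t := by
    have := (trdeg_quotient_eq A B p q).symm.trans ht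
    rw [hr] at this
    exact_mod_cast this
  subst hrt
  have h3 := ringKrullDim_quotient_eq_height A B p Q.asIdeal q hQ
  have h4 : (Q.asIdeal.height : WithBot ℕ∞) + (r : WithBot ℕ∞) = (n : WithBot ℕ∞) := by
    rw [← hl, ← h2]
    exact h1
  have h5 : Q.asIdeal.height + (r : ℕ∞) = (n : ℕ∞) := by exact_mod_cast h4
  have h6 : Q.asIdeal.height ≠ ⊤ := by
    intro htop
    rw [htop, top_add] at h5
    exact ENat.top_ne_natCast n h5
  obtain ⟨m, hm⟩ := ENat.ne_top_iff_exists.mp h6
  refine ⟨m, ?_, ?_⟩
  · rw [← hm] at h5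
    exact_mod_cast h5
  · rw [h3, ← hm]
    rfl

end Groth.Agent.H26.SmoothExtDeg
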