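import Mathlib
import Groth.Prelude.Def_DDual2
import Groth.Prelude.Def_FlatCA
import Groth.Agent.H26.SmoothExtDeg1
import Groth.Agent.H26.SmoothExtDeg2
import Groth.Agent.H26.FlatBCDual6
import Groth.Agent.H47.SmoothRegular
import Groth.Agent.H26.GorFieldAny
import Groth.Agent.H26.GorRegHom

/-!
# The codimension function of `ω ⊗ B` for a smooth ring map (helper26)
-/

set_option autoImplicit false
set_option linter.unusedSectionVars false
set_option linter.style.haveILetI false
set_option linter.overlappingInstances false

universe u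

open CategoryTheory Limits Pretriangulated DerivedCategory TensorProduct

namespace Groth.Agent.H26.SmoothExtDeg

open Groth.Agent.H26.FlatBCHom Groth.Agent.H26.FlatBCDual

attribute [local instance] HasDerivedCategory.standard
attribute [local instance] homModuleA

theorem gor_fibre (A B : Type u) [CommRing A] [CommRing B] [Algebra A B] [Algebra.Smooth A B]
    (p : PrimeSpectrum A) : LocCoh.IsGorensteinRing (B ⊗[A] p.asIdeal.ResidueField) := by
  haveI : IsRegularRing (p.asIdeal.ResidueField ⊗[A] B) :=
    Groth.Agent.H47.isRegularRing_of_smooth p.asIdeal.ResidueField _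
  exact Groth.Agent.H26.GorRegHom.isGorensteinRing_of_ringEquiv
    (Algebra.TensorProduct.comm A p.asIdeal.ResidueField B).toRingEquiv
    (Groth.Agent.H26.GorFieldAny.isGorensteinRing_of_isRegularRing _)

open IsLocalRing in
theorem main (A B : Type u) [CommRing A] [CommRing B] [Algebra A B] [IsNoetherianRing A] (n : ℕ)
    (hs : FlatCA.SmoothRelDim n A B) (ω : Dual.D A) (hω : Dual.IsDualizing A ω) (p : Ideal A)
    [p.IsPrime] (q : Ideal B) [q.IsPrime] [hq : q.LiesOver p]
    [DRing.HasLBaseChange (algebraMap A (Localization.AtPrime p))]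
    [DRing.HasLBaseChange (algebraMap A (Localization.AtPrime q))] (d : ℤ)
    (hd : Nontrivial (Dual.inD (Localization.AtPrime p) p.ResidueField ⟶
      ((DRing.LBaseChange (algebraMap A (Localization.AtPrime p))).obj ω)⟦d⟧)) (t : ℕ)
    (ht : @Algebra.trdeg p.ResidueField q.ResidueField _ _
      (Ideal.ResidueField.mapₐ p q (Algebra.ofId A B) hq.over).toRingHom.toAlgebra =
        (t : Cardinal.{u})) :
    Nontrivial (Dual.inD (Localization.AtPrime q) q.ResidueField ⟶
      ((DRing.LBaseChange (algebraMap A (Localization.AtPrime q))).obj ω)⟦(d - (t : ℤ) + (n : ℤ))⟧) := by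
  haveI := smooth_of_smoothRelDim n A B hs
  haveI : Algebra.FiniteType A B := inferInstance
  haveI : IsNoetherianRing B := Algebra.FiniteType.isNoetherianRing A B
  haveI : Module.Flat A B := inferInstance
  letI algRC : Algebra (Localization.AtPrime p) (Localization.AtPrime q) :=
    Localization.AtPrime.algebraOfLiesOver p q
  haveI : IsScalarTower A (Localization.AtPrime p) (Localization.AtPrime q) := inferInstance
  haveI : Module.Flat (Localization.AtPrime p) (Localization.AtPrime q) :=
    RingHom.Flat.localRingHom (f := algebraMap A B) (RingHom.flat_algebraMap_iff.2 inferInstance)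
      q p hq.over
  haveI : IsLocalHom (algebraMap (Localization.AtPrime p) (Localization.AtPrime q)) :=
    Localization.isLocalHom_localRingHom _ _ _ _
  haveI : Module.Flat A (Localization.AtPrime q) := Module.Flat.trans A B (Localization.AtPrime q)
  -- dualizing complexes
  have hωR : Dual.IsDualizing (Localization.AtPrime p) ((LB A (Localization.AtPrime p)).obj ω) :=
    isDualizing_LB_localization p.primeCompl ω hω
  have hωB : Dual.IsDualizing B ((LB A B).obj ω) :=
    isDualizing_LB_of_finiteType_gorenstein (gor_fibre A B) ω hω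
  have hωC' : Dual.IsDualizing (Localization.AtPrime q)
      ((LB B (Localization.AtPrime q)).obj ((LB A B).obj ω)) :=
    isDualizing_LB_localization q.primeCompl _ hωB
  let i1 : (LB B (Localization.AtPrime q)).obj ((LB A B).obj ω) ≅
      (LB A (Localization.AtPrime q)).obj ω := LBcomp B (Localization.AtPrime q) ω
  let i2 : (LB (Localization.AtPrime p) (Localization.AtPrime q)).obj
      ((LB A (Localization.AtPrime p)).obj ω) ≅ (LB A (Localization.AtPrime q)).obj ω :=
    LBcomp (Localization.AtPrime p) (Localization.AtPrime q) ω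
  have hC : Dual.IsDualizing (Localization.AtPrime q)
      ((LB (Localization.AtPrime p) (Localization.AtPrime q)).obj
        ((LB A (Localization.AtPrime p)).obj ω)) := isDualizing_of_iso (i1 ≪≫ i2.symm) hωC'
  haveI hd0 : Nontrivial (Dual.inD (Localization.AtPrime p)
      (Localization.AtPrime p ⧸ maximalIdeal (Localization.AtPrime p)) ⟶
      ((DRing.LBaseChange (algebraMap A (Localization.AtPrime p))).obj ω)⟦d⟧) := hd
  have hd' : Nontrivial (Dual.inD (Localization.AtPrime p)
      (Localization.AtPrime p ⧸ maximalIdeal (Localization.AtPrime p)) ⟶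
      ((LB A (Localization.AtPrime p)).obj ω)⟦d⟧) :=
    (Iso.homCongr (Iso.refl _) ((shiftFunctor _ d).mapIso
      ((lbcIso (A := A) (B := Localization.AtPrime p)).app ω))).symm.nontrivial
  obtain ⟨m, hmt, hm⟩ := ringKrullDim_fibre_of_smooth A B n hs p q t ht
  have hideal : (maximalIdeal (Localization.AtPrime p)).map
      (algebraMap (Localization.AtPrime p) (Localization.AtPrime q)) =
      p.map (algebraMap A (Localization.AtPrime q)) := by
    rw [← Localization.AtPrime.map_eq_maximalIdeal, Ideal.map_map,
      ← IsScalarTower.algebraMap_eq]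
  have hm' : ringKrullDim (Localization.AtPrime q ⧸ (maximalIdeal (Localization.AtPrime p)).map
      (algebraMap (Localization.AtPrime p) (Localization.AtPrime q))) = (m : WithBot ℕ∞) := by
    rw [ringKrullDim_eq_of_ringEquiv (Ideal.quotEquivOfEq hideal)]
    exact hm
  have key := nontrivial_T_LB_of_closedFibre ((LB A (Localization.AtPrime p)).obj ω) hωR hC d hd'
    m hm'
  have hdeg : d + (m : ℤ) = d - (t : ℤ) + (n : ℤ) := by
    have : (m : ℤ) + (t : ℤ) = (n : ℤ) := by exact_mod_cast hmt
    omega
  rw [hdeg] at key
  haveI key' : Nontrivial (Dual.inD (Localization.AtPrime q) q.ResidueField ⟶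
      ((LB (Localization.AtPrime p) (Localization.AtPrime q)).obj
        ((LB A (Localization.AtPrime p)).obj ω))⟦d - (t : ℤ) + (n : ℤ)⟧) := key
  exact (Iso.homCongr (Iso.refl _) ((shiftFunctor _ (d - (t : ℤ) + (n : ℤ))).mapIso
    (i2 ≪≫ ((lbcIso (A := A) (B := Localization.AtPrime q)).app ω).symm))).symm.nontrivial

end Groth.Agent.H26.SmoothExtDeg
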