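import Groth.Agent.H26.Shf
import Mathlib.CategoryTheory.Subobject.FactorThru
import Mathlib.CategoryTheory.Limits.Shapes.KernelPair
import Mathlib.CategoryTheory.RegularCategory.Basic

/-! Descent of subobjects along a universally effective epimorphism. -/

set_option autoImplicit false
open CategoryTheory CategoryTheory.Limits
universe w v₁ u₁

namespace Groth.Agent.H26

section General

variable {C : Type u₁} [Category.{v₁} C] [HasPullbacks C]

omit [HasPullbacks C] in
lemma factors_of_eq_comp_arrow {X W : C} (y : Subobject X) (g : W ⟶ X) (u : W ⟶ (y : C))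
    (hu : u ≫ y.arrow = g) : y.Factors g := hu ▸ Subobject.factors_comp_arrow u

lemma factors_pullback_iff {X' X W : C} (f : X' ⟶ X) (y : Subobject X) (g : W ⟶ X') :
    ((Subobject.pullback f).obj y).Factors g ↔ y.Factors (g ≫ f) := by
  have hsq := Subobject.isPullback f y
  constructor
  · intro h
    refine factors_of_eq_comp_arrow y _
      (((Subobject.pullback f).obj y).factorThru g h ≫ Subobject.pullbackπ f y) ?_
    rw [Category.assoc, hsq.w, ← Category.assoc, Subobject.factorThru_arrow]
  · intro h
    refine factors_of_eq_comp_arrow _ g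
      (hsq.lift (y.factorThru (g ≫ f) h) g (by rw [Subobject.factorThru_arrow])) ?_
    rw [hsq.lift_snd]

lemma factors_of_effectiveEpi_comp {P Z X : C} (f : P ⟶ Z) [EffectiveEpi f] (g : Z ⟶ X)
    (y : Subobject X) (h : y.Factors (f ≫ g)) : y.Factors g := by
  let c := y.factorThru (f ≫ g) h
  have hc : c ≫ y.arrow = f ≫ g := Subobject.factorThru_arrow _ _ _
  have hcoeq : ∀ {T : C} (g₁ g₂ : T ⟶ P), g₁ ≫ f = g₂ ≫ f → g₁ ≫ c = g₂ ≫ c := by
    intro T g₁ g₂ h12
    rw [← cancel_mono y.arrow, Category.assoc, Category.assoc, hc, ← Category.assoc,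
      ← Category.assoc, h12]
  refine factors_of_eq_comp_arrow y g (EffectiveEpi.desc f c hcoeq) ?_
  rw [← cancel_epi f, ← Category.assoc, EffectiveEpi.fac, hc]

theorem pullback_le_pullback_iff_of_UEE {X B : C} {π : X ⟶ B} (hπ : UEE π) (z z' : Subobject B)
    (h : (Subobject.pullback π).obj z ≤ (Subobject.pullback π).obj z') : z ≤ z' := by
  have hsq := Subobject.isPullback π z
  have : EffectiveEpi (Subobject.pullbackπ π z) := (hπ.baseChange hsq).effectiveEpi
  have hf : z'.Factors z.arrow := by
    apply factors_of_effectiveEpi_comp (Subobject.pullbackπ π z)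
    rw [hsq.w, ← factors_pullback_iff]
    exact Subobject.factors_of_le _ h (Subobject.factors_self _)
  exact Subobject.le_of_comm (z'.factorThru z.arrow hf) (Subobject.factorThru_arrow _ _ _)

theorem pullback_injective_of_UEE {X B : C} {π : X ⟶ B} (hπ : UEE π) :
    Function.Injective (Subobject.pullback π).obj := by
  intro z z' h
  exact le_antisymm (pullback_le_pullback_iff_of_UEE hπ z z' h.le)
    (pullback_le_pullback_iff_of_UEE hπ z' z h.ge)

theorem pullback_mk_eq_of_stable {R X B : C} {p₁ p₂ : R ⟶ X} {π : X ⟶ B}
    (hk : IsKernelPair π p₁ p₂) (y : Subobject X)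
    (hy : (Subobject.pullback p₁).obj y = (Subobject.pullback p₂).obj y)
    {Z : C} (q : (y : C) ⟶ Z) (hq : UEE q) (j : Z ⟶ B) [Mono j]
    (hfac : q ≫ j = y.arrow ≫ π) :
    (Subobject.pullback π).obj (Subobject.mk j) = y := by
  set z := Subobject.mk j with hz
  apply le_antisymm
  · -- π^* z ≤ y
    have hsq := Subobject.isPullback π z
    set a := ((Subobject.pullback π).obj z).arrow with ha
    let t : ((Subobject.pullback π).obj z : C) ⟶ Z :=
      Subobject.pullbackπ π z ≫ (Subobject.underlyingIso j).hom
    have ht : t ≫ j = a ≫ π := by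
      simp only [t, Category.assoc, Subobject.underlyingIso_hom_comp_eq_mk]
      exact hsq.w
    let u := pullback.fst t q
    let v := pullback.snd t q
    have huv : u ≫ t = v ≫ q := pullback.condition
    have : EffectiveEpi u := (hq.baseChange (IsPullback.of_hasPullback t q)).effectiveEpi
    have hf : y.Factors a := by
      apply factors_of_effectiveEpi_comp u
      have hw : (u ≫ a) ≫ π = (v ≫ y.arrow) ≫ π := by
        rw [Category.assoc, ← ht, ← Category.assoc, huv, Category.assoc, hfac, Category.assoc]
      have h1 : hk.lift _ _ hw ≫ p₁ = u ≫ a := hk.lift_fst _ _ hw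
      have h2 : hk.lift _ _ hw ≫ p₂ = v ≫ y.arrow := hk.lift_snd _ _ hw
      rw [← h1, ← factors_pullback_iff, hy, factors_pullback_iff, h2]
      exact Subobject.factors_comp_arrow v
    exact Subobject.le_of_comm (y.factorThru a hf) (Subobject.factorThru_arrow _ _ _)
  · -- y ≤ π^* z
    have hf : ((Subobject.pullback π).obj z).Factors y.arrow := by
      rw [factors_pullback_iff, ← hfac]
      exact Subobject.factors_of_factors_right q (Subobject.mk_factors_self j)
    exact Subobject.le_of_comm (((Subobject.pullback π).obj z).factorThru y.arrow hf)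
      (Subobject.factorThru_arrow _ _ _)

end General

end Groth.Agent.H26

namespace Groth.Agent.H26

section Sheaf

variable {C : Type u₁} [Category.{v₁} C] (J : GrothendieckTopology C) [HasSheafify J (Type w)]

/-- The category of sheaves of types is a regular category. -/
theorem sheafRegular : Regular (Sheaf J (Type w)) where
  hasCoequalizer_of_isKernelPair _ := inferInstance
  regularEpiIsStableUnderBaseChange := by
    refine ⟨fun {X Y Y' S f g f' g'} sq hg => ?_⟩
    have hg' : IsRegularEpi g := hg
    have : Epi g := inferInstance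
    have h1 : UEE g := sheaf_UEE_of_epi J g
    have : EffectiveEpi g' := (h1.baseChange sq.flip).effectiveEpi
    exact (isRegularEpi_iff_effectiveEpi g').mpr inferInstance

theorem sheaf_subobject_pullback_quotient
    {R X : Sheaf J (Type w)} {p₁ p₂ : R ⟶ X} (e : UniversallyEffectiveEquivalenceRelation p₁ p₂) :
    Function.Injective (Subobject.pullback e.π).obj ∧
      Set.range (Subobject.pullback e.π).obj =
        {Y : Subobject X | (Subobject.pullback p₁).obj Y = (Subobject.pullback p₂).obj Y} := by
  have hπ : UEE e.π := e.universally_effectiveEpi_π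
  refine ⟨pullback_injective_of_UEE hπ, ?_⟩
  ext y
  constructor
  · rintro ⟨z, rfl⟩
    show (Subobject.pullback p₁).obj _ = (Subobject.pullback p₂).obj _
    rw [← Subobject.pullback_comp, ← Subobject.pullback_comp, e.isKernelPair.w]
  · intro hy
    have := sheafRegular.{w} J
    let F := Regular.strongEpiMonoFactorisation (y.arrow ≫ e.π)
    have : IsRegularEpi F.e := inferInstance
    have : Epi F.e := inferInstance
    exact ⟨Subobject.mk F.m,
      pullback_mk_eq_of_stable e.isKernelPair y hy F.e (sheaf_UEE_of_epi J F.e) F.m F.fac⟩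

end Sheaf

end Groth.Agent.H26
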