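import Groth.Prelude.Def_Wider
import Mathlib.Algebra.Module.Injective
import Mathlib.RingTheory.Filtration

set_option autoImplicit false
universe u

namespace Groth.Agent.H26

variable {A : Type u} [CommRing A] [IsNoetherianRing A] (J : Ideal A) {H : Type u}
  [AddCommGroup H] [Module A H]

/-- a linear map from an ideal into a power torsion module is killed by a fixed power of `J` -/
lemma exists_pow_kills (hH : LocCoh.IsPowerTorsion J H) (𝔞 : Ideal A) (g : 𝔞 →ₗ[A] H) :
    ∃ k : ℕ, ∀ (x : 𝔞) (a : A), a ∈ J ^ k → a • g x = 0 := by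
  have hfg : (⊤ : Submodule A 𝔞).FG := Module.Finite.fg_top
  obtain ⟨S, hS⟩ := hfg
  choose n hn using fun s : 𝔞 => hH (g s)
  refine ⟨S.sup n, ?_⟩
  intro x a ha
  have hx : x ∈ Submodule.span A (S : Set 𝔞) := by rw [hS]; trivial
  induction hx using Submodule.span_induction with
  | mem s hs =>
    apply hn s a
    exact Ideal.pow_le_pow_right (Finset.le_sup hs) ha
  | zero => simp
  | add y z _ _ hy hz => rw [map_add, smul_add, hy, hz, add_zero]
  | smul c y _ hy => rw [map_smul, smul_comm, hy, smul_zero]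


theorem injective_of_extension (hH : LocCoh.IsPowerTorsion J H)
    (hext : ∀ (M : Type u) [AddCommGroup M] [Module A M], Module.Finite A M →
      (∃ k : ℕ, (J ^ k) • (⊤ : Submodule A M) = ⊥) →
      ∀ (N : Submodule A M) (g : N →ₗ[A] H), ∃ g' : M →ₗ[A] H, g'.comp N.subtype = g) :
    Module.Injective A H := by
  apply Module.Baer.injective
  intro 𝔞 g
  obtain ⟨k, hk⟩ := exists_pow_kills J hH 𝔞 g
  obtain ⟨c, hc⟩ := Ideal.exists_pow_inf_eq_pow_smul J (𝔞 : Submodule A A)
  set n := k + c with hn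
  -- `g` vanishes on `J^n ∩ 𝔞`
  have hvanish : ∀ x : 𝔞, (x : A) ∈ J ^ n → g x = 0 := by
    intro x hx
    have h1 : (x : A) ∈ (J ^ n • ⊤ ⊓ (𝔞 : Submodule A A) : Submodule A A) := by
      refine ⟨?_, x.2⟩
      rw [Ideal.smul_eq_mul, Ideal.mul_top]
      exact hx
    rw [hc n (by omega)] at h1
    have h2 : n - c = k := by omega
    rw [h2] at h1
    have h3 : (x : A) ∈ (J ^ k • (𝔞 : Submodule A A) : Submodule A A) :=
      Submodule.smul_mono le_rfl inf_le_right h1
    -- general statement for elements of `J^k • 𝔞`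
    have key : ∀ y ∈ (J ^ k • (𝔞 : Submodule A A) : Submodule A A), ∀ hy : y ∈ 𝔞, g ⟨y, hy⟩ = 0 := by
      intro y hy
      refine Submodule.smul_induction_on' (p := fun y _ => ∀ hy : y ∈ 𝔞, g ⟨y, hy⟩ = 0) hy ?_ ?_
      · intro a ha z hz hy
        have : (⟨a • z, hy⟩ : 𝔞) = a • ⟨z, hz⟩ := rfl
        rw [this, map_smul]
        exact hk ⟨z, hz⟩ a ha
      · intro y hy' z hz' ihy ihz hyz
        have hy1 : y ∈ 𝔞 := Submodule.smul_le_right hy'
        have hz1 : z ∈ 𝔞 := Submodule.smul_le_right hz'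
        have : (⟨y + z, hyz⟩ : 𝔞) = ⟨y, hy1⟩ + ⟨z, hz1⟩ := rfl
        rw [this, map_add, ihy hy1, ihz hz1, add_zero]
    exact key x h3 x.2
  -- the finite module `A ⧸ J^n`
  let M := A ⧸ (J ^ n)
  let φ : 𝔞 →ₗ[A] M := (Submodule.mkQ (J ^ n : Submodule A A)) ∘ₗ (𝔞 : Submodule A A).subtype
  let N : Submodule A M := LinearMap.range φ
  let π : 𝔞 →ₗ[A] N := φ.rangeRestrict
  have hsurj : Function.Surjective π := LinearMap.surjective_rangeRestrict φ
  have hker : LinearMap.ker π ≤ LinearMap.ker g := by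
    intro x hx
    rw [LinearMap.ker_rangeRestrict, LinearMap.mem_ker] at hx
    rw [LinearMap.mem_ker]
    apply hvanish
    have : Submodule.Quotient.mk (p := (J ^ n : Submodule A A)) (x : A) = 0 := hx
    rwa [Submodule.Quotient.mk_eq_zero] at this
  let gbar : N →ₗ[A] H :=
    ((LinearMap.ker π).liftQ g hker) ∘ₗ (π.quotKerEquivOfSurjective hsurj).symm.toLinearMap
  have hgbar : ∀ x : 𝔞, gbar (π x) = g x := by
    intro x
    have : (π.quotKerEquivOfSurjective hsurj).symm (π x) = Submodule.Quotient.mk x := by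
      rw [LinearEquiv.symm_apply_eq]
      rfl
    simp only [gbar, LinearMap.comp_apply, LinearEquiv.coe_coe, this, Submodule.liftQ_apply]
  have hkill : (J ^ n) • (⊤ : Submodule A M) = ⊥ := by
    rw [eq_bot_iff]
    rw [Submodule.smul_le]
    intro a ha m _
    obtain ⟨b, rfl⟩ := Submodule.Quotient.mk_surjective _ m
    rw [Submodule.mem_bot, ← Submodule.Quotient.mk_smul, Submodule.Quotient.mk_eq_zero]
    exact Ideal.mul_mem_right _ _ ha
  obtain ⟨G, hG⟩ := hext M inferInstance ⟨n, hkill⟩ N gbar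
  refine ⟨G ∘ₗ Submodule.mkQ (J ^ n : Submodule A A), ?_⟩
  intro x hx
  have h1 := hgbar ⟨x, hx⟩
  rw [← hG] at h1
  exact h1

end Groth.Agent.H26
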