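import Mathlib.CategoryTheory.EffectiveEpi.Comp
import Mathlib.CategoryTheory.MorphismProperty.Limits
import Mathlib.CategoryTheory.Limits.Shapes.Pullback.HasPullback
import Mathlib.CategoryTheory.Comma.Over.Pullback

set_option autoImplicit false
open CategoryTheory CategoryTheory.Limits
universe v₁ u₁

namespace Groth.Agent.H26

variable {C : Type u₁} [Category.{v₁} C]

/-- The property of being an effective epimorphism. -/
abbrev effEpiProp : MorphismProperty C := fun (A B : C) (p : A ⟶ B) => EffectiveEpi p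

/-- Universal effective epimorphisms. -/
abbrev UEE : MorphismProperty C := MorphismProperty.universally (effEpiProp (C := C))

/-- Universal epimorphisms. -/
abbrev UEpi : MorphismProperty C :=
  MorphismProperty.universally (MorphismProperty.epimorphisms C)

lemma UEE.effectiveEpi {X Y : C} {f : X ⟶ Y} (hf : UEE f) : EffectiveEpi f :=
  hf (𝟙 X) (𝟙 Y) f (IsPullback.of_vert_isIso ⟨by simp⟩)

lemma UEpi.epi {X Y : C} {f : X ⟶ Y} (hf : UEpi f) : Epi f :=
  hf (𝟙 X) (𝟙 Y) f (IsPullback.of_vert_isIso ⟨by simp⟩)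

lemma UEE.uepi {X Y : C} {f : X ⟶ Y} (hf : UEE f) : UEpi f := by
  intro X' Y' i₁ i₂ f' h
  have : EffectiveEpi f' := hf i₁ i₂ f' h
  exact (inferInstance : Epi f')

lemma UEE.baseChange {X Y X' Y' : C} {f : X ⟶ Y} (hf : UEE f) {i₁ : X' ⟶ X} {i₂ : Y' ⟶ Y}
    {f' : X' ⟶ Y'} (h : IsPullback f' i₁ i₂ f) : UEE f' :=
  MorphismProperty.universally_isStableUnderBaseChange _ |>.of_isPullback h.flip hf

lemma UEpi.baseChange {X Y X' Y' : C} {f : X ⟶ Y} (hf : UEpi f) {i₁ : X' ⟶ X} {i₂ : Y' ⟶ Y}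
    {f' : X' ⟶ Y'} (h : IsPullback f' i₁ i₂ f) : UEpi f' :=
  MorphismProperty.universally_isStableUnderBaseChange _ |>.of_isPullback h.flip hf

/-- If `u` and `v` are effective epis and `v` is a universal epi, `v ≫ u` is an effective epi. -/
lemma effectiveEpi_comp_of_uepi [HasPullbacks C] {U T S : C} (v : U ⟶ T) (u : T ⟶ S)
    [EffectiveEpi u] [EffectiveEpi v] (hv : UEpi v) : EffectiveEpi (v ≫ u) := by
  have key : ∀ {W : C} (e : U ⟶ W),
      (∀ {Z : C} (g₁ g₂ : Z ⟶ U), g₁ ≫ v ≫ u = g₂ ≫ v ≫ u → g₁ ≫ e = g₂ ≫ e) →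
      ∃ e' : T ⟶ W, v ≫ e' = e ∧
        ∀ {Z : C} (a b : Z ⟶ T), a ≫ u = b ≫ u → a ≫ e' = b ≫ e' := by
    intro W e he
    have h1 : ∀ {Z : C} (g₁ g₂ : Z ⟶ U), g₁ ≫ v = g₂ ≫ v → g₁ ≫ e = g₂ ≫ e := by
      intro Z g₁ g₂ h
      apply he
      rw [← Category.assoc, h, Category.assoc]
    refine ⟨EffectiveEpi.desc v e h1, EffectiveEpi.fac v e h1, ?_⟩
    intro Z a b hab
    -- first pullback
    let P1 := pullback a v
    let p1 : P1 ⟶ Z := pullback.fst a v
    let q1 : P1 ⟶ U := pullback.snd a v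
    let P2 := pullback (p1 ≫ b) v
    let p2 : P2 ⟶ P1 := pullback.fst (p1 ≫ b) v
    let q2 : P2 ⟶ U := pullback.snd (p1 ≫ b) v
    have e1 : Epi p1 := (hv.baseChange (IsPullback.of_hasPullback a v)).epi
    have e2 : Epi p2 := (hv.baseChange (IsPullback.of_hasPullback (p1 ≫ b) v)).epi
    have c1 : p1 ≫ a = q1 ≫ v := pullback.condition
    have c2 : p2 ≫ p1 ≫ b = q2 ≫ v := pullback.condition
    have h3 : (p2 ≫ q1) ≫ e = q2 ≫ e := by
      apply he
      rw [Category.assoc, ← Category.assoc q1, ← c1, ← Category.assoc q2, ← c2]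
      simp only [Category.assoc, hab]
    have h4 : (p2 ≫ p1) ≫ a ≫ EffectiveEpi.desc v e h1 = (p2 ≫ p1) ≫ b ≫ EffectiveEpi.desc v e h1 := by
      calc (p2 ≫ p1) ≫ a ≫ EffectiveEpi.desc v e h1
          = p2 ≫ (p1 ≫ a) ≫ EffectiveEpi.desc v e h1 := by simp only [Category.assoc]
        _ = p2 ≫ (q1 ≫ v) ≫ EffectiveEpi.desc v e h1 := by rw [c1]
        _ = (p2 ≫ q1) ≫ e := by simp only [Category.assoc, EffectiveEpi.fac]
        _ = q2 ≫ e := h3
        _ = (q2 ≫ v) ≫ EffectiveEpi.desc v e h1 := by simp only [Category.assoc, EffectiveEpi.fac]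
        _ = (p2 ≫ p1) ≫ b ≫ EffectiveEpi.desc v e h1 := by rw [← c2]; simp only [Category.assoc]
    have : Epi (p2 ≫ p1) := epi_comp _ _
    exact (cancel_epi (p2 ≫ p1)).1 h4
  have conv : ∀ {W : C} (e : U ⟶ W),
      (∀ {Z : C} (g₁ g₂ : Z ⟶ U), g₁ ≫ (v ≫ u) = g₂ ≫ (v ≫ u) → g₁ ≫ e = g₂ ≫ e) →
      (∀ {Z : C} (g₁ g₂ : Z ⟶ U), g₁ ≫ v ≫ u = g₂ ≫ v ≫ u → g₁ ≫ e = g₂ ≫ e) :=
    by intro W e he Z g₁ g₂ h; exact he g₁ g₂ h
  refine ⟨⟨{
    desc := fun {W} e he =>
      EffectiveEpi.desc u (key e (conv e he)).choose (key e (conv e he)).choose_spec.2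
    fac := ?_
    uniq := ?_ }⟩⟩
  · intro W e he
    have h := (key e (conv e he)).choose_spec
    rw [Category.assoc, EffectiveEpi.fac]
    exact h.1
  · intro W e he m hm
    have h := (key e (conv e he)).choose_spec
    apply EffectiveEpi.uniq
    rw [← cancel_epi v, h.1, ← hm, Category.assoc]


/-- Universal effective epis are stable under composition. -/
lemma UEE.comp [HasPullbacks C] {U T S : C} {v : U ⟶ T} {u : T ⟶ S} (hu : UEE u) (hv : UEE v) :
    UEE (v ≫ u) := by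
  intro X' Y' i₁ i₂ f' h
  have t : IsPullback (pullback.fst i₂ u) (pullback.snd i₂ u) i₂ u := IsPullback.of_hasPullback i₂ u
  have hl := IsPullback.of_right' h t
  have hfst : UEE (pullback.fst i₂ u) := hu.baseChange t
  have hlift := hv.baseChange hl
  have := hfst.effectiveEpi
  have := hlift.effectiveEpi
  have := effectiveEpi_comp_of_uepi _ (pullback.fst i₂ u) hlift.uepi
  have e : t.lift f' (i₁ ≫ v) (by rw [h.w, Category.assoc]) ≫ pullback.fst i₂ u = f' :=
    t.lift_fst _ _ _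
  rw [← e]
  exact this

/-- If `v ≫ u` is a universal effective epi then `u` is an effective epi. -/
lemma effectiveEpi_of_UEE_comp [HasPullbacks C] {U T S : C} (v : U ⟶ T) (u : T ⟶ S)
    (h : UEE (v ≫ u)) : EffectiveEpi u := by
  have hw := h.effectiveEpi
  have hw' : EffectiveEpi (pullback.snd (v ≫ u) u) :=
    h (pullback.fst (v ≫ u) u) u _ (IsPullback.of_hasPullback (v ≫ u) u).flip
  have conv : ∀ {W : C} (e : T ⟶ W),
      (∀ {Z : C} (g₁ g₂ : Z ⟶ T), g₁ ≫ u = g₂ ≫ u → g₁ ≫ e = g₂ ≫ e) →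
      (∀ {Z : C} (g₁ g₂ : Z ⟶ U), g₁ ≫ (v ≫ u) = g₂ ≫ (v ≫ u) → g₁ ≫ (v ≫ e) = g₂ ≫ (v ≫ e)) := by
    intro W e he Z g₁ g₂ hg
    rw [← Category.assoc, ← Category.assoc]
    apply he
    simpa using hg
  have fac : ∀ {W : C} (e : T ⟶ W)
      (he : ∀ {Z : C} (g₁ g₂ : Z ⟶ T), g₁ ≫ u = g₂ ≫ u → g₁ ≫ e = g₂ ≫ e),
      u ≫ EffectiveEpi.desc (v ≫ u) (v ≫ e) (conv e he) = e := by
    intro W e he
    rw [← cancel_epi (pullback.snd (v ≫ u) u)]
    have c : pullback.fst (v ≫ u) u ≫ v ≫ u = pullback.snd (v ≫ u) u ≫ u := pullback.condition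
    rw [← Category.assoc, ← c]
    simp only [Category.assoc, EffectiveEpi.fac]
    rw [← Category.assoc]
    apply he
    simpa using c
  refine ⟨⟨{
    desc := fun {W} e he => EffectiveEpi.desc (v ≫ u) (v ≫ e) (conv e he)
    fac := fun {W} e he => fac e he
    uniq := ?_ }⟩⟩
  intro W e he m hm
  apply EffectiveEpi.uniq
  rw [Category.assoc, hm]

/-- If `v ≫ u` is a universal effective epi then so is `u`. -/
lemma UEE.of_comp [HasPullbacks C] {U T S : C} (v : U ⟶ T) (u : T ⟶ S)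
    (h : UEE (v ≫ u)) : UEE u := by
  intro X' Y' i₁ i₂ f' hsq
  -- pull back `v` along `i₁`
  have t : IsPullback (pullback.fst i₁ v) (pullback.snd i₁ v) i₁ v := IsPullback.of_hasPullback i₁ v
  have big : IsPullback (pullback.fst i₁ v ≫ f') (pullback.snd i₁ v) i₂ (v ≫ u) :=
    t.paste_horiz hsq
  exact effectiveEpi_of_UEE_comp (pullback.fst i₁ v) f' (h.baseChange big)

/-- Being a universal effective epi can be checked after base change along one. -/
lemma UEE.iff_baseChange [HasPullbacks C] {S' S T : C} {g : S' ⟶ S} (hg : UEE g) (u : T ⟶ S) :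
    UEE u ↔ UEE (pullback.snd u g) := by
  constructor
  · intro hu
    exact hu.baseChange (IsPullback.of_hasPullback u g).flip
  · intro h
    have h1 : UEE (pullback.snd u g ≫ g) := hg.comp h
    rw [← pullback.condition] at h1
    exact UEE.of_comp _ _ h1

end Groth.Agent.H26
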