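import Groth.Agent.H26.UEE
import Mathlib.CategoryTheory.Limits.Shapes.KernelPair
import Mathlib.CategoryTheory.Limits.Shapes.StrongEpi

set_option autoImplicit false
open CategoryTheory CategoryTheory.Limits
universe v₁ u₁

namespace Groth.Agent.H26

variable {C : Type u₁} [Category.{v₁} C]

/-- Two maps to the target of a universal epi can be simultaneously lifted after an epi. -/
lemma exists_epi_lifts [HasPullbacks C] {S' S Z : C} {f : S' ⟶ S} (hf : UEpi f) (a b : Z ⟶ S) :
    ∃ (P : C) (π : P ⟶ Z) (a' b' : P ⟶ S'), Epi π ∧ a' ≫ f = π ≫ a ∧ b' ≫ f = π ≫ b := by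
  let p1 : pullback a f ⟶ Z := pullback.fst a f
  let q1 : pullback a f ⟶ S' := pullback.snd a f
  let p2 : pullback (p1 ≫ b) f ⟶ pullback a f := pullback.fst (p1 ≫ b) f
  let q2 : pullback (p1 ≫ b) f ⟶ S' := pullback.snd (p1 ≫ b) f
  have e1 : Epi p1 := (hf.baseChange (IsPullback.of_hasPullback a f)).epi
  have e2 : Epi p2 := (hf.baseChange (IsPullback.of_hasPullback (p1 ≫ b) f)).epi
  have c1 : p1 ≫ a = q1 ≫ f := pullback.condition
  have c2 : p2 ≫ p1 ≫ b = q2 ≫ f := pullback.condition
  refine ⟨_, p2 ≫ p1, p2 ≫ q1, q2, epi_comp _ _, ?_, ?_⟩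
  · simp only [Category.assoc, c1]
  · simp only [Category.assoc, c2]

/-- One map to the target of a universal epi can be lifted after an epi. -/
lemma exists_epi_lift [HasPullbacks C] {S' S Z : C} {f : S' ⟶ S} (hf : UEpi f) (a : Z ⟶ S) :
    ∃ (P : C) (π : P ⟶ Z) (a' : P ⟶ S'), Epi π ∧ a' ≫ f = π ≫ a :=
  ⟨_, pullback.fst a f, pullback.snd a f,
    (hf.baseChange (IsPullback.of_hasPullback a f)).epi, pullback.condition.symm⟩

/-- If `f ≫ g` and `f` coequalize the same pairs and `f` is a universal epi, `g` is mono. -/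
lemma mono_of_forall_kernel [HasPullbacks C] {S' S T : C} {f : S' ⟶ S} (hf : UEpi f) (g : S ⟶ T)
    (h : ∀ {Z : C} (a b : Z ⟶ S'), a ≫ f ≫ g = b ≫ f ≫ g → a ≫ f = b ≫ f) : Mono g := by
  refine ⟨fun {Z} a b hab => ?_⟩
  obtain ⟨P, π, a', b', hπ, ha, hb⟩ := exists_epi_lifts hf a b
  rw [← cancel_epi π, ← ha, ← hb]
  apply h
  rw [← Category.assoc, ← Category.assoc, ha, hb, Category.assoc, Category.assoc, hab]

lemma mono_of_isIso_mapDesc [HasPullbacks C] {S' S T : C} {f : S' ⟶ S} (hf : UEpi f) (g : S ⟶ T)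
    [IsIso (pullback.mapDesc f f g)] : Mono g := by
  apply mono_of_forall_kernel hf g
  intro Z a b hab
  have m1 : pullback.mapDesc f f g ≫ pullback.fst (f ≫ g) (f ≫ g) = pullback.fst f f :=
    (pullback.lift_fst _ _ _).trans (Category.comp_id _)
  have m2 : pullback.mapDesc f f g ≫ pullback.snd (f ≫ g) (f ≫ g) = pullback.snd f f :=
    (pullback.lift_snd _ _ _).trans (Category.comp_id _)
  have hab' : a ≫ (f ≫ g) = b ≫ (f ≫ g) := hab
  have h1 : (pullback.lift a b hab' ≫ inv (pullback.mapDesc f f g)) ≫ pullback.fst f f = a := by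
    rw [← m1, Category.assoc, IsIso.inv_hom_id_assoc, pullback.lift_fst]
  have h2 : (pullback.lift a b hab' ≫ inv (pullback.mapDesc f f g)) ≫ pullback.snd f f = b := by
    rw [← m2, Category.assoc, IsIso.inv_hom_id_assoc, pullback.lift_snd]
  calc a ≫ f = ((pullback.lift a b hab' ≫ inv (pullback.mapDesc f f g)) ≫ pullback.fst f f) ≫ f := by
        rw [h1]
    _ = ((pullback.lift a b hab' ≫ inv (pullback.mapDesc f f g)) ≫ pullback.snd f f) ≫ f := by
        rw [Category.assoc, pullback.condition, ← Category.assoc]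
    _ = b ≫ f := by rw [h2]

lemma mono_of_baseChange_mono [HasPullbacks C] {X Y X' Y' : C} {g : X ⟶ Y} {g' : X' ⟶ Y'}
    {i₁ : X' ⟶ X} {h : Y' ⟶ Y} (sq : IsPullback g' i₁ h g) (hh : UEpi h) [Mono g'] : Mono g := by
  refine ⟨fun {Z} a b hab => ?_⟩
  obtain ⟨P, π, c, hπ, hc⟩ := exists_epi_lift hh (a ≫ g)
  have hc' : c ≫ h = π ≫ b ≫ g := by rw [hc, hab]
  let a' : P ⟶ X' := sq.lift c (π ≫ a) (by rw [hc, Category.assoc])
  let b' : P ⟶ X' := sq.lift c (π ≫ b) (by rw [hc', Category.assoc])
  have : a' = b' := by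
    rw [← cancel_mono g']
    simp [a', b']
  have h2 : a' ≫ i₁ = b' ≫ i₁ := by rw [this]
  simp only [a', b', IsPullback.lift_snd] at h2
  exact (cancel_epi π).1 h2

lemma UEE.of_isIso {X Y : C} (f : X ⟶ Y) [IsIso f] : UEE f := by
  intro X' Y' i₁ i₂ f' h
  have : IsIso f' := h.isIso_fst_of_isIso
  infer_instance

lemma isIso_of_baseChange_isIso [HasPullbacks C] {X Y X' Y' : C} {g : X ⟶ Y} {g' : X' ⟶ Y'}
    {i₁ : X' ⟶ X} {h : Y' ⟶ Y} (sq : IsPullback g' i₁ h g) (hh : UEE h) [IsIso g'] : IsIso g := by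
  have hm : Mono g := mono_of_baseChange_mono sq hh.uepi
  have h1 : UEE (g' ≫ h) := hh.comp (UEE.of_isIso g')
  rw [sq.w] at h1
  have h2 : UEE g := UEE.of_comp _ _ h1
  have := h2.effectiveEpi
  exact isIso_of_mono_of_strongEpi g

/-- The pullback square relating a morphism over `S` and its base change. -/
lemma isPullback_overPullback_map [HasPullbacks C] {S' S : C} (f : S' ⟶ S) {X Y : Over S}
    (g : X ⟶ Y) :
    IsPullback ((Over.pullback f).map g).left (pullback.fst X.hom f) (pullback.fst Y.hom f)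
      g.left := by
  have t : IsPullback (pullback.fst Y.hom f) (pullback.snd Y.hom f) Y.hom f :=
    IsPullback.of_hasPullback _ _
  have s : IsPullback (pullback.fst X.hom f) (pullback.snd X.hom f) (g.left ≫ Y.hom) f := by
    rw [Over.w g]
    exact IsPullback.of_hasPullback _ _
  have key := (IsPullback.of_bot' s t).flip
  have e : ((Over.pullback f).map g).left =
      t.lift (pullback.fst X.hom f ≫ g.left) (pullback.snd X.hom f)
        (by rw [Category.assoc, s.w]) := by
    apply pullback.hom_ext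
    · rw [IsPullback.lift_fst]
      simp [pullback.lift_fst]
    · rw [IsPullback.lift_snd]
      simp [pullback.lift_snd]
  rw [e]
  exact key

lemma isIso_overPullback_iff [HasPullbacks C] {S' S : C} {f : S' ⟶ S} (hf : UEE f) {X Y : Over S}
    (g : X ⟶ Y) : IsIso g ↔ IsIso ((Over.pullback f).map g) := by
  constructor
  · intro h
    exact Functor.map_isIso _ _
  · intro h
    have h' : IsIso ((Over.pullback f).map g).left :=
      (inferInstance : IsIso ((Over.forget _).map ((Over.pullback f).map g)))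
    have hh : UEE (pullback.fst Y.hom f) := hf.baseChange (IsPullback.of_hasPullback _ _)
    have h3 : IsIso g.left := isIso_of_baseChange_isIso (isPullback_overPullback_map f g) hh
    have : IsIso ((Over.forget S).map g) := h3
    exact isIso_of_reflects_iso g (Over.forget S)

lemma mono_overPullback_iff [HasPullbacks C] {S' S : C} {f : S' ⟶ S} (hf : UEE f) {X Y : Over S}
    (g : X ⟶ Y) : Mono g ↔ Mono ((Over.pullback f).map g) := by
  constructor
  · intro h
    infer_instance
  · intro h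
    have h' : Mono ((Over.pullback f).map g).left := inferInstance
    have hh : UEE (pullback.fst Y.hom f) := hf.baseChange (IsPullback.of_hasPullback _ _)
    have : Mono g.left := mono_of_baseChange_mono (isPullback_overPullback_map f g) hh.uepi
    exact Over.mono_of_mono_left g

lemma nonempty_hom_overPullback_iff [HasPullbacks C] {S' S : C} {f : S' ⟶ S} (hf : UEE f)
    (X Y : Over S) [Mono Y.hom] :
    Nonempty (X ⟶ Y) ↔ Nonempty ((Over.pullback f).obj X ⟶ (Over.pullback f).obj Y) := by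
  constructor
  · rintro ⟨g⟩
    exact ⟨(Over.pullback f).map g⟩
  · rintro ⟨k⟩
    have hp : UEE (pullback.fst X.hom f) := hf.baseChange (IsPullback.of_hasPullback _ _)
    have := hp.effectiveEpi
    have hk : k.left ≫ pullback.snd Y.hom f = pullback.snd X.hom f := Over.w k
    let e : pullback X.hom f ⟶ Y.left := k.left ≫ pullback.fst Y.hom f
    have he : e ≫ Y.hom = pullback.fst X.hom f ≫ X.hom := by
      simp only [e, Category.assoc, pullback.condition]
      rw [← Category.assoc, hk]
    have hdesc : ∀ {Z : C} (g₁ g₂ : Z ⟶ pullback X.hom f),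
        g₁ ≫ pullback.fst X.hom f = g₂ ≫ pullback.fst X.hom f → g₁ ≫ e = g₂ ≫ e := by
      intro Z g₁ g₂ h12
      rw [← cancel_mono Y.hom]
      calc (g₁ ≫ e) ≫ Y.hom = g₁ ≫ e ≫ Y.hom := Category.assoc _ _ _
        _ = (g₁ ≫ pullback.fst X.hom f) ≫ X.hom := by rw [he, Category.assoc]
        _ = (g₂ ≫ pullback.fst X.hom f) ≫ X.hom := by rw [h12]
        _ = g₂ ≫ e ≫ Y.hom := by rw [he, Category.assoc]
        _ = (g₂ ≫ e) ≫ Y.hom := (Category.assoc _ _ _).symm
    refine ⟨Over.homMk (EffectiveEpi.desc (pullback.fst X.hom f) e hdesc) ?_⟩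
    rw [← cancel_epi (pullback.fst X.hom f), ← Category.assoc, EffectiveEpi.fac, he]

end Groth.Agent.H26
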