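import Groth.Agent.H26.UEE2
import Mathlib.CategoryTheory.Limits.Shapes.BinaryProducts
import Mathlib.CategoryTheory.EquivalenceRelation

set_option autoImplicit false
open CategoryTheory CategoryTheory.Limits
universe v₁ u₁

namespace Groth.Agent.H26

variable {C : Type u₁} [Category.{v₁} C]

set_option backward.isDefEq.respectTransparency false in
lemma isPullback_prod_snd_with_id {A B : C} (f : A ⟶ B) (X : C) [HasBinaryProduct X A]
    [HasBinaryProduct X B] :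
    IsPullback prod.snd (prod.map (𝟙 X) f) f prod.snd where
  w := by simp
  isLimit' := ⟨PullbackCone.isLimitAux' _ (fun s ↦ by
    refine ⟨prod.lift (s.snd ≫ prod.fst) s.fst, ?_, ?_, ?_⟩
    · simp
    · dsimp
      apply Limits.prod.hom_ext
      · simp
      · simp [PullbackCone.condition]
    · intro m h₁ h₂
      dsimp at m h₁ h₂ ⊢
      apply Limits.prod.hom_ext
      · simp [← h₂]
      · simpa using h₁)⟩

lemma UEE.prodMap [HasPullbacks C] [HasBinaryProducts C] {X Y X' Y' : C} {u : X ⟶ Y}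
    {u' : X' ⟶ Y'} (hu : UEE u) (hu' : UEE u') : UEE (prod.map u u') := by
  have h1 : UEE (prod.map u (𝟙 X')) := hu.baseChange (IsPullback.of_prod_fst_with_id u X').flip
  have h2 : UEE (prod.map (𝟙 Y) u') := hu'.baseChange (isPullback_prod_snd_with_id u' Y).flip
  have : prod.map u u' = prod.map u (𝟙 X') ≫ prod.map (𝟙 Y) u' := by simp
  rw [this]
  exact h2.comp h1


lemma mono_iff_isKernelPair [HasPullbacks C] {R X Z : C} {p₁ p₂ : R ⟶ X}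
    (e : UniversallyEffectiveEquivalenceRelation p₁ p₂)
    (f : X ⟶ Z) (g : e.B ⟶ Z) (hg : e.π ≫ g = f) :
    Mono g ↔ IsKernelPair f p₁ p₂ := by
  constructor
  · intro h
    rw [← hg]
    exact e.isKernelPair.comp_of_mono
  · intro h
    have hπ : UEE e.π := e.universally_effectiveEpi_π
    apply mono_of_forall_kernel hπ.uepi g
    intro W a b hab
    rw [hg] at hab
    have h1 : h.lift a b hab ≫ p₁ = a := h.lift_fst a b hab
    have h2 : h.lift a b hab ≫ p₂ = b := h.lift_snd a b hab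
    calc a ≫ e.π = (h.lift a b hab ≫ p₁) ≫ e.π := by rw [h1]
      _ = (h.lift a b hab ≫ p₂) ≫ e.π := by
          rw [Category.assoc, e.isKernelPair.w, ← Category.assoc]
      _ = b ≫ e.π := by rw [h2]

lemma isKernelPair_prodMap [HasBinaryProducts C] {R X B R' X' B' : C} {p₁ p₂ : R ⟶ X}
    {p₁' p₂' : R' ⟶ X'} {π : X ⟶ B} {π' : X' ⟶ B'}
    (h : IsKernelPair π p₁ p₂) (h' : IsKernelPair π' p₁' p₂') :
    IsKernelPair (prod.map π π') (prod.map p₁ p₁') (prod.map p₂ p₂') := by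
  have w : prod.map p₁ p₁' ≫ prod.map π π' = prod.map p₂ p₂' ≫ prod.map π π' := by
    rw [prod.map_map, prod.map_map, h.w, h'.w]
  have c1 : ∀ s : PullbackCone (prod.map π π') (prod.map π π'),
      (s.fst ≫ prod.fst) ≫ π = (s.snd ≫ prod.fst) ≫ π := by
    intro s
    have := congrArg (· ≫ prod.fst) s.condition
    simpa using this
  have c2 : ∀ s : PullbackCone (prod.map π π') (prod.map π π'),
      (s.fst ≫ prod.snd) ≫ π' = (s.snd ≫ prod.snd) ≫ π' := by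
    intro s
    have := congrArg (· ≫ prod.snd) s.condition
    simpa using this
  refine ⟨⟨w⟩, ⟨PullbackCone.IsLimit.mk w
    (fun s => prod.lift (h.lift _ _ (c1 s)) (h'.lift _ _ (c2 s))) ?_ ?_ ?_⟩⟩
  · intro s
    apply Limits.prod.hom_ext
    · rw [Category.assoc, prod.map_fst, prod.lift_fst_assoc, IsKernelPair.lift_fst]
    · rw [Category.assoc, prod.map_snd, prod.lift_snd_assoc, IsKernelPair.lift_fst]
  · intro s
    apply Limits.prod.hom_ext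
    · rw [Category.assoc, prod.map_fst, prod.lift_fst_assoc, IsKernelPair.lift_snd]
    · rw [Category.assoc, prod.map_snd, prod.lift_snd_assoc, IsKernelPair.lift_snd]
  · intro s m h₁ h₂
    apply Limits.prod.hom_ext
    · rw [prod.lift_fst]
      apply h.hom_ext
      · rw [IsKernelPair.lift_fst, ← h₁, Category.assoc, Category.assoc, prod.map_fst]
      · rw [IsKernelPair.lift_snd, ← h₂, Category.assoc, Category.assoc, prod.map_fst]
    · rw [prod.lift_snd]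
      apply h'.hom_ext
      · rw [IsKernelPair.lift_fst, ← h₁, Category.assoc, Category.assoc, prod.map_snd]
      · rw [IsKernelPair.lift_snd, ← h₂, Category.assoc, Category.assoc, prod.map_snd]


section ReflexivePair

variable {X₁ X₀ Y₀ Y₁ : C} (d₀ d₁ : X₁ ⟶ X₀) (f₀ : Y₀ ⟶ X₀) (q₁ q₂ : Y₁ ⟶ Y₀) (m : Y₁ ⟶ X₁)

lemma invImg_coeq_of_coeq (hm₁ : m ≫ d₁ = q₁ ≫ f₀) (hm₀ : m ≫ d₀ = q₂ ≫ f₀)
    {T : C} (h : X₀ ⟶ T) (hh : d₁ ≫ h = d₀ ≫ h) :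
    q₁ ≫ f₀ ≫ h = q₂ ≫ f₀ ≫ h := by
  rw [← Category.assoc, ← hm₁, ← Category.assoc q₂, ← hm₀,
    Category.assoc, Category.assoc, hh]

lemma existsUnique_desc_of_reflexivePair_aux [Epi m]
    (hm₁ : m ≫ d₁ = q₁ ≫ f₀) (hm₀ : m ≫ d₀ = q₂ ≫ f₀)
    (hl : ∀ {Z : C} (a b : Z ⟶ Y₀), a ≫ f₀ = b ≫ f₀ → ∃ l : Z ⟶ Y₁, l ≫ q₁ = a ∧ l ≫ q₂ = b)
    [EffectiveEpi f₀] {T : C} (g : Y₀ ⟶ T) (hg : q₁ ≫ g = q₂ ≫ g) :
    ∃! h : X₀ ⟶ T, d₁ ≫ h = d₀ ≫ h ∧ f₀ ≫ h = g := by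
  have hdesc : ∀ {Z : C} (a b : Z ⟶ Y₀), a ≫ f₀ = b ≫ f₀ → a ≫ g = b ≫ g := by
    intro Z a b hab
    obtain ⟨l, h1, h2⟩ := hl a b hab
    rw [← h1, ← h2, Category.assoc, Category.assoc, hg]
  refine ⟨EffectiveEpi.desc f₀ g hdesc, ⟨?_, EffectiveEpi.fac f₀ g hdesc⟩, ?_⟩
  · rw [← cancel_epi m, ← Category.assoc, ← Category.assoc, hm₁, hm₀,
      Category.assoc, Category.assoc, EffectiveEpi.fac, hg]
  · rintro h' ⟨-, h2⟩
    exact EffectiveEpi.uniq f₀ g hdesc h' h2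

lemma hasCoequalizer_iff_of_reflexivePair_aux [Epi m]
    (hm₁ : m ≫ d₁ = q₁ ≫ f₀) (hm₀ : m ≫ d₀ = q₂ ≫ f₀)
    (hl : ∀ {Z : C} (a b : Z ⟶ Y₀), a ≫ f₀ = b ≫ f₀ → ∃ l : Z ⟶ Y₁, l ≫ q₁ = a ∧ l ≫ q₂ = b)
    [EffectiveEpi f₀] :
    HasCoequalizer d₁ d₀ ↔ HasCoequalizer q₁ q₂ := by
  constructor
  · intro H
    have w : q₁ ≫ f₀ ≫ coequalizer.π d₁ d₀ = q₂ ≫ f₀ ≫ coequalizer.π d₁ d₀ :=
      invImg_coeq_of_coeq d₀ d₁ f₀ q₁ q₂ m hm₁ hm₀ _ (coequalizer.condition d₁ d₀)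
    have hc : ∀ c : Cofork q₁ q₂, ∃! h : X₀ ⟶ c.pt, d₁ ≫ h = d₀ ≫ h ∧ f₀ ≫ h = c.π := fun c =>
      existsUnique_desc_of_reflexivePair_aux d₀ d₁ f₀ q₁ q₂ m hm₁ hm₀ hl c.π c.condition
    refine ⟨⟨⟨Cofork.ofπ (f₀ ≫ coequalizer.π d₁ d₀) w, Cofork.IsColimit.mk _
      (fun c => coequalizer.desc (hc c).exists.choose (hc c).exists.choose_spec.1) ?_ ?_⟩⟩⟩
    · intro c
      show (f₀ ≫ coequalizer.π d₁ d₀) ≫
        coequalizer.desc (hc c).exists.choose (hc c).exists.choose_spec.1 = c.π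
      rw [Category.assoc, coequalizer.π_desc]
      exact (hc c).exists.choose_spec.2
    · intro c k hk
      have hk' : (f₀ ≫ coequalizer.π d₁ d₀) ≫ k = c.π := hk
      refine coequalizer.hom_ext (f := d₁) (g := d₀) (k := k) ?_
      rw [coequalizer.π_desc]
      rw [← cancel_epi f₀, (hc c).exists.choose_spec.2, ← hk', Category.assoc]
  · intro H
    have hρ := existsUnique_desc_of_reflexivePair_aux d₀ d₁ f₀ q₁ q₂ m hm₁ hm₀ hl
      (coequalizer.π q₁ q₂) (coequalizer.condition q₁ q₂)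
    obtain ⟨π, ⟨hπ1, hπ2⟩, -⟩ := hρ
    have hepi : Epi f₀ := inferInstance
    have w : ∀ c : Cofork d₁ d₀, q₁ ≫ f₀ ≫ c.π = q₂ ≫ f₀ ≫ c.π := fun c =>
      invImg_coeq_of_coeq d₀ d₁ f₀ q₁ q₂ m hm₁ hm₀ c.π c.condition
    refine ⟨⟨⟨Cofork.ofπ π hπ1, Cofork.IsColimit.mk _
      (fun c => coequalizer.desc (f₀ ≫ c.π) (w c)) ?_ ?_⟩⟩⟩
    · intro c
      show π ≫ coequalizer.desc (f₀ ≫ c.π) (w c) = c.π
      rw [← cancel_epi f₀, ← Category.assoc, hπ2, coequalizer.π_desc]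
    · intro c k hk
      have hk' : π ≫ k = c.π := hk
      refine coequalizer.hom_ext (f := q₁) (g := q₂) (k := k) ?_
      rw [coequalizer.π_desc, ← hπ2, Category.assoc, hk']

end ReflexivePair

section ReflexivePair2

variable [HasPullbacks C] {X₁ X₀ Y₀ : C} (d₀ d₁ : X₁ ⟶ X₀) (f₀ : Y₀ ⟶ X₀)

lemma epi_invImgMid (hf : UEpi f₀) :
    Epi (pullback.fst (pullback.snd f₀ d₁ ≫ d₀) f₀ ≫ pullback.snd f₀ d₁) := by
  have e1 : Epi (pullback.snd f₀ d₁) :=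
    (hf.baseChange (IsPullback.of_hasPullback f₀ d₁).flip).epi
  have e2 : Epi (pullback.fst (pullback.snd f₀ d₁ ≫ d₀) f₀) :=
    (hf.baseChange (IsPullback.of_hasPullback (pullback.snd f₀ d₁ ≫ d₀) f₀)).epi
  exact epi_comp _ _

lemma invImg_lift (s : X₀ ⟶ X₁) (hs₀ : s ≫ d₀ = 𝟙 X₀) (hs₁ : s ≫ d₁ = 𝟙 X₀)
    {Z : C} (a b : Z ⟶ Y₀) (hab : a ≫ f₀ = b ≫ f₀) :
    ∃ l : Z ⟶ pullback (pullback.snd f₀ d₁ ≫ d₀) f₀,
      l ≫ (pullback.fst (pullback.snd f₀ d₁ ≫ d₀) f₀ ≫ pullback.fst f₀ d₁) = a ∧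
      l ≫ pullback.snd (pullback.snd f₀ d₁ ≫ d₀) f₀ = b := by
  have w1 : a ≫ f₀ = (a ≫ f₀ ≫ s) ≫ d₁ := by
    rw [Category.assoc, Category.assoc, hs₁, Category.comp_id]
  have w2 : pullback.lift a (a ≫ f₀ ≫ s) w1 ≫ pullback.snd f₀ d₁ ≫ d₀ = b ≫ f₀ := by
    rw [← Category.assoc, pullback.lift_snd, Category.assoc, Category.assoc, hs₀,
      Category.comp_id, hab]
  refine ⟨pullback.lift (pullback.lift a (a ≫ f₀ ≫ s) w1) b w2, ?_, ?_⟩
  · rw [← Category.assoc, pullback.lift_fst, pullback.lift_fst]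
  · rw [pullback.lift_snd]

lemma existsUnique_desc_of_reflexivePair (s : X₀ ⟶ X₁) (hs₀ : s ≫ d₀ = 𝟙 X₀)
    (hs₁ : s ≫ d₁ = 𝟙 X₀) [EffectiveEpi f₀] (hf : UEpi f₀) {T : C} (g : Y₀ ⟶ T)
    (hg : (pullback.fst (pullback.snd f₀ d₁ ≫ d₀) f₀ ≫ pullback.fst f₀ d₁) ≫ g =
      pullback.snd (pullback.snd f₀ d₁ ≫ d₀) f₀ ≫ g) :
    ∃! h : X₀ ⟶ T, d₁ ≫ h = d₀ ≫ h ∧ f₀ ≫ h = g := by
  have := epi_invImgMid d₀ d₁ f₀ hf
  refine existsUnique_desc_of_reflexivePair_aux d₀ d₁ f₀ _ _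
    (pullback.fst (pullback.snd f₀ d₁ ≫ d₀) f₀ ≫ pullback.snd f₀ d₁) ?_ ?_
    (fun a b hab => invImg_lift d₀ d₁ f₀ s hs₀ hs₁ a b hab) g hg
  · simp only [Category.assoc, pullback.condition]
  · simp only [Category.assoc, pullback.condition]

lemma hasCoequalizer_iff_of_reflexivePair (s : X₀ ⟶ X₁) (hs₀ : s ≫ d₀ = 𝟙 X₀)
    (hs₁ : s ≫ d₁ = 𝟙 X₀) [EffectiveEpi f₀] (hf : UEpi f₀) :
    HasCoequalizer d₁ d₀ ↔
      HasCoequalizer (pullback.fst (pullback.snd f₀ d₁ ≫ d₀) f₀ ≫ pullback.fst f₀ d₁)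
        (pullback.snd (pullback.snd f₀ d₁ ≫ d₀) f₀) := by
  have := epi_invImgMid d₀ d₁ f₀ hf
  refine hasCoequalizer_iff_of_reflexivePair_aux d₀ d₁ f₀ _ _
    (pullback.fst (pullback.snd f₀ d₁ ≫ d₀) f₀ ≫ pullback.snd f₀ d₁) ?_ ?_
    (fun a b hab => invImg_lift d₀ d₁ f₀ s hs₀ hs₁ a b hab)
  · simp only [Category.assoc, pullback.condition]
  · simp only [Category.assoc, pullback.condition]

end ReflexivePair2

end Groth.Agent.H26
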